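import Cfsg.Prelude.Def_Sporadic_a
import Mathlib

/-!
Counting in Steiner systems.
-/

set_option autoImplicit false

namespace CfsgLib.Spor.SteinerCount

open Cfsg Finset

variable {α : Type*} [Fintype α] [DecidableEq α] {t k : ℕ} {B : Set (Finset α)}

/-- the blocks as a finite set -/
noncomputable def blocks (B : Set (Finset α)) : Finset (Finset α) := (Set.toFinite B).toFinset

theorem mem_blocks {b : Finset α} : b ∈ blocks B ↔ b ∈ B := Set.Finite.mem_toFinset _

theorem ncard_eq (p : Finset α → Prop) [DecidablePred p] :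
    {b | b ∈ B ∧ p b}.ncard = ((blocks B).filter p).card := by
  rw [← Set.ncard_coe_finset]
  congr 1
  ext b
  simp [mem_blocks]

theorem ncard_blocks : B.ncard = (blocks B).card := Set.ncard_eq_toFinset_card B _

theorem count_above (hB : IsSteinerSystem t k B) {s : Finset α} (hs : s.card ≤ t) :
    ((blocks B).filter (s ⊆ ·)).card * (k - s.card).choose (t - s.card) =
      (Fintype.card α - s.card).choose (t - s.card) := by
  have h1 : ∀ b ∈ (blocks B).filter (s ⊆ ·),
      (((univ : Finset α).powersetCard t).filter (fun T => s ⊆ T ∧ T ⊆ b)).card =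
        (k - s.card).choose (t - s.card) := by
    intro b hb
    obtain ⟨hbB, hsb⟩ := mem_filter.1 hb
    rw [← hB.1 b (mem_blocks.1 hbB), ← card_sdiff_of_subset hsb, ← card_powersetCard]
    refine card_bij (fun T _ => T \ s) (fun T hT => ?_) (fun T hT T' hT' e => ?_) (fun R hR => ?_)
    · obtain ⟨hT1, hT2, hT3⟩ := mem_filter.1 hT
      rw [mem_powersetCard, card_sdiff_of_subset hT2, (mem_powersetCard.1 hT1).2]
      exact ⟨sdiff_subset_sdiff hT3 (subset_refl s), rfl⟩
    · rw [← sdiff_union_of_subset (mem_filter.1 hT).2.1, e, sdiff_union_of_subset (mem_filter.1 hT').2.1]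
    · obtain ⟨hR1, hR2⟩ := mem_powersetCard.1 hR
      have hd : Disjoint R s := disjoint_of_subset_left hR1 sdiff_disjoint
      refine ⟨R ∪ s, mem_filter.2 ⟨mem_powersetCard.2 ⟨subset_univ _, ?_⟩, subset_union_right,
        union_subset (hR1.trans sdiff_subset) hsb⟩, union_sdiff_cancel_right hd⟩
      rw [card_union_of_disjoint hd, hR2]; omega
  have h2 : (((univ : Finset α).powersetCard t).filter (s ⊆ ·)).card =
      (Fintype.card α - s.card).choose (t - s.card) := by
    rw [← card_univ, ← card_sdiff_of_subset (subset_univ s), ← card_powersetCard]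
    refine card_bij (fun T _ => T \ s) (fun T hT => ?_) (fun T hT T' hT' e => ?_) (fun R hR => ?_)
    · obtain ⟨hT1, hT2⟩ := mem_filter.1 hT
      rw [mem_powersetCard, card_sdiff_of_subset hT2, (mem_powersetCard.1 hT1).2]
      exact ⟨sdiff_subset_sdiff (subset_univ _) (subset_refl s), rfl⟩
    · rw [← sdiff_union_of_subset (mem_filter.1 hT).2, e, sdiff_union_of_subset (mem_filter.1 hT').2]
    · obtain ⟨hR1, hR2⟩ := mem_powersetCard.1 hR
      have hd : Disjoint R s := disjoint_of_subset_left hR1 sdiff_disjoint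
      refine ⟨R ∪ s, mem_filter.2 ⟨mem_powersetCard.2 ⟨subset_univ _, ?_⟩, subset_union_right⟩,
        union_sdiff_cancel_right hd⟩
      rw [card_union_of_disjoint hd, hR2]; omega
  have h3 := sum_card_bipartiteAbove_eq_sum_card_bipartiteBelow (s := (blocks B).filter (s ⊆ ·))
    (t := (univ : Finset α).powersetCard t) (fun b T => s ⊆ T ∧ T ⊆ b)
  simp only [bipartiteAbove, bipartiteBelow] at h3
  rw [sum_congr rfl h1, sum_const, smul_eq_mul] at h3
  rw [h3, ← h2, card_filter]
  refine sum_congr rfl fun T hT => ?_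
  split_ifs with hsT
  · obtain ⟨b, ⟨hb, hTb⟩, huniq⟩ := hB.2 T (mem_powersetCard.1 hT).2
    rw [card_eq_one]
    refine ⟨b, eq_singleton_iff_unique_mem.2 ⟨?_, fun c hc => ?_⟩⟩
    · exact mem_filter.2 ⟨mem_filter.2 ⟨mem_blocks.2 hb, hsT.trans hTb⟩, hsT, hTb⟩
    · obtain ⟨h1, -, h2⟩ := mem_filter.1 hc
      exact huniq c ⟨mem_blocks.1 (mem_filter.1 h1).1, h2⟩
  · exact card_eq_zero.2 (filter_eq_empty_iff.2 fun b _ h => hsT h.1)

theorem eq_of_five (hB : IsSteinerSystem t k B) {b c : Finset α} (hb : b ∈ B) (hc : c ∈ B)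
    (h : t ≤ (b ∩ c).card) : b = c := by
  obtain ⟨T, hT, hTc⟩ := exists_subset_card_eq h
  obtain ⟨e, -, he⟩ := hB.2 T hTc
  rw [he b ⟨hb, hT.trans inter_subset_left⟩, he c ⟨hc, hT.trans inter_subset_right⟩]

/-- sum over blocks of binomials of intersection sizes -/
theorem count_inter (hB : IsSteinerSystem t k B) (X : Finset α) {j lam : ℕ} (hjt : j ≤ t) (htk : t ≤ k)
    (hlam : lam * (k - j).choose (t - j) = (Fintype.card α - j).choose (t - j)) :
    ∑ b ∈ blocks B, (b ∩ X).card.choose j = X.card.choose j * lam := by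
  have h3 := sum_card_bipartiteAbove_eq_sum_card_bipartiteBelow (s := blocks B)
    (t := X.powersetCard j) (fun b T => T ⊆ b)
  simp only [bipartiteAbove, bipartiteBelow] at h3
  have h4 : ∀ b ∈ blocks B, ((X.powersetCard j).filter (· ⊆ b)).card = (b ∩ X).card.choose j := by
    intro b _
    rw [← card_powersetCard]
    congr 1
    ext T
    simp only [mem_filter, mem_powersetCard, subset_inter_iff]
    tauto
  rw [← sum_congr rfl h4, h3, ← card_powersetCard, ← smul_eq_mul, ← sum_const]
  refine sum_congr rfl fun T hT => ?_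
  have hTc := (mem_powersetCard.1 hT).2
  have h5 := count_above hB (s := T) (hTc.symm ▸ hjt)
  rw [hTc, ← hlam] at h5
  exact Nat.eq_of_mul_eq_mul_right (Nat.choose_pos (by omega)) h5

/-- the number of blocks meeting `X` in `i` points -/
noncomputable def meet (B : Set (Finset α)) (X : Finset α) (i : ℕ) : ℕ :=
  ((blocks B).filter fun b => (b ∩ X).card = i).card

theorem count_meet (hB : IsSteinerSystem t k B) (X : Finset α) {j lam N : ℕ} (hjt : j ≤ t) (htk : t ≤ k)
    (hlam : lam * (k - j).choose (t - j) = (Fintype.card α - j).choose (t - j))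
    (hN : X.card < N) :
    ∑ i ∈ range N, meet B X i * i.choose j = X.card.choose j * lam := by
  rw [← count_inter hB X hjt htk hlam,
    ← sum_fiberwise_of_maps_to (t := range N) (g := fun b => (b ∩ X).card)
      (fun b _ => mem_range.2 (lt_of_le_of_lt (card_le_card inter_subset_right) hN))]
  refine sum_congr rfl fun i _ => ?_
  rw [sum_congr rfl (fun b hb => by rw [(mem_filter.1 hb).2]), sum_const, smul_eq_mul, meet]

theorem meet_eq_zero {X : Finset α} {i : ℕ} (h : ∀ b ∈ B, (b ∩ X).card ≠ i) : meet B X i = 0 :=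
  card_eq_zero.2 (filter_eq_empty_iff.2 fun b hb => h b (mem_blocks.1 hb))

theorem meet_pos {X b : Finset α} (hb : b ∈ B) : 0 < meet B X (b ∩ X).card :=
  card_pos.2 ⟨b, mem_filter.2 ⟨mem_blocks.2 hb, rfl⟩⟩

theorem meet_high (hB : IsSteinerSystem t k B) {b : Finset α} (hb : b ∈ B) {i : ℕ} (hi : t ≤ i)
    (hik : i ≠ k) : meet B b i = 0 :=
  meet_eq_zero fun c hc e => hik (by
    rw [← e, eq_of_five hB hc hb (e.symm ▸ hi), inter_self, hB.1 b hb])

theorem meet_self (hB : IsSteinerSystem t k B) (htk : t ≤ k) {b : Finset α} (hb : b ∈ B) : meet B b k = 1 := by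
  refine card_eq_one.2 ⟨b, eq_singleton_iff_unique_mem.2 ⟨?_, fun c hc => ?_⟩⟩
  · exact mem_filter.2 ⟨mem_blocks.2 hb, by rw [inter_self, hB.1 b hb]⟩
  · obtain ⟨h1, h2⟩ := mem_filter.1 hc
    exact eq_of_five hB (mem_blocks.1 h1) hb (h2.symm ▸ htk)

theorem meet_eight (hB : IsSteinerSystem 5 8 B) (hα : Fintype.card α = 24) {b : Finset α} (hb : b ∈ B) :
    meet B b 0 = 30 ∧ meet B b 1 = 0 ∧ meet B b 2 = 448 ∧ meet B b 3 = 0 ∧ meet B b 4 = 280 := by
  have e0 := count_meet hB b (j := 0) (lam := 759) (N := 9) (by norm_num) (by norm_num) (by rw [hα]; decide) (by rw [hB.1 b hb]; norm_num)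
  have e1 := count_meet hB b (j := 1) (lam := 253) (N := 9) (by norm_num) (by norm_num) (by rw [hα]; decide) (by rw [hB.1 b hb]; norm_num)
  have e2 := count_meet hB b (j := 2) (lam := 77) (N := 9) (by norm_num) (by norm_num) (by rw [hα]; decide) (by rw [hB.1 b hb]; norm_num)
  have e3 := count_meet hB b (j := 3) (lam := 21) (N := 9) (by norm_num) (by norm_num) (by rw [hα]; decide) (by rw [hB.1 b hb]; norm_num)
  have e4 := count_meet hB b (j := 4) (lam := 5) (N := 9) (by norm_num) (by norm_num) (by rw [hα]; decide) (by rw [hB.1 b hb]; norm_num)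
  simp only [sum_range_succ, sum_range_zero, Nat.choose, hB.1 b hb, meet_self hB (by norm_num) hb,
    meet_high hB hb (i := 5) (by norm_num) (by norm_num), meet_high hB hb (i := 6) (by norm_num) (by norm_num),
    meet_high hB hb (i := 7) (by norm_num) (by norm_num)] at e0 e1 e2 e3 e4
  omega

theorem meet_seven (hB : IsSteinerSystem 4 7 B) (hα : Fintype.card α = 23) {b : Finset α} (hb : b ∈ B) :
    meet B b 0 = 0 ∧ meet B b 2 = 0 := by
  have e0 := count_meet hB b (j := 0) (lam := 253) (N := 8) (by norm_num) (by norm_num) (by rw [hα]; decide) (by rw [hB.1 b hb]; norm_num)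
  have e1 := count_meet hB b (j := 1) (lam := 77) (N := 8) (by norm_num) (by norm_num) (by rw [hα]; decide) (by rw [hB.1 b hb]; norm_num)
  have e2 := count_meet hB b (j := 2) (lam := 21) (N := 8) (by norm_num) (by norm_num) (by rw [hα]; decide) (by rw [hB.1 b hb]; norm_num)
  have e3 := count_meet hB b (j := 3) (lam := 5) (N := 8) (by norm_num) (by norm_num) (by rw [hα]; decide) (by rw [hB.1 b hb]; norm_num)
  simp only [sum_range_succ, sum_range_zero, Nat.choose, hB.1 b hb, meet_self hB (by norm_num) hb,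
    meet_high hB hb (i := 4) (by norm_num) (by norm_num), meet_high hB hb (i := 5) (by norm_num) (by norm_num),
    meet_high hB hb (i := 6) (by norm_num) (by norm_num)] at e0 e1 e2 e3
  omega

theorem meet_six (hB : IsSteinerSystem 3 6 B) (hα : Fintype.card α = 22) {b : Finset α} (hb : b ∈ B) :
    meet B b 1 = 0 := by
  have e1 := count_meet hB b (j := 1) (lam := 21) (N := 7) (by norm_num) (by norm_num) (by rw [hα]; decide) (by rw [hB.1 b hb]; norm_num)
  have e2 := count_meet hB b (j := 2) (lam := 5) (N := 7) (by norm_num) (by norm_num) (by rw [hα]; decide) (by rw [hB.1 b hb]; norm_num)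
  simp only [sum_range_succ, sum_range_zero, Nat.choose, hB.1 b hb, meet_self hB (by norm_num) hb,
    meet_high hB hb (i := 3) (by norm_num) (by norm_num), meet_high hB hb (i := 4) (by norm_num) (by norm_num),
    meet_high hB hb (i := 5) (by norm_num) (by norm_num)] at e1 e2
  omega

theorem meet_twelve (hB : IsSteinerSystem 5 6 B) (hα : Fintype.card α = 12) {b : Finset α} (hb : b ∈ B) :
    meet B b 0 = 1 ∧ meet B b 1 = 0 := by
  have e0 := count_meet hB b (j := 0) (lam := 132) (N := 7) (by norm_num) (by norm_num) (by rw [hα]; decide) (by rw [hB.1 b hb]; norm_num)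
  have e1 := count_meet hB b (j := 1) (lam := 66) (N := 7) (by norm_num) (by norm_num) (by rw [hα]; decide) (by rw [hB.1 b hb]; norm_num)
  have e2 := count_meet hB b (j := 2) (lam := 30) (N := 7) (by norm_num) (by norm_num) (by rw [hα]; decide) (by rw [hB.1 b hb]; norm_num)
  have e3 := count_meet hB b (j := 3) (lam := 12) (N := 7) (by norm_num) (by norm_num) (by rw [hα]; decide) (by rw [hB.1 b hb]; norm_num)
  have e4 := count_meet hB b (j := 4) (lam := 4) (N := 7) (by norm_num) (by norm_num) (by rw [hα]; decide) (by rw [hB.1 b hb]; norm_num)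
  simp only [sum_range_succ, sum_range_zero, Nat.choose, hB.1 b hb, meet_self hB (by norm_num) hb,
    meet_high hB hb (i := 5) (by norm_num) (by norm_num)] at e0 e1 e2 e3 e4
  omega

theorem inter_eight (hB : IsSteinerSystem 5 8 B) (hα : Fintype.card α = 24) {b c : Finset α} (hb : b ∈ B)
    (hc : c ∈ B) (hne : b ≠ c) : (b ∩ c).card = 0 ∨ (b ∩ c).card = 2 ∨ (b ∩ c).card = 4 := by
  obtain ⟨-, h1, -, h3, -⟩ := meet_eight hB hα hc
  have h5 : (b ∩ c).card < 5 := by
    by_contra h
    exact hne (eq_of_five hB hb hc (by omega))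
  have hp := meet_pos (X := c) hb
  rcases (by omega : (b ∩ c).card = 0 ∨ (b ∩ c).card = 1 ∨ (b ∩ c).card = 2 ∨ (b ∩ c).card = 3 ∨
    (b ∩ c).card = 4) with e | e | e | e | e
  · exact Or.inl e
  · rw [e, h1] at hp; exact absurd hp (lt_irrefl 0)
  · exact Or.inr (Or.inl e)
  · rw [e, h3] at hp; exact absurd hp (lt_irrefl 0)
  · exact Or.inr (Or.inr e)

/-- an 8-set met evenly by every block is a block -/
theorem mem_of_even (hB : IsSteinerSystem 5 8 B) (hα : Fintype.card α = 24) {S : Finset α}
    (hS : S.card = 8) (hev : ∀ b ∈ B, Even (b ∩ S).card) : S ∈ B := by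
  have e3 := count_meet hB S (j := 3) (lam := 21) (N := 9) (by norm_num) (by norm_num) (by rw [hα]; decide) (by rw [hS]; norm_num)
  have e4 := count_meet hB S (j := 4) (lam := 5) (N := 9) (by norm_num) (by norm_num) (by rw [hα]; decide) (by rw [hS]; norm_num)
  have e5 := count_meet hB S (j := 5) (lam := 1) (N := 9) (by norm_num) (by norm_num) (by rw [hα]; decide) (by rw [hS]; norm_num)
  have hodd : ∀ i, Odd i → meet B S i = 0 := fun i hi =>
    meet_eq_zero fun b hb e => Nat.not_even_iff_odd.2 hi (e ▸ hev b hb)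
  simp only [sum_range_succ, sum_range_zero, Nat.choose, hS, hodd 1 (by decide), hodd 3 (by decide),
    hodd 5 (by decide), hodd 7 (by decide)] at e3 e4 e5
  have h8 : meet B S 8 = 1 := by omega
  obtain ⟨b, hb⟩ := card_eq_one.1 h8
  obtain ⟨hbB, hbS⟩ := mem_filter.1 (show b ∈ (blocks B).filter fun b => (b ∩ S).card = 8 from hb ▸ mem_singleton_self b)
  have h1 : b ∩ S = S := eq_of_subset_of_card_le inter_subset_right (by rw [hbS, hS])
  have h2 : S = b := eq_of_subset_of_card_le (h1 ▸ inter_subset_left) (by rw [hB.1 b (mem_blocks.1 hbB), hS])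
  exact h2 ▸ mem_blocks.1 hbB

theorem symmDiff_mem (hB : IsSteinerSystem 5 8 B) (hα : Fintype.card α = 24) {b c : Finset α} (hb : b ∈ B)
    (hc : c ∈ B) (h4 : (b ∩ c).card = 4) : symmDiff b c ∈ B := by
  have hsym : ∀ e : Finset α, (e ∩ symmDiff b c).card + 2 * (e ∩ (b ∩ c)).card =
      (e ∩ b).card + (e ∩ c).card := by
    intro e
    have hu := card_union_add_card_inter (e ∩ b) (e ∩ c)
    rw [← inter_union_distrib_left, show e ∩ b ∩ (e ∩ c) = e ∩ (b ∩ c) by ext x; simp; tauto] at hu
    have hs : e ∩ (b ∪ c) = (e ∩ symmDiff b c) ∪ (e ∩ (b ∩ c)) := by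
      ext x; simp [mem_symmDiff]; tauto
    have hd : Disjoint (e ∩ symmDiff b c) (e ∩ (b ∩ c)) := by
      rw [disjoint_left]; intro x; simp [mem_symmDiff]; tauto
    rw [hs, card_union_of_disjoint hd] at hu
    omega
  have hev : ∀ e ∈ B, ∀ f ∈ B, Even (e ∩ f).card := by
    intro e he f hf
    by_cases hne : e = f
    · rw [hne, inter_self, hB.1 f hf]; decide
    · rcases inter_eight hB hα he hf hne with h | h | h <;> rw [h] <;> decide
  refine mem_of_even hB hα ?_ fun e he => ?_
  · have := hsym univ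
    simp only [univ_inter, hB.1 b hb, hB.1 c hc, h4] at this
    omega
  · have h := hsym e
    obtain ⟨p, hp⟩ := hev e he b hb
    obtain ⟨q, hq⟩ := hev e he c hc
    rw [Nat.even_iff]
    omega

end CfsgLib.Spor.SteinerCount
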