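import Cfsg.Agent.Spor.Code

/-!
Octads as a Steiner system; the automorphism group of the code.
-/

set_option autoImplicit false

namespace CfsgLib.Spor

open Cfsg
open scoped Pointwise

theorem ncard_Code : Code.ncard = 4096 := by
  have h := ncard_filter_code (fun _ => True) (fun _ => true) (fun _ _ => by simp)
  simp only [and_true] at h
  rw [show ({s | s ∈ Code} : Set (Finset GolayPt)) = Code from rfl] at h
  rw [h, List.countP_true]
  rw [beq_iff_eq.1 wordList_eq]; simp

theorem card_symmDiff_add {α : Type*} [DecidableEq α] (a b : Finset α) :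
    (symmDiff a b).card + 2 * (a ∩ b).card = a.card + b.card := by
  have h1 : (symmDiff a b).card = (a \ b).card + (b \ a).card := by
    rw [show symmDiff a b = a \ b ∪ b \ a from rfl, Finset.card_union_of_disjoint]
    exact disjoint_sdiff_sdiff
  have h2 := Finset.card_inter_add_card_sdiff a b
  have h3 := Finset.card_inter_add_card_sdiff b a
  rw [Finset.inter_comm b a] at h3
  omega

theorem even_inter {s t : Finset GolayPt} (hs : s ∈ Code) (ht : t ∈ Code) :
    2 ∣ (s ∩ t).card := by
  have h := card_symmDiff_add s t
  have h1 := card_cases hs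
  have h2 := card_cases ht
  have h3 := card_cases (symmDiff_mem_code hs ht)
  omega

theorem univ_mem_code : (Finset.univ : Finset GolayPt) ∈ Code := by
  have := gen_mem_code (i := 23) (by norm_num)
  rwa [show genRows.getD 23 0 = FULL from by decide +kernel, ofMask_FULL] at this

theorem compl_mem_code {s : Finset GolayPt} (hs : s ∈ Code) : sᶜ ∈ Code := by
  have := symmDiff_mem_code hs univ_mem_code
  rwa [show symmDiff s Finset.univ = sᶜ from symmDiff_top s] at this

theorem octad_ext {o o' : Finset GolayPt} (ho : o ∈ octads) (ho' : o' ∈ octads)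
    (h : 5 ≤ (o ∩ o').card) : o = o' := by
  rw [mem_octads] at ho ho'
  have h1 := card_symmDiff_add o o'
  have h3 := card_cases (symmDiff_mem_code ho.1 ho'.1)
  have h4 : (symmDiff o o').card = 0 := by omega
  exact symmDiff_eq_bot.1 (Finset.card_eq_zero.1 h4)

theorem ncard_octads : octads.ncard = 759 := by
  have h := ncard_filter_code (fun s => s.card = 8) (fun m => pop m == 8)
    (fun m _ => by simp [card_ofMask])
  rw [show octads = {s | s ∈ Code ∧ s.card = 8} from rfl, h, List.countP_eq_length_filter,
    beq_iff_eq.1 octadList_eq]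
  decide +kernel

theorem ncard_dodecads : dodecads.ncard = 2576 := by
  have h := ncard_filter_code (fun s => s.card = 12) (fun m => pop m == 12)
    (fun m _ => by simp [card_ofMask])
  rw [show dodecads = {s | s ∈ Code ∧ s.card = 12} from rfl, h]
  decide +kernel

theorem octads_finite : octads.Finite := Set.toFinite _

theorem existsUnique_octad {s : Finset GolayPt} (hs : s.card = 5) :
    ∃! o, o ∈ octads ∧ s ⊆ o := by
  classical
  set O := octads_finite.toFinset with hO
  have hdisj : (O : Set (Finset GolayPt)).PairwiseDisjoint (fun o => o.powersetCard 5) := by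
    intro o ho o' ho' hne
    simp only [hO, Set.Finite.coe_toFinset] at ho ho'
    rw [Function.onFun, Finset.disjoint_left]
    intro t ht ht'
    rw [Finset.mem_powersetCard] at ht ht'
    refine hne (octad_ext ho ho' ?_)
    rw [← ht.2]
    exact Finset.card_le_card (Finset.subset_inter ht.1 ht'.1)
  have hcard : (O.biUnion fun o => o.powersetCard 5) =
      (Finset.univ : Finset GolayPt).powersetCard 5 := by
    apply Finset.eq_of_subset_of_card_le
    · intro t ht
      simp only [Finset.mem_biUnion, Finset.mem_powersetCard] at ht ⊢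
      obtain ⟨o, -, -, h2⟩ := ht
      exact ⟨Finset.subset_univ _, h2⟩
    · rw [Finset.card_biUnion hdisj, Finset.card_powersetCard, Finset.card_univ,
        Finset.sum_congr rfl (g := fun _ => Nat.choose 8 5) (fun o ho => by
          rw [Finset.card_powersetCard, (mem_octads.1 (octads_finite.mem_toFinset.1 ho)).2]),
        Finset.sum_const, smul_eq_mul, hO, ← Set.ncard_eq_toFinset_card octads, ncard_octads,
        show Fintype.card GolayPt = 24 from by simp]
      decide
  have hmem : s ∈ (Finset.univ : Finset GolayPt).powersetCard 5 :=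
    Finset.mem_powersetCard.2 ⟨Finset.subset_univ _, hs⟩
  rw [← hcard, Finset.mem_biUnion] at hmem
  obtain ⟨o, ho, hso⟩ := hmem
  rw [Finset.mem_powersetCard] at hso
  refine ⟨o, ⟨octads_finite.mem_toFinset.1 ho, hso.1⟩, fun o' ho' => ?_⟩
  refine octad_ext ho'.1 (octads_finite.mem_toFinset.1 ho) ?_
  rw [← hs]
  exact Finset.card_le_card (Finset.subset_inter ho'.2 hso.1)

theorem steiner_octads : IsSteinerSystem 5 8 octads :=
  ⟨fun _ h => h.2, fun _ hs => existsUnique_octad hs⟩

/-! ### the automorphism group -/

theorem smul_symmDiff_perm (σ : Equiv.Perm GolayPt) (s t : Finset GolayPt) :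
    σ • symmDiff s t = symmDiff (σ • s) (σ • t) := by
  simp only [smul_eq_image]
  exact Finset.image_symmDiff _ _ σ.injective

theorem mem_M24_iff {σ : Equiv.Perm GolayPt} :
    σ ∈ M24 ↔ ∀ s ∈ Code, σ • s ∈ Code := by
  rw [MulAction.mem_stabilizer_iff]
  constructor
  · intro h s hs
    show σ • s ∈ supports (golayCode : Set (GolayPt → ZMod 2))
    rw [← h]; exact Set.smul_mem_smul_set hs
  · intro h
    refine Set.eq_of_subset_of_ncard_le ?_ ?_ (Set.toFinite _)
    · rintro _ ⟨s, hs, rfl⟩; exact h s hs
    · rw [← Set.image_smul, Set.ncard_image_of_injective _ (MulAction.injective σ)]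

theorem mem_M24_of_rows {σ : Equiv.Perm GolayPt}
    (h : ∀ b ∈ basisRows, σ • ofMask b ∈ Code) : σ ∈ M24 := by
  rw [mem_M24_iff]
  intro s hs
  rw [← ofMask_maskOf s, ← inCode_iff.1 (mem_Code_iff.1 hs), combo]
  have key : ∀ (l : List ℕ) (j : ℕ), (∀ b ∈ l, σ • ofMask b ∈ Code) →
      σ • ofMask (comboAux l j (maskOf s)) ∈ Code := by
    intro l
    induction l with
    | nil => intro j _; simpa [comboAux, ofMask_zero, smul_eq_image] using empty_mem_code
    | cons c l ih =>
      intro j hl
      rw [comboAux, ofMask_xor, smul_symmDiff_perm]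
      refine symmDiff_mem_code ?_ (ih _ fun b hb => hl b (by simp [hb]))
      split
      · exact hl c (by simp)
      · simpa [ofMask_zero, smul_eq_image] using empty_mem_code
  exact key _ _ h

/-- the test that a packed permutation lies in the group -/
def inM24 (P : ℕ) : Bool := okP P && basisRows.all (fun b => inCode (imgP P b))

theorem mkPerm_mem_M24 {P : ℕ} (h : inM24 P = true) : mkPerm P ∈ M24 := by
  rw [inM24, Bool.and_eq_true, List.all_eq_true] at h
  refine mem_M24_of_rows fun b hb => ?_
  rw [smul_ofMask h.1]
  exact (ofMask_mem_Code (inCode_lt (h.2 b hb))).2 (h.2 b hb)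

theorem smul_mem_code {σ : Equiv.Perm GolayPt} (hσ : σ ∈ M24) {s : Finset GolayPt}
    (hs : s ∈ Code) : σ • s ∈ Code := mem_M24_iff.1 hσ s hs

theorem card_smul_perm (σ : Equiv.Perm GolayPt) (s : Finset GolayPt) :
    (σ • s).card = s.card := by
  rw [smul_eq_image, Finset.card_image_of_injective _ σ.injective]

theorem smul_mem_octads {σ : Equiv.Perm GolayPt} (hσ : σ ∈ M24) {s : Finset GolayPt}
    (hs : s ∈ octads) : σ • s ∈ octads :=
  ⟨smul_mem_code hσ hs.1, (card_smul_perm σ s).trans hs.2⟩

theorem smul_mem_dodecads {σ : Equiv.Perm GolayPt} (hσ : σ ∈ M24) {s : Finset GolayPt}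
    (hs : s ∈ dodecads) : σ • s ∈ dodecads :=
  ⟨smul_mem_code hσ hs.1, (card_smul_perm σ s).trans hs.2⟩

theorem basisRows_octads : ∀ b ∈ basisRows, ofMask b ∈ octads := by
  intro b hb
  have h : basisRows.all (fun b => decide (b < 2 ^ 24) && octadList.contains b) = true := by
    decide +kernel
  have h' := List.all_eq_true.1 h b hb
  simp only [Bool.and_eq_true, decide_eq_true_eq, List.contains_eq_mem] at h'
  exact (mem_octads_iff h'.1).2 h'.2

theorem M24_eq_aut_octads : M24 = setSystemAut octads := by
  ext σ
  constructor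
  · intro h
    rw [MulAction.mem_stabilizer_iff]
    refine Set.eq_of_subset_of_ncard_le ?_ ?_ (Set.toFinite _)
    · rintro _ ⟨s, hs, rfl⟩; exact smul_mem_octads h hs
    · rw [← Set.image_smul, Set.ncard_image_of_injective _ (MulAction.injective σ)]
  · intro h
    rw [MulAction.mem_stabilizer_iff] at h
    refine mem_M24_of_rows fun b hb => ?_
    have : σ • ofMask b ∈ octads := h ▸ Set.smul_mem_smul_set (basisRows_octads b hb)
    exact this.1

end CfsgLib.Spor
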