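import Cfsg.Agent.Spor.M24Card

/-!
Five-fold transitivity and point stabiliser orders.
-/

set_option autoImplicit false

namespace CfsgLib.Spor

open Cfsg
open scoped Pointwise

theorem chain_step {H : Subgroup (Equiv.Perm GolayPt)} {l l' : Level} {ls : List Level}
    (hok : chainOK (l :: l' :: ls) = true) (hsub : gtGroup l.gens ≤ H)
    (hc : Nat.card H ≤ chainSize (l :: l' :: ls)) :
    H ⊓ MulAction.stabilizer (Equiv.Perm GolayPt) (pt l.base) = gtGroup l'.gens ∧
      Nat.card (gtGroup l'.gens) = chainSize (l' :: ls) := by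
  have hok' := hok
  simp only [chainOK, Bool.and_eq_true, List.all_eq_true, List.any_eq_true, beq_iff_eq] at hok'
  obtain ⟨⟨hl, hls⟩, hg⟩ := hok'
  have hb : l.base < 24 := by
    simp only [Level.ok, Bool.and_eq_true, decide_eq_true_eq] at hl; exact hl.1.2
  have hK : gtGroup l'.gens ≤ H := by
    refine le_trans (gtGroup_le fun g hg' => ?_) hsub
    obtain ⟨h', hh', he⟩ := (hg g hg').1
    rw [GT.perm, ← he]
    exact mem_gtGroup hh'
  have hKx : ∀ k ∈ gtGroup l'.gens, k • pt l.base = pt l.base := by
    intro k hk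
    have hokg : ∀ g ∈ l'.gens, g.ok = true := by
      cases ls with
      | nil =>
        simp only [chainOK, Level.ok, Bool.and_eq_true, List.all_eq_true] at hls
        exact hls.1.1
      | cons a b =>
        simp only [chainOK, Level.ok, Bool.and_eq_true, List.all_eq_true] at hls
        exact hls.1.1.1.1
    refine MulAction.mem_stabilizer_iff.1 (gtGroup_le (gs := l'.gens) (fun g hg' => ?_) hk)
    rw [MulAction.mem_stabilizer_iff, GT.smul_pt (hokg g hg'), GT.imgPt, Nat.mod_eq_of_lt hb,
      (hg g hg').2]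
  have hL := Level.orb_subset hl
  have hL' : ↑(l.orb.toFinset.image pt) ⊆ MulAction.orbit H (pt l.base) := by
    intro y hy
    obtain ⟨g, rfl⟩ := hL.2 hy
    exact ⟨⟨g, hsub g.2⟩, rfl⟩
  have hlow := chain_card_le _ hls
  simp only [chainTop] at hlow
  have hge : Nat.card H ≤ (l.orb.toFinset.image pt).card * Nat.card (gtGroup l'.gens) := by
    rw [hL.1]
    exact le_trans hc (Nat.mul_le_mul_left _ hlow)
  have hex := exact_of_card _ hK hKx hL' hge
  refine ⟨hex.1, le_antisymm ?_ hlow⟩
  have h1 := card_orbit_mul_le _ hK hKx hL'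
  rw [hL.1] at h1
  exact Nat.le_of_mul_le_mul_left (le_trans h1 hc) (Nat.succ_pos _)

theorem card_gtGroup_tail {H : Subgroup (Equiv.Perm GolayPt)} (ls : List Level)
    (hok : chainOK ls = true) (hsub : gtGroup (chainTop ls) ≤ H)
    (hc : Nat.card H ≤ chainSize ls) : gtGroup (chainTop ls) = H ∧ Nat.card H = chainSize ls := by
  have h := le_trans (chain_card_le _ hok) (Subgroup.card_le_of_le hsub)
  refine ⟨Subgroup.eq_of_le_of_card_ge hsub (le_trans hc (chain_card_le _ hok)), ?_⟩
  exact le_antisymm hc h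

theorem chain_levels : ∀ (k : ℕ) (ls : List Level) (H : Subgroup (Equiv.Perm GolayPt)),
    chainOK ls = true → gtGroup (chainTop ls) ≤ H → Nat.card H ≤ chainSize ls → k < ls.length →
      (∀ σ, σ ∈ gtGroup (chainTop (ls.drop k)) ↔
        σ ∈ H ∧ ∀ l ∈ ls.take k, σ (pt l.base) = pt l.base) ∧
      Nat.card (gtGroup (chainTop (ls.drop k))) = chainSize (ls.drop k)
  | 0, ls, H, hok, hsub, hc, _ => by
    obtain ⟨h1, h2⟩ := card_gtGroup_tail ls hok hsub hc
    simp only [List.drop_zero, List.take_zero, List.not_mem_nil, IsEmpty.forall_iff, forall_const,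
      and_true]
    exact ⟨fun σ => by simp [h1], by rw [h1, h2]⟩
  | k + 1, [], _, _, _, _, hk => by simp at hk
  | k + 1, [l], _, _, _, _, hk => by simp at hk
  | k + 1, l :: l' :: ls, H, hok, hsub, hc, hk => by
    have s := chain_step hok hsub hc
    have hok' : chainOK (l' :: ls) = true := by
      simp only [chainOK, Bool.and_eq_true] at hok; exact hok.1.2
    obtain ⟨h1, h2⟩ := chain_levels k (l' :: ls)
      (H ⊓ MulAction.stabilizer (Equiv.Perm GolayPt) (pt l.base)) hok' s.1.ge
      (by rw [s.1]; exact s.2.le) (by simpa using hk)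
    refine ⟨fun σ => ?_, h2⟩
    rw [List.drop_succ_cons, h1, List.take_succ_cons, Subgroup.mem_inf,
      MulAction.mem_stabilizer_iff, List.forall_mem_cons]
    exact and_assoc

/-- the embedding of the first five base points -/
def base5 : Fin 5 ↪ GolayPt where
  toFun i := pt ([23, 0, 1, 2, 3].getD i.val 0)
  inj' := by decide +kernel

theorem card_fix_base5 :
    Nat.card (MulAction.stabilizer M24 base5) = 48 := by
  obtain ⟨h1, h2⟩ := chain_levels 5 m24Chain M24 m24Chain_ok gtGroup_m24_le
    (by rw [card_M24, m24Chain_size]) (by decide +kernel)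
  have hbase : (m24Chain.take 5).map Level.base = [23, 0, 1, 2, 3] := by decide +kernel
  have hA : (MulAction.stabilizer M24 base5).map M24.subtype =
      gtGroup (chainTop (m24Chain.drop 5)) := by
    ext σ
    rw [h1]
    simp only [Subgroup.mem_map, MulAction.mem_stabilizer_iff]
    have hiff : (∀ l ∈ m24Chain.take 5, σ (pt l.base) = pt l.base) ↔
        ∀ i : Fin 5, σ (base5 i) = base5 i := by
      rw [show (∀ l ∈ m24Chain.take 5, σ (pt l.base) = pt l.base) ↔
        ∀ b ∈ (m24Chain.take 5).map Level.base, σ (pt b) = pt b from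
          (List.forall_mem_map (P := fun b => σ (pt b) = pt b)).symm, hbase]
      simp [Fin.forall_fin_succ, base5]
    rw [hiff]
    constructor
    · rintro ⟨g, hg, rfl⟩
      exact ⟨g.2, fun i => DFunLike.congr_fun hg i⟩
    · rintro ⟨hσ, hfix⟩
      exact ⟨⟨σ, hσ⟩, DFunLike.ext _ _ hfix, rfl⟩
  rw [← Subgroup.card_map_of_injective (Subgroup.subtype_injective M24), hA, h2]
  decide +kernel

theorem m24_five_transitive : MulAction.IsMultiplyPretransitive M24 GolayPt 5 := by
  have h := ncard_orbit_mul_card (G := M24) base5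
  rw [card_fix_base5, card_M24] at h
  refine (MulAction.isPretransitive_iff_orbit_eq_univ base5).2 ?_
  apply Set.eq_univ_of_forall
  intro y
  by_contra hy
  have hlt : (MulAction.orbit M24 base5).ncard < (Set.univ : Set (Fin 5 ↪ GolayPt)).ncard :=
    Set.ncard_lt_ncard (Set.ssubset_univ_iff.2 fun he => hy (he ▸ trivial)) Set.finite_univ
  rw [Set.ncard_univ, Nat.card_eq_fintype_card, Fintype.card_embedding_eq] at hlt
  simp only [Fintype.card_option, ZMod.card, Fintype.card_fin] at hlt
  norm_num [Nat.descFactorial] at hlt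
  have h48 : (244823040 : ℕ) < 5100480 * 48 :=
    lt_of_eq_of_lt h.symm ((Nat.mul_lt_mul_right (by norm_num : 0 < 48)).2 hlt)
  norm_num at h48

theorem card_fix_embedding {k : ℕ} (hk : k ≤ 5) (x : Fin k ↪ GolayPt) :
    (24 : ℕ).descFactorial k * Nat.card (MulAction.stabilizer M24 x) = 244823040 := by
  haveI : MulAction.IsMultiplyPretransitive M24 GolayPt 5 := m24_five_transitive
  have hpre : MulAction.IsPretransitive M24 (Fin k ↪ GolayPt) :=
    MulAction.isMultiplyPretransitive_of_le (n := 5) hk (by simp)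
  have h := ncard_orbit_mul_card (G := M24) x
  rw [(MulAction.isPretransitive_iff_orbit_eq_univ x).1 hpre, Set.ncard_univ, card_M24, Nat.card_eq_fintype_card,
    Fintype.card_embedding_eq] at h
  simpa using h

theorem card_stab_point (p : GolayPt) : Nat.card (MulAction.stabilizer M24 p) = 10200960 := by
  have h := card_fix_embedding (k := 1) (by norm_num) ⟨fun _ => p, fun a b _ => Subsingleton.elim a b⟩
  have e : MulAction.stabilizer M24 (⟨fun _ => p, fun a b _ => Subsingleton.elim a b⟩ : Fin 1 ↪ GolayPt) =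
      MulAction.stabilizer M24 p := by
    ext g
    simp only [MulAction.mem_stabilizer_iff]
    exact ⟨fun hg => DFunLike.congr_fun hg 0, fun hg => DFunLike.ext _ _ fun _ => hg⟩
  rw [e, show (24 : ℕ).descFactorial 1 = 24 by decide] at h
  refine Nat.eq_of_mul_eq_mul_left (by norm_num : 0 < 24) (h.trans ?_)
  norm_num

theorem card_stab_two {p q : GolayPt} (hpq : p ≠ q) :
    Nat.card ↥(MulAction.stabilizer M24 p ⊓ MulAction.stabilizer M24 q) = 443520 := by
  have hinj : Function.Injective ![p, q] := by
    intro i j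
    fin_cases i <;> fin_cases j <;> simp [hpq, hpq.symm]
  have h := card_fix_embedding (k := 2) (by norm_num) ⟨![p, q], hinj⟩
  have e : MulAction.stabilizer M24 (⟨![p, q], hinj⟩ : Fin 2 ↪ GolayPt) =
      MulAction.stabilizer M24 p ⊓ MulAction.stabilizer M24 q := by
    ext g
    simp only [MulAction.mem_stabilizer_iff, Subgroup.mem_inf]
    refine ⟨fun hg => ⟨DFunLike.congr_fun hg 0, DFunLike.congr_fun hg 1⟩, fun hg => ?_⟩
    refine DFunLike.ext _ _ fun i => ?_
    fin_cases i
    · exact hg.1
    · exact hg.2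
  rw [e, show (24 : ℕ).descFactorial 2 = 552 by decide] at h
  refine Nat.eq_of_mul_eq_mul_left (by norm_num : 0 < 552) (h.trans ?_)
  norm_num

end CfsgLib.Spor
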