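import Cfsg.Agent.Spor.Joint

/-!
Conjugating joint stabilisers to the base objects; moving flags inside the base dodecad.
-/

set_option autoImplicit false

namespace CfsgLib.Spor

open Cfsg
open scoped Pointwise

variable {X Y : Type} [MulAction (Equiv.Perm GolayPt) X] [MulAction (Equiv.Perm GolayPt) Y]

theorem stabilizer_pair (a : X) (b : Y) :
    MulAction.stabilizer M24 a ⊓ MulAction.stabilizer M24 b = MulAction.stabilizer M24 (a, b) := by
  ext g
  simp only [Subgroup.mem_inf, MulAction.mem_stabilizer_iff]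
  exact ⟨fun h => Prod.ext h.1 h.2, fun h => ⟨congrArg Prod.fst h, congrArg Prod.snd h⟩⟩

theorem stab_amb_pair (a : X) (b : Y) :
    M24 ⊓ MulAction.stabilizer (Equiv.Perm GolayPt) (a, b) =
      M24 ⊓ MulAction.stabilizer (Equiv.Perm GolayPt) a ⊓
        MulAction.stabilizer (Equiv.Perm GolayPt) b := by
  ext g
  simp only [Subgroup.mem_inf, MulAction.mem_stabilizer_iff]
  exact ⟨fun h => ⟨⟨h.1, congrArg Prod.fst h.2⟩, congrArg Prod.snd h.2⟩,
    fun h => ⟨h.1.1, Prod.ext h.1.2 h.2⟩⟩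

/-- stabiliser of a moved object, conjugated back -/
def stabEquiv {σ : Equiv.Perm GolayPt} (hσ : σ ∈ M24) (a : X) :
    ↥(MulAction.stabilizer M24 (σ • a)) ≃*
      ↥(M24 ⊓ MulAction.stabilizer (Equiv.Perm GolayPt) a) where
  toFun k := ⟨σ⁻¹ * (k.1 : Equiv.Perm GolayPt) * σ,
    Subgroup.mem_inf.2 ⟨mul_mem (mul_mem (inv_mem hσ) k.1.2) hσ,
      MulAction.mem_stabilizer_iff.2 (by
        rw [mul_smul, mul_smul]
        exact (congrArg (σ⁻¹ • ·) (show (k.1 : Equiv.Perm GolayPt) • σ • a = σ • a from k.2)).trans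
          (inv_smul_smul σ a))⟩⟩
  invFun k := ⟨⟨σ * k.1 * σ⁻¹, mul_mem (mul_mem hσ k.2.1) (inv_mem hσ)⟩,
    MulAction.mem_stabilizer_iff.2 (by
      show (σ * k.1 * σ⁻¹) • σ • a = σ • a
      rw [mul_smul, mul_smul, inv_smul_smul, MulAction.mem_stabilizer_iff.1 k.2.2])⟩
  left_inv k := by
    refine Subtype.ext (Subtype.ext ?_)
    show σ * (σ⁻¹ * (k.1 : Equiv.Perm GolayPt) * σ) * σ⁻¹ = k.1
    group
  right_inv k := by
    refine Subtype.ext ?_
    show σ⁻¹ * (σ * k.1 * σ⁻¹) * σ = k.1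
    group
  map_mul' k l := by
    refine Subtype.ext ?_
    show σ⁻¹ * ((k.1 : Equiv.Perm GolayPt) * l.1) * σ = σ⁻¹ * k.1 * σ * (σ⁻¹ * l.1 * σ)
    group

theorem dodC_one : transOK dodC dodX 1 = true ∧ transOK dodC dodX 3 = true ∧
    transOK dodC dodX 2 = true := by decide +kernel

theorem dodC_move {k : ℕ} (hk : transOK dodC dodX k = true) (x y : Fin k ↪ GolayPt)
    (hx : ∀ i, x i ∈ D0) (hy : ∀ i, y i ∈ D0) :
    ∃ g ∈ M24, g • D0 = D0 ∧ ∀ i, g (x i) = y i := by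
  obtain ⟨⟨g, hg, hgx⟩, -⟩ := transitive_of_chain dodC_sub dodC_card hk x y hx hy
  rw [← stab_D0_eq] at hg
  exact ⟨g, (Subgroup.mem_inf.1 hg).1, MulAction.mem_stabilizer_iff.1 (Subgroup.mem_inf.1 hg).2, hgx⟩

/-- the base point of the base dodecad -/
def p0 : GolayPt := pt m11X

theorem m11X_mem : p0 ∈ D0 := by decide +kernel

/-- a dodecad with one of its points comes from the base flag -/
theorem dod_flag1 {d : Finset GolayPt} (hd : d ∈ dodecads) {p : GolayPt} (hp : p ∈ d) :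
    ∃ σ ∈ M24, σ • D0 = d ∧ σ p0 = p := by
  obtain ⟨τ, hτ, rfl⟩ := dodecad_std hd
  have hp' : τ⁻¹ p ∈ D0 := by
    rw [← mem_smul_iff (σ := τ)]
    simpa using hp
  obtain ⟨g, hg, hgD, hgx⟩ := dodC_move dodC_one.1 ⟨fun _ => p0, fun a b _ => Subsingleton.elim a b⟩
    ⟨fun _ => τ⁻¹ p, fun a b _ => Subsingleton.elim a b⟩ (fun _ => m11X_mem) (fun _ => hp')
  refine ⟨τ * g, mul_mem hτ hg, by rw [mul_smul, hgD], ?_⟩
  rw [Equiv.Perm.mul_apply, show g p0 = τ⁻¹ p from hgx 0]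
  simp

/-- a dodecad with three of its points comes from the base flag -/
theorem dod_flag3 {d : Finset GolayPt} (hd : d ∈ dodecads) {p q r : GolayPt} (hp : p ∈ d)
    (hq : q ∈ d) (hr : r ∈ d) (hpq : p ≠ q) (hpr : p ≠ r) (hqr : q ≠ r) :
    ∃ σ ∈ M24, σ • D0 = d ∧ σ p0 = p ∧ σ (pt dpqX) = q ∧ σ (pt dpqrX) = r := by
  obtain ⟨τ, hτ, rfl⟩ := dodecad_std hd
  have hm : ∀ x ∈ τ • D0, τ⁻¹ x ∈ D0 := fun x hx => by
    rw [← mem_smul_iff (σ := τ)]; simpa using hx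
  have hinj : Function.Injective ![p0, pt dpqX, pt dpqrX] := by decide +kernel
  have hinj' : Function.Injective ![τ⁻¹ p, τ⁻¹ q, τ⁻¹ r] := by
    intro i j h
    have h' : (![p, q, r] : Fin 3 → GolayPt) i = ![p, q, r] j := by
      fin_cases i <;> fin_cases j <;>
        first
        | rfl
        | exact τ⁻¹.injective h
    revert h'
    fin_cases i <;> fin_cases j <;> simp [hpq, hpr, hqr, hpq.symm, hpr.symm, hqr.symm]
  obtain ⟨g, hg, hgD, hgx⟩ := dodC_move dodC_one.2.1 ⟨_, hinj⟩ ⟨_, hinj'⟩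
    (fun i => (by decide +kernel : ∀ i, ![p0, pt dpqX, pt dpqrX] i ∈ D0) i)
    (fun i => by
      fin_cases i
      · exact hm p hp
      · exact hm q hq
      · exact hm r hr)
  refine ⟨τ * g, mul_mem hτ hg, by rw [mul_smul, hgD], ?_, ?_, ?_⟩
  · rw [Equiv.Perm.mul_apply, show g p0 = τ⁻¹ p from hgx 0]; simp
  · rw [Equiv.Perm.mul_apply, show g (pt dpqX) = τ⁻¹ q from hgx 1]; simp
  · rw [Equiv.Perm.mul_apply, show g (pt dpqrX) = τ⁻¹ r from hgx 2]; simp

end CfsgLib.Spor
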