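import Cfsg.Agent.Spor.SimpleCriteria
import Cfsg.Agent.Spor.StabConj
import Cfsg.Agent.Spor.M24Trans
import Cfsg.Agent.S0384

/-!
The simple Mathieu groups as stabilisers in the group of the code.
-/

set_option autoImplicit false

namespace CfsgLib.Spor.M24Simple

open Cfsg MulAction
open scoped Pointwise

section Restrict

variable {G Y : Type*} [Group G] [MulAction G Y]

/-- a subgroup acting on an invariant set of points -/
def restr (H : Subgroup G) (S : Finset Y) (hS : ∀ h ∈ H, ∀ y ∈ S, h • y ∈ S) : SubMulAction H Y :=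
  ⟨(S : Set Y), fun c {x} hx => hS c c.2 x hx⟩

variable {H : Subgroup G} {S : Finset Y} {hS : ∀ h ∈ H, ∀ y ∈ S, h • y ∈ S}

theorem natCard_restr : Nat.card ↥(restr H S hS) = S.card := by
  rw [← Nat.card_eq_finsetCard]
  rfl

theorem finite_restr : Finite ↥(restr H S hS) :=
  Finite.of_equiv (S : Set Y) (Equiv.refl _)

theorem faithful_restr (hf : ∀ h ∈ H, (∀ y ∈ S, h • y = y) → h = 1) : FaithfulSMul H ↥(restr H S hS) := by
  refine ⟨fun {a b} e => ?_⟩
  refine Subtype.ext (inv_mul_eq_one.1 (hf _ (mul_mem (inv_mem a.2) b.2) fun y hy => ?_))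
  have := congrArg Subtype.val (e ⟨y, hy⟩)
  rw [mul_smul, inv_smul_eq_iff]
  exact this.symm

theorem two_restr (h2 : ∀ a ∈ S, ∀ b ∈ S, ∀ c ∈ S, ∀ d ∈ S, a ≠ b → c ≠ d →
    ∃ h ∈ H, h • a = c ∧ h • b = d) :
    ∀ x y x' y' : ↥(restr H S hS), x ≠ y → x' ≠ y' → ∃ g : H, g • x = x' ∧ g • y = y' := by
  intro x y x' y' h h'
  obtain ⟨g, hg, e1, e2⟩ := h2 x x.2 y y.2 x' x'.2 y' y'.2 (fun e => h (Subtype.ext e))
    (fun e => h' (Subtype.ext e))
  exact ⟨⟨g, hg⟩, Subtype.ext e1, Subtype.ext e2⟩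

/-- a point stabiliser as a subgroup of the ambient group -/
noncomputable def stabRestrEquiv (x : ↥(restr H S hS)) :
    stabilizer H x ≃* ↥(H ⊓ stabilizer G (x : Y)) where
  toFun k := ⟨(k.1 : G), k.1.2, congrArg Subtype.val k.2⟩
  invFun k := ⟨⟨k.1, k.2.1⟩, Subtype.ext k.2.2⟩
  left_inv _ := rfl
  right_inv _ := rfl
  map_mul' _ _ := rfl

theorem card_inf_stab [Finite G] (H : Subgroup G) {S : Finset Y} (hS : ∀ h ∈ H, ∀ y ∈ S, h • y ∈ S)
    (h1 : ∀ a ∈ S, ∀ b ∈ S, ∃ h ∈ H, h • a = b) {y : Y} (hy : y ∈ S) :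
    S.card * Nat.card ↥(H ⊓ stabilizer G y) = Nat.card H := by
  set x : ↥(restr H S hS) := ⟨y, hy⟩
  have horb : orbit H x = Set.univ := Set.eq_univ_of_forall fun z => by
    obtain ⟨h, hh, e⟩ := h1 y hy z z.2
    exact ⟨⟨h, hh⟩, Subtype.ext e⟩
  have h := (stabilizer H x).index_mul_card
  rw [index_stabilizer, horb, Set.ncard_univ, natCard_restr, Nat.card_congr (stabRestrEquiv x).toEquiv] at h
  exact h

/-- doubly transitive on `m * p` points with a prime index normaliser -/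
theorem simple_sub_prime [Finite G] (p q m : ℕ) [hp : Fact p.Prime] (hq : q.Prime) (H : Subgroup G)
    (S : Finset Y) (hS : ∀ h ∈ H, ∀ y ∈ S, h • y ∈ S) (hf : ∀ h ∈ H, (∀ y ∈ S, h • y = y) → h = 1)
    (h2 : ∀ a ∈ S, ∀ b ∈ S, ∀ c ∈ S, ∀ d ∈ S, a ≠ b → c ≠ d → ∃ h ∈ H, h • a = c ∧ h • b = d)
    (hcardS : S.card = m * p) (hm : 0 < m) {n : ℕ} (hn : Nat.card H = n) (hsq : ¬ p ^ 2 ∣ n)
    (hne : n ≠ p * q)
    (hd : ∀ d : ℕ, d ∣ m.factorial * (p - 1) → p * d ∣ n → (n / (p * d)) % p = 1 → d = q) :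
    IsSimpleGroup H := by
  haveI := finite_restr (H := H) (S := S) (hS := hS)
  haveI := faithful_restr (hS := hS) hf
  have htwo := two_restr (hS := hS) h2
  have h1 : ∀ a ∈ S, ∀ b ∈ S, ∃ h ∈ H, h • a = b := by
    intro a ha b hb
    by_cases hab : a = b
    · exact ⟨1, one_mem H, by rw [one_smul, hab]⟩
    obtain ⟨h, hh, e, -⟩ := h2 a ha b hb b hb a ha hab (Ne.symm hab)
    exact ⟨h, hh, e⟩
  obtain ⟨y0, hy0⟩ : S.Nonempty := Finset.card_pos.1 (hcardS ▸ Nat.mul_pos hm hp.out.pos)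
  have hpd : p ∣ Nat.card H :=
    (Dvd.intro_left m hcardS.symm).trans (Dvd.intro _ (card_inf_stab H hS h1 hy0))
  refine SimpleCriteria.simple_of_prime_cycles (X := ↥(restr H S hS)) (p := p) (q := q) (m := m) hq
    (fun N hN hb => SimpleCriteria.normal_transitive htwo hN hb) (by rw [natCard_restr, hcardS]) hm hpd
    (hn.symm ▸ hsq) ?_ (hn.symm ▸ hne) (hn.symm ▸ hd)
  intro x hdiv
  rw [Nat.card_congr (stabRestrEquiv x).toEquiv] at hdiv
  apply hsq
  rw [← hn, ← card_inf_stab H hS h1 x.2, pow_two]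
  exact mul_dvd_mul (Dvd.intro_left m hcardS.symm) hdiv

/-- doubly transitive with a simple point stabiliser -/
theorem simple_sub_two [Finite G] (H : Subgroup G)
    (S : Finset Y) (hS : ∀ h ∈ H, ∀ y ∈ S, h • y ∈ S) (hf : ∀ h ∈ H, (∀ y ∈ S, h • y = y) → h = 1)
    (h2 : ∀ a ∈ S, ∀ b ∈ S, ∀ c ∈ S, ∀ d ∈ S, a ≠ b → c ≠ d → ∃ h ∈ H, h • a = c ∧ h • b = d)
    {y : Y} (hy : y ∈ S) (hs : IsSimpleGroup ↥(H ⊓ stabilizer G y)) (hdeg : ¬ IsPrimePow S.card)
    (h1 : 1 < S.card) : IsSimpleGroup H := by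
  haveI := finite_restr (H := H) (S := S) (hS := hS)
  haveI := faithful_restr (hS := hS) hf
  haveI := hs
  exact SimpleCriteria.simple_of_two_transitive (two_restr (hS := hS) h2) ⟨y, hy⟩
    (stabRestrEquiv (H := H) (S := S) (hS := hS) ⟨y, hy⟩).isSimpleGroup (by rw [natCard_restr]; exact hdeg)
    (by rw [natCard_restr]; exact h1)

end Restrict

theorem m24_move {k : ℕ} (hk : k ≤ 5) (x y : Fin k → GolayPt) (hx : Function.Injective x)
    (hy : Function.Injective y) : ∃ g : M24, ∀ i, g • x i = y i := by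
  haveI : IsMultiplyPretransitive M24 GolayPt 5 := m24_five_transitive
  haveI : IsPretransitive M24 (Fin k ↪ GolayPt) :=
    isMultiplyPretransitive_of_le (n := 5) hk (by simp)
  obtain ⟨g, hg⟩ := exists_smul_eq M24 (⟨x, hx⟩ : Fin k ↪ GolayPt) ⟨y, hy⟩
  exact ⟨g, fun i => DFunLike.congr_fun hg i⟩

theorem inj_three {a b c : GolayPt} (hab : a ≠ b) (hac : a ≠ c) (hbc : b ≠ c) :
    Function.Injective ![a, b, c] := by
  intro i j
  fin_cases i <;> fin_cases j <;> simp [hab, hac, hbc, hab.symm, hac.symm, hbc.symm]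

theorem inj_four {a b c d : GolayPt} (hab : a ≠ b) (hac : a ≠ c) (had : a ≠ d) (hbc : b ≠ c)
    (hbd : b ≠ d) (hcd : c ≠ d) : Function.Injective ![a, b, c, d] := by
  intro i j
  fin_cases i <;> fin_cases j <;>
    simp [hab, hac, had, hbc, hbd, hcd, hab.symm, hac.symm, had.symm, hbc.symm, hbd.symm, hcd.symm]

theorem m24_eq_one {g : M24} (h : ∀ y : GolayPt, g • y = y) : g = 1 :=
  Subtype.ext (Equiv.ext h)

theorem card_univ24 : (Finset.univ : Finset GolayPt).card = 24 := by decide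

theorem m23_simple (p : GolayPt) : IsSimpleGroup (stabilizer M24 p) := by
  haveI : Fact (Nat.Prime 23) := ⟨by norm_num⟩
  refine simple_sub_prime 23 11 1 (by norm_num) (stabilizer M24 p) (Finset.univ.erase p) ?_ ?_ ?_ ?_
    one_pos (card_stab_point p) (by norm_num) (by norm_num) ?_
  · intro h hh y hy
    rw [Finset.mem_erase] at hy ⊢
    refine ⟨fun e => hy.1 (smul_left_cancel h ?_), Finset.mem_univ _⟩
    rw [e]; exact (mem_stabilizer_iff.1 hh).symm
  · intro h hh hfix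
    refine m24_eq_one fun y => ?_
    by_cases hy : y = p
    · subst hy; exact hh
    · exact hfix y (Finset.mem_erase.2 ⟨hy, Finset.mem_univ _⟩)
  · intro a ha b hb c hc d hd hab hcd
    obtain ⟨g, hg⟩ := m24_move (by norm_num : 3 ≤ 5) ![p, a, b] ![p, c, d]
      (inj_three (Ne.symm (Finset.mem_erase.1 ha).1) (Ne.symm (Finset.mem_erase.1 hb).1) hab)
      (inj_three (Ne.symm (Finset.mem_erase.1 hc).1) (Ne.symm (Finset.mem_erase.1 hd).1) hcd)
    exact ⟨g, hg 0, hg 1, hg 2⟩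
  · rw [Finset.card_erase_of_mem (Finset.mem_univ p), card_univ24]
  · intro d hd h1 h2
    have hmem : d ∈ Nat.divisors 22 := Nat.mem_divisors.2 ⟨by simpa using hd, by norm_num⟩
    have key : ∀ d ∈ Nat.divisors 22, 10200960 / (23 * d) % 23 = 1 → d = 11 := by decide +kernel
    exact key d hmem h2

theorem m22_simple (p q : GolayPt) (hpq : p ≠ q) :
    IsSimpleGroup ↥(stabilizer M24 p ⊓ stabilizer M24 q) := by
  haveI : Fact (Nat.Prime 11) := ⟨by norm_num⟩
  refine simple_sub_prime 11 5 2 (by norm_num) (stabilizer M24 p ⊓ stabilizer M24 q)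
    ((Finset.univ.erase p).erase q) ?_ ?_ ?_ ?_ two_pos (card_stab_two hpq) (by norm_num) (by norm_num) ?_
  · intro h hh y hy
    simp only [Finset.mem_erase, Finset.mem_univ, and_true] at hy ⊢
    exact ⟨fun e => hy.1 (smul_left_cancel h (by rw [e]; exact (mem_stabilizer_iff.1 hh.2).symm)),
      fun e => hy.2 (smul_left_cancel h (by rw [e]; exact (mem_stabilizer_iff.1 hh.1).symm))⟩
  · intro h hh hfix
    refine m24_eq_one fun y => ?_
    by_cases hy : y = p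
    · subst hy; exact hh.1
    by_cases hy' : y = q
    · subst hy'; exact hh.2
    exact hfix y (by simp [hy, hy'])
  · intro a ha b hb c hc d hd hab hcd
    simp only [Finset.mem_erase, Finset.mem_univ, and_true] at ha hb hc hd
    obtain ⟨g, hg⟩ := m24_move (by norm_num : 4 ≤ 5) ![p, q, a, b] ![p, q, c, d]
      (inj_four hpq (Ne.symm ha.2) (Ne.symm hb.2) (Ne.symm ha.1) (Ne.symm hb.1) hab)
      (inj_four hpq (Ne.symm hc.2) (Ne.symm hd.2) (Ne.symm hc.1) (Ne.symm hd.1) hcd)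
    exact ⟨g, ⟨hg 0, hg 1⟩, hg 2, hg 3⟩
  · rw [Finset.card_erase_of_mem (Finset.mem_erase.2 ⟨hpq.symm, Finset.mem_univ q⟩),
      Finset.card_erase_of_mem (Finset.mem_univ p), card_univ24]
  · intro d hd h1 h2
    have hmem : d ∈ Nat.divisors 20 := Nat.mem_divisors.2 ⟨by simpa using hd, by norm_num⟩
    have key : ∀ d ∈ Nat.divisors 20, 443520 / (11 * d) % 11 = 1 → d = 5 := by decide +kernel
    exact key d hmem h2

theorem m24_simple : IsSimpleGroup M24 := by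
  set p : GolayPt := none
  haveI : IsSimpleGroup ↥((⊤ : Subgroup M24) ⊓ stabilizer M24 p) := by
    rw [top_inf_eq]; exact m23_simple p
  haveI : IsSimpleGroup ↥(⊤ : Subgroup M24) := by
    refine simple_sub_two ⊤ Finset.univ (fun _ _ _ _ => Finset.mem_univ _)
      (fun h _ hf => m24_eq_one fun y => hf y (Finset.mem_univ y)) ?_ (Finset.mem_univ p)
      inferInstance ?_ ?_
    · intro a _ b _ c _ d _ hab hcd
      obtain ⟨g, hg⟩ := m24_move (by norm_num : 2 ≤ 5) ![a, b] ![c, d]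
        (by intro i j; fin_cases i <;> fin_cases j <;> simp [hab, hab.symm])
        (by intro i j; fin_cases i <;> fin_cases j <;> simp [hcd, hcd.symm])
      exact ⟨g, Subgroup.mem_top _, hg 0, hg 1⟩
    · rw [card_univ24, isPrimePow_nat_iff]
      rintro ⟨r, k, hr, hk, e⟩
      have h2 : r = 2 := ((Nat.prime_dvd_prime_iff_eq Nat.prime_two hr).1
        (Nat.prime_two.dvd_of_dvd_pow (e ▸ (by norm_num : 2 ∣ 24) : 2 ∣ r ^ k))).symm
      have h3 : r = 3 := ((Nat.prime_dvd_prime_iff_eq Nat.prime_three hr).1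
        (Nat.prime_three.dvd_of_dvd_pow (e ▸ (by norm_num : 3 ∣ 24) : 3 ∣ r ^ k))).symm
      omega
    · rw [card_univ24]; norm_num
  exact (Subgroup.topEquiv : (⊤ : Subgroup M24) ≃* M24).symm.isSimpleGroup

theorem dodecad_card {d : Finset GolayPt} (hd : d ∈ dodecads) : d.card = 12 := (mem_dodecads.1 hd).2

theorem stab_dod_mem {d : Finset GolayPt} {h : M24} (hh : h ∈ stabilizer M24 d) {y : GolayPt}
    (hy : y ∈ d) : h • y ∈ d := by
  have := Finset.smul_mem_smul_finset (a := h) hy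
  rwa [mem_stabilizer_iff.1 hh] at this

theorem dod_faithful {d : Finset GolayPt} (hd : d ∈ dodecads) {h : M24} (hh : h ∈ stabilizer M24 d)
    (hfix : ∀ y ∈ d, h • y = y) : h = 1 := by
  obtain ⟨x⟩ : Nonempty (Fin 5 ↪ d) := Function.Embedding.nonempty_of_card_le (by
    rw [Fintype.card_fin, Fintype.card_coe, dodecad_card hd]; norm_num)
  obtain ⟨g, -, hu⟩ := Cfsg.Agent.S0384.result d hd (x.trans (Function.Embedding.subtype _))
    (x.trans (Function.Embedding.subtype _)) (fun i => (x i).2) (fun i => (x i).2)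
  have e1 := hu ⟨h, hh⟩ (fun i => hfix _ (x i).2)
  have e2 := hu 1 (fun i => rfl)
  exact congrArg Subtype.val (e1.trans e2.symm)

theorem m11_two {d : Finset GolayPt} (hd : d ∈ dodecads) {p : GolayPt} (hp : p ∈ d) :
    ∀ a ∈ d.erase p, ∀ b ∈ d.erase p, ∀ c ∈ d.erase p, ∀ e ∈ d.erase p, a ≠ b → c ≠ e →
      ∃ h ∈ stabilizer M24 d ⊓ stabilizer M24 p, h • a = c ∧ h • b = e := by
  intro a ha b hb c hc e he hab hce
  rw [Finset.mem_erase] at ha hb hc he
  obtain ⟨σ, hσ, hσd, hσp, hσa, hσb⟩ := dod_flag3 hd hp ha.2 hb.2 (Ne.symm ha.1) (Ne.symm hb.1) hab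
  obtain ⟨τ, hτ, hτd, hτp, hτc, hτe⟩ := dod_flag3 hd hp hc.2 he.2 (Ne.symm hc.1) (Ne.symm he.1) hce
  refine ⟨⟨τ * σ⁻¹, mul_mem hτ (inv_mem hσ)⟩, ⟨?_, ?_⟩, ?_, ?_⟩
  · show (τ * σ⁻¹) • d = d
    rw [mul_smul]
    nth_rw 1 [← hσd]
    rw [inv_smul_smul, hτd]
  · show (τ * σ⁻¹) p = p
    rw [Equiv.Perm.mul_apply, Equiv.Perm.inv_eq_iff_eq.2 hσp.symm, hτp]
  · show (τ * σ⁻¹) a = c
    rw [Equiv.Perm.mul_apply, Equiv.Perm.inv_eq_iff_eq.2 hσa.symm, hτc]
  · show (τ * σ⁻¹) b = e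
    rw [Equiv.Perm.mul_apply, Equiv.Perm.inv_eq_iff_eq.2 hσb.symm, hτe]

theorem card_m11 {d : Finset GolayPt} (hd : d ∈ dodecads) {p : GolayPt} (hp : p ∈ d) :
    Nat.card ↥(stabilizer M24 d ⊓ stabilizer M24 p) = 7920 := by
  have h := card_inf_stab (stabilizer M24 d) (S := d) (fun _ hh _ hy => stab_dod_mem hh hy) ?_ hp
  · rw [card_stab_dodecad hd, dodecad_card hd] at h
    refine Nat.eq_of_mul_eq_mul_left (by norm_num : 0 < 12) (h.trans ?_)
    norm_num
  intro a ha b hb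
  obtain ⟨σ, hσ, hσd, hσa⟩ := dod_flag1 hd ha
  obtain ⟨τ, hτ, hτd, hτb⟩ := dod_flag1 hd hb
  refine ⟨⟨τ * σ⁻¹, mul_mem hτ (inv_mem hσ)⟩, ?_, ?_⟩
  · show (τ * σ⁻¹) • d = d
    rw [mul_smul]
    nth_rw 1 [← hσd]
    rw [inv_smul_smul, hτd]
  · show (τ * σ⁻¹) a = b
    rw [Equiv.Perm.mul_apply, Equiv.Perm.inv_eq_iff_eq.2 hσa.symm, hτb]

theorem m11_simple (d : Finset GolayPt) (hd : d ∈ dodecads) (p : GolayPt) (hp : p ∈ d) :
    IsSimpleGroup ↥(stabilizer M24 d ⊓ stabilizer M24 p) := by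
  haveI : Fact (Nat.Prime 11) := ⟨by norm_num⟩
  refine simple_sub_prime 11 5 1 (by norm_num) (stabilizer M24 d ⊓ stabilizer M24 p) (d.erase p) ?_ ?_
    (m11_two hd hp) ?_ one_pos (card_m11 hd hp) (by norm_num) (by norm_num) ?_
  · intro h hh y hy
    rw [Finset.mem_erase] at hy ⊢
    exact ⟨fun e => hy.1 (smul_left_cancel h (by rw [e]; exact (mem_stabilizer_iff.1 hh.2).symm)),
      stab_dod_mem hh.1 hy.2⟩
  · intro h hh hfix
    refine dod_faithful hd hh.1 fun y hy => ?_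
    by_cases hyp : y = p
    · subst hyp; exact hh.2
    exact hfix y (Finset.mem_erase.2 ⟨hyp, hy⟩)
  · rw [Finset.card_erase_of_mem hp, dodecad_card hd]
  · intro k hk h1 h2
    have hmem : k ∈ Nat.divisors 10 := Nat.mem_divisors.2 ⟨by simpa using hk, by norm_num⟩
    have key : ∀ k ∈ Nat.divisors 10, 7920 / (11 * k) % 11 = 1 → k = 5 := by decide +kernel
    exact key k hmem h2

theorem m12_simple (d : Finset GolayPt) (hd : d ∈ dodecads) : IsSimpleGroup (stabilizer M24 d) := by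
  obtain ⟨p, hp⟩ : d.Nonempty := Finset.card_pos.1 (by rw [dodecad_card hd]; norm_num)
  refine simple_sub_two (stabilizer M24 d) d (fun _ hh _ hy => stab_dod_mem hh hy)
    (fun _ hh hf => dod_faithful hd hh hf) ?_ hp (m11_simple d hd p hp) ?_ ?_
  · intro a ha b hb c hc e he hab hce
    obtain ⟨r, hr⟩ : (d \ {a, b}).Nonempty := Finset.card_pos.1 (by
      have := Finset.le_card_sdiff ({a, b} : Finset GolayPt) d
      have := Finset.card_le_two (a := a) (b := b)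
      rw [dodecad_card hd] at *
      omega)
    obtain ⟨r', hr'⟩ : (d \ {c, e}).Nonempty := Finset.card_pos.1 (by
      have := Finset.le_card_sdiff ({c, e} : Finset GolayPt) d
      have := Finset.card_le_two (a := c) (b := e)
      rw [dodecad_card hd] at *
      omega)
    simp only [Finset.mem_sdiff, Finset.mem_insert, Finset.mem_singleton, not_or] at hr hr'
    obtain ⟨σ, hσ, hσd, hσa, hσb, -⟩ := dod_flag3 hd ha hb hr.1 hab (Ne.symm hr.2.1) (Ne.symm hr.2.2)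
    obtain ⟨τ, hτ, hτd, hτc, hτe, -⟩ := dod_flag3 hd hc he hr'.1 hce (Ne.symm hr'.2.1) (Ne.symm hr'.2.2)
    refine ⟨⟨τ * σ⁻¹, mul_mem hτ (inv_mem hσ)⟩, ?_, ?_, ?_⟩
    · show (τ * σ⁻¹) • d = d
      rw [mul_smul]
      nth_rw 1 [← hσd]
      rw [inv_smul_smul, hτd]
    · show (τ * σ⁻¹) a = c
      rw [Equiv.Perm.mul_apply, Equiv.Perm.inv_eq_iff_eq.2 hσa.symm, hτc]
    · show (τ * σ⁻¹) b = e
      rw [Equiv.Perm.mul_apply, Equiv.Perm.inv_eq_iff_eq.2 hσb.symm, hτe]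
  · rw [dodecad_card hd, isPrimePow_nat_iff]
    rintro ⟨r, k, hr, hk, e⟩
    have h2 : r = 2 := ((Nat.prime_dvd_prime_iff_eq Nat.prime_two hr).1
      (Nat.prime_two.dvd_of_dvd_pow (e ▸ (by norm_num : 2 ∣ 12) : 2 ∣ r ^ k))).symm
    have h3 : r = 3 := ((Nat.prime_dvd_prime_iff_eq Nat.prime_three hr).1
      (Nat.prime_three.dvd_of_dvd_pow (e ▸ (by norm_num : 3 ∣ 12) : 3 ∣ r ^ k))).symm
    omega
  · rw [dodecad_card hd]; norm_num

end CfsgLib.Spor.M24Simple
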