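import Cfsg.Agent.Spor.M24Card

/-!
Objects built from points (masks, families of masks) and orbit certificates for them.
-/

set_option autoImplicit false

namespace CfsgLib.Spor

open Cfsg
open scoped Pointwise

/-- a kind of coded object on which tabulated permutations act -/
structure Kind (α X : Type) [MulAction (Equiv.Perm GolayPt) X] where
  /-- decoding -/
  dec : α → X
  /-- image of a code -/
  im : GT → α → α
  /-- validity -/
  okv : α → Bool
  /-- an invariant separating distinct objects -/
  key : α → ℕ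
  /-- test that an object is fixed -/
  fixB : GT → α → Bool
  him : ∀ g, g.ok = true → ∀ a, g.perm • dec a = dec (im g a)
  hkey : ∀ a b, okv a = true → okv b = true → dec a = dec b → key a = key b
  hfix : ∀ g, g.ok = true → ∀ a, fixB g a = true → g.perm • dec a = dec a

variable {α X : Type} [MulAction (Equiv.Perm GolayPt) X]

/-- the orbit list -/
def Kind.orb (K : Kind α X) (gs : List GT) (a : α) (toks : List ℕ) : List α :=
  treeList (gs.map K.im) a toks

/-- validity of an orbit list -/
def Kind.orbOK (K : Kind α X) (gs : List GT) (a : α) (toks : List ℕ) : Bool :=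
  gs.all GT.ok && ((K.orb gs a toks).all K.okv &&
    (nodupB 120 ((K.orb gs a toks).map K.key) && decide ((K.orb gs a toks).length = toks.length + 1)))

/-- validity of a stabiliser chain -/
def Kind.stabOK (K : Kind α X) (a : α) (st : List Level) : Bool :=
  chainOK st && (chainTop st).all fun g => g.ok && K.fixB g a

theorem Kind.orb_facts [DecidableEq X] (K : Kind α X) {gs : List GT} {a : α} {toks : List ℕ}
    (h : K.orbOK gs a toks = true) :
    ((K.orb gs a toks).map K.dec).Nodup ∧
      ((K.orb gs a toks).map K.dec).toFinset.card = toks.length + 1 ∧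
      ↑((K.orb gs a toks).map K.dec).toFinset ⊆ MulAction.orbit (gtGroup gs) (K.dec a) := by
  simp only [Kind.orbOK, Bool.and_eq_true, decide_eq_true_eq, List.all_eq_true] at h
  obtain ⟨hg, hv, hnd, hlen⟩ := h
  have hn := nodup_of_nodupB _ _ hnd
  have hnd' : ((K.orb gs a toks).map K.dec).Nodup := by
    refine List.Nodup.map_on ?_ (List.Nodup.of_map _ hn)
    intro x hx y hy hxy
    exact List.inj_on_of_nodup_map hn hx hy (K.hkey x y (hv x hx) (hv y hy) hxy)
  refine ⟨hnd', by rw [List.toFinset_card_of_nodup hnd', List.length_map, hlen], ?_⟩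
  intro y hy
  simp only [List.coe_toFinset, Set.mem_setOf_eq, List.mem_map] at hy
  obtain ⟨b, hb, rfl⟩ := hy
  exact mem_orbit_treeList K.dec K.im (fun g hg' c => K.him g (hg g hg') c) a toks b hb

theorem Kind.exact [DecidableEq X] (K : Kind α X) {H : Subgroup (Equiv.Perm GolayPt)}
    {gs : List GT} {a : α} {toks : List ℕ} {st : List Level}
    (horb : K.orbOK gs a toks = true) (hst : K.stabOK a st = true)
    (hgs : gtGroup gs ≤ H) (hsub : gtGroup (chainTop st) ≤ H)
    (hc : Nat.card H ≤ (toks.length + 1) * chainSize st) :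
    H ⊓ MulAction.stabilizer (Equiv.Perm GolayPt) (K.dec a) = gtGroup (chainTop st) ∧
      Nat.card (gtGroup (chainTop st)) = chainSize st ∧
      MulAction.orbit H (K.dec a) = {y | y ∈ (K.orb gs a toks).map K.dec} ∧
      Nat.card H = (toks.length + 1) * chainSize st := by
  obtain ⟨hnd, hcard, hL0⟩ := K.orb_facts horb
  simp only [Kind.stabOK, Bool.and_eq_true, List.all_eq_true] at hst
  have hL : ↑((K.orb gs a toks).map K.dec).toFinset ⊆ MulAction.orbit H (K.dec a) := by
    intro y hy
    obtain ⟨g, rfl⟩ := hL0 hy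
    exact ⟨⟨g, hgs g.2⟩, rfl⟩
  have hKx : ∀ k ∈ gtGroup (chainTop st), k • K.dec a = K.dec a := fun k hk =>
    MulAction.mem_stabilizer_iff.1 (gtGroup_le (gs := chainTop st)
      (fun g hg => MulAction.mem_stabilizer_iff.2 (K.hfix g (hst.2 g hg).1 a (hst.2 g hg).2)) hk)
  have hlow := chain_card_le st hst.1
  have hge : Nat.card H ≤ ((K.orb gs a toks).map K.dec).toFinset.card *
      Nat.card (gtGroup (chainTop st)) := by
    rw [hcard]; exact le_trans hc (Nat.mul_le_mul_left _ hlow)
  have hle := card_orbit_mul_le _ hsub hKx hL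
  rw [hcard] at hle
  obtain ⟨h1, h2⟩ := exact_of_card _ hsub hKx hL hge
  refine ⟨h1, le_antisymm ?_ hlow, ?_, le_antisymm hc ?_⟩
  · exact Nat.le_of_mul_le_mul_left (le_trans hle hc) (Nat.succ_pos _)
  · rw [h2]; ext y; simp
  · exact le_trans (Nat.mul_le_mul_left _ hlow) hle

/-! ### the kinds -/

theorem ofMask_mod (a : ℕ) : ofMask (a % 2 ^ 24) = ofMask a := by
  ext p; rw [mem_ofMask, mem_ofMask, Nat.testBit_mod_two_pow]; simp [num_lt]

theorem mask_mod_eq {a b : ℕ} (h : ofMask a = ofMask b) : a % 2 ^ 24 = b % 2 ^ 24 := by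
  refine (ofMask_eq_ofMask (Nat.mod_lt _ (by norm_num)) (Nat.mod_lt _ (by norm_num))).1 ?_
  rw [ofMask_mod, ofMask_mod, h]

/-- subsets coded by masks -/
def maskK : Kind ℕ (Finset GolayPt) where
  dec := ofMask
  im g a := g.img a
  okv _ := true
  key a := a % 2 ^ 24
  fixB g a := g.img a == a
  him _ h a := GT.smul_ofMask h a
  hkey _ _ _ _ h := mask_mod_eq h
  hfix g h a hf := by rw [GT.smul_ofMask h, beq_iff_eq.1 hf]

/-- decoding of a family of masks -/
def famDec (l : List ℕ) : Finset (Finset GolayPt) := (l.map ofMask).toFinset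

/-- mixing function -/
def mix (m : ℕ) : ℕ := Nat.mod (Nat.mul (Nat.mul m m) m) 1099511627689

theorem famDec_smul (g : GT) (h : g.ok = true) (l : List ℕ) :
    g.perm • famDec l = famDec (l.map g.img) := by
  ext s
  simp only [famDec, Finset.mem_smul_finset, List.mem_toFinset, List.mem_map]
  constructor
  · rintro ⟨t, ⟨m, hm, rfl⟩, rfl⟩
    exact ⟨g.img m, ⟨m, hm, rfl⟩, (GT.smul_ofMask h m).symm⟩
  · rintro ⟨_, ⟨m, hm, rfl⟩, rfl⟩
    exact ⟨ofMask m, ⟨m, hm, rfl⟩, GT.smul_ofMask h m⟩

theorem famKey_eq (l : List ℕ) (h : nodupB 24 (l.map fun m => m % 2 ^ 24) = true) :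
    ∑ s ∈ famDec l, mix (maskOf s) = ((l.map fun m => m % 2 ^ 24).map mix).sum := by
  have hn := nodup_of_nodupB _ _ h
  have hmap : l.map ofMask = (l.map fun m => m % 2 ^ 24).map ofMask := by
    rw [List.map_map]
    exact List.map_congr_left fun m _ => (ofMask_mod m).symm
  have hnd : ((l.map fun m => m % 2 ^ 24).map ofMask).Nodup := by
    refine List.Nodup.map_on ?_ hn
    intro x hx y hy hxy
    simp only [List.mem_map] at hx hy
    obtain ⟨x', -, rfl⟩ := hx
    obtain ⟨y', -, rfl⟩ := hy
    exact (ofMask_eq_ofMask (Nat.mod_lt _ (by norm_num)) (Nat.mod_lt _ (by norm_num))).1 hxy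
  rw [famDec, hmap, List.sum_toFinset _ hnd, List.map_map]
  congr 1
  refine List.map_congr_left fun x hx => ?_
  simp only [List.mem_map] at hx
  obtain ⟨x', -, rfl⟩ := hx
  simp only [Function.comp_apply]
  rw [maskOf_ofMask (Nat.mod_lt _ (by norm_num))]

/-- families of subsets coded by lists of masks -/
def famK : Kind (List ℕ) (Finset (Finset GolayPt)) where
  dec := famDec
  im g l := l.map g.img
  okv l := nodupB 24 (l.map fun m => m % 2 ^ 24)
  key l := ((l.map fun m => m % 2 ^ 24).map mix).sum
  fixB g l := (l.map g.img).all l.contains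
  him g h l := famDec_smul g h l
  hkey a b ha hb h := by rw [← famKey_eq a ha, ← famKey_eq b hb, h]
  hfix g h l hf := by
    refine Finset.eq_of_subset_of_card_le ?_ (by rw [Finset.card_smul_finset])
    rw [famDec_smul g h]
    intro s hs
    simp only [famDec, List.mem_toFinset, List.mem_map] at hs ⊢
    obtain ⟨m, hm, rfl⟩ := hs
    have := List.all_eq_true.1 hf m (by simpa using hm)
    exact ⟨m, by simpa using this, rfl⟩

/-- points coded by numbers -/
def ptK : Kind ℕ GolayPt where
  dec := pt
  im g a := g.imgPt a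
  okv _ := true
  key a := a % 24
  fixB g a := g.imgPt a == a % 24
  him _ h a := GT.smul_pt h a
  hkey a b _ _ h := by
    have := congrArg num h
    simpa [num, pt, Fin.val_ofNat] using this
  hfix g h a hf := by
    rw [GT.smul_pt h, beq_iff_eq.1 hf]
    exact congrArg enc.symm (Fin.ext (by simp [Fin.val_ofNat]))

end CfsgLib.Spor
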