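import Cfsg.Agent.Spor.OctadData
import Cfsg.Agent.Spor.Kinds

/-!
The orbit and stabiliser of the base object (Octad) under the automorphism group of the code.
-/

set_option autoImplicit false

namespace CfsgLib.Spor

open Cfsg
open scoped Pointwise

theorem oct_orbOK : maskK.orbOK (chainTop m24Chain) octX octToks = true := by decide +kernel

theorem oct_stabOK : maskK.stabOK octX octStab = true := by decide +kernel

theorem oct_mem : (chainTop octStab).all (fun g => inM24 g.P) = true := by decide +kernel

theorem oct_sizes : octToks.length + 1 = 759 ∧ chainSize octStab = 322560 := by decide +kernel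

theorem oct_le : gtGroup (chainTop octStab) ≤ M24 :=
  gtGroup_le fun g hg => mkPerm_mem_M24 (List.all_eq_true.1 oct_mem g hg)

theorem oct_exact :
    M24 ⊓ MulAction.stabilizer (Equiv.Perm GolayPt) (maskK.dec octX) = gtGroup (chainTop octStab) ∧
      Nat.card (gtGroup (chainTop octStab)) = 322560 ∧
      MulAction.orbit M24 (maskK.dec octX) =
        {y | y ∈ (maskK.orb (chainTop m24Chain) octX octToks).map maskK.dec} := by
  have h := Kind.exact (K := maskK) oct_orbOK oct_stabOK gtGroup_m24_le oct_le
    (by rw [card_M24, oct_sizes.1, oct_sizes.2])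
  exact ⟨h.1, h.2.1.trans oct_sizes.2, h.2.2.1⟩

theorem oct_orbit_ncard : (MulAction.orbit M24 (maskK.dec octX)).ncard = 759 := by
  obtain ⟨hnd, hcard, -⟩ := Kind.orb_facts maskK oct_orbOK
  rw [oct_exact.2.2, ← List.coe_toFinset, Set.ncard_coe_finset, hcard]
  exact oct_sizes.1

end CfsgLib.Spor
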