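import Cfsg.Agent.Spor.M24Base
import Cfsg.Agent.Spor.OctadOrbit

/-!
Transitivity on octads.
-/

set_option autoImplicit false

namespace CfsgLib.Spor

open Cfsg
open scoped Pointwise

/-- the base octad -/
def O0 : Finset GolayPt := ofMask octX

theorem O0_mem : O0 ∈ octads :=
  (mem_octads_iff (by decide +kernel)).2 (by decide +kernel)

theorem octads_eq_orbit : octads = MulAction.orbit M24 O0 := by
  refine (Set.eq_of_subset_of_ncard_le ?_ ?_ (Set.toFinite _)).symm
  · rintro _ ⟨g, rfl⟩; exact smul_mem_octads g.2 O0_mem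
  · rw [ncard_octads]; exact oct_orbit_ncard.ge

theorem octads_transitive {o o' : Finset GolayPt} (ho : o ∈ octads) (ho' : o' ∈ octads) :
    ∃ g : M24, g • o = o' := by
  rw [octads_eq_orbit] at ho ho'
  exact exists_smul_of_orbit ho ho'

/-- every octad is an image of the base octad -/
theorem octad_std {o : Finset GolayPt} (ho : o ∈ octads) : ∃ g ∈ M24, g • O0 = o := by
  obtain ⟨g, hg⟩ := octads_transitive O0_mem ho
  exact ⟨g, g.2, hg⟩

theorem card_stab_octad {o : Finset GolayPt} (ho : o ∈ octads) :
    Nat.card (MulAction.stabilizer M24 o) = 322560 :=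
  card_stab_M24_of_orbit (octads_eq_orbit ▸ ho) oct_orbit_ncard (by norm_num) (by norm_num)

theorem stab_O0_eq :
    M24 ⊓ MulAction.stabilizer (Equiv.Perm GolayPt) O0 = gtGroup (chainTop octStab) :=
  oct_exact.1

theorem card_stab_O0 : Nat.card (gtGroup (chainTop octStab)) = 322560 := oct_exact.2.1

end CfsgLib.Spor
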