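import Cfsg.Agent.Spor.DodecadData
import Cfsg.Agent.Spor.Kinds

/-!
The orbit and stabiliser of the base object (Dodecad) under the automorphism group of the code.
-/

set_option autoImplicit false

namespace CfsgLib.Spor

open Cfsg
open scoped Pointwise

theorem dod_orbOK : maskK.orbOK (chainTop m24Chain) dodX dodToks = true := by decide +kernel

theorem dod_stabOK : maskK.stabOK dodX dodStab = true := by decide +kernel

theorem dod_mem : (chainTop dodStab).all (fun g => inM24 g.P) = true := by decide +kernel

theorem dod_sizes : dodToks.length + 1 = 2576 ∧ chainSize dodStab = 95040 := by decide +kernel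

theorem dod_le : gtGroup (chainTop dodStab) ≤ M24 :=
  gtGroup_le fun g hg => mkPerm_mem_M24 (List.all_eq_true.1 dod_mem g hg)

theorem dod_exact :
    M24 ⊓ MulAction.stabilizer (Equiv.Perm GolayPt) (maskK.dec dodX) = gtGroup (chainTop dodStab) ∧
      Nat.card (gtGroup (chainTop dodStab)) = 95040 ∧
      MulAction.orbit M24 (maskK.dec dodX) =
        {y | y ∈ (maskK.orb (chainTop m24Chain) dodX dodToks).map maskK.dec} := by
  have h := Kind.exact (K := maskK) dod_orbOK dod_stabOK gtGroup_m24_le dod_le
    (by rw [card_M24, dod_sizes.1, dod_sizes.2])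
  exact ⟨h.1, h.2.1.trans dod_sizes.2, h.2.2.1⟩

theorem dod_orbit_ncard : (MulAction.orbit M24 (maskK.dec dodX)).ncard = 2576 := by
  obtain ⟨hnd, hcard, -⟩ := Kind.orb_facts maskK dod_orbOK
  rw [dod_exact.2.2, ← List.coe_toFinset, Set.ncard_coe_finset, hcard]
  exact dod_sizes.1

end CfsgLib.Spor
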