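import Cfsg.Agent.Spor.M24Base
import Cfsg.Agent.Spor.DodecadOrbit

/-!
Transitivity on dodecads.
-/

set_option autoImplicit false

namespace CfsgLib.Spor

open Cfsg
open scoped Pointwise

/-- the base dodecad -/
def D0 : Finset GolayPt := ofMask dodX

theorem D0_mem : D0 ∈ dodecads :=
  ⟨(ofMask_mem_Code (by decide +kernel)).2 (by decide +kernel),
    (card_ofMask _).trans (by decide +kernel)⟩

theorem dodecads_eq_orbit : dodecads = MulAction.orbit M24 D0 := by
  refine (Set.eq_of_subset_of_ncard_le ?_ ?_ (Set.toFinite _)).symm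
  · rintro _ ⟨g, rfl⟩; exact smul_mem_dodecads g.2 D0_mem
  · rw [ncard_dodecads]; exact dod_orbit_ncard.ge

theorem dodecads_transitive {d d' : Finset GolayPt} (hd : d ∈ dodecads) (hd' : d' ∈ dodecads) :
    ∃ g : M24, g • d = d' := by
  rw [dodecads_eq_orbit] at hd hd'
  exact exists_smul_of_orbit hd hd'

/-- every dodecad is an image of the base dodecad -/
theorem dodecad_std {d : Finset GolayPt} (hd : d ∈ dodecads) : ∃ g ∈ M24, g • D0 = d := by
  obtain ⟨g, hg⟩ := dodecads_transitive D0_mem hd
  exact ⟨g, g.2, hg⟩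

theorem card_stab_dodecad {d : Finset GolayPt} (hd : d ∈ dodecads) :
    Nat.card (MulAction.stabilizer M24 d) = 95040 :=
  card_stab_M24_of_orbit (dodecads_eq_orbit ▸ hd) dod_orbit_ncard (by norm_num) (by norm_num)

theorem stab_D0_eq :
    M24 ⊓ MulAction.stabilizer (Equiv.Perm GolayPt) D0 = gtGroup (chainTop dodStab) :=
  dod_exact.1

theorem card_stab_D0 : Nat.card (gtGroup (chainTop dodStab)) = 95040 := dod_exact.2.1

end CfsgLib.Spor
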