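import Cfsg.Agent.Spor.Octads

/-!
The three standard generators of the automorphism group of the code.
-/

set_option autoImplicit false

namespace CfsgLib.Spor

open Cfsg

/-- packed `x ↦ x + 1` -/
def packT : ℕ := 956302485175575353788796878166559809

/-- packed `x ↦ -1/x` -/
def packI : ℕ := 1795248432537898728475572672376535

/-- packed cube twist -/
def packC : ℕ := 974380510768821363662145534143076928

theorem packT_ok : inM24 packT = true := by decide +kernel

theorem packI_ok : inM24 packI = true := by decide +kernel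

theorem packC_ok : inM24 packC = true := by decide +kernel

theorem okP_of_inM24 {P : ℕ} (h : inM24 P = true) : okP P = true := by
  rw [inM24, Bool.and_eq_true] at h; exact h.1

theorem eq_mkPerm {σ : Equiv.Perm GolayPt} {P : ℕ} (hP : okP P = true)
    (h : ∀ p, σ p = funP P p) : σ = mkPerm P :=
  Equiv.ext fun p => by rw [mkPerm_apply hP]; exact h p

theorem mem_M24_of_pack {σ : Equiv.Perm GolayPt} {P : ℕ} (hP : inM24 P = true)
    (h : ∀ p, σ p = funP P p) : σ ∈ M24 :=
  eq_mkPerm (okP_of_inM24 hP) h ▸ mkPerm_mem_M24 hP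

/-- the translation -/
def genT : Equiv.Perm GolayPt := Equiv.optionCongr (Equiv.addRight (1 : ZMod 23))

theorem genT_eq : genT = mkPerm packT := by
  refine eq_mkPerm (okP_of_inM24 packT_ok) ?_
  unfold genT
  decide +kernel

theorem projInv_eq : projInv = mkPerm packI := by
  refine eq_mkPerm (okP_of_inM24 packI_ok) ?_
  decide +kernel

theorem cubeTwist_eq : cubeTwist = mkPerm packC := by
  refine eq_mkPerm (okP_of_inM24 packC_ok) ?_
  show ∀ p, cubeTwistFun p = funP packC p
  decide +kernel

theorem genT_mem : genT ∈ M24 := genT_eq ▸ mkPerm_mem_M24 packT_ok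

theorem projInv_mem : projInv ∈ M24 := projInv_eq ▸ mkPerm_mem_M24 packI_ok

theorem cubeTwist_mem : cubeTwist ∈ M24 := cubeTwist_eq ▸ mkPerm_mem_M24 packC_ok

/-- packed multiplication by a residue -/
def packMul (a : ℕ) : ℕ := packL ((List.range 23).map (fun i => a * i % 23) ++ [23])

theorem packMul_ok : (List.range 22).all (fun i => inM24 (packMul ((i + 1) * (i + 1) % 23))) = true := by
  decide +kernel

theorem packMul_eq : ∀ (a : ZMod 23) (p : GolayPt),
    Option.map (fun x => a * x) p = funP (packMul a.val) p := by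
  decide +kernel

theorem mulLeft_mem_M24 {u : (ZMod 23)ˣ} (hu : IsSquare u) :
    Equiv.optionCongr (Units.mulLeft u) ∈ M24 := by
  obtain ⟨v, rfl⟩ := hu
  haveI : Fact (1 < 23) := ⟨by norm_num⟩
  have key : ∀ w : ZMod 23, w ≠ 0 → ∃ i, i < 22 ∧ (w * w).val = (i + 1) * (i + 1) % 23 := by
    decide +kernel
  obtain ⟨i, hi, he⟩ := key (v : ZMod 23) v.ne_zero
  have h := List.all_eq_true.1 packMul_ok i (List.mem_range.2 hi)
  rw [← he] at h
  refine mem_M24_of_pack h fun p => ?_
  rw [← packMul_eq]
  cases p <;> simp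

end CfsgLib.Spor
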