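import Cfsg.Agent.Spor.SteinerUnique
import Cfsg.Agent.Spor.Octads
import Mathlib

/-!
Abstract binary codes of length 24, dimension 12 and minimum weight 8 with even weights.
-/

set_option autoImplicit false

namespace CfsgLib.Spor.GolayUnique

open Cfsg Finset
open scoped symmDiff

variable {α : Type*} [Fintype α] [DecidableEq α]

/-- indicator word of a set of coordinates -/
def ind (s : Finset α) : α → ZMod 2 := fun a => if a ∈ s then 1 else 0

theorem mem_sup {w : α → ZMod 2} {p : α} : p ∈ support₂ w ↔ w p ≠ 0 := by simp [support₂]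

theorem sup_add (v w : α → ZMod 2) : support₂ (v + w) = support₂ v ∆ support₂ w := by
  ext p
  simp only [Finset.mem_symmDiff, mem_sup, Pi.add_apply]
  generalize v p = a
  generalize w p = b
  revert a b
  decide

theorem sup_ind (s : Finset α) : support₂ (ind s) = s := by
  ext p; by_cases h : p ∈ s <;> simp [mem_sup, ind, h]

theorem ind_sup (w : α → ZMod 2) : ind (support₂ w) = w := by
  funext p
  simp only [ind, mem_sup]
  generalize w p = a
  revert a
  decide

theorem ind_symmDiff (s t : Finset α) : ind (s ∆ t) = ind s + ind t := by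
  rw [← ind_sup (ind s + ind t), sup_add, sup_ind, sup_ind]

theorem ind_injective : Function.Injective (ind (α := α)) := fun s t h => by
  rw [← sup_ind s, h, sup_ind]

theorem sup_zero : support₂ (0 : α → ZMod 2) = ∅ := by ext p; simp [mem_sup]

theorem hammingNorm_eq (w : α → ZMod 2) : hammingNorm w = (support₂ w).card := rfl

theorem neg_word (v : α → ZMod 2) : -v = v := funext fun a => (by decide : ∀ x : ZMod 2, -x = x) (v a)

theorem sub_word (u v : α → ZMod 2) : u - v = u + v := by rw [sub_eq_add_neg, neg_word]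

theorem weight_parity (w : α → ZMod 2) : ((support₂ w).card : ZMod 2) = ∑ a, w a := by
  rw [support₂, Finset.card_filter, Nat.cast_sum]
  refine Finset.sum_congr rfl fun a _ => ?_
  generalize w a = x
  revert x
  decide

theorem weight_parity' (w : α → ZMod 2) : ((support₂ w).card : ZMod 2) = ∑ a, w a * w a := by
  rw [weight_parity]
  refine Finset.sum_congr rfl fun a _ => ?_
  generalize w a = x
  revert x
  decide

theorem even_of_self_orth {w : α → ZMod 2} (h : ∑ a, w a * w a = 0) : 2 ∣ (support₂ w).card := by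
  rw [← weight_parity'] at h
  exact (ZMod.natCast_eq_zero_iff _ 2).1 h

/-- dimension 12, even weights, minimum weight 8 -/
structure IsGolayLike (C : Submodule (ZMod 2) (α → ZMod 2)) : Prop where
  card_pts : Fintype.card α = 24
  dim : Module.finrank (ZMod 2) C = 12
  even : ∀ w ∈ C, 2 ∣ (support₂ w).card
  min : ∀ w ∈ C, w ≠ 0 → 8 ≤ (support₂ w).card

variable {C : Submodule (ZMod 2) (α → ZMod 2)}

/-- the class of a set of coordinates -/
def cls (C : Submodule (ZMod 2) (α → ZMod 2)) (s : Finset α) : (α → ZMod 2) ⧸ C :=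
  Submodule.Quotient.mk (ind s)

theorem cls_eq_iff {s t : Finset α} : cls C s = cls C t ↔ ind (s ∆ t) ∈ C := by
  rw [cls, cls, Submodule.Quotient.eq, sub_word, ind_symmDiff]

theorem cls_surjective : Function.Surjective (cls C) := by
  intro q
  obtain ⟨w, rfl⟩ := Submodule.Quotient.mk_surjective C q
  exact ⟨support₂ w, by rw [cls, ind_sup]⟩

theorem card_sd (a b : Finset α) : (a ∆ b).card + 2 * (a ∩ b).card = a.card + b.card :=
  CfsgLib.Spor.card_symmDiff_add a b

theorem eq_of_short (h : IsGolayLike C) {s t : Finset α} (he : cls C s = cls C t)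
    (hs : s.card + t.card ≤ 7) : s = t := by
  rw [cls_eq_iff] at he
  by_contra hne
  have h0 : ind (s ∆ t) ≠ 0 := fun e => hne (symmDiff_eq_bot.1 (by
    rw [← sup_ind (s ∆ t), e, sup_zero]; rfl))
  have := h.min _ he h0
  rw [sup_ind] at this
  have := card_sd s t
  omega

theorem disjoint_of_four (h : IsGolayLike C) {s t : Finset α} (he : cls C s = cls C t)
    (hs : s.card ≤ 4) (ht : t.card ≤ 4) (hne : s ≠ t) :
    Disjoint s t ∧ s.card = 4 ∧ t.card = 4 := by
  rw [cls_eq_iff] at he
  have h0 : ind (s ∆ t) ≠ 0 := fun e => hne (symmDiff_eq_bot.1 (by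
    rw [← sup_ind (s ∆ t), e, sup_zero]; rfl))
  have := h.min _ he h0
  rw [sup_ind] at this
  have := card_sd s t
  refine ⟨Finset.disjoint_iff_inter_eq_empty.2 (Finset.card_eq_zero.1 (by omega)), by omega, by omega⟩

theorem parity_cls (h : IsGolayLike C) {s t : Finset α} (he : cls C s = cls C t) :
    s.card % 2 = t.card % 2 := by
  rw [cls_eq_iff] at he
  have h1 := h.even _ he
  rw [sup_ind] at h1
  have := card_sd s t
  omega

theorem card_quot (h : IsGolayLike C) : Nat.card ((α → ZMod 2) ⧸ C) = 4096 := by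
  have h1 : Nat.card (α → ZMod 2) = 2 ^ 24 := by
    rw [Nat.card_eq_fintype_card, Fintype.card_fun, ZMod.card, h.card_pts]
  have h2 : Nat.card C = 4096 := by
    rw [Module.natCard_eq_pow_finrank (K := ZMod 2), h.dim, Nat.card_zmod]
    norm_num
  have := Submodule.card_eq_card_quotient_mul_card C
  rw [h1, h2] at this
  omega

/-- classes of sets of a given parity -/
def parityClasses (C : Submodule (ZMod 2) (α → ZMod 2)) (r : ℕ) : Set ((α → ZMod 2) ⧸ C) :=
  {q | ∃ s : Finset α, cls C s = q ∧ s.card % 2 = r}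

theorem ncard_parityClasses (h : IsGolayLike C) {r : ℕ} (hr : r < 2) :
    (parityClasses C r).ncard = 2048 := by
  have hcov : parityClasses C 0 ∪ parityClasses C 1 = Set.univ := Set.eq_univ_of_forall fun q => by
    obtain ⟨s, rfl⟩ := cls_surjective q
    rcases Nat.mod_two_eq_zero_or_one s.card with e | e
    · exact Or.inl ⟨s, rfl, e⟩
    · exact Or.inr ⟨s, rfl, e⟩
  have hdis : Disjoint (parityClasses C 0) (parityClasses C 1) := Set.disjoint_left.2 fun q => by
    rintro ⟨s, rfl, hs⟩ ⟨t, ht, ht'⟩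
    have := parity_cls h ht
    omega
  obtain ⟨a⟩ : Nonempty α := Fintype.card_pos_iff.1 (by rw [h.card_pts]; norm_num)
  have hflip : ∀ r < 2, ∀ s : Finset α, s.card % 2 = r → (s ∆ {a}).card % 2 = 1 - r := by
    intro r hr s hs
    have := card_sd s {a}
    rw [Finset.card_singleton] at this
    omega
  have hle : ∀ r < 2, (parityClasses C r).ncard ≤ (parityClasses C (1 - r)).ncard := by
    intro r hr
    refine Set.ncard_le_ncard_of_injOn (fun q => q + cls C {a}) ?_
      ((add_left_injective (cls C {a})).injOn) (Set.toFinite _)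
    rintro q ⟨s, rfl, hs⟩
    refine ⟨s ∆ {a}, ?_, hflip r hr s hs⟩
    simp [cls, ind_symmDiff]
  have htot := Set.ncard_union_eq hdis (Set.toFinite _) (Set.toFinite _)
  rw [hcov, Set.ncard_univ, card_quot h] at htot
  have h0 := hle 0 (by norm_num)
  have h1 := hle 1 (by norm_num)
  obtain rfl | rfl : r = 0 ∨ r = 1 := by omega
  · simp only [Nat.sub_zero, Nat.sub_self] at h0 h1; omega
  · simp only [Nat.sub_zero, Nat.sub_self] at h0 h1; omega

/-- sets of `j` coordinates -/
def layer (α : Type*) [Fintype α] (j : ℕ) : Finset (Finset α) := (univ : Finset α).powersetCard j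

theorem card_layer (h : IsGolayLike C) (j : ℕ) : (layer α j).card = Nat.choose 24 j := by
  rw [layer, card_powersetCard, card_univ, h.card_pts]

theorem exists_odd_short (h : IsGolayLike C) {s : Finset α} (hs : s.card % 2 = 1) :
    ∃ t : Finset α, (t.card = 1 ∨ t.card = 3) ∧ cls C t = cls C s := by
  have himg : cls C '' ↑(layer α 1 ∪ layer α 3) = parityClasses C 1 := by
    refine Set.eq_of_subset_of_ncard_le ?_ ?_ (Set.toFinite _)
    · rintro _ ⟨t, ht, rfl⟩
      simp only [layer, coe_union, Set.mem_union, mem_coe, mem_powersetCard] at ht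
      exact ⟨t, rfl, by rcases ht with ⟨-, e⟩ | ⟨-, e⟩ <;> omega⟩
    · rw [ncard_parityClasses h (by norm_num), Set.InjOn.ncard_image, Set.ncard_coe_finset,
        card_union_of_disjoint, card_layer h, card_layer h]
      · decide
      · rw [Finset.disjoint_left]
        simp only [layer, mem_powersetCard]
        rintro t ⟨-, e⟩ ⟨-, e'⟩
        omega
      · intro t ht t' ht' e
        simp only [layer, coe_union, Set.mem_union, mem_coe, mem_powersetCard] at ht ht'
        exact eq_of_short h e (by rcases ht with ⟨-, e⟩ | ⟨-, e⟩ <;> rcases ht' with ⟨-, e'⟩ | ⟨-, e'⟩ <;> omega)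
  obtain ⟨t, ht, he⟩ := himg.symm ▸ (show cls C s ∈ parityClasses C 1 from ⟨s, rfl, hs⟩)
  simp only [layer, coe_union, Set.mem_union, mem_coe, mem_powersetCard] at ht
  exact ⟨t, by rcases ht with ⟨-, e⟩ | ⟨-, e⟩ <;> omega, he⟩

theorem mem_words {b : Finset α} {n : ℕ} :
    b ∈ wordsOfWeight (C : Set (α → ZMod 2)) n ↔ ind b ∈ C ∧ b.card = n := by
  constructor
  · rintro ⟨⟨w, hw, rfl⟩, hn⟩
    exact ⟨by rw [ind_sup]; exact hw, hn⟩
  · rintro ⟨hb, hn⟩
    exact ⟨⟨ind b, hb, sup_ind b⟩, hn⟩

theorem steiner (h : IsGolayLike C) : IsSteinerSystem 5 8 (wordsOfWeight (C : Set (α → ZMod 2)) 8) := by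
  refine ⟨fun b hb => hb.2, fun s hs => ?_⟩
  obtain ⟨t, ht, he⟩ := exists_odd_short h (s := s) (by omega)
  rw [cls_eq_iff] at he
  have h0 : ind (t ∆ s) ≠ 0 := fun e => by
    have hts : t = s := symmDiff_eq_bot.1 (by rw [← sup_ind (t ∆ s), e, sup_zero]; rfl)
    subst hts
    omega
  have h8 := h.min _ he h0
  rw [sup_ind] at h8
  have hsd := card_sd t s
  have hdis : Disjoint t s := Finset.disjoint_iff_inter_eq_empty.2 (Finset.card_eq_zero.1 (by omega))
  refine ⟨t ∆ s, ⟨mem_words.2 ⟨he, by omega⟩, ?_⟩, ?_⟩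
  · rw [Finset.disjoint_iff_inter_eq_empty] at hdis
    intro x hx
    refine Finset.mem_symmDiff.2 (Or.inr ⟨hx, fun hx' => ?_⟩)
    exact Finset.notMem_empty x (hdis ▸ Finset.mem_inter.2 ⟨hx', hx⟩)
  · rintro b ⟨hb, hsb⟩
    obtain ⟨hbC, hb8⟩ := mem_words.1 hb
    have hc : (s : Finset α) ⊆ t ∆ s := by
      intro x hx
      refine Finset.mem_symmDiff.2 (Or.inr ⟨hx, fun hx' => ?_⟩)
      exact Finset.disjoint_left.1 hdis hx' hx
    by_contra hne
    have h1 : ind (b ∆ (t ∆ s)) ∈ C := by rw [ind_symmDiff]; exact C.add_mem hbC he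
    have h2 : ind (b ∆ (t ∆ s)) ≠ 0 := fun e => hne (symmDiff_eq_bot.1 (by
      rw [← sup_ind (b ∆ (t ∆ s)), e, sup_zero]; rfl))
    have h3 := h.min _ h1 h2
    rw [sup_ind] at h3
    have h4 := card_sd b (t ∆ s)
    have h5 : 5 ≤ (b ∩ (t ∆ s)).card := hs ▸ Finset.card_le_card (Finset.subset_inter hsb hc)
    omega

/-- transport of a code along a bijection of coordinates -/
def moveEquiv {β : Type*} (e : α ≃ β) : (α → ZMod 2) ≃ₗ[ZMod 2] (β → ZMod 2) :=
  LinearEquiv.funCongrLeft (ZMod 2) (ZMod 2) e.symm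

theorem exists_equiv (h : IsGolayLike C) :
    ∃ e : α ≃ GolayPt, ∀ w : GolayPt → ZMod 2, w ∈ golayCode ↔ (fun a => w (e a)) ∈ C := by
  obtain ⟨e, he⟩ := SteinerUnique.iso_octads (steiner h) h.card_pts
  refine ⟨e, fun w => ?_⟩
  let L : (GolayPt → ZMod 2) ≃ₗ[ZMod 2] (α → ZMod 2) := LinearEquiv.funCongrLeft (ZMod 2) (ZMod 2) e
  have hL : ∀ b : Finset α, L (ind (b.image e)) = ind b := fun b => by
    funext a
    show ind (b.image e) (e a) = ind b a
    simp [ind]
  have hoct : ∀ o ∈ octads, ind o ∈ C.comap L.toLinearMap := by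
    intro o ho
    rw [← he] at ho
    obtain ⟨b, hb, rfl⟩ := ho
    show L (ind (b.image e)) ∈ C
    rw [hL]
    exact (mem_words.1 hb).1
  have hle : golayCode ≤ C.comap L.toLinearMap := by
    intro v hv
    have key : ∀ (l : List ℕ) (j m : ℕ), (∀ b ∈ l, ind (ofMask b) ∈ C.comap L.toLinearMap) →
        ind (ofMask (comboAux l j m)) ∈ C.comap L.toLinearMap := by
      intro l
      induction l with
      | nil =>
        intro j m _
        rw [show comboAux [] j m = 0 from rfl, ofMask_zero,
          show ind (∅ : Finset GolayPt) = 0 from funext fun p => by simp [ind]]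
        exact Submodule.zero_mem _
      | cons c l ih =>
        intro j m hl
        rw [comboAux, ofMask_xor, ind_symmDiff]
        refine Submodule.add_mem _ ?_ (ih _ _ fun b hb => hl b (by simp [hb]))
        split
        · exact hl c (by simp)
        · rw [ofMask_zero, show ind (∅ : Finset GolayPt) = 0 from funext fun p => by simp [ind]]
          exact Submodule.zero_mem _
    have h1 := key basisRows 0 (maskOf (support₂ v)) fun b hb => hoct _ (basisRows_octads b hb)
    have h2 : combo (maskOf (support₂ v)) = maskOf (support₂ v) := inCode_iff.1 (inCode_maskOf_of_mem hv)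
    rw [show comboAux basisRows 0 (maskOf (support₂ v)) = maskOf (support₂ v) from h2, ofMask_maskOf,
      ind_sup] at h1
    exact h1
  have hG : Nat.card golayCode = 4096 := by
    rw [← CfsgLib.Spor.ncard_Code, Code, supports, supp_injective.injOn.ncard_image]
    exact Nat.card_coe_set_eq _
  have hC : Nat.card (C.comap L.toLinearMap) = 4096 := by
    have e0 : ↥(C.comap L.toLinearMap) ≃ C := Equiv.subtypeEquiv L.toEquiv (fun x => Iff.rfl)
    rw [Nat.card_congr e0, Module.natCard_eq_pow_finrank (K := ZMod 2), h.dim, Nat.card_zmod]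
    norm_num
  have heq : (golayCode : Set (GolayPt → ZMod 2)) = (C.comap L.toLinearMap : Submodule _ _) := by
    refine Set.eq_of_subset_of_ncard_le hle ?_ (Set.toFinite _)
    rw [← Nat.card_coe_set_eq, ← Nat.card_coe_set_eq]
    exact (hC.trans hG.symm).le
  exact Set.ext_iff.1 heq w

theorem weights (h : IsGolayLike C) {w : α → ZMod 2} (hw : w ∈ C) :
    (support₂ w).card = 0 ∨ (support₂ w).card = 8 ∨ (support₂ w).card = 12 ∨ (support₂ w).card = 16 ∨
      (support₂ w).card = 24 := by
  obtain ⟨e, he⟩ := exists_equiv h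
  have h1 : (fun p => w (e.symm p)) ∈ golayCode := (he _).2 (by simpa using hw)
  have h2 : (support₂ fun p => w (e.symm p)).card = (support₂ w).card := by
    rw [← Finset.card_map e.symm.toEmbedding]
    congr 1
    ext a
    simp [mem_sup]
  have h3 := card_cases (mem_code_iff.1 h1)
  omega

theorem span_eight (h : IsGolayLike C) :
    Submodule.span (ZMod 2) {w : α → ZMod 2 | w ∈ C ∧ (support₂ w).card = 8} = C := by
  refine le_antisymm (Submodule.span_le.2 fun w hw => hw.1) ?_
  obtain ⟨e, he⟩ := exists_equiv h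
  let L : (GolayPt → ZMod 2) ≃ₗ[ZMod 2] (α → ZMod 2) := LinearEquiv.funCongrLeft (ZMod 2) (ZMod 2) e
  intro w hw
  have h1 : (fun p => w (e.symm p)) ∈ golayCode := (he _).2 (by simpa using hw)
  have hspan : ∀ b ∈ basisRows, ind (ofMask b) ∈
      (Submodule.span (ZMod 2) {w : α → ZMod 2 | w ∈ C ∧ (support₂ w).card = 8}).comap L.toLinearMap := by
    intro b hb
    refine Submodule.subset_span ⟨(he _).1 (mem_code_iff.2 (by
      rw [show support₂ (ind (ofMask b)) = ofMask b from sup_ind _]; exact (basisRows_octads b hb).1)), ?_⟩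
    show (support₂ fun a => ind (ofMask b) (e a)).card = 8
    rw [← (basisRows_octads b hb).2, ← Finset.card_map e.toEmbedding]
    congr 1
    ext p
    simp [mem_sup, ind]
  have key : ∀ (l : List ℕ) (j m : ℕ),
      (∀ b ∈ l, ind (ofMask b) ∈
        (Submodule.span (ZMod 2) {w : α → ZMod 2 | w ∈ C ∧ (support₂ w).card = 8}).comap L.toLinearMap) →
      ind (ofMask (comboAux l j m)) ∈
        (Submodule.span (ZMod 2) {w : α → ZMod 2 | w ∈ C ∧ (support₂ w).card = 8}).comap L.toLinearMap := by
    intro l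
    induction l with
    | nil =>
      intro j m _
      rw [show comboAux [] j m = 0 from rfl, ofMask_zero,
        show ind (∅ : Finset GolayPt) = 0 from funext fun p => by simp [ind]]
      exact Submodule.zero_mem _
    | cons c l ih =>
      intro j m hl
      rw [comboAux, ofMask_xor, ind_symmDiff]
      refine Submodule.add_mem _ ?_ (ih _ _ fun b hb => hl b (by simp [hb]))
      split
      · exact hl c (by simp)
      · rw [ofMask_zero, show ind (∅ : Finset GolayPt) = 0 from funext fun p => by simp [ind]]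
        exact Submodule.zero_mem _
  have h2 := key basisRows 0 (maskOf (support₂ fun p => w (e.symm p))) hspan
  have h3 : combo (maskOf (support₂ fun p => w (e.symm p))) = maskOf (support₂ fun p => w (e.symm p)) :=
    inCode_iff.1 (inCode_maskOf_of_mem h1)
  rw [show comboAux basisRows 0 _ = _ from h3, ofMask_maskOf, ind_sup] at h2
  have : L (fun p => w (e.symm p)) = w := funext fun a => by
    show w (e.symm (e a)) = w a
    rw [e.symm_apply_apply]
  rwa [Submodule.mem_comap, LinearEquiv.coe_coe, this] at h2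

theorem card_four (h : IsGolayLike C) (s : Finset α) :
    (∀ t : Finset α, t.card ≤ 3 → cls C t ≠ cls C s) →
      {t : Finset α | t.card = 4 ∧ cls C t = cls C s}.ncard = 6 := by
  classical
  intro hno
  have hs0 : s.card % 2 = 0 := by
    by_contra hne
    obtain ⟨t, ht, he⟩ := exists_odd_short h (s := s) (by omega)
    exact hno t (by omega) he
  -- classes of even sets without a short representative
  set short : Set ((α → ZMod 2) ⧸ C) := cls C '' ↑(layer α 0 ∪ layer α 2) with hshort
  set rest := parityClasses C 0 \ short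
  have hsn : short.ncard = 277 := by
    rw [hshort, Set.InjOn.ncard_image, Set.ncard_coe_finset, card_union_of_disjoint, card_layer h, card_layer h]
    · decide
    · rw [Finset.disjoint_left]
      simp only [layer, mem_powersetCard]
      rintro t ⟨-, e⟩ ⟨-, e'⟩
      omega
    · intro t ht t' ht' e
      simp only [layer, coe_union, Set.mem_union, mem_coe, mem_powersetCard] at ht ht'
      exact eq_of_short h e (by rcases ht with ⟨-, e⟩ | ⟨-, e⟩ <;> rcases ht' with ⟨-, e'⟩ | ⟨-, e'⟩ <;> omega)
  have hrest : rest.ncard = 1771 := by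
    rw [Set.ncard_sdiff ?_ (Set.toFinite _), ncard_parityClasses h (by norm_num), hsn]
    rintro _ ⟨t, ht, rfl⟩
    simp only [layer, coe_union, Set.mem_union, mem_coe, mem_powersetCard] at ht
    exact ⟨t, rfl, by rcases ht with ⟨-, e⟩ | ⟨-, e⟩ <;> omega⟩
  have hmaps : ∀ t ∈ layer α 4, cls C t ∈ rest.toFinset := by
    intro t ht
    simp only [layer, mem_powersetCard] at ht
    rw [Set.mem_toFinset]
    refine ⟨⟨t, rfl, by omega⟩, ?_⟩
    rintro ⟨u, hu, e⟩
    simp only [layer, coe_union, Set.mem_union, mem_coe, mem_powersetCard] at hu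
    have hut := eq_of_short h e (by rcases hu with ⟨-, e'⟩ | ⟨-, e'⟩ <;> omega)
    subst hut
    rcases hu with ⟨-, e'⟩ | ⟨-, e'⟩ <;> omega
  have hle : ∀ q : (α → ZMod 2) ⧸ C, ((layer α 4).filter fun t => cls C t = q).card ≤ 6 := by
    intro q
    set F := (layer α 4).filter fun t => cls C t = q
    have hF : ∀ t ∈ F, t.card = 4 ∧ cls C t = q := by
      intro t ht
      simp only [F, layer, mem_filter, mem_powersetCard] at ht
      exact ⟨ht.1.2, ht.2⟩
    have hd : ∀ t ∈ F, ∀ u ∈ F, t ≠ u → Disjoint (id t) (id u) := fun t ht u hu hne =>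
      (disjoint_of_four h ((hF t ht).2.trans (hF u hu).2.symm) (hF t ht).1.le (hF u hu).1.le hne).1
    have h1 := Finset.card_biUnion hd
    have h2 := Finset.card_le_univ (F.biUnion id)
    simp only [id] at h1 h2
    rw [h1, h.card_pts, Finset.sum_congr rfl (fun t ht => (hF t ht).1), Finset.sum_const, smul_eq_mul] at h2
    omega
  have hsum := Finset.card_eq_sum_card_fiberwise (f := cls C) (s := layer α 4) (t := rest.toFinset) hmaps
  rw [card_layer h, show Nat.choose 24 4 = 10626 from rfl] at hsum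
  have hall := (Finset.sum_eq_sum_iff_of_le (s := rest.toFinset) (g := fun _ => 6) (fun q _ => hle q)).1 (by
    rw [← hsum, Finset.sum_const, ← Set.ncard_eq_toFinset_card', hrest]; rfl)
  have hsr : cls C s ∈ rest.toFinset := by
    rw [Set.mem_toFinset]
    refine ⟨⟨s, rfl, hs0⟩, ?_⟩
    rintro ⟨u, hu, e⟩
    simp only [layer, coe_union, Set.mem_union, mem_coe, mem_powersetCard] at hu
    exact hno u (by rcases hu with ⟨-, e'⟩ | ⟨-, e'⟩ <;> omega) e
  rw [← hall _ hsr, ← Set.ncard_coe_finset]
  congr 1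
  ext t
  simp [layer]

theorem coset_dichotomy (h : IsGolayLike C) (w : α → ZMod 2) :
    (∃ u : α → ZMod 2, {u : α → ZMod 2 | u - w ∈ C ∧ (support₂ u).card ≤ 4} = {u} ∧ (support₂ u).card ≤ 3) ∨
      ({u : α → ZMod 2 | u - w ∈ C ∧ (support₂ u).card ≤ 4}.ncard = 6 ∧
        ∀ u ∈ {u : α → ZMod 2 | u - w ∈ C ∧ (support₂ u).card ≤ 4}, (support₂ u).card = 4 ∧
          ∀ u' ∈ {u : α → ZMod 2 | u - w ∈ C ∧ (support₂ u).card ≤ 4}, u ≠ u' →
            Disjoint (support₂ u) (support₂ u')) := by
  set U := {u : α → ZMod 2 | u - w ∈ C ∧ (support₂ u).card ≤ 4}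
  have hcls : ∀ u : α → ZMod 2, u - w ∈ C ↔ cls C (support₂ u) = cls C (support₂ w) := fun u => by
    rw [cls_eq_iff, ind_symmDiff, ind_sup, ind_sup, sub_word]
  by_cases hno : ∀ t : Finset α, t.card ≤ 3 → cls C t ≠ cls C (support₂ w)
  · right
    have h6 := card_four h _ hno
    have hU : U = ind '' {t : Finset α | t.card = 4 ∧ cls C t = cls C (support₂ w)} := by
      ext u
      constructor
      · rintro ⟨h1, h2⟩
        refine ⟨support₂ u, ⟨?_, (hcls u).1 h1⟩, ind_sup u⟩
        by_contra hne
        exact hno _ (by omega) ((hcls u).1 h1)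
      · rintro ⟨t, ⟨ht, he⟩, rfl⟩
        exact ⟨(hcls _).2 (by rw [sup_ind]; exact he), by rw [sup_ind]; omega⟩
    refine ⟨by rw [hU, ind_injective.injOn.ncard_image, h6], fun u hu => ?_⟩
    have h4 : ∀ v ∈ U, (support₂ v).card = 4 := fun v hv => by
      by_contra hne
      have := hv.2
      exact hno _ (by omega) ((hcls v).1 hv.1)
    refine ⟨h4 u hu, fun u' hu' hne => ?_⟩
    exact (disjoint_of_four h (((hcls u).1 hu.1).trans ((hcls u').1 hu'.1).symm) hu.2 hu'.2
      (fun e => hne (by rw [← ind_sup u, e, ind_sup]))).1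
  · left
    push Not at hno
    obtain ⟨t, ht, he⟩ := hno
    refine ⟨ind t, Set.eq_singleton_iff_unique_mem.2 ⟨⟨(hcls _).2 (by rw [sup_ind]; exact he),
      by rw [sup_ind]; omega⟩, fun u hu => ?_⟩, by rw [sup_ind]; exact ht⟩
    have := eq_of_short h (((hcls u).1 hu.1).trans he.symm) (by have := hu.2; omega)
    rw [← ind_sup u, this]

theorem of_self_orth (hcard : Fintype.card α = 24) (hdim : Module.finrank (ZMod 2) C = 12)
    (horth : ∀ v ∈ C, ∀ w ∈ C, ∑ i, v i * w i = 0) (hmin : ∀ w ∈ C, w ≠ 0 → 8 ≤ (support₂ w).card) :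
    IsGolayLike C :=
  ⟨hcard, hdim, fun w hw => even_of_self_orth (horth w hw w hw), hmin⟩

end CfsgLib.Spor.GolayUnique
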