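import Cfsg.Agent.Spor.M24ElemsData
import Cfsg.Agent.Spor.M24Trans
import Cfsg.Agent.Spor.M24Simple

/-!
Elements of the group of the code with prescribed images of five base points; the classes of
elements of order two, three and seven.
-/

set_option autoImplicit false

namespace CfsgLib.Spor.M24Elems

open Cfsg
open scoped Pointwise

/-- the image number -/
def img (σ : Equiv.Perm GolayPt) (i : ℕ) : ℕ := num (σ (pt i))

theorem img_lt (σ : Equiv.Perm GolayPt) (i : ℕ) : img σ i < 24 := num_lt _

theorem pt_img (σ : Equiv.Perm GolayPt) (i : ℕ) : pt (img σ i) = σ (pt i) := pt_num _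

theorem img_num (σ : Equiv.Perm GolayPt) (p : GolayPt) : img σ (num p) = num (σ p) := by
  rw [img, pt_num]

theorem img_mul (σ τ : Equiv.Perm GolayPt) (i : ℕ) : img (σ * τ) i = img σ (img τ i) := by
  rw [img, img, img, Equiv.Perm.mul_apply, pt_num]

theorem img_one {i : ℕ} (hi : i < 24) : img 1 i = i := num_pt hi

theorem img_mkPerm {P : ℕ} (h : okP P = true) {i : ℕ} (hi : i < 24) : img (mkPerm P) i = app P i := by
  rw [img, num_mkPerm h, num_pt hi]

theorem perm_ext {σ τ : Equiv.Perm GolayPt} (h : ∀ i, i < 24 → img σ i = img τ i) : σ = τ := by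
  refine Equiv.ext fun p => num_injective ?_
  rw [← img_num, ← img_num]
  exact h _ (num_lt p)

theorem img_injOn (σ : Equiv.Perm GolayPt) {i j : ℕ} (hi : i < 24) (hj : j < 24) (h : img σ i = img σ j) :
    i = j := by
  have := congrArg num (σ.injective (num_injective h))
  rwa [num_pt hi, num_pt hj] at this

theorem inM24_ok {P : ℕ} (h : inM24 P = true) : okP P = true := by
  rw [inM24, Bool.and_eq_true] at h; exact h.1

/-- the five base points -/
def base : List ℕ := [23, 0, 1, 2, 3]

theorem tail48_check :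
    (tail48.all fun a => inM24 a && (chainTop (m24Chain.drop 5)).all fun g =>
      tail48.any fun b => compB a g.P b) = true ∧
    tail48.any (fun a => (List.range 24).all fun i => app a i == i) = true ∧
    (m24Chain.take 5).map Level.base = base ∧ 5 < m24Chain.length := by decide +kernel

theorem closure_mem {G : Type*} [Group G] [Finite G] (S : Set G) (T : Finset G) (h1 : 1 ∈ T)
    (h : ∀ a ∈ T, ∀ s ∈ S, a * s ∈ T) {x : G} (hx : x ∈ Subgroup.closure S) : x ∈ T := by
  classical
  induction hx using Subgroup.closure_induction_right with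
  | one => exact h1
  | mul_right x _ y hy ih => exact h x ih y hy
  | mul_inv_cancel x _ y hy ih =>
    have hsub : T.image (· * y) = T := Finset.eq_of_subset_of_card_le
      (fun z hz => by obtain ⟨a, ha, rfl⟩ := Finset.mem_image.1 hz; exact h a ha y hy)
      (Finset.card_image_of_injective _ (mul_left_injective y)).ge
    rw [← hsub] at ih
    obtain ⟨a, ha, e⟩ := Finset.mem_image.1 ih
    rw [← e, mul_inv_cancel_right]
    exact ha

theorem mem_tail48 {σ : Equiv.Perm GolayPt} (hσ : σ ∈ M24) (hfix : ∀ b ∈ base, img σ b = b) :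
    ∃ k ∈ tail48, ∀ i, i < 24 → img σ i = app k i := by
  classical
  obtain ⟨hc, hid, hb, hlen⟩ := tail48_check
  simp only [List.all_eq_true, Bool.and_eq_true, List.any_eq_true] at hc hid
  obtain ⟨h1, -⟩ := chain_levels 5 m24Chain M24 m24Chain_ok gtGroup_m24_le
    (by rw [card_M24, m24Chain_size]) hlen
  have hb24 : ∀ b ∈ base, b < 24 := by decide
  have hmem : σ ∈ gtGroup (chainTop (m24Chain.drop 5)) := by
    refine (h1 σ).2 ⟨hσ, fun l hl => num_injective ?_⟩
    have hlb : l.base ∈ base := by rw [← hb]; exact List.mem_map_of_mem hl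
    rw [num_pt (hb24 _ hlb)]
    exact hfix _ hlb
  have h1' : (1 : Equiv.Perm GolayPt) ∈ (tail48.map mkPerm).toFinset := by
    obtain ⟨a, ha, hai⟩ := hid
    rw [List.mem_toFinset, List.mem_map]
    refine ⟨a, ha, perm_ext fun i hi => ?_⟩
    rw [img_mkPerm (inM24_ok (hc a ha).1) hi, img_one hi]
    exact beq_iff_eq.1 (hai i (List.mem_range.2 hi))
  have hT := closure_mem {τ | ∃ g ∈ chainTop (m24Chain.drop 5), g.perm = τ} _ h1' (fun a ha s hs => by
    rw [List.mem_toFinset, List.mem_map] at ha ⊢
    obtain ⟨a', ha', rfl⟩ := ha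
    obtain ⟨g, hg, rfl⟩ := hs
    obtain ⟨b, hb', hcomp⟩ := (hc a' ha').2 g hg
    exact ⟨b, hb', mkPerm_comp hcomp⟩) hmem
  rw [List.mem_toFinset, List.mem_map] at hT
  obtain ⟨k, hk, rfl⟩ := hT
  exact ⟨k, hk, fun i hi => img_mkPerm (inM24_ok (hc k hk).1) hi⟩

/-- the images of the base points under a coded coset -/
def quint (G : ℕ) : List ℕ := base.map (app G)

/-- elements with prescribed images of the base points -/
theorem exists_cand {σ : Equiv.Perm GolayPt} (hσ : σ ∈ M24) {G : ℕ} (hG : inM24 G = true)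
    (h : base.map (img σ) = quint G) : ∃ k ∈ tail48, ∀ i, i < 24 → img σ i = app G (app k i) := by
  have hb24 : ∀ b ∈ base, b < 24 := by decide
  have hGok := inM24_ok hG
  have hfix : ∀ b ∈ base, img ((mkPerm G)⁻¹ * σ) b = b := by
    intro b hb
    have e : img σ b = app G b := List.map_inj_left.1 h b hb
    refine img_injOn (mkPerm G) (img_lt _ _) (hb24 b hb) ?_
    rw [← img_mul, mul_inv_cancel_left, e, img_mkPerm hGok (hb24 b hb)]
  obtain ⟨k, hk, hki⟩ := mem_tail48 (mul_mem (inv_mem (mkPerm_mem_M24 hG)) hσ) hfix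
  refine ⟨k, hk, fun i hi => ?_⟩
  have hlt : app k i < 24 := hki i hi ▸ img_lt _ _
  rw [← img_mkPerm hGok hlt, ← hki i hi, ← img_mul, mul_inv_cancel_left]

/-- a non-trivial element moves at least four points -/
theorem eq_one_of_support {g : Equiv.Perm GolayPt} (hg : g ∈ M24)
    (h : (Finset.univ.filter fun p => g p ≠ p).card ≤ 3) : g = 1 := by
  have hfix : ∀ o ∈ octads, g • o = o := by
    intro o ho
    refine (octad_ext ho (smul_mem_octads hg ho) ?_).symm
    have hsub : o \ (Finset.univ.filter fun p => g p ≠ p) ⊆ o ∩ g • o := by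
      intro p hp
      simp only [Finset.mem_sdiff, Finset.mem_filter, Finset.mem_univ, true_and, not_not] at hp
      refine Finset.mem_inter.2 ⟨hp.1, ?_⟩
      have := Finset.smul_mem_smul_finset (a := g) hp.1
      rwa [Equiv.Perm.smul_def, hp.2] at this
    have h1 := Finset.le_card_sdiff (Finset.univ.filter fun p => g p ≠ p) o
    have h2 := Finset.card_le_card hsub
    rw [ho.2] at h1
    omega
  refine Equiv.ext fun p => ?_
  show g p = p
  by_contra hne
  have key : octadList.any (fun m => decide ((none : GolayPt) ∈ ofMask m ∧ (some 0 : GolayPt) ∉ ofMask m ∧ m < 2 ^ 24)) = true := by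
    decide +kernel
  obtain ⟨m, hm, hm'⟩ := List.any_eq_true.1 key
  obtain ⟨h1, h2, h3⟩ := of_decide_eq_true hm'
  obtain ⟨c, hc⟩ := M24Simple.m24_move (by norm_num : 2 ≤ 5) ![none, some 0] ![p, g p]
    (by intro i j; fin_cases i <;> fin_cases j <;> simp)
    (by intro i j; fin_cases i <;> fin_cases j <;> simp [hne, Ne.symm hne])
  have hp : p ∈ (c : Equiv.Perm GolayPt) • ofMask m := by
    rw [show p = (c : Equiv.Perm GolayPt) • (none : GolayPt) from (hc 0).symm]
    exact Finset.smul_mem_smul_finset h1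
  have hgp : g p ∈ (c : Equiv.Perm GolayPt) • ofMask m := by
    rw [← hfix _ (smul_mem_octads c.2 ((mem_octads_iff h3).2 hm))]
    exact Finset.smul_mem_smul_finset hp
  rw [show g p = (c : Equiv.Perm GolayPt) • (some 0 : GolayPt) from (hc 1).symm,
    Finset.smul_mem_smul_finset_iff] at hgp
  exact h2 hgp

/-- conjugation test -/
def conjB (C R : ℕ) (f : ℕ → ℕ) : Bool := (List.range 24).all fun i => app C (f i) == app R (app C i)

theorem conj_of_conjB {g : Equiv.Perm GolayPt} {C R : ℕ} (hC : okP C = true) (hR : okP R = true)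
    {f : ℕ → ℕ} (hf : ∀ i, i < 24 → img g i = f i) (h : conjB C R f = true) :
    mkPerm C * g * (mkPerm C)⁻¹ = mkPerm R := by
  rw [mul_inv_eq_iff_eq_mul]
  refine perm_ext fun i hi => ?_
  have h' := beq_iff_eq.1 (List.all_eq_true.1 h i (List.mem_range.2 hi))
  have hfi : f i < 24 := hf i hi ▸ img_lt g i
  rw [img_mul, img_mul, hf i hi, img_mkPerm hC hfi, img_mkPerm hC hi, img_mkPerm hR (app_lt hC hi)]
  exact h'

theorem inv_check :
    (invConjs.all inM24 && inM24 repT8 && inM24 repT0 && invCosets.all inM24) = true ∧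
    ((List.range 24).all fun x => [23, 0, 1, 2].contains x ||
      invCosets.any fun G => quint G == [0, 23, 2, 1, x]) = true ∧
    (invCosets.all fun G => tail48.all fun k =>
      !((List.range 24).all fun i => app G (app k (app G (app k i))) == i) ||
        invConjs.any fun C => conjB C repT8 (fun i => app G (app k i)) ||
          conjB C repT0 (fun i => app G (app k i))) = true := by decide +kernel

theorem tri_check :
    (triConjs.all inM24 && inM24 repR6 && inM24 repR0 && triCosets.all inM24) = true ∧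
    ((List.range 24).all fun x => [23, 0, 1, 2, 3].contains x ||
      triCosets.any fun G => quint G == [0, 1, 23, 3, x]) = true ∧
    (triCosets.all fun G => tail48.all fun k =>
      !((List.range 24).all fun i => app G (app k (app G (app k (app G (app k i))))) == i) ||
        triConjs.any fun C => conjB C repR6 (fun i => app G (app k i)) ||
          conjB C repR0 (fun i => app G (app k i))) = true := by decide +kernel

/-- six-fold application -/
def six (f : ℕ → ℕ) (i : ℕ) : ℕ := f (f (f (f (f (f i)))))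

theorem sev_check :
    (sevConjs.all inM24 && inM24 repS && sevCosets.all inM24) = true ∧
    ((List.range 24).all fun x => [23, 0, 1, 2, 3].contains x ||
      sevCosets.any fun G => quint G == [0, 1, 2, 3, x]) = true ∧
    (sevCosets.all fun G => tail48.all fun k =>
      !((List.range 24).all fun i => app G (app k (six (fun j => app G (app k j)) i)) == i) ||
        sevConjs.any fun C => conjB C repS (fun i => app G (app k i)) ||
          (List.range 24).all fun i => app C (app G (app k i)) == six (app repS) (app C i)) = true := by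
  decide +kernel

theorem conj_into_base {k : ℕ} (hk : k ≤ 5) (x : Fin k → GolayPt) (hx : Function.Injective x) :
    ∃ c ∈ M24, ∀ i : Fin k, img c (num (x i)) = base.getD i.val 0 := by
  obtain ⟨c, hc⟩ := M24Simple.m24_move hk x (fun i => pt (base.getD i.val 0)) hx (by
    intro i j h
    have h5 : ∀ a b : Fin 5, pt (base.getD a.val 0) = pt (base.getD b.val 0) → a = b := by decide +kernel
    exact Fin.ext (congrArg (fun t : Fin 5 => t.val) (h5 ⟨i, by omega⟩ ⟨j, by omega⟩ h)))
  refine ⟨c, c.2, fun i => ?_⟩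
  rw [img_num, show (c : Equiv.Perm GolayPt) (x i) = pt (base.getD i.val 0) from hc i]
  refine num_pt ?_
  have h5 : ∀ a : Fin 5, base.getD a.val 0 < 24 := by decide
  exact h5 ⟨i, by omega⟩

theorem conj_apply {c g : Equiv.Perm GolayPt} {p : GolayPt} {a : ℕ} (h : img c (num p) = a) :
    img (c * g * c⁻¹) a = img c (num (g p)) := by
  subst h
  rw [img_num, img_num, img_num, Equiv.Perm.mul_apply, Equiv.Perm.mul_apply]
  simp

theorem inv_classify {g : Equiv.Perm GolayPt} (hg : g ∈ M24) (h2 : g * g = 1) (h1 : g ≠ 1) :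
    ∃ c ∈ M24, c * g * c⁻¹ = mkPerm repT8 ∨ c * g * c⁻¹ = mkPerm repT0 := by
  classical
  set S := Finset.univ.filter fun p => g p ≠ p
  have hS : 4 ≤ S.card := by
    by_contra h
    exact h1 (eq_one_of_support hg (by show S.card ≤ 3; omega))
  obtain ⟨a, ha⟩ := Finset.card_pos.1 (by omega : 0 < S.card)
  obtain ⟨b, hb, hba⟩ : ∃ b ∈ S, b ∉ ({a, g a} : Finset GolayPt) := by
    by_contra h
    push Not at h
    have := Finset.card_le_card (fun b hb => h b hb : S ⊆ {a, g a})
    have := Finset.card_le_two (a := a) (b := g a)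
    omega
  simp only [S, Finset.mem_filter, Finset.mem_univ, true_and] at ha hb
  simp only [Finset.mem_insert, Finset.mem_singleton, not_or] at hba
  have hgg : ∀ p, g (g p) = p := fun p => by rw [← Equiv.Perm.mul_apply, h2]; rfl
  obtain ⟨c, hc, hci⟩ := conj_into_base (by norm_num : 4 ≤ 5) ![a, g a, b, g b] (by
    have n1 : g b ≠ a := fun e => hba.2 (by rw [← e, hgg])
    have n2 : g b ≠ g a := fun e => hba.1 (g.injective e)
    intro i j
    fin_cases i <;> fin_cases j <;>
      simp [ha, hb, hba.1, hba.2, n1, n2, Ne.symm ha, Ne.symm hb, Ne.symm hba.1, Ne.symm hba.2, Ne.symm n1, Ne.symm n2])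
  set g' := c * g * c⁻¹
  have hg' : g' ∈ M24 := mul_mem (mul_mem hc hg) (inv_mem hc)
  have hg'2 : g' * g' = 1 := by
    simp only [g', mul_assoc, inv_mul_cancel_left]
    rw [← mul_assoc g, h2, one_mul, mul_inv_cancel]
  have e23 : img g' 23 = 0 := (conj_apply (hci 0)).trans (hci 1)
  have e0 : img g' 0 = 23 := (conj_apply (hci 1)).trans (by simp [hgg]; exact hci 0)
  have e1 : img g' 1 = 2 := (conj_apply (hci 2)).trans (hci 3)
  have e2 : img g' 2 = 1 := (conj_apply (hci 3)).trans (by simp [hgg]; exact hci 2)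
  have e3 : img g' 3 ∉ [23, 0, 1, 2] := by
    simp only [List.mem_cons, List.not_mem_nil, or_false, not_or]
    refine ⟨fun e => ?_, fun e => ?_, fun e => ?_, fun e => ?_⟩
    · exact absurd (img_injOn g' (by norm_num) (by norm_num) (e.trans e0.symm)) (by norm_num)
    · exact absurd (img_injOn g' (by norm_num) (by norm_num) (e.trans e23.symm)) (by norm_num)
    · exact absurd (img_injOn g' (by norm_num) (by norm_num) (e.trans e2.symm)) (by norm_num)
    · exact absurd (img_injOn g' (by norm_num) (by norm_num) (e.trans e1.symm)) (by norm_num)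
  obtain ⟨hok, hcov, hall⟩ := inv_check
  simp only [Bool.and_eq_true, List.all_eq_true] at hok
  obtain ⟨⟨⟨hC, hT8⟩, hT0⟩, hGs⟩ := hok
  have hx := List.all_eq_true.1 hcov (img g' 3) (List.mem_range.2 (img_lt _ _))
  simp only [Bool.or_eq_true, List.contains_iff_mem, e3, List.any_eq_true, beq_iff_eq, false_or] at hx
  obtain ⟨G, hG, hq⟩ := hx
  obtain ⟨k, hk, hki⟩ := exists_cand hg' (hGs G hG) (by
    rw [hq, base]; simp only [List.map_cons, List.map_nil, e23, e0, e1, e2])
  have h := List.all_eq_true.1 (List.all_eq_true.1 hall G hG) k hk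
  simp only [Bool.or_eq_true, Bool.not_eq_true', List.any_eq_true] at h
  rcases h with h | ⟨C, hCm, h⟩
  · exfalso
    have : ((List.range 24).all fun i => app G (app k (app G (app k i))) == i) = true := by
      simp only [List.all_eq_true, List.mem_range, beq_iff_eq]
      intro i hi
      have hlt : app G (app k i) < 24 := hki i hi ▸ img_lt _ _
      rw [← hki _ hlt, ← hki i hi, ← img_mul, hg'2, img_one hi]
    rw [this] at h
    exact Bool.noConfusion h
  · refine ⟨mkPerm C * c, mul_mem (mkPerm_mem_M24 (hC C hCm)) hc, ?_⟩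
    have e : mkPerm C * c * g * (mkPerm C * c)⁻¹ = mkPerm C * g' * (mkPerm C)⁻¹ := by
      simp only [g']; group
    rw [e]
    rcases h with h | h
    · exact Or.inl (conj_of_conjB (inM24_ok (hC C hCm)) (inM24_ok hT8) hki h)
    · exact Or.inr (conj_of_conjB (inM24_ok (hC C hCm)) (inM24_ok hT0) hki h)

theorem tri_classify {g : Equiv.Perm GolayPt} (hg : g ∈ M24) (h3 : g ^ 3 = 1) (h1 : g ≠ 1) :
    ∃ c ∈ M24, c * g * c⁻¹ = mkPerm repR6 ∨ c * g * c⁻¹ = mkPerm repR0 := by
  classical
  set S := Finset.univ.filter fun p => g p ≠ p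
  have hS : 4 ≤ S.card := by
    by_contra h
    exact h1 (eq_one_of_support hg (by show S.card ≤ 3; omega))
  have hggg : ∀ p, g (g (g p)) = p := fun p => by
    have := Equiv.Perm.congr_fun h3 p
    simpa [pow_succ] using this
  obtain ⟨a, ha⟩ := Finset.card_pos.1 (by omega : 0 < S.card)
  obtain ⟨b, hb, hba⟩ : ∃ b ∈ S, b ∉ ({a, g a, g (g a)} : Finset GolayPt) := by
    by_contra h
    push Not at h
    have := Finset.card_le_card (fun b hb => h b hb : S ⊆ {a, g a, g (g a)})
    have := Finset.card_le_three (a := a) (b := g a) (c := g (g a))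
    omega
  simp only [S, Finset.mem_filter, Finset.mem_univ, true_and] at ha hb
  simp only [Finset.mem_insert, Finset.mem_singleton, not_or] at hba
  obtain ⟨hb1, hb2, hb3⟩ := hba
  have m1 : g (g a) ≠ a := fun e => ha (by conv_rhs => rw [← hggg a, e])
  have m2 : g (g a) ≠ g a := fun e => ha (g.injective e)
  have m3 : g b ≠ a := fun e => hb3 (by rw [← e, hggg])
  have m4 : g b ≠ g a := fun e => hb1 (g.injective e)
  have m5 : g b ≠ g (g a) := fun e => hb2 (g.injective e)
  obtain ⟨c, hc, hci⟩ := conj_into_base (by norm_num : 5 ≤ 5) ![a, g a, g (g a), b, g b] (by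
    intro i j
    fin_cases i <;> fin_cases j <;>
      simp [ha, hb, hb1, hb2, hb3, m1, m2, m3, m4, m5, Ne.symm ha, Ne.symm hb, Ne.symm hb1, Ne.symm hb2,
        Ne.symm hb3, Ne.symm m1, Ne.symm m2, Ne.symm m3, Ne.symm m4, Ne.symm m5])
  set g' := c * g * c⁻¹
  have hg' : g' ∈ M24 := mul_mem (mul_mem hc hg) (inv_mem hc)
  have hg'3 : g' * (g' * g') = 1 := by
    simp only [g', mul_assoc, inv_mul_cancel_left]
    rw [← mul_assoc g g, ← mul_assoc (g * g) g, show g * g * g = g ^ 3 by rw [pow_succ, pow_two], h3,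
      one_mul, mul_inv_cancel]
  have e23 : img g' 23 = 0 := (conj_apply (hci 0)).trans (hci 1)
  have e0 : img g' 0 = 1 := (conj_apply (hci 1)).trans (hci 2)
  have e1 : img g' 1 = 23 := (conj_apply (hci 2)).trans (by simp [hggg]; exact hci 0)
  have e2 : img g' 2 = 3 := (conj_apply (hci 3)).trans (hci 4)
  have e3 : img g' 3 ∉ [23, 0, 1, 2, 3] := by
    simp only [List.mem_cons, List.not_mem_nil, or_false, not_or]
    refine ⟨fun e => ?_, fun e => ?_, fun e => ?_, fun e => ?_, fun e => ?_⟩
    · exact absurd (img_injOn g' (by norm_num) (by norm_num) (e.trans e1.symm)) (by norm_num)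
    · exact absurd (img_injOn g' (by norm_num) (by norm_num) (e.trans e23.symm)) (by norm_num)
    · exact absurd (img_injOn g' (by norm_num) (by norm_num) (e.trans e0.symm)) (by norm_num)
    · have h4 : img (g' * (g' * g')) 2 = 2 := by rw [hg'3, img_one (by norm_num)]
      rw [img_mul g', img_mul g', e2, e, e2] at h4
      norm_num at h4
    · exact absurd (img_injOn g' (by norm_num) (by norm_num) (e.trans e2.symm)) (by norm_num)
  obtain ⟨hok, hcov, hall⟩ := tri_check
  simp only [Bool.and_eq_true, List.all_eq_true] at hok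
  obtain ⟨⟨⟨hC, hR6⟩, hR0⟩, hGs⟩ := hok
  have hx := List.all_eq_true.1 hcov (img g' 3) (List.mem_range.2 (img_lt _ _))
  simp only [Bool.or_eq_true, List.contains_iff_mem, e3, List.any_eq_true, beq_iff_eq, false_or] at hx
  obtain ⟨G, hG, hq⟩ := hx
  obtain ⟨k, hk, hki⟩ := exists_cand hg' (hGs G hG) (by
    rw [hq, base]; simp only [List.map_cons, List.map_nil, e23, e0, e1, e2])
  have h := List.all_eq_true.1 (List.all_eq_true.1 hall G hG) k hk
  simp only [Bool.or_eq_true, Bool.not_eq_true', List.any_eq_true] at h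
  rcases h with h | ⟨C, hCm, h⟩
  · exfalso
    have : ((List.range 24).all fun i => app G (app k (app G (app k (app G (app k i))))) == i) = true := by
      simp only [List.all_eq_true, List.mem_range, beq_iff_eq]
      intro i hi
      have l1 : app G (app k i) < 24 := hki i hi ▸ img_lt _ _
      have l2 : app G (app k (app G (app k i))) < 24 := hki _ l1 ▸ img_lt _ _
      rw [← hki _ l2, ← hki _ l1, ← hki i hi, ← img_mul, ← img_mul, mul_assoc, hg'3, img_one hi]
    rw [this] at h
    exact Bool.noConfusion h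
  · refine ⟨mkPerm C * c, mul_mem (mkPerm_mem_M24 (hC C hCm)) hc, ?_⟩
    have e : mkPerm C * c * g * (mkPerm C * c)⁻¹ = mkPerm C * g' * (mkPerm C)⁻¹ := by
      simp only [g']; group
    rw [e]
    rcases h with h | h
    · exact Or.inl (conj_of_conjB (inM24_ok (hC C hCm)) (inM24_ok hR6) hki h)
    · exact Or.inr (conj_of_conjB (inM24_ok (hC C hCm)) (inM24_ok hR0) hki h)

theorem img_six (σ : Equiv.Perm GolayPt) (f : ℕ → ℕ) (hf : ∀ i, i < 24 → img σ i = f i) {i : ℕ}
    (hi : i < 24) : img (σ ^ 6) i = six f i := by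
  have l1 : f i < 24 := hf i hi ▸ img_lt _ _
  have l2 : f (f i) < 24 := hf _ l1 ▸ img_lt _ _
  have l3 : f (f (f i)) < 24 := hf _ l2 ▸ img_lt _ _
  have l4 : f (f (f (f i))) < 24 := hf _ l3 ▸ img_lt _ _
  have l5 : f (f (f (f (f i)))) < 24 := hf _ l4 ▸ img_lt _ _
  rw [six, ← hf _ l5, ← hf _ l4, ← hf _ l3, ← hf _ l2, ← hf _ l1, ← hf i hi]
  simp only [← img_mul, pow_succ, pow_zero, one_mul, mul_assoc]

theorem sev_classify {g : Equiv.Perm GolayPt} (hg : g ∈ M24) (h7 : g ^ 7 = 1) (h1 : g ≠ 1) :
    ∃ c ∈ M24, c * g * c⁻¹ = mkPerm repS ∨ c * g * c⁻¹ = (mkPerm repS) ^ 6 := by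
  classical
  obtain ⟨a, ha⟩ : ∃ a, g a ≠ a := by
    by_contra h
    push Not at h
    exact h1 (Equiv.ext h)
  have hper : ∀ n, 0 < n → n < 7 → (g ^ n) a ≠ a := by
    intro n hn0 hn7 e
    obtain ⟨m, hm⟩ : ∃ m, n * m % 7 = 1 := by
      have h6 : ∀ n : Fin 7, n.val ≠ 0 → ∃ m : Fin 7, n.val * m.val % 7 = 1 := by decide
      obtain ⟨m, hm⟩ := h6 ⟨n, hn7⟩ (by simp; omega)
      exact ⟨m.val, hm⟩
    have hall : ∀ j : ℕ, ((g ^ n) ^ j) a = a := by
      intro j
      induction j with
      | zero => rfl
      | succ j ih => rw [pow_succ, Equiv.Perm.mul_apply, e, ih]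
    have := hall m
    rw [← pow_mul, ← Nat.div_add_mod (n * m) 7, hm, pow_add, pow_mul, h7, one_pow, one_mul, pow_one] at this
    exact ha this
  have hinj : Function.Injective fun i : Fin 5 => (g ^ i.val) a := by
    intro i j h
    by_contra hne
    wlog hij : i.val < j.val generalizing i j
    · exact this h.symm (Ne.symm hne) (lt_of_le_of_ne (not_lt.1 hij) (fun e => hne (Fin.ext e.symm)))
    refine hper (j.val - i.val) (by omega) (by omega) ?_
    apply (g ^ i.val).injective
    rw [← Equiv.Perm.mul_apply, ← pow_add, show i.val + (j.val - i.val) = j.val by omega]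
    exact h.symm
  obtain ⟨c, hc, hci⟩ := conj_into_base (by norm_num : 5 ≤ 5) _ hinj
  set g' := c * g * c⁻¹
  have hg' : g' ∈ M24 := mul_mem (mul_mem hc hg) (inv_mem hc)
  have hg'7 : g' ^ 7 = 1 := by rw [conj_pow, h7, mul_one, mul_inv_cancel]
  have step : ∀ i : Fin 5, ∀ hi : i.val + 1 < 5, img g' (base.getD i.val 0) = base.getD (i.val + 1) 0 := by
    intro i hi
    refine (conj_apply (hci i)).trans ((congrArg (fun p => img c (num p)) ?_).trans (hci ⟨i.val + 1, hi⟩))
    rw [pow_succ', Equiv.Perm.mul_apply]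
  have e23 : img g' 23 = 0 := step 0 (by norm_num)
  have e0 : img g' 0 = 1 := step 1 (by norm_num)
  have e1 : img g' 1 = 2 := step 2 (by norm_num)
  have e2 : img g' 2 = 3 := step 3 (by norm_num)
  have e3 : img g' 3 ∉ [23, 0, 1, 2, 3] := by
    have hit : img (g' ^ 5) 23 = img g' 3 := by
      simp only [pow_succ', pow_zero, mul_one, img_mul, e23, e0, e1, e2]
    have hper' : ∀ n, 0 < n → n < 7 → img (g' ^ n) 23 ≠ 23 := by
      intro n hn hn7 e
      apply hper n hn hn7
      apply c.injective
      apply num_injective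
      have h23 : img c (num a) = 23 := hci 0
      rw [conj_pow] at e
      have := conj_apply (g := g ^ n) h23
      rw [e] at this
      rw [← img_num c, ← img_num c, h23]
      exact this.symm
    simp only [List.mem_cons, List.not_mem_nil, or_false, not_or]
    refine ⟨fun e => hper' 5 (by norm_num) (by norm_num) (hit.trans e), fun e => ?_, fun e => ?_, fun e => ?_, fun e => ?_⟩
    · exact absurd (img_injOn g' (by norm_num) (by norm_num) (e.trans e23.symm)) (by norm_num)
    · exact absurd (img_injOn g' (by norm_num) (by norm_num) (e.trans e0.symm)) (by norm_num)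
    · exact absurd (img_injOn g' (by norm_num) (by norm_num) (e.trans e1.symm)) (by norm_num)
    · exact absurd (img_injOn g' (by norm_num) (by norm_num) (e.trans e2.symm)) (by norm_num)
  obtain ⟨hok, hcov, hall⟩ := sev_check
  simp only [Bool.and_eq_true, List.all_eq_true] at hok
  obtain ⟨⟨hC, hS⟩, hGs⟩ := hok
  have hx := List.all_eq_true.1 hcov (img g' 3) (List.mem_range.2 (img_lt _ _))
  simp only [Bool.or_eq_true, List.contains_iff_mem, e3, List.any_eq_true, beq_iff_eq, false_or] at hx
  obtain ⟨G, hG, hq⟩ := hx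
  obtain ⟨k, hk, hki⟩ := exists_cand hg' (hGs G hG) (by
    rw [hq, base]; simp only [List.map_cons, List.map_nil, e23, e0, e1, e2])
  have h := List.all_eq_true.1 (List.all_eq_true.1 hall G hG) k hk
  simp only [Bool.or_eq_true, Bool.not_eq_true', List.any_eq_true] at h
  rcases h with h | ⟨C, hCm, h⟩
  · exfalso
    have : ((List.range 24).all fun i => app G (app k (six (fun j => app G (app k j)) i)) == i) = true := by
      simp only [List.all_eq_true, List.mem_range, beq_iff_eq]
      intro i hi
      rw [← img_six g' _ hki hi, ← hki _ (img_lt _ _), ← img_mul, ← pow_succ', hg'7, img_one hi]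
    rw [this] at h
    exact Bool.noConfusion h
  · refine ⟨mkPerm C * c, mul_mem (mkPerm_mem_M24 (hC C hCm)) hc, ?_⟩
    have e : mkPerm C * c * g * (mkPerm C * c)⁻¹ = mkPerm C * g' * (mkPerm C)⁻¹ := by
      simp only [g']; group
    rw [e]
    have hCok := inM24_ok (hC C hCm)
    rcases h with h | h
    · exact Or.inl (conj_of_conjB hCok (inM24_ok hS) hki h)
    · refine Or.inr ?_
      rw [mul_inv_eq_iff_eq_mul]
      refine perm_ext fun i hi => ?_
      have h' := beq_iff_eq.1 (List.all_eq_true.1 h i (List.mem_range.2 hi))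
      rw [img_mul _ g', img_mul _ (mkPerm C), hki i hi, img_mkPerm hCok (hki i hi ▸ img_lt _ _), img_mkPerm hCok hi,
        img_six _ _ (fun j hj => img_mkPerm (inM24_ok hS) hj) (app_lt hCok hi)]
      exact h'

end CfsgLib.Spor.M24Elems
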