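import Cfsg.Agent.Spor.PlaneLabelData
import Cfsg.Agent.Spor.M24Elems
import Cfsg.Agent.Spor.M24Trans
import Cfsg.Agent.S1610
import Cfsg.Agent.Lie.SLn
import Cfsg.Agent.Lie.Orders

/-!
The pointwise stabiliser of three points is PSL(3,4), through a labelling of the plane.
-/

set_option autoImplicit false

namespace CfsgLib.Spor.PlaneLabel

open Cfsg CfsgLib.Spor CfsgLib.Spor.M24Elems Matrix
open Cfsg.Agent.S1610 (addT mulT)

/-- code of a vector -/
def code (v : Fin 3 → Fin 4) : ℕ := (v 0).val + 4 * (v 1).val + 16 * (v 2).val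

/-- a coded vector -/
def dec (n : ℕ) : Fin 3 → Fin 4 :=
  ![⟨n % 4, by omega⟩, ⟨n / 4 % 4, by omega⟩, ⟨n / 16 % 4, by omega⟩]

/-- the scalar multiples -/
def smulV (s : Fin 4) (v : Fin 3 → Fin 4) : Fin 3 → Fin 4 := fun i => mulT s (v i)

/-- the three fixed points -/
def three : List ℕ := [23, 0, 1]

theorem lab_check : ∀ a b c : Fin 4, (a ≠ 0 ∨ b ≠ 0 ∨ c ≠ 0) →
    lab.getD (code ![a, b, c]) 0 < 24 ∧ lab.getD (code ![a, b, c]) 0 ∉ three ∧
    (∀ s : Fin 4, s ≠ 0 → lab.getD (code (smulV s ![a, b, c])) 0 = lab.getD (code ![a, b, c]) 0) ∧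
    ∃ s : Fin 4, s ≠ 0 ∧ ∀ i, dec (rep.getD (lab.getD (code ![a, b, c]) 0) 0) i = smulV s ![a, b, c] i := by
  decide +kernel

theorem rep_check : ∀ n : Fin 24, n.val ∉ three →
    (∃ i, dec (rep.getD n.val 0) i ≠ 0) ∧ lab.getD (code (dec (rep.getD n.val 0))) 0 = n.val := by
  decide +kernel

/-- the packed transvection -/
def tvP (i j : Fin 3) (c : Fin 4) : ℕ := tv.getD (12 * i.val + 4 * j.val + c.val) 0

theorem tv_check : ∀ i j : Fin 3, i ≠ j → ∀ c : Fin 4, inM24 (tvP i j c) = true ∧
    ∀ n : Fin 24, (n.val ∈ three → app (tvP i j c) n.val = n.val) ∧ (n.val ∉ three →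
      app (tvP i j c) n.val = lab.getD (code (Function.update (dec (rep.getD n.val 0)) i
        (addT (dec (rep.getD n.val 0) i) (mulT c (dec (rep.getD n.val 0) j))))) 0) := by
  decide +kernel

theorem chain_check : (m24Chain.take 3).map Level.base = three ∧ 3 < m24Chain.length ∧
    chainSize (m24Chain.drop 3) = 20160 := by decide +kernel

/-- the base group -/
noncomputable def H : Subgroup (Equiv.Perm GolayPt) := gtGroup (chainTop (m24Chain.drop 3))

theorem mem_H {σ : Equiv.Perm GolayPt} : σ ∈ H ↔ σ ∈ M24 ∧ ∀ b ∈ three, σ (pt b) = pt b := by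
  obtain ⟨h1, -⟩ := chain_levels 3 m24Chain M24 m24Chain_ok gtGroup_m24_le
    (by rw [card_M24, m24Chain_size]) chain_check.2.1
  rw [H, h1, ← chain_check.1]
  simp only [List.forall_mem_map]

theorem card_H : Nat.card H = 20160 := by
  obtain ⟨-, h2⟩ := chain_levels 3 m24Chain M24 m24Chain_ok gtGroup_m24_le
    (by rw [card_M24, m24Chain_size]) chain_check.2.1
  exact h2.trans chain_check.2.2

theorem H_equiv (F : Type*) [Field F] [Fintype F] (hF : Fintype.card F = 4) :
    Nonempty (H ≃* Matrix.ProjectiveSpecialLinearGroup (Fin 3) F) := by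
  classical
  obtain ⟨ω, hω⟩ : ∃ ω : F, ω ^ 2 + ω + 1 = 0 := by
    obtain ⟨x, hx0, hx1⟩ : ∃ x : F, x ≠ 0 ∧ x ≠ 1 := by
      by_contra h
      push Not at h
      have : (Finset.univ : Finset F) ⊆ {0, 1} := fun x _ => by
        rcases eq_or_ne x 0 with e | e
        · simp [e]
        · simp [h x e]
      have := Finset.card_le_card this
      rw [Finset.card_univ, hF] at this
      exact absurd (this.trans Finset.card_le_two) (by norm_num)
    have h3 : x ^ 3 = 1 := by
      have := FiniteField.pow_card_sub_one_eq_one x hx0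
      rwa [hF] at this
    exact ⟨x, (mul_eq_zero.1 (by linear_combination h3 : (x - 1) * (x ^ 2 + x + 1) = 0)).resolve_left (sub_ne_zero.2 hx1)⟩
  obtain ⟨hb, hadd, hmul⟩ := Cfsg.Agent.S1610.table F hF ω hω
  set e : Fin 4 → F := ![0, 1, ω, ω ^ 2] with he
  have he0 : ∀ a, e a = 0 ↔ a = 0 := fun a => hb.1.eq_iff' rfl
  let d : F → Fin 4 := (Equiv.ofBijective e hb).symm
  have hde : ∀ a, d (e a) = a := (Equiv.ofBijective e hb).symm_apply_apply
  have hed : ∀ x, e (d x) = x := (Equiv.ofBijective e hb).apply_symm_apply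
  let lbl : (Fin 3 → F) → ℕ := fun x => lab.getD (code fun i => d (x i)) 0
  let rv : ℕ → Fin 3 → F := fun n i => e (dec (rep.getD n 0) i)
  have hlab : ∀ x : Fin 3 → F, x ≠ 0 → lbl x < 24 ∧ lbl x ∉ three ∧
      (∀ s : F, s ≠ 0 → lbl (s • x) = lbl x) ∧ ∃ s : F, s ≠ 0 ∧ rv (lbl x) = s • x := by
    intro x hx
    have hne : d (x 0) ≠ 0 ∨ d (x 1) ≠ 0 ∨ d (x 2) ≠ 0 := by
      by_contra h
      push Not at h
      refine hx (funext fun i => ?_)
      rw [← hed (x i), Pi.zero_apply]
      fin_cases i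
      exacts [(he0 _).2 h.1, (he0 _).2 h.2.1, (he0 _).2 h.2.2]
    have hv : (fun i => d (x i)) = ![d (x 0), d (x 1), d (x 2)] := by
      funext i; fin_cases i <;> rfl
    obtain ⟨h1, h2, h3, s, hs, h4⟩ := lab_check _ _ _ hne
    refine ⟨by simpa only [lbl, hv] using h1, by simpa only [lbl, hv] using h2, fun t ht => ?_, e s,
      fun h => hs ((he0 s).1 h), funext fun i => ?_⟩
    · have := h3 (d t) (fun h => ht (by rw [← hed t, h, (he0 0).2 rfl]))
      rw [← hv] at this
      show lab.getD (code fun i => d ((t • x) i)) 0 = _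
      refine Eq.trans ?_ this
      refine congrArg (fun v => lab.getD (code v) 0) (funext fun i => hb.1 ?_)
      show e (d (t * x i)) = e (mulT (d t) (d (x i)))
      rw [hmul, hed, hed, hed]
    · show e (dec (rep.getD (lab.getD (code fun i => d (x i)) 0) 0) i) = e s * x i
      rw [hv, h4 i, ← hv]
      show e (mulT s (d (x i))) = _
      rw [hmul, hed]
  have hrep : ∀ n, n < 24 → n ∉ three → rv n ≠ 0 ∧ lbl (rv n) = n := by
    intro n hn hn3
    obtain ⟨⟨i, hi⟩, h2⟩ := rep_check ⟨n, hn⟩ hn3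
    refine ⟨fun h => hi ((he0 _).1 (congrFun h i)), ?_⟩
    show lab.getD (code fun i => d (e (dec (rep.getD n 0) i))) 0 = n
    simp only [hde]
    exact h2
  let G := Matrix.SpecialLinearGroup (Fin 3) F
  let ψ : G → GolayPt → GolayPt := fun M p =>
    if num p ∈ three then p else pt (lbl (M.1 *ᵥ rv (num p)))
  have hMne : ∀ (M : G) (x : Fin 3 → F), x ≠ 0 → M.1 *ᵥ x ≠ 0 := by
    intro M x hx h
    refine hx ?_
    have := congrArg (M⁻¹.1 *ᵥ ·) h
    simpa [Matrix.mulVec_mulVec, show M⁻¹.1 * M.1 = 1 from congrArg Subtype.val (inv_mul_cancel M)] using this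
  have hψ1 : ψ 1 = id := by
    funext p
    show (if num p ∈ three then p else pt (lbl ((1 : Matrix (Fin 3) (Fin 3) F) *ᵥ rv (num p)))) = p
    split_ifs with h
    · rfl
    · rw [Matrix.one_mulVec, (hrep _ (num_lt p) h).2, pt_num]
  have hψmul : ∀ M N, ψ (M * N) = ψ M ∘ ψ N := by
    intro M N
    funext p
    by_cases h : num p ∈ three
    · simp only [ψ, Function.comp, if_pos h]
    · obtain ⟨hlt, hnot, -, s, hs, hrv⟩ := hlab (N.1 *ᵥ rv (num p)) (hMne N _ (hrep _ (num_lt p) h).1)
      simp only [ψ, Function.comp, if_neg h, num_pt hlt, if_neg hnot, hrv, Matrix.mulVec_smul]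
      rw [(hlab _ (hMne M _ (hMne N _ (hrep _ (num_lt p) h).1))).2.2.1 s hs, Matrix.mulVec_mulVec]
      rfl
  let π : G →* Equiv.Perm GolayPt := MonoidHom.mk'
    (fun M => ⟨ψ M, ψ M⁻¹, fun p => by rw [← Function.comp_apply (f := ψ M⁻¹), ← hψmul, inv_mul_cancel, hψ1]; rfl,
      fun p => by rw [← Function.comp_apply (f := ψ M), ← hψmul, mul_inv_cancel, hψ1]; rfl⟩)
    (fun M N => Equiv.ext fun p => congrFun (hψmul M N) p)
  have hgen : ∀ (i j : Fin 3) (hij : i ≠ j) (c : F), π (SpecialLinearGroup.transvection hij c) ∈ H := by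
    intro i j hij c
    obtain ⟨hM, hrow⟩ := tv_check i j hij (d c)
    have heq : π (SpecialLinearGroup.transvection hij c) = mkPerm (tvP i j (d c)) := by
      refine Equiv.ext fun p => num_injective ?_
      rw [num_mkPerm (inM24_ok hM)]
      obtain ⟨r1, r2⟩ := hrow ⟨num p, num_lt p⟩
      show num (ψ _ p) = _
      by_cases h : num p ∈ three
      · rw [show ψ (SpecialLinearGroup.transvection hij c) p = p from if_pos h]; exact (r1 h).symm
      · rw [show ψ (SpecialLinearGroup.transvection hij c) p =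
          pt (lbl (Matrix.transvection i j c *ᵥ rv (num p))) from if_neg h]
        obtain ⟨hlt, -⟩ := hlab _ (hMne (SpecialLinearGroup.transvection hij c) _ (hrep _ (num_lt p) h).1)
        rw [CfsgLib.Lie.SLn.tv_coe] at hlt
        rw [num_pt hlt, r2 h]
        refine congrArg (fun v => lab.getD (code v) 0) (funext fun k => hb.1 ?_)
        rw [hed, CfsgLib.Lie.SLn.transv_mulVec_apply]
        by_cases hk : k = i
        · subst hk
          rw [Function.update_self, hadd, hmul, hed, if_pos rfl]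
        · rw [Function.update_of_ne hk, if_neg hk, add_zero]
    rw [heq, mem_H]
    refine ⟨mkPerm_mem_M24 hM, fun b hb' => num_injective ?_⟩
    have hb24 : b < 24 := by fin_cases hb' <;> norm_num
    rw [num_mkPerm (inM24_ok hM), num_pt hb24]
    exact (hrow ⟨b, hb24⟩).1 hb'
  have hrange : π.range ≤ H := by
    rw [MonoidHom.range_eq_map, Subgroup.map_le_iff_le_comap,
      CfsgLib.Lie.SLn.eq_top_of_transvection_mem (H.comap π) hgen]
  have hker : π.ker = Subgroup.center G := by
    ext M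
    rw [MonoidHom.mem_ker, Matrix.SpecialLinearGroup.mem_center_iff]
    constructor
    · intro h
      have hfix : ∀ v : Fin 3 → Fin 4, (fun i => e (v i)) ≠ 0 → ∃ t : F, M.1 *ᵥ (fun i => e (v i)) = t • fun i => e (v i) := by
        intro v hv
        obtain ⟨hlt, hnot, -, s, hs, hrv⟩ := hlab _ hv
        have hp : pt (lbl (M.1 *ᵥ rv (lbl fun i => e (v i)))) = pt (lbl fun i => e (v i)) := by
          have := congrFun (congrArg DFunLike.coe h) (pt (lbl fun i => e (v i)))
          simpa [π, ψ, num_pt hlt, hnot] using this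
        rw [hrv, Matrix.mulVec_smul, (hlab _ (hMne M _ hv)).2.2.1 s hs] at hp
        have hl := congrArg num hp
        rw [num_pt (hlab _ (hMne M _ hv)).1, num_pt hlt] at hl
        obtain ⟨-, -, -, t, ht, htv⟩ := hlab _ (hMne M _ hv)
        rw [hl, hrv] at htv
        refine ⟨t⁻¹ * s, ?_⟩
        rw [mul_smul, htv, smul_smul, inv_mul_cancel₀ ht, one_smul]
      obtain ⟨a, ha⟩ := hfix ![1, 0, 0] (fun h => by simpa [e] using congrFun h 0)
      obtain ⟨b, hb2⟩ := hfix ![0, 1, 0] (fun h => by simpa [e] using congrFun h 1)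
      obtain ⟨c, hc⟩ := hfix ![0, 0, 1] (fun h => by simpa [e] using congrFun h 2)
      obtain ⟨t, ht⟩ := hfix ![1, 1, 1] (fun h => by simpa [e] using congrFun h 0)
      have a0 := congrFun ha 0; have a1 := congrFun ha 1; have a2 := congrFun ha 2
      have b0 := congrFun hb2 0; have b1 := congrFun hb2 1; have b2 := congrFun hb2 2
      have c0 := congrFun hc 0; have c1 := congrFun hc 1; have c2 := congrFun hc 2
      have t0 := congrFun ht 0; have t1 := congrFun ht 1; have t2 := congrFun ht 2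
      simp [e, Matrix.mulVec, dotProduct, Fin.sum_univ_three] at a0 a1 a2 b0 b1 b2 c0 c1 c2 t0 t1 t2
      have hsc : Matrix.scalar (Fin 3) t = M.1 := by
        ext i j
        fin_cases i <;> fin_cases j <;> simp_all
      refine ⟨t, ?_, hsc⟩
      have := M.2
      rw [← hsc] at this
      simpa using this
    · rintro ⟨r, hr, hM⟩
      refine Equiv.ext fun p => ?_
      show (if num p ∈ three then p else pt (lbl (M.1 *ᵥ rv (num p)))) = p
      split_ifs with h
      · rfl
      · have hr0 : r ≠ 0 := fun h0 => by simp [h0] at hr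
        have : M.1 *ᵥ rv (num p) = r • rv (num p) := by
          rw [← hM]; funext i; simp [Matrix.mulVec_diagonal]
        rw [this, (hlab _ (hrep _ (num_lt p) h).1).2.2.1 r hr0, (hrep _ (num_lt p) h).2, pt_num]
  have hcard : Nat.card (Matrix.ProjectiveSpecialLinearGroup (Fin 3) F) = 20160 := by
    have h1 := CfsgLib.Lie.Orders.card_PSL_mul (n := Fin 3) (F := F)
    have h2 := CfsgLib.Lie.Orders.card_SL_mul hF 3 (by norm_num)
    rw [Nat.card_eq_fintype_card (α := F), hF, Fintype.card_fin,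
      show Nat.gcd 3 (4 - 1) = 3 from rfl] at h1
    rw [Fin.prod_univ_three] at h2
    norm_num at h2
    show Nat.card (Matrix.ProjectiveSpecialLinearGroup (Fin 3) F) = 20160
    rw [← Nat.card_eq_fintype_card] at h2; omega
  let q : Matrix.ProjectiveSpecialLinearGroup (Fin 3) F ≃* π.range :=
    (QuotientGroup.quotientMulEquivOfEq hker.symm).trans (QuotientGroup.quotientKerEquivRange π)
  have htop : π.range = H := by
    refine Subgroup.eq_of_le_of_card_ge hrange ?_
    rw [card_H, ← Nat.card_congr q.toEquiv, hcard]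
  exact ⟨((MulEquiv.subgroupCongr htop.symm).trans q.symm)⟩

end CfsgLib.Spor.PlaneLabel
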