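import Cfsg.Agent.Spor.Joint

/-!
The pointwise and setwise stabilisers of an octad.
-/

set_option autoImplicit false

namespace CfsgLib.Spor

open Cfsg
open scoped Pointwise

/-- pointwise fixer of an octad in the automorphism group of the code -/
abbrev octFix (o : Finset GolayPt) : Subgroup (Equiv.Perm GolayPt) :=
  M24 ⊓ fixingSubgroup (Equiv.Perm GolayPt) (o : Set GolayPt)

theorem mem_octFix {o : Finset GolayPt} {g : Equiv.Perm GolayPt} :
    g ∈ octFix o ↔ g ∈ M24 ∧ ∀ p ∈ o, g p = p := by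
  rw [octFix, Subgroup.mem_inf, mem_fixingSubgroup_iff]; rfl

/-- commutation test for packed permutations -/
def commB (P Q : ℕ) : Bool := (List.range 24).all fun i => app P (app Q i) == app Q (app P i)

theorem octTail_check :
    ((chainTop (octC.drop 6)).all fun g => okP g.P && (List.range 24).all fun i =>
      (!(octX.testBit i) || app g.P i == i) && app g.P (app g.P i) == i) = true ∧
    ((chainTop (octC.drop 6)).all fun g => (chainTop (octC.drop 6)).all fun h => commB g.P h.P) = true ∧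
    transOK (octC.drop 6) (FULL ^^^ octX) 1 = true ∧ chainSize ((octC.drop 6).drop 1) = 1 ∧
    6 ≤ octC.length ∧ ((octC.take 6).all fun l => octX.testBit (l.base % 24)) = true := by
  decide +kernel

theorem octFix_O0 : octFix O0 = gtGroup (chainTop (octC.drop 6)) := by
  obtain ⟨h1, -⟩ := chain_levels_all octC _ (by
    have := octC_ok.1; simp only [transOK, Bool.and_eq_true] at this; exact this.1.1.1.1.1)
    octC_sub octC_card 6 octTail_check.2.2.2.2.1
  obtain ⟨hg1, -, -, -, -, hb⟩ := octTail_check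
  apply le_antisymm
  · intro σ hσ
    obtain ⟨hM, hfix⟩ := mem_octFix.1 hσ
    refine (h1 σ).2 ⟨?_, fun l hl => hfix _ ?_⟩
    · rw [← stab_O0_eq]
      refine Subgroup.mem_inf.2 ⟨hM, MulAction.mem_stabilizer_iff.2 ?_⟩
      rw [smul_eq_image]
      exact (Finset.image_congr fun p hp => hfix p hp).trans Finset.image_id
    · have hbit : octX.testBit (l.base % 24) = true := List.all_eq_true.1 hb l hl
      rw [O0, mem_ofMask, num, pt, Equiv.apply_symm_apply, Fin.val_ofNat]
      exact hbit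
  · intro σ hσ
    have hst := ((h1 σ).1 hσ).1
    rw [← stab_O0_eq] at hst
    refine mem_octFix.2 ⟨hst.1, ?_⟩
    suffices h : gtGroup (chainTop (octC.drop 6)) ≤
        fixingSubgroup (Equiv.Perm GolayPt) (O0 : Set GolayPt) from
      fun p hp => (mem_fixingSubgroup_iff _).1 (h hσ) p hp
    refine gtGroup_le fun g hg => (mem_fixingSubgroup_iff _).2 fun p hp => ?_
    have hgg := List.all_eq_true.1 hg1 g hg
    simp only [Bool.and_eq_true, List.all_eq_true, Bool.or_eq_true, Bool.not_eq_true',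
      List.mem_range, beq_iff_eq] at hgg
    have hb' : octX.testBit (num p) = true := mem_ofMask.1 hp
    rcases (hgg.2 (num p) (num_lt p)).1 with h | h
    · rw [hb'] at h; exact absurd h (by simp)
    · show mkPerm g.P p = p
      exact num_injective (by rw [num_mkPerm hgg.1, h])

theorem octFix_O0_elem {g : Equiv.Perm GolayPt} (hg : g ∈ octFix O0) : g * g = 1 := by
  rw [octFix_O0] at hg
  obtain ⟨hg1, hg2, -⟩ := octTail_check
  have hgen : ∀ a ∈ {σ | ∃ t ∈ chainTop (octC.drop 6), t.perm = σ},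
      a * a = 1 ∧ ∀ b ∈ {σ | ∃ t ∈ chainTop (octC.drop 6), t.perm = σ}, a * b = b * a := by
    rintro _ ⟨t, ht, rfl⟩
    have h1 := List.all_eq_true.1 hg1 t ht
    simp only [Bool.and_eq_true, List.all_eq_true, List.mem_range, beq_iff_eq] at h1
    refine ⟨Equiv.ext fun p => num_injective ?_, ?_⟩
    · rw [Equiv.Perm.mul_apply, GT.perm, num_mkPerm h1.1, num_mkPerm h1.1,
        (h1.2 _ (num_lt p)).2]
      rfl
    rintro _ ⟨u, hu, rfl⟩
    have h3 := List.all_eq_true.1 (List.all_eq_true.1 hg2 t ht) u hu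
    have h1u := List.all_eq_true.1 hg1 u hu
    simp only [Bool.and_eq_true] at h1u
    simp only [commB, List.all_eq_true, List.mem_range, beq_iff_eq] at h3
    refine Equiv.ext fun p => num_injective ?_
    rw [Equiv.Perm.mul_apply, Equiv.Perm.mul_apply, GT.perm, GT.perm, num_mkPerm h1.1,
      num_mkPerm h1u.1, num_mkPerm h1u.1, num_mkPerm h1.1, h3 _ (num_lt p)]
  have key : ∀ a ∈ gtGroup (chainTop (octC.drop 6)), a * a = 1 ∧
      ∀ b ∈ {σ | ∃ t ∈ chainTop (octC.drop 6), t.perm = σ}, a * b = b * a := by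
    intro a ha
    induction ha using Subgroup.closure_induction'' with
    | one => simp
    | mem x hx => exact hgen x hx
    | inv_mem x hx =>
      have hxx := (hgen x hx).1
      rw [show x⁻¹ = x from inv_eq_of_mul_eq_one_right hxx]
      exact hgen x hx
    | mul x y hx hy hxi hyi =>
      have hcomm : x * y = y * x := by
        clear hyi
        induction hy using Subgroup.closure_induction'' with
        | one => simp
        | mem z hz => exact hxi.2 z hz
        | inv_mem z hz => rw [show z⁻¹ = z from inv_eq_of_mul_eq_one_right (hgen z hz).1]; exact hxi.2 z hz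
        | mul z w _ _ hz hw => rw [← mul_assoc, hz, mul_assoc, hw, mul_assoc]
      refine ⟨?_, fun b hb => ?_⟩
      · calc x * y * (x * y) = x * y * (y * x) := by rw [← hcomm]
          _ = x * (y * y) * x := by group
          _ = 1 := by rw [hyi.1, mul_one, hxi.1]
      · rw [mul_assoc, hyi.2 b hb, ← mul_assoc, hxi.2 b hb, mul_assoc]
  exact (key g hg).1

theorem octFix_conj {σ : Equiv.Perm GolayPt} (hσ : σ ∈ M24) {o : Finset GolayPt}
    {g : Equiv.Perm GolayPt} : g ∈ octFix (σ • o) ↔ σ⁻¹ * g * σ ∈ octFix o := by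
  rw [mem_octFix, mem_octFix]
  constructor
  · rintro ⟨hg, hfix⟩
    refine ⟨mul_mem (mul_mem (inv_mem hσ) hg) hσ, fun p hp => ?_⟩
    rw [Equiv.Perm.mul_apply, Equiv.Perm.mul_apply, hfix _ (mem_smul_iff.2 hp)]
    simp
  · rintro ⟨hg, hfix⟩
    refine ⟨?_, fun p hp => ?_⟩
    · have := mul_mem (mul_mem hσ hg) (inv_mem hσ)
      simpa [mul_assoc] using this
    · obtain ⟨q, rfl⟩ := σ.surjective p
      have := congrArg σ (hfix q (mem_smul_iff.1 hp))
      simpa [Equiv.Perm.mul_apply] using this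

theorem card_octFix {o : Finset GolayPt} (ho : o ∈ octads) :
    Nat.card ↥(octFix o) = 16 ∧ ∀ g ∈ octFix o, g * g = 1 := by
  obtain ⟨σ, hσ, rfl⟩ := octad_std ho
  constructor
  · have e : Nat.card ↥(octFix (σ • O0)) = Nat.card ↥(octFix O0) :=
      Nat.card_congr
        { toFun := fun g => ⟨σ⁻¹ * g * σ, (octFix_conj hσ).1 g.2⟩
          invFun := fun g => ⟨σ * g * σ⁻¹, (octFix_conj hσ).2 (by simpa [mul_assoc] using g.2)⟩
          left_inv := fun g => Subtype.ext (show σ * (σ⁻¹ * g.1 * σ) * σ⁻¹ = g.1 by group)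
          right_inv := fun g => Subtype.ext (show σ⁻¹ * (σ * g.1 * σ⁻¹) * σ = g.1 by group) }
    obtain ⟨-, h2⟩ := chain_levels_all octC _ (by
      have := octC_ok.1; simp only [transOK, Bool.and_eq_true] at this; exact this.1.1.1.1.1)
      octC_sub octC_card 6 octTail_check.2.2.2.2.1
    rw [e, octFix_O0, h2]
    exact octC_ok.2.2.2
  · intro g hg
    have h := octFix_O0_elem ((octFix_conj hσ).1 hg)
    calc g * g = σ * ((σ⁻¹ * g * σ) * (σ⁻¹ * g * σ)) * σ⁻¹ := by group
      _ = 1 := by rw [h]; group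

theorem octFix_sharp {o : Finset GolayPt} (ho : o ∈ octads) {p q : GolayPt} (hp : p ∉ o) (hq : q ∉ o) :
    (∃ k ∈ octFix o, k p = q) ∧ ∀ k ∈ octFix o, k p = p → k = 1 := by
  obtain ⟨σ, hσ, rfl⟩ := octad_std ho
  have hm : ∀ w : GolayPt, w ∉ σ • O0 → σ⁻¹ w ∈ ofMask (FULL ^^^ octX) := by
    intro w hw
    rw [ofMask_compl, Finset.mem_compl]
    intro h
    apply hw
    have h2 := mem_smul_iff (σ := σ).2 h
    simpa [O0] using h2
  have hcard := (card_octFix O0_mem).1
  rw [octFix_O0] at hcard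
  have hc : Nat.card (gtGroup (chainTop (octC.drop 6))) ≤ chainSize (octC.drop 6) :=
    le_of_eq (hcard.trans octC_ok.2.2.2.symm)
  obtain ⟨⟨g, hg, hgx⟩, h1⟩ := transitive_of_chain le_rfl hc octTail_check.2.2.1
    (⟨fun _ => σ⁻¹ p, fun a b _ => Subsingleton.elim a b⟩ : Fin 1 ↪ GolayPt)
    ⟨fun _ => σ⁻¹ q, fun a b _ => Subsingleton.elim a b⟩ (fun _ => hm p hp) (fun _ => hm q hq)
  obtain ⟨-, h1'⟩ := transitive_of_chain le_rfl hc octTail_check.2.2.1
    (⟨fun _ => σ⁻¹ p, fun a b _ => Subsingleton.elim a b⟩ : Fin 1 ↪ GolayPt)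
    ⟨fun _ => σ⁻¹ p, fun a b _ => Subsingleton.elim a b⟩ (fun _ => hm p hp) (fun _ => hm p hp)
  rw [octTail_check.2.2.2.1] at h1'
  rw [← octFix_O0] at hg
  refine ⟨⟨σ * g * σ⁻¹, (octFix_conj hσ).2 (by simpa [mul_assoc] using hg), ?_⟩, fun k hk hkp => ?_⟩
  · rw [Equiv.Perm.mul_apply, Equiv.Perm.mul_apply, show g (σ⁻¹ p) = σ⁻¹ q from hgx 0]
    simp
  · have hk' := (octFix_conj hσ).1 hk
    rw [octFix_O0] at hk'
    have h2 := @Subsingleton.elim _ (Nat.card_eq_one_iff_unique.1 h1').1
      (⟨σ⁻¹ * k * σ, hk', fun _ => by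
        show (σ⁻¹ * k * σ) (σ⁻¹ p) = σ⁻¹ p
        simp [hkp]⟩ : {t : Equiv.Perm GolayPt // t ∈ gtGroup (chainTop (octC.drop 6)) ∧
          ∀ i, t ((⟨fun _ => σ⁻¹ p, fun a b _ => Subsingleton.elim a b⟩ : Fin 1 ↪ GolayPt) i) =
            (⟨fun _ => σ⁻¹ p, fun a b _ => Subsingleton.elim a b⟩ : Fin 1 ↪ GolayPt) i})
      ⟨1, one_mem _, fun _ => rfl⟩
    have h3 : σ⁻¹ * k * σ = 1 := congrArg Subtype.val h2
    have : k = σ * (σ⁻¹ * k * σ) * σ⁻¹ := by group
    rw [this, h3]; group

/-- setwise stabiliser of an octad in the automorphism group of the code -/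
abbrev octStabG (o : Finset GolayPt) : Subgroup (Equiv.Perm GolayPt) :=
  M24 ⊓ MulAction.stabilizer (Equiv.Perm GolayPt) o

theorem octFix_le_stab (o : Finset GolayPt) : octFix o ≤ octStabG o := by
  intro g hg
  obtain ⟨hM, hfix⟩ := mem_octFix.1 hg
  refine Subgroup.mem_inf.2 ⟨hM, MulAction.mem_stabilizer_iff.2 ?_⟩
  rw [smul_eq_image]
  exact (Finset.image_congr fun p hp => hfix p hp).trans Finset.image_id

/-- restriction to the octad -/
noncomputable def octRestrict (o : Finset GolayPt) : ↥(octStabG o) →* Equiv.Perm ↥o :=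
  restrictHom (octStabG o) o fun _ hg => MulAction.mem_stabilizer_iff.1 hg.2

theorem octRestrict_range {o : Finset GolayPt} (ho : o ∈ octads) :
    (octRestrict o).range = alternatingGroup ↥o := by
  have hH : Nat.card ↥(octStabG o) = 322560 := (card_stab_M24 o).symm.trans (card_stab_octad ho)
  have hker : Nat.card (octRestrict o).ker = 16 := by
    rw [← (card_octFix ho).1]
    refine Nat.card_congr
      { toFun := fun g => ⟨g.1, mem_octFix.2 ⟨g.1.2.1, fun p hp => ?_⟩⟩
        invFun := fun g => ⟨⟨g.1, octFix_le_stab o g.2⟩, ?_⟩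
        left_inv := fun _ => rfl
        right_inv := fun _ => rfl }
    · exact congrArg (fun t : Equiv.Perm ↥o => ((t ⟨p, hp⟩ : ↥o) : GolayPt)) (MonoidHom.mem_ker.1 g.2)
    · rw [MonoidHom.mem_ker]
      exact Equiv.ext fun p => Subtype.ext ((mem_octFix.1 g.2).2 p p.2)
  have h1 := Subgroup.index_mul_card (octRestrict o).ker
  rw [Subgroup.index_ker, hker, hH] at h1
  apply Equiv.Perm.eq_alternatingGroup_of_index_eq_two
  have h2 := Subgroup.index_mul_card (octRestrict o).range
  rw [Nat.card_eq_fintype_card (α := Equiv.Perm ↥o), Fintype.card_perm, Fintype.card_coe, ho.2] at h2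
  have h3 : Nat.card ↥(octRestrict o).range = 20160 := by omega
  rw [h3, show Nat.factorial 8 = 40320 from rfl] at h2
  omega

end CfsgLib.Spor
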