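import Cfsg.Agent.Spor.SubInv2
import Cfsg.Agent.Spor.SubOctOct
import Cfsg.Agent.Spor.SubDodDod
import Cfsg.Agent.Spor.SubDodOct

/-!
Octads and dodecads sorted by their intersection with a fixed octad or dodecad.
-/

set_option autoImplicit false

namespace CfsgLib.Spor

open Cfsg
open scoped Pointwise

/-- suborbit representatives -/
def ooReps : List (Finset GolayPt) := [maskK.dec ooX0, maskK.dec ooX1, maskK.dec ooX2, maskK.dec ooX3]

theorem oo_inv : ooReps.map (fun z => (O0 ∩ z).card) = [8, 0, 4, 2] := by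
  simp only [ooReps, O0, maskK, List.map_cons, List.map_nil, maskInter_card]
  decide +kernel

theorem oo_inv_nodup : (ooReps.map (fun z => (O0 ∩ z).card)).Nodup := by
  rw [oo_inv]; decide

theorem oo_invariant (g : gtGroup (chainTop octStab)) (x : Finset GolayPt) :
    (O0 ∩ g • x).card = (O0 ∩ x).card := inter_card_invariant stab_O0_eq g x

theorem oo_full : octads = {y | ∃ z ∈ ooReps, y ∈ MulAction.orbit (gtGroup (chainTop octStab)) z} :=
  orbits_cover_inv (Set.toFinite _) ooReps [1, 30, 280, 448] (fun z => (O0 ∩ z).card) oo_invariant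
    oo_inv_nodup oo_sizes
    (fun z hz => orbit_sub_subset octT (stab_O0_eq ▸ inf_le_left) (oo_mem z hz))
    (by rw [ncard_octads]; norm_num)

theorem oo_move {σ : Equiv.Perm GolayPt} (hσ : σ ∈ M24) {x y : Finset GolayPt}
    (hx : x ∈ octads) (hy : y ∈ octads) (h : (σ • O0 ∩ x).card = (σ • O0 ∩ y).card) :
    ∃ g ∈ M24, g • σ • O0 = σ • O0 ∧ g • x = y :=
  move_pair octT.smul_mem stab_O0_eq ooReps oo_full oo_inv_nodup hσ hx hy h

theorem oo_cases {σ : Equiv.Perm GolayPt} (hσ : σ ∈ M24) {x : Finset GolayPt} (hx : x ∈ octads) :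
    (σ • O0 ∩ x).card ∈ ([8, 0, 4, 2] : List ℕ) := by
  have hx' := octT.smul_mem _ (inv_mem hσ) x hx
  rw [show octT.carrier = octads from rfl, oo_full] at hx'
  obtain ⟨z, hz, g, hg⟩ := hx'
  have e : (σ • O0 ∩ x).card = (O0 ∩ z).card := by
    rw [← smul_inv_smul σ x, inter_smul_card, ← show g • z = σ⁻¹ • x from hg]
    exact oo_invariant g z
  rw [e, ← oo_inv]
  exact List.mem_map.2 ⟨z, hz, rfl⟩

theorem oo_count8 {σ : Equiv.Perm GolayPt} (hσ : σ ∈ M24) :
    {x | x ∈ octads ∧ (σ • O0 ∩ x).card = 8}.ncard = 1 := by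
  rw [ncard_inter_fibre (C := octads) octT.smul_mem hσ]
  have hk : (O0 ∩ maskK.dec ooX0).card = 8 := by
    simp only [O0, maskK, maskInter_card]; decide +kernel
  have h := fibre_eq_orbit ooReps oo_full (fun z => (O0 ∩ z).card) oo_invariant
    oo_inv_nodup (z := maskK.dec ooX0) (by simp [ooReps])
  simp only [hk] at h
  rw [h]
  exact oo_exact0.2.2

theorem oo_count0 {σ : Equiv.Perm GolayPt} (hσ : σ ∈ M24) :
    {x | x ∈ octads ∧ (σ • O0 ∩ x).card = 0}.ncard = 30 := by
  rw [ncard_inter_fibre (C := octads) octT.smul_mem hσ]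
  have hk : (O0 ∩ maskK.dec ooX1).card = 0 := by
    simp only [O0, maskK, maskInter_card]; decide +kernel
  have h := fibre_eq_orbit ooReps oo_full (fun z => (O0 ∩ z).card) oo_invariant
    oo_inv_nodup (z := maskK.dec ooX1) (by simp [ooReps])
  simp only [hk] at h
  rw [h]
  exact oo_exact1.2.2

theorem oo_count4 {σ : Equiv.Perm GolayPt} (hσ : σ ∈ M24) :
    {x | x ∈ octads ∧ (σ • O0 ∩ x).card = 4}.ncard = 280 := by
  rw [ncard_inter_fibre (C := octads) octT.smul_mem hσ]
  have hk : (O0 ∩ maskK.dec ooX2).card = 4 := by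
    simp only [O0, maskK, maskInter_card]; decide +kernel
  have h := fibre_eq_orbit ooReps oo_full (fun z => (O0 ∩ z).card) oo_invariant
    oo_inv_nodup (z := maskK.dec ooX2) (by simp [ooReps])
  simp only [hk] at h
  rw [h]
  exact oo_exact2.2.2

theorem oo_count2 {σ : Equiv.Perm GolayPt} (hσ : σ ∈ M24) :
    {x | x ∈ octads ∧ (σ • O0 ∩ x).card = 2}.ncard = 448 := by
  rw [ncard_inter_fibre (C := octads) octT.smul_mem hσ]
  have hk : (O0 ∩ maskK.dec ooX3).card = 2 := by
    simp only [O0, maskK, maskInter_card]; decide +kernel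
  have h := fibre_eq_orbit ooReps oo_full (fun z => (O0 ∩ z).card) oo_invariant
    oo_inv_nodup (z := maskK.dec ooX3) (by simp [ooReps])
  simp only [hk] at h
  rw [h]
  exact oo_exact3.2.2

/-- suborbit representatives -/
def ddReps : List (Finset GolayPt) := [maskK.dec ddX0, maskK.dec ddX1, maskK.dec ddX2, maskK.dec ddX3, maskK.dec ddX4]

theorem dd_inv : ddReps.map (fun z => (D0 ∩ z).card) = [12, 0, 8, 4, 6] := by
  simp only [ddReps, D0, maskK, List.map_cons, List.map_nil, maskInter_card]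
  decide +kernel

theorem dd_inv_nodup : (ddReps.map (fun z => (D0 ∩ z).card)).Nodup := by
  rw [dd_inv]; decide

theorem dd_invariant (g : gtGroup (chainTop dodStab)) (x : Finset GolayPt) :
    (D0 ∩ g • x).card = (D0 ∩ x).card := inter_card_invariant stab_D0_eq g x

theorem dd_full : dodecads = {y | ∃ z ∈ ddReps, y ∈ MulAction.orbit (gtGroup (chainTop dodStab)) z} :=
  orbits_cover_inv (Set.toFinite _) ddReps [1, 1, 495, 495, 1584] (fun z => (D0 ∩ z).card) dd_invariant
    dd_inv_nodup dd_sizes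
    (fun z hz => orbit_sub_subset dodT (stab_D0_eq ▸ inf_le_left) (dd_mem z hz))
    (by rw [ncard_dodecads]; norm_num)

theorem dd_move {σ : Equiv.Perm GolayPt} (hσ : σ ∈ M24) {x y : Finset GolayPt}
    (hx : x ∈ dodecads) (hy : y ∈ dodecads) (h : (σ • D0 ∩ x).card = (σ • D0 ∩ y).card) :
    ∃ g ∈ M24, g • σ • D0 = σ • D0 ∧ g • x = y :=
  move_pair dodT.smul_mem stab_D0_eq ddReps dd_full dd_inv_nodup hσ hx hy h

theorem dd_cases {σ : Equiv.Perm GolayPt} (hσ : σ ∈ M24) {x : Finset GolayPt} (hx : x ∈ dodecads) :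
    (σ • D0 ∩ x).card ∈ ([12, 0, 8, 4, 6] : List ℕ) := by
  have hx' := dodT.smul_mem _ (inv_mem hσ) x hx
  rw [show dodT.carrier = dodecads from rfl, dd_full] at hx'
  obtain ⟨z, hz, g, hg⟩ := hx'
  have e : (σ • D0 ∩ x).card = (D0 ∩ z).card := by
    rw [← smul_inv_smul σ x, inter_smul_card, ← show g • z = σ⁻¹ • x from hg]
    exact dd_invariant g z
  rw [e, ← dd_inv]
  exact List.mem_map.2 ⟨z, hz, rfl⟩

theorem dd_count12 {σ : Equiv.Perm GolayPt} (hσ : σ ∈ M24) :
    {x | x ∈ dodecads ∧ (σ • D0 ∩ x).card = 12}.ncard = 1 := by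
  rw [ncard_inter_fibre (C := dodecads) dodT.smul_mem hσ]
  have hk : (D0 ∩ maskK.dec ddX0).card = 12 := by
    simp only [D0, maskK, maskInter_card]; decide +kernel
  have h := fibre_eq_orbit ddReps dd_full (fun z => (D0 ∩ z).card) dd_invariant
    dd_inv_nodup (z := maskK.dec ddX0) (by simp [ddReps])
  simp only [hk] at h
  rw [h]
  exact dd_exact0.2.2

theorem dd_count0 {σ : Equiv.Perm GolayPt} (hσ : σ ∈ M24) :
    {x | x ∈ dodecads ∧ (σ • D0 ∩ x).card = 0}.ncard = 1 := by
  rw [ncard_inter_fibre (C := dodecads) dodT.smul_mem hσ]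
  have hk : (D0 ∩ maskK.dec ddX1).card = 0 := by
    simp only [D0, maskK, maskInter_card]; decide +kernel
  have h := fibre_eq_orbit ddReps dd_full (fun z => (D0 ∩ z).card) dd_invariant
    dd_inv_nodup (z := maskK.dec ddX1) (by simp [ddReps])
  simp only [hk] at h
  rw [h]
  exact dd_exact1.2.2

theorem dd_count8 {σ : Equiv.Perm GolayPt} (hσ : σ ∈ M24) :
    {x | x ∈ dodecads ∧ (σ • D0 ∩ x).card = 8}.ncard = 495 := by
  rw [ncard_inter_fibre (C := dodecads) dodT.smul_mem hσ]
  have hk : (D0 ∩ maskK.dec ddX2).card = 8 := by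
    simp only [D0, maskK, maskInter_card]; decide +kernel
  have h := fibre_eq_orbit ddReps dd_full (fun z => (D0 ∩ z).card) dd_invariant
    dd_inv_nodup (z := maskK.dec ddX2) (by simp [ddReps])
  simp only [hk] at h
  rw [h]
  exact dd_exact2.2.2

theorem dd_count4 {σ : Equiv.Perm GolayPt} (hσ : σ ∈ M24) :
    {x | x ∈ dodecads ∧ (σ • D0 ∩ x).card = 4}.ncard = 495 := by
  rw [ncard_inter_fibre (C := dodecads) dodT.smul_mem hσ]
  have hk : (D0 ∩ maskK.dec ddX3).card = 4 := by
    simp only [D0, maskK, maskInter_card]; decide +kernel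
  have h := fibre_eq_orbit ddReps dd_full (fun z => (D0 ∩ z).card) dd_invariant
    dd_inv_nodup (z := maskK.dec ddX3) (by simp [ddReps])
  simp only [hk] at h
  rw [h]
  exact dd_exact3.2.2

theorem dd_count6 {σ : Equiv.Perm GolayPt} (hσ : σ ∈ M24) :
    {x | x ∈ dodecads ∧ (σ • D0 ∩ x).card = 6}.ncard = 1584 := by
  rw [ncard_inter_fibre (C := dodecads) dodT.smul_mem hσ]
  have hk : (D0 ∩ maskK.dec ddX4).card = 6 := by
    simp only [D0, maskK, maskInter_card]; decide +kernel
  have h := fibre_eq_orbit ddReps dd_full (fun z => (D0 ∩ z).card) dd_invariant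
    dd_inv_nodup (z := maskK.dec ddX4) (by simp [ddReps])
  simp only [hk] at h
  rw [h]
  exact dd_exact4.2.2

/-- suborbit representatives -/
def dOReps : List (Finset GolayPt) := [maskK.dec dOX0, maskK.dec dOX1, maskK.dec dOX2]

theorem dO_inv : dOReps.map (fun z => (D0 ∩ z).card) = [6, 2, 4] := by
  simp only [dOReps, D0, maskK, List.map_cons, List.map_nil, maskInter_card]
  decide +kernel

theorem dO_inv_nodup : (dOReps.map (fun z => (D0 ∩ z).card)).Nodup := by
  rw [dO_inv]; decide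

theorem dO_invariant (g : gtGroup (chainTop dodStab)) (x : Finset GolayPt) :
    (D0 ∩ g • x).card = (D0 ∩ x).card := inter_card_invariant stab_D0_eq g x

theorem dO_full : octads = {y | ∃ z ∈ dOReps, y ∈ MulAction.orbit (gtGroup (chainTop dodStab)) z} :=
  orbits_cover_inv (Set.toFinite _) dOReps [132, 132, 495] (fun z => (D0 ∩ z).card) dO_invariant
    dO_inv_nodup dO_sizes
    (fun z hz => orbit_sub_subset octT (stab_D0_eq ▸ inf_le_left) (dO_mem z hz))
    (by rw [ncard_octads]; norm_num)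

theorem dO_move {σ : Equiv.Perm GolayPt} (hσ : σ ∈ M24) {x y : Finset GolayPt}
    (hx : x ∈ octads) (hy : y ∈ octads) (h : (σ • D0 ∩ x).card = (σ • D0 ∩ y).card) :
    ∃ g ∈ M24, g • σ • D0 = σ • D0 ∧ g • x = y :=
  move_pair octT.smul_mem stab_D0_eq dOReps dO_full dO_inv_nodup hσ hx hy h

theorem dO_cases {σ : Equiv.Perm GolayPt} (hσ : σ ∈ M24) {x : Finset GolayPt} (hx : x ∈ octads) :
    (σ • D0 ∩ x).card ∈ ([6, 2, 4] : List ℕ) := by
  have hx' := octT.smul_mem _ (inv_mem hσ) x hx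
  rw [show octT.carrier = octads from rfl, dO_full] at hx'
  obtain ⟨z, hz, g, hg⟩ := hx'
  have e : (σ • D0 ∩ x).card = (D0 ∩ z).card := by
    rw [← smul_inv_smul σ x, inter_smul_card, ← show g • z = σ⁻¹ • x from hg]
    exact dO_invariant g z
  rw [e, ← dO_inv]
  exact List.mem_map.2 ⟨z, hz, rfl⟩

theorem dO_count6 {σ : Equiv.Perm GolayPt} (hσ : σ ∈ M24) :
    {x | x ∈ octads ∧ (σ • D0 ∩ x).card = 6}.ncard = 132 := by
  rw [ncard_inter_fibre (C := octads) octT.smul_mem hσ]
  have hk : (D0 ∩ maskK.dec dOX0).card = 6 := by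
    simp only [D0, maskK, maskInter_card]; decide +kernel
  have h := fibre_eq_orbit dOReps dO_full (fun z => (D0 ∩ z).card) dO_invariant
    dO_inv_nodup (z := maskK.dec dOX0) (by simp [dOReps])
  simp only [hk] at h
  rw [h]
  exact dO_exact0.2.2

theorem dO_count2 {σ : Equiv.Perm GolayPt} (hσ : σ ∈ M24) :
    {x | x ∈ octads ∧ (σ • D0 ∩ x).card = 2}.ncard = 132 := by
  rw [ncard_inter_fibre (C := octads) octT.smul_mem hσ]
  have hk : (D0 ∩ maskK.dec dOX1).card = 2 := by
    simp only [D0, maskK, maskInter_card]; decide +kernel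
  have h := fibre_eq_orbit dOReps dO_full (fun z => (D0 ∩ z).card) dO_invariant
    dO_inv_nodup (z := maskK.dec dOX1) (by simp [dOReps])
  simp only [hk] at h
  rw [h]
  exact dO_exact1.2.2

theorem dO_count4 {σ : Equiv.Perm GolayPt} (hσ : σ ∈ M24) :
    {x | x ∈ octads ∧ (σ • D0 ∩ x).card = 4}.ncard = 495 := by
  rw [ncard_inter_fibre (C := octads) octT.smul_mem hσ]
  have hk : (D0 ∩ maskK.dec dOX2).card = 4 := by
    simp only [D0, maskK, maskInter_card]; decide +kernel
  have h := fibre_eq_orbit dOReps dO_full (fun z => (D0 ∩ z).card) dO_invariant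
    dO_inv_nodup (z := maskK.dec dOX2) (by simp [dOReps])
  simp only [hk] at h
  rw [h]
  exact dO_exact2.2.2

end CfsgLib.Spor
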