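import Cfsg.Agent.Spor.LeechBasic
import Cfsg.Agent.Spor.Octads
import Mathlib.GroupTheory.Index

/-!
The shapes of the lattice vectors, divisibility and minimum of the sum of squares, generators,
index in the integer lattice.
-/

set_option autoImplicit false

namespace CfsgLib.Spor.LeechFacts

open Cfsg CfsgLib.Spor
open scoped Pointwise

/-- the odd coordinates -/
def oddSupp (y : GolayPt → ℤ) : Finset GolayPt := Finset.univ.filter fun i => ¬(2 : ℤ) ∣ y i

theorem mem_oddSupp {y : GolayPt → ℤ} {i : GolayPt} : i ∈ oddSupp y ↔ ¬(2 : ℤ) ∣ y i := by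
  simp [oddSupp]

theorem oddSupp_add (y z : GolayPt → ℤ) :
    oddSupp (y + z) = symmDiff (oddSupp y) (oddSupp z) := by
  ext i
  simp only [Finset.mem_symmDiff, mem_oddSupp, Pi.add_apply]
  omega

theorem halfWord_supp (x : GolayPt → ℤ) (m : ℤ) :
    support₂ (halfWord x m) = oddSupp fun i => (x i - m) / 2 := by
  ext i
  rw [mem_supp, mem_oddSupp, halfWord, Ne, ZMod.intCast_zmod_eq_zero_iff_dvd]
  rfl

theorem shift {x : GolayPt → ℤ} {m m' : ℤ} (h : ∀ i, (2 : ℤ) ∣ x i - m)
    (hw : halfWord x m ∈ golayCode) (hm : (2 : ℤ) ∣ m - m') : halfWord x m' ∈ golayCode := by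
  have e : halfWord x m' = halfWord x m + (((m - m') / 2 : ℤ) : ZMod 2) • (1 : GolayPt → ZMod 2) := by
    funext i
    simp only [halfWord, Pi.add_apply, Pi.smul_apply, Pi.one_apply, smul_eq_mul, mul_one]
    rw [← Int.cast_add]
    congr 1
    have := h i
    omega
  rw [e]
  exact Submodule.add_mem _ hw (Submodule.smul_mem _ _ one_mem_golayCode)

theorem two_mul_mem {y : GolayPt → ℤ} (hc : oddSupp y ∈ Code) (hs : (4 : ℤ) ∣ ∑ i, y i) :
    (fun i => 2 * y i) ∈ leechLattice := by
  refine mem_leechLattice.2 ⟨0, fun i => ⟨y i, by simp⟩, ?_, ?_⟩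
  · rw [← Finset.mul_sum, mul_zero, sub_zero]
    omega
  · rw [mem_code_iff, halfWord_supp]
    simpa using hc

/-- the coordinates that are 3 modulo 4 -/
def threeSupp (x : GolayPt → ℤ) : Finset GolayPt := Finset.univ.filter fun i => (4 : ℤ) ∣ x i - 3

theorem mem_threeSupp {x : GolayPt → ℤ} {i : GolayPt} : i ∈ threeSupp x ↔ (4 : ℤ) ∣ x i - 3 := by
  simp [threeSupp]

theorem odd_half {x : GolayPt → ℤ} (ho : ∀ i, ¬(2 : ℤ) ∣ x i) :
    support₂ (halfWord x 1) = threeSupp x := by
  ext i
  rw [halfWord_supp, mem_oddSupp, mem_threeSupp]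
  have := ho i
  omega

theorem odd_mem_iff {x : GolayPt → ℤ} (ho : ∀ i, ¬(2 : ℤ) ∣ x i) :
    x ∈ leechLattice ↔ threeSupp x ∈ Code ∧ (8 : ℤ) ∣ (∑ i, x i) - 4 := by
  rw [mem_leechLattice]
  constructor
  · rintro ⟨m, hm, hs, hw⟩
    have hm1 : (2 : ℤ) ∣ m - 1 := by
      have := hm none
      have := ho none
      omega
    refine ⟨?_, by omega⟩
    rw [← odd_half ho, ← mem_code_iff]
    exact shift hm hw hm1
  · rintro ⟨hc, hs⟩
    refine ⟨1, fun i => by have := ho i; omega, by omega, ?_⟩
    rwa [mem_code_iff, odd_half ho]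

theorem leech_cases {x : GolayPt → ℤ} (hx : x ∈ leechLattice) :
    (∃ y : GolayPt → ℤ, x = (fun i => 2 * y i) ∧ oddSupp y ∈ Code ∧ (4 : ℤ) ∣ ∑ i, y i) ∨
      ∀ i, ¬(2 : ℤ) ∣ x i := by
  obtain ⟨m, hm, hs, hw⟩ := mem_leechLattice.1 hx
  by_cases hp : (2 : ℤ) ∣ m
  · left
    have he : ∀ i, x i = 2 * (x i / 2) := fun i => by have := hm i; omega
    refine ⟨fun i => x i / 2, funext he, ?_, ?_⟩
    · have h0 := shift hm hw (m' := 0) (by simpa using hp)
      rw [mem_code_iff, halfWord_supp] at h0
      simpa using h0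
    · show (4 : ℤ) ∣ ∑ i, x i / 2
      have : (∑ i, x i) = 2 * ∑ i, x i / 2 := by rw [Finset.mul_sum]; exact Finset.sum_congr rfl fun i _ => he i
      omega
  · exact Or.inr fun i => by have := hm i; omega

theorem sq_mod_four (a : ℤ) : (4 : ℤ) ∣ a ^ 2 - (if (2 : ℤ) ∣ a then 0 else 1) := by
  by_cases h : (2 : ℤ) ∣ a
  · obtain ⟨k, rfl⟩ := h
    rw [if_pos (Dvd.intro k rfl)]
    exact ⟨k ^ 2, by ring⟩
  · obtain ⟨k, rfl⟩ : ∃ k, a = 2 * k + 1 := ⟨a / 2, by omega⟩
    rw [if_neg h]
    exact ⟨k ^ 2 + k, by ring⟩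

theorem sum_sq_dvd {y : GolayPt → ℤ} (hc : oddSupp y ∈ Code) : (4 : ℤ) ∣ ∑ i, y i ^ 2 := by
  have h1 : (4 : ℤ) ∣ ∑ i, (y i ^ 2 - (if (2 : ℤ) ∣ y i then 0 else 1)) :=
    Finset.dvd_sum fun i _ => sq_mod_four _
  have h2 : (∑ i, (if (2 : ℤ) ∣ y i then (0 : ℤ) else 1)) = (oddSupp y).card := by
    rw [oddSupp, Finset.natCast_card_filter]
    exact Finset.sum_congr rfl fun i _ => by split <;> simp_all
  rw [Finset.sum_sub_distrib, h2] at h1
  have h3 : (4 : ℤ) ∣ ((oddSupp y).card : ℤ) := by
    rcases card_cases hc with h | h | h | h | h <;> simp [h]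
  simpa using dvd_add h1 h3

theorem norm_dvd {x : GolayPt → ℤ} (hx : x ∈ leechLattice) : (16 : ℤ) ∣ sqNorm x := by
  obtain ⟨m, hm, hs, hw⟩ := mem_leechLattice.1 hx
  obtain ⟨y, rfl⟩ : ∃ y : GolayPt → ℤ, x = fun i => m + 2 * y i :=
    ⟨fun i => (x i - m) / 2, funext fun i => by
      have := hm i
      show x i = m + 2 * ((x i - m) / 2)
      omega⟩
  have hc : oddSupp y ∈ Code := by
    rw [mem_code_iff, halfWord_supp] at hw
    simpa [add_sub_cancel_left] using hw
  have e1 : (∑ i, (m + 2 * y i)) = 24 * m + 2 * ∑ i, y i := by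
    rw [Finset.sum_add_distrib, ← Finset.mul_sum, Finset.sum_const, Finset.card_univ,
      show Fintype.card GolayPt = 24 from rfl]
    ring
  have e2 : sqNorm (fun i => m + 2 * y i) = 24 * m ^ 2 + 4 * m * (∑ i, y i) + 4 * ∑ i, y i ^ 2 := by
    rw [sqNorm, Finset.sum_congr rfl fun i _ =>
      show (m + 2 * y i) ^ 2 = m ^ 2 + 4 * m * y i + 4 * y i ^ 2 by ring,
      Finset.sum_add_distrib, Finset.sum_add_distrib, ← Finset.mul_sum, ← Finset.mul_sum,
      Finset.sum_const, Finset.card_univ, show Fintype.card GolayPt = 24 from rfl]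
    ring
  rw [e1] at hs
  obtain ⟨t, ht⟩ := sum_sq_dvd hc
  obtain ⟨u, hu⟩ : (4 : ℤ) ∣ (∑ i, y i) - 2 * m := by omega
  rw [e2, ht, show (∑ i, y i) = 4 * u + 2 * m by omega]
  exact ⟨2 * m ^ 2 + m * u + t, by ring⟩

theorem norm_two_mul (y : GolayPt → ℤ) : sqNorm (fun i => 2 * y i) = 4 * ∑ i, y i ^ 2 := by
  rw [sqNorm, Finset.mul_sum]
  exact Finset.sum_congr rfl fun i _ => by ring

theorem norm_min {x : GolayPt → ℤ} (hx : x ∈ leechLattice) (h0 : x ≠ 0) : 32 ≤ sqNorm x := by
  have h16 := norm_dvd hx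
  have one_le : ∀ a : ℤ, a ≠ 0 → 1 ≤ a ^ 2 := fun a ha => by nlinarith [Int.one_le_abs ha, sq_abs a]
  rcases leech_cases hx with ⟨y, rfl, hc, hs⟩ | ho
  · rw [norm_two_mul] at h16 ⊢
    suffices 8 ≤ ∑ i, y i ^ 2 by omega
    rcases (oddSupp y).eq_empty_or_nonempty with he | hne
    · have heven : ∀ i, (2 : ℤ) ∣ y i := fun i => by
        by_contra h
        exact Finset.notMem_empty i (he ▸ mem_oddSupp.2 h)
      obtain ⟨z, rfl⟩ : ∃ z : GolayPt → ℤ, y = fun i => 2 * z i :=
        ⟨fun i => y i / 2, funext fun i => by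
          have := heven i
          show y i = 2 * (y i / 2)
          omega⟩
      have hne : ∃ i, z i ≠ 0 := by
        by_contra h
        push_neg at h
        exact h0 (funext fun i => by simp [h i])
      obtain ⟨i, hi⟩ := hne
      have hpos : 1 ≤ ∑ j, z j ^ 2 :=
        le_trans (one_le _ hi) (Finset.single_le_sum (fun j _ => sq_nonneg (z j)) (Finset.mem_univ i))
      have hpar : (2 : ℤ) ∣ ∑ j, (z j ^ 2 - z j) := Finset.dvd_sum fun j _ => by
        rcases Int.even_or_odd (z j) with ⟨k, hk⟩ | ⟨k, hk⟩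
        · exact ⟨2 * k ^ 2 - k, by rw [hk]; ring⟩
        · exact ⟨2 * k ^ 2 + k, by rw [hk]; ring⟩
      rw [Finset.sum_sub_distrib] at hpar
      rw [← Finset.mul_sum] at hs
      rw [Finset.sum_congr rfl fun j _ => show (2 * z j) ^ 2 = 4 * z j ^ 2 by ring, ← Finset.mul_sum]
      omega
    · have h8 : 8 ≤ (oddSupp y).card := by
        have := hne.card_pos
        rcases card_cases hc with h | h | h | h | h <;> omega
      calc (8 : ℤ) ≤ (oddSupp y).card := by exact_mod_cast h8
        _ = ∑ i ∈ oddSupp y, (1 : ℤ) := by simp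
        _ ≤ ∑ i ∈ oddSupp y, y i ^ 2 := Finset.sum_le_sum fun i hi =>
            one_le _ fun h => mem_oddSupp.1 hi (h ▸ dvd_zero _)
        _ ≤ ∑ i, y i ^ 2 :=
            Finset.sum_le_sum_of_subset_of_nonneg (Finset.subset_univ _) fun i _ _ => sq_nonneg _
  · have : (24 : ℤ) ≤ sqNorm x := by
      rw [sqNorm]
      calc (24 : ℤ) = ∑ _i : GolayPt, (1 : ℤ) := by simp
        _ ≤ _ := Finset.sum_le_sum fun i _ => one_le _ fun h => ho i (by rw [h]; exact dvd_zero _)
    omega

theorem leechSet_closed : (leechLattice : Set (GolayPt → ℤ)) = leechSet := by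
  ext x
  rw [SetLike.mem_coe, mem_leechLattice, inLeech_iff_leechSet]

theorem code_induction {P : Finset GolayPt → Prop} (h0 : P ∅)
    (hstep : ∀ s o, o ∈ octads → P s → P (symmDiff o s)) {s : Finset GolayPt} (hs : s ∈ Code) :
    P s := by
  have key : ∀ (l : List ℕ) (j m : ℕ), (∀ b ∈ l, ofMask b ∈ octads) → P (ofMask (comboAux l j m)) := by
    intro l
    induction l with
    | nil => intro j m _; simpa [comboAux, ofMask_zero] using h0
    | cons c l ih =>
      intro j m hl
      have h2 := ih (j + 1) m fun b hb => hl b (by simp [hb])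
      rw [comboAux, ofMask_xor]
      split
      · exact hstep _ _ (hl c (by simp)) h2
      · rw [ofMask_zero, show ∀ t : Finset GolayPt, symmDiff ∅ t = t from fun t => by ext i; simp [Finset.mem_symmDiff]]
        exact h2
  have h := key basisRows 0 (maskOf s) basisRows_octads
  rwa [← combo, inCode_iff.1 (mem_Code_iff.1 hs), ofMask_maskOf] at h

/-- the vectors of sum of squares 32 -/
abbrev minVecs : Set (GolayPt → ℤ) := {x | x ∈ leechLattice ∧ sqNorm x = 32}

theorem generated : AddSubgroup.closure minVecs = leechLattice := by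
  refine le_antisymm ((AddSubgroup.closure_le _).2 fun x hx => hx.1) ?_
  set H := AddSubgroup.closure minVecs with hH
  have hle : H ≤ leechLattice := (AddSubgroup.closure_le _).2 fun x hx => hx.1
  have hoct : ∀ s, s ∈ Code → ∃ y : GolayPt → ℤ, oddSupp y = s ∧ (fun i => 2 * y i) ∈ H := by
    intro s hs
    refine code_induction (P := fun s => ∃ y, oddSupp y = s ∧ (fun i => 2 * y i) ∈ H) ?_ ?_ hs
    · refine ⟨0, by ext i; simp [mem_oddSupp], ?_⟩
      convert H.zero_mem using 1
      funext i
      simp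
    · rintro s o ho ⟨y, hy, hyH⟩
      let e : GolayPt → ℤ := fun i => if i ∈ o then 1 else 0
      have he : oddSupp e = o := by
        ext i
        rw [mem_oddSupp]
        by_cases h : i ∈ o <;> simp [e, h]
      have hsum : ∑ i, e i = 8 := by
        simp [e, (mem_octads.1 ho).2]
      refine ⟨e + y, by rw [oddSupp_add, he, hy], ?_⟩
      have hmem : (fun i => 2 * e i) ∈ H := by
        refine AddSubgroup.subset_closure ⟨two_mul_mem (he.symm ▸ (mem_octads.1 ho).1) (by rw [hsum]; norm_num), ?_⟩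
        rw [norm_two_mul, Finset.sum_congr rfl fun i _ => show e i ^ 2 = e i by
          by_cases h : i ∈ o <;> simp [e, h], hsum]
        norm_num
      convert H.add_mem hmem hyH using 1
      funext i
      simp only [Pi.add_apply]
      ring
  have hfour : ∀ a b : GolayPt, ∀ c : ℤ, a ≠ b → c ^ 2 = 1 →
      (Pi.single a 4 + Pi.single b (4 * c) : GolayPt → ℤ) ∈ H := by
    intro a b c hab hc
    refine AddSubgroup.subset_closure ⟨?_, ?_⟩
    · refine mem_leechLattice.2 ⟨0, fun i => ?_, ?_, ?_⟩
      · simp only [Pi.add_apply, Pi.single_apply, sub_zero]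
        split <;> split <;> omega
      · simp only [Pi.add_apply, Finset.sum_add_distrib, Finset.sum_pi_single', Finset.mem_univ, if_true]
        have : c = 1 ∨ c = -1 := sq_eq_one_iff.1 hc
        rcases this with rfl | rfl <;> norm_num
      · have : halfWord (Pi.single a 4 + Pi.single b (4 * c) : GolayPt → ℤ) 0 = 0 := by
          funext i
          simp only [halfWord, Pi.zero_apply, ZMod.intCast_zmod_eq_zero_iff_dvd, Pi.add_apply, Pi.single_apply]
          split <;> split <;> omega
        rw [this]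
        exact Submodule.zero_mem _
    · have e : ∀ i, (Pi.single a 4 + Pi.single b (4 * c) : GolayPt → ℤ) i ^ 2 =
          (Pi.single a 16 + Pi.single b 16 : GolayPt → ℤ) i := by
        intro i
        simp only [Pi.add_apply, Pi.single_apply]
        split <;> split
        · exact absurd (Eq.trans (Eq.symm ‹i = a›) ‹i = b›) hab
        · norm_num
        · rw [zero_add, mul_pow, hc]; norm_num
        · norm_num
      rw [sqNorm, Finset.sum_congr rfl fun i _ => e i]
      simp [Finset.sum_add_distrib]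
  have hzero : ∀ x : GolayPt → ℤ, x ∈ leechLattice → (∀ i, (4 : ℤ) ∣ x i) → x ∈ H := by
    intro x hx h4
    rcases leech_cases hx with ⟨y, rfl, -, hs⟩ | ho
    swap
    · exact absurd (dvd_trans (by norm_num) (h4 none)) (ho none)
    obtain ⟨z, rfl⟩ : ∃ z : GolayPt → ℤ, y = fun i => 2 * z i :=
      ⟨fun i => y i / 2, funext fun i => by
        have h : (4 : ℤ) ∣ 2 * y i := h4 i
        show y i = 2 * (y i / 2)
        omega⟩
    rw [← Finset.mul_sum] at hs
    obtain ⟨k, hk⟩ : (2 : ℤ) ∣ ∑ i, z i := by omega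
    have h8 : (Pi.single none 8 : GolayPt → ℤ) ∈ H := by
      convert H.add_mem (hfour none (some 0) 1 (by simp) (by norm_num))
        (hfour none (some 0) (-1) (by simp) (by norm_num)) using 1
      funext i
      simp only [Pi.add_apply, Pi.single_apply]
      split <;> split <;> norm_num
    have hterm : ∀ i : GolayPt, (Pi.single i 4 - Pi.single none 4 : GolayPt → ℤ) ∈ H := by
      intro i
      by_cases hi : i = none
      · subst hi; simp
      · convert hfour i none (-1) hi (by norm_num) using 1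
        funext j
        simp only [Pi.add_apply, Pi.sub_apply, Pi.single_apply]
        split <;> split <;> norm_num
    have e : (fun i => 2 * (2 * z i) : GolayPt → ℤ) =
        (∑ i, z i • (Pi.single i 4 - Pi.single none 4 : GolayPt → ℤ)) + k • (Pi.single none 8 : GolayPt → ℤ) := by
      funext j
      simp only [Pi.add_apply, Finset.sum_apply, Pi.smul_apply, Pi.sub_apply, Pi.single_apply, smul_eq_mul,
        mul_sub, Finset.sum_sub_distrib, mul_ite, mul_zero]
      rw [Finset.sum_ite_eq Finset.univ j]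
      by_cases hj : j = none
      · subst hj
        simp only [Finset.mem_univ, if_true, ← Finset.sum_mul, hk]
        ring
      · simp [hj]
        ring
    rw [e]
    exact H.add_mem (H.sum_mem fun i _ => H.zsmul_mem (hterm i) _) (H.zsmul_mem h8 _)
  have heven : ∀ x : GolayPt → ℤ, x ∈ leechLattice → (∀ i, (2 : ℤ) ∣ x i) → x ∈ H := by
    intro x hx h2
    rcases leech_cases hx with ⟨y, rfl, hc, -⟩ | ho
    swap
    · exact absurd (h2 none) (ho none)
    obtain ⟨y', hy', hH'⟩ := hoct _ hc
    have h := hzero _ (leechLattice.sub_mem hx (hle hH')) fun i => by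
      have h1 : (¬(2 : ℤ) ∣ y i) ↔ ¬(2 : ℤ) ∣ y' i := by rw [← mem_oddSupp, ← mem_oddSupp, hy']
      simp only [Pi.sub_apply]
      omega
    simpa using H.add_mem h hH'
  intro x hx
  rcases leech_cases hx with ⟨y, rfl, -, -⟩ | ho
  · exact heven _ hx fun i => Dvd.intro _ rfl
  · have hvo : ∀ i : GolayPt, ¬(2 : ℤ) ∣ (if i = none then (-3 : ℤ) else 1) := fun i => by split <;> omega
    have hv : (fun i : GolayPt => if i = none then (-3 : ℤ) else 1) ∈ leechLattice := by
      refine (odd_mem_iff hvo).2 ⟨?_, by decide +kernel⟩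
      have : threeSupp (fun i : GolayPt => if i = none then (-3 : ℤ) else 1) = ∅ := by decide +kernel
      rw [this]
      exact empty_mem_code
    have hvH : (fun i : GolayPt => if i = none then (-3 : ℤ) else 1) ∈ H :=
      AddSubgroup.subset_closure ⟨hv, by decide +kernel⟩
    have h := heven _ (leechLattice.sub_mem hx hv) fun i => by
      have := ho i
      have := hvo i
      simp only [Pi.sub_apply]
      omega
    simpa using H.add_mem h hvH

/-! ### index -/

/-- reduction modulo two of the coordinates -/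
def redTwo : (GolayPt → ℤ) →+ (GolayPt → ZMod 2) where
  toFun y := fun i => (y i : ZMod 2)
  map_zero' := by funext i; simp
  map_add' _ _ := by funext i; simp

theorem redTwo_surj : Function.Surjective redTwo := fun w =>
  ⟨fun i => ((w i).val : ℤ), funext fun i => by simp [redTwo]⟩

/-- doubling -/
def dbl : (GolayPt → ℤ) →+ (GolayPt → ℤ) where
  toFun y := fun i => 2 * y i
  map_zero' := by funext i; simp
  map_add' _ _ := by funext i; simp [mul_add]

theorem dbl_inj : Function.Injective dbl := fun y z h => funext fun i => by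
  have := congrFun h i
  simp [dbl] at this
  omega

theorem index_range_dbl : dbl.range.index = 2 ^ 24 := by
  have e : dbl.range = redTwo.ker := by
    ext x
    simp only [AddMonoidHom.mem_range, AddMonoidHom.mem_ker]
    constructor
    · rintro ⟨y, rfl⟩
      funext i
      show ((2 * y i : ℤ) : ZMod 2) = 0
      rw [ZMod.intCast_zmod_eq_zero_iff_dvd]
      exact Dvd.intro _ rfl
    · intro h
      refine ⟨fun i => x i / 2, funext fun i => ?_⟩
      have h2 : (2 : ℤ) ∣ x i := by
        have := congrFun h i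
        simpa [redTwo, ZMod.intCast_zmod_eq_zero_iff_dvd] using this
      show 2 * (x i / 2) = x i
      omega
  rw [e, AddSubgroup.index_ker, AddMonoidHom.range_eq_top.2 redTwo_surj, AddSubgroup.card_top,
    Nat.card_eq_fintype_card, Fintype.card_fun]
  rfl

theorem card_golay : Nat.card ↥golayCode.toAddSubgroup = 4096 := by
  rw [← ncard_Code, ← Nat.card_coe_set_eq]
  exact Nat.card_congr (Equiv.ofBijective (fun w => ⟨support₂ w.1, mem_code_iff.1 w.2⟩)
    ⟨fun v w h => Subtype.ext (supp_injective (congrArg Subtype.val h)),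
     fun s => by obtain ⟨w, hw, he⟩ := s.2; exact ⟨⟨w, hw⟩, Subtype.ext he⟩⟩)

/-- even vectors whose halves reduce to code words -/
def evenBig : AddSubgroup (GolayPt → ℤ) := (golayCode.toAddSubgroup.comap redTwo).map dbl

theorem index_evenBig : evenBig.index = 2 ^ 36 := by
  rw [evenBig, AddSubgroup.index_map_of_injective _ dbl_inj, index_range_dbl,
    AddSubgroup.index_comap_of_surjective _ redTwo_surj]
  have h := golayCode.toAddSubgroup.card_mul_index
  rw [card_golay, Nat.card_eq_fintype_card, Fintype.card_fun, ZMod.card,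
    show Fintype.card GolayPt = 24 from rfl] at h
  have e : golayCode.toAddSubgroup.index = 4096 := by omega
  rw [e]
  norm_num

theorem mem_evenBig {x : GolayPt → ℤ} :
    x ∈ evenBig ↔ ∃ y, x = (fun i => 2 * y i) ∧ oddSupp y ∈ Code := by
  have e : ∀ y, redTwo y ∈ golayCode ↔ oddSupp y ∈ Code := by
    intro y
    rw [mem_code_iff]
    have : support₂ (redTwo y) = oddSupp y := by
      ext i
      rw [mem_supp, mem_oddSupp]
      simp [redTwo, ZMod.intCast_zmod_eq_zero_iff_dvd]
    rw [this]
  constructor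
  · rintro ⟨y, hy, rfl⟩
    exact ⟨y, rfl, (e y).1 hy⟩
  · rintro ⟨y, rfl, hy⟩
    exact ⟨y, (e y).2 hy, rfl⟩

theorem sum_even_of_code {y : GolayPt → ℤ} (hy : oddSupp y ∈ Code) : (2 : ℤ) ∣ ∑ i, y i := by
  have h1 : (4 : ℤ) ∣ ∑ i, y i ^ 2 := sum_sq_dvd hy
  have h2 : (2 : ℤ) ∣ ∑ j, (y j ^ 2 - y j) := Finset.dvd_sum fun j _ => by
    rcases Int.even_or_odd (y j) with ⟨k, hk⟩ | ⟨k, hk⟩
    · exact ⟨2 * k ^ 2 - k, by rw [hk]; ring⟩
    · exact ⟨2 * k ^ 2 + k, by rw [hk]; ring⟩
  rw [Finset.sum_sub_distrib] at h2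
  omega

theorem index_leech : leechLattice.index = 2 ^ 36 := by
  set L0 := leechLattice ⊓ evenBig with hL0
  have hR1 : L0.relIndex evenBig = 2 := by
    rw [AddSubgroup.relIndex, AddSubgroup.index_eq_two_iff]
    refine ⟨⟨(fun i => 2 * (Pi.single none 2 : GolayPt → ℤ) i), mem_evenBig.2 ⟨_, rfl, ?_⟩⟩, fun x => ?_⟩
    · have : oddSupp (Pi.single none 2 : GolayPt → ℤ) = ∅ := by decide +kernel
      rw [this]
      exact empty_mem_code
    · obtain ⟨y, hy, hc⟩ := mem_evenBig.1 x.2
      have key : ∀ b : GolayPt → ℤ, oddSupp b ∈ Code →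
          ((fun i => 2 * b i) ∈ leechLattice ↔ (4 : ℤ) ∣ ∑ i, b i) := by
        intro b hb
        refine ⟨fun h => ?_, two_mul_mem hb⟩
        rcases leech_cases h with ⟨b', e, -, h4⟩ | ho
        · have : b = b' := funext fun i => by have := congrFun e i; omega
          rw [this]; exact h4
        · exact absurd (Dvd.intro _ rfl) (ho none)
      have hev := sum_even_of_code hc
      have hc2 : oddSupp (y + Pi.single none 2) ∈ Code := by
        have : oddSupp (Pi.single none 2 : GolayPt → ℤ) = ∅ := by decide +kernel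
        rw [oddSupp_add, this, show ∀ t : Finset GolayPt, symmDiff t ∅ = t from fun t => by ext i; simp [Finset.mem_symmDiff]]
        exact hc
      simp only [AddSubgroup.mem_addSubgroupOf, AddSubgroup.coe_add, hL0, AddSubgroup.mem_inf,
        x.2, and_true]
      have e2 : (x : GolayPt → ℤ) + (fun i => 2 * (Pi.single none 2 : GolayPt → ℤ) i) =
          fun i => 2 * (y + Pi.single none 2 : GolayPt → ℤ) i := by
        funext i
        simp only [hy, Pi.add_apply]
        ring
      have hbig : (x : GolayPt → ℤ) + (fun i => 2 * (Pi.single none 2 : GolayPt → ℤ) i) ∈ evenBig :=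
        mem_evenBig.2 ⟨_, e2, hc2⟩
      simp only [hbig, and_true]
      rw [e2, hy, key _ hc, key _ hc2]
      simp only [Pi.add_apply, Finset.sum_add_distrib, Finset.sum_pi_single', Finset.mem_univ, if_true]
      simp only [xor_def]
      omega
  have hR2 : L0.relIndex leechLattice = 2 := by
    rw [AddSubgroup.relIndex, AddSubgroup.index_eq_two_iff]
    have hvo : ∀ i : GolayPt, ¬(2 : ℤ) ∣ (if i = none then (-3 : ℤ) else 1) := fun i => by split <;> omega
    refine ⟨⟨fun i : GolayPt => if i = none then (-3 : ℤ) else 1, (odd_mem_iff hvo).2 ⟨?_, by decide +kernel⟩⟩,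
      fun x => ?_⟩
    · have : threeSupp (fun i : GolayPt => if i = none then (-3 : ℤ) else 1) = ∅ := by decide +kernel
      rw [this]
      exact empty_mem_code
    · have key : ∀ b ∈ leechLattice, (b ∈ evenBig ↔ (2 : ℤ) ∣ b none) := by
        intro b hb
        constructor
        · intro h
          obtain ⟨y, rfl, -⟩ := mem_evenBig.1 h
          exact Dvd.intro _ rfl
        · intro h
          rcases leech_cases hb with ⟨y, e, hc, -⟩ | ho
          · exact mem_evenBig.2 ⟨y, e, hc⟩
          · exact absurd h (ho none)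
      simp only [AddSubgroup.mem_addSubgroupOf, hL0, AddSubgroup.mem_inf,
        AddSubgroup.coe_add, x.2, true_and]
      rw [key _ x.2]
      have hsum : (x : GolayPt → ℤ) + (fun i : GolayPt => if i = none then (-3 : ℤ) else 1) ∈ leechLattice :=
        leechLattice.add_mem x.2 ((odd_mem_iff hvo).2 ⟨by
          have : threeSupp (fun i : GolayPt => if i = none then (-3 : ℤ) else 1) = ∅ := by decide +kernel
          rw [this]; exact empty_mem_code, by decide +kernel⟩)
      simp only [hsum, true_and]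
      rw [key _ hsum]
      simp only [Pi.add_apply, if_true, xor_def]
      omega
  have h1 := AddSubgroup.relIndex_mul_index (inf_le_right : L0 ≤ evenBig)
  have h2 := AddSubgroup.relIndex_mul_index (inf_le_left : L0 ≤ leechLattice)
  rw [hR1, index_evenBig] at h1
  rw [hR2, ← h1] at h2
  omega

end CfsgLib.Spor.LeechFacts
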