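import Cfsg.Agent.Spor.LeechFacts
import Mathlib.Algebra.BigOperators.Fin

/-!
Counting the short vectors of the lattice: vectors with given coordinate options are counted by
a table indexed by the partial weight and the residue of the partial sum.
-/

set_option autoImplicit false

namespace CfsgLib.Spor.LeechCount

open Cfsg CfsgLib.Spor CfsgLib.Spor.LeechFacts
open scoped Pointwise

variable (nn : ℤ → ℕ) (M R : ℕ)

/-- one more coordinate -/
def step (o : List ℤ) (T : List ℕ) : List ℕ :=
  (List.range ((M + 1) * R)).map fun idx =>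
    (o.map fun v => if nn v ≤ idx / R then
      T.getD ((idx / R - nn v) * R + ((((idx % R : ℕ) : ℤ) - v) % (R : ℤ)).toNat) 0 else 0).sum

/-- the table -/
def tab : List (List ℤ) → List ℕ
  | [] => (List.range ((M + 1) * R)).map fun idx => if idx = 0 then 1 else 0
  | o :: os => step nn M R o (tab os)

/-- the counted number -/
def num (n : ℕ) (g : Fin n → List ℤ) (a r : ℕ) : ℕ :=
  ((Fintype.piFinset fun i => (g i).toFinset).filter fun y =>
    ∑ i, nn (y i) = a ∧ (∑ i, y i) % (R : ℤ) = r).card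

theorem getD_map_range {K idx : ℕ} (f : ℕ → ℕ) (h : idx < K) :
    ((List.range K).map f).getD idx 0 = f idx := by
  rw [List.getD_eq_getElem _ _ (by simpa using h)]
  simp

theorem idx_facts {a r : ℕ} (ha : a ≤ M) (hr : r < R) :
    a * R + r < (M + 1) * R ∧ (a * R + r) / R = a ∧ (a * R + r) % R = r := by
  refine ⟨?_, ?_, ?_⟩
  · calc a * R + r < a * R + R := by omega
      _ = (a + 1) * R := by ring
      _ ≤ (M + 1) * R := Nat.mul_le_mul_right _ (by omega)
  · rw [add_comm, Nat.add_mul_div_right _ _ (by omega), Nat.div_eq_of_lt hr, zero_add]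
  · rw [add_comm, Nat.add_mul_mod_self_right, Nat.mod_eq_of_lt hr]

theorem tab_spec : ∀ (n : ℕ) (g : Fin n → List ℤ), (∀ i, (g i).Nodup) →
    ∀ a ≤ M, ∀ r < R, (tab nn M R (List.ofFn g)).getD (a * R + r) 0 = num nn R n g a r
  | 0, g, _, a, ha, r, hr => by
    obtain ⟨h1, -, -⟩ := idx_facts M R ha hr
    rw [List.ofFn_zero, tab, getD_map_range _ h1, num]
    by_cases h : a = 0 ∧ r = 0
    · rw [if_pos (by simp [h.1, h.2]), Finset.filter_true_of_mem (fun y _ => by simp [h.1, h.2]),
        Fintype.card_piFinset]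
      simp
    · have hne : ¬ a * R + r = 0 := fun he => h (by
        obtain ⟨e1, e2⟩ := Nat.add_eq_zero_iff.1 he
        exact ⟨(Nat.mul_eq_zero.1 e1).resolve_right (by omega), e2⟩)
      rw [if_neg hne, Finset.filter_false_of_mem (fun y _ he => h (by
        simp at he
        exact ⟨he.1.symm, by exact_mod_cast he.2.symm⟩)), Finset.card_empty]
  | n + 1, g, hg, a, ha, r, hr => by
    classical
    obtain ⟨h1, hdiv, hmod⟩ := idx_facts M R ha hr
    have hR : 0 < R := by omega
    rw [List.ofFn_succ, tab, step, getD_map_range _ h1, hdiv, hmod, num,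
      Finset.card_eq_sum_card_fiberwise (f := fun y : Fin (n + 1) → ℤ => y 0) (t := (g 0).toFinset)
        (fun y hy => Fintype.mem_piFinset.1 (Finset.mem_filter.1 hy).1 0),
      ← List.sum_toFinset _ (hg 0)]
    refine Finset.sum_congr rfl fun v hv => ?_
    set r' := ((((r : ℕ) : ℤ) - v) % (R : ℤ)).toNat with hr'
    have hnn : 0 ≤ (((r : ℕ) : ℤ) - v) % (R : ℤ) := Int.emod_nonneg _ (by omega)
    have hlt : (((r : ℕ) : ℤ) - v) % (R : ℤ) < R := Int.emod_lt_of_pos _ (by omega)
    have hiff : ∀ S : ℤ, (v + S) % (R : ℤ) = r ↔ S % (R : ℤ) = (r' : ℤ) := by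
      intro S
      rw [hr', Int.toNat_of_nonneg hnn,
        show ((r : ℤ)) = (r : ℤ) % (R : ℤ) from (Int.emod_eq_of_lt (by omega) (by omega)).symm,
        ← ZMod.intCast_eq_intCast_iff', ← ZMod.intCast_eq_intCast_iff']
      push_cast
      constructor <;> intro h
      · rw [← h]; ring
      · rw [h]; ring
    split
    · rename_i hle
      rw [tab_spec n (fun i => g i.succ) (fun i => hg _) (a - nn v) (by omega) r' (by omega), num]
      refine Finset.card_bij' (fun y _ => Fin.cons v y) (fun y _ => Fin.tail y) ?_ ?_ ?_ ?_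
      · intro y hy
        obtain ⟨hy1, hy2, hy3⟩ := Finset.mem_filter.1 hy
        refine Finset.mem_filter.2 ⟨Finset.mem_filter.2 ⟨Fintype.mem_piFinset.2 fun i => ?_, ?_, ?_⟩, by simp⟩
        · refine Fin.cases ?_ (fun j => ?_) i
          · simpa using hv
          · simpa using Fintype.mem_piFinset.1 hy1 j
        · rw [Fin.sum_univ_succ]; simp only [Fin.cons_zero, Fin.cons_succ]; omega
        · rw [Fin.sum_univ_succ]; simp only [Fin.cons_zero, Fin.cons_succ]; exact (hiff _).2 hy3
      · intro y hy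
        simp only [Finset.mem_filter, Fintype.mem_piFinset] at hy
        obtain ⟨⟨hy1, hy2, hy3⟩, hy0⟩ := hy
        rw [Fin.sum_univ_succ, hy0] at hy2 hy3
        refine Finset.mem_filter.2 ⟨Fintype.mem_piFinset.2 fun i => hy1 i.succ, ?_, ?_⟩
        · simp only [Fin.tail]; omega
        · exact (hiff _).1 hy3
      · intro y _; simp
      · intro y hy
        rw [← (Finset.mem_filter.1 hy).2, Fin.cons_self_tail]
    · rename_i hle
      refine (Finset.card_eq_zero.2 (Finset.filter_false_of_mem fun y hy h0 => hle ?_)).symm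
      obtain ⟨-, hy2, -⟩ := Finset.mem_filter.1 hy
      rw [Fin.sum_univ_succ, h0] at hy2
      omega

/-- options along the standard split -/
def opts (A B : List ℤ) (k : ℕ) : List (List ℤ) :=
  List.ofFn fun i : Fin 24 => if i.val < k then A else B

theorem exists_split (s : Finset GolayPt) :
    ∃ e : GolayPt ≃ Fin 24, ∀ i, i ∈ s ↔ (e i).val < s.card := by
  classical
  have h1 : Fintype.card {i // i ∈ s} = s.card := Fintype.card_coe s
  have h2 : Fintype.card {i // i ∉ s} = 24 - s.card := by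
    rw [Fintype.card_subtype_compl, h1]; rfl
  have h3 : s.card + (24 - s.card) = 24 := by
    have : s.card ≤ Fintype.card GolayPt := Finset.card_le_univ s
    have : Fintype.card GolayPt = 24 := rfl
    omega
  refine ⟨(Equiv.sumCompl (· ∈ s)).symm.trans (((Equiv.sumCongr (Fintype.equivFinOfCardEq h1)
    (Fintype.equivFinOfCardEq h2)).trans finSumFinEquiv).trans (finCongr h3)), fun i => ?_⟩
  by_cases hi : i ∈ s
  · simp [hi]
  · simp [hi]

theorem fibre_count (A B : List ℤ) (hA : A.Nodup) (hB : B.Nodup) (s : Finset GolayPt) {a r : ℕ}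
    (ha : a ≤ M) (hr : r < R) :
    {y : GolayPt → ℤ | (∀ i, y i ∈ if i ∈ s then A else B) ∧ ∑ i, nn (y i) = a ∧
      (∑ i, y i) % (R : ℤ) = r}.ncard = (tab nn M R (opts A B s.card)).getD (a * R + r) 0 := by
  classical
  obtain ⟨e, he⟩ := exists_split s
  rw [opts, tab_spec nn M R 24 _ (fun i => by split <;> assumption) a ha r hr, num,
    ← Set.ncard_coe_finset,
    ← Set.ncard_image_of_injective _ (e.arrowCongr (Equiv.refl ℤ)).injective]
  congr 1
  ext z
  simp only [Set.mem_image, Set.mem_setOf_eq, Finset.coe_filter, Fintype.mem_piFinset, List.mem_toFinset]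
  constructor
  · rintro ⟨y, ⟨h1, h2, h3⟩, rfl⟩
    refine ⟨fun i => ?_, ?_, ?_⟩
    · have := h1 (e.symm i)
      simp only [he, Equiv.apply_symm_apply] at this
      exact this
    · rw [← h2]; exact e.symm.sum_comp fun i => nn (y i)
    · rw [← h3]; exact congrArg (· % (R : ℤ)) (e.symm.sum_comp y)
  · rintro ⟨h1, h2, h3⟩
    refine ⟨fun i => z (e i), ⟨fun i => ?_, ?_, ?_⟩, funext fun i => by simp⟩
    · have := h1 (e i)
      simp only [← he] at this
      exact this
    · rw [← h2]; exact e.sum_comp fun i => nn (z i)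
    · rw [← h3]; exact congrArg (· % (R : ℤ)) (e.sum_comp z)

/-- the weight distribution applied to a function of the weight -/
def wsum (F : ℕ → ℕ) : ℕ := F 0 + 759 * F 8 + 2576 * F 12 + 759 * F 16 + F 24

theorem code_sum (C : Finset (Finset GolayPt)) (hC : ∀ s, s ∈ C ↔ s ∈ Code) (F : ℕ → ℕ) :
    ∑ s ∈ C, F s.card = wsum F := by
  classical
  have cnt : ∀ k, (C.filter fun s => s.card = k).card = wordList.countP fun m => pop m == k := by
    intro k
    rw [← ncard_filter_code (fun s => s.card = k) (fun m => pop m == k) (fun m _ => by simp [card_ofMask]),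
      ← Set.ncard_coe_finset]
    congr 1
    ext s
    simp [hC]
  have counts : wordList.countP (fun m => pop m == 0) = 1 ∧ wordList.countP (fun m => pop m == 8) = 759 ∧
      wordList.countP (fun m => pop m == 12) = 2576 ∧ wordList.countP (fun m => pop m == 16) = 759 ∧
      wordList.countP (fun m => pop m == 24) = 1 := by decide +kernel
  rw [← Finset.sum_fiberwise_of_maps_to (g := Finset.card) (t := ({0, 8, 12, 16, 24} : Finset ℕ))
    (fun s hs => by
      rcases card_cases ((hC s).1 hs) with h | h | h | h | h <;> simp [h])]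
  have inner : ∀ k, ∑ s ∈ C.filter (fun s => s.card = k), F s.card =
      (wordList.countP fun m => pop m == k) * F k := by
    intro k
    rw [Finset.sum_congr rfl fun s hs => by rw [(Finset.mem_filter.1 hs).2], Finset.sum_const, cnt,
      smul_eq_mul]
  simp only [inner]
  rw [Finset.sum_insert (by decide), Finset.sum_insert (by decide), Finset.sum_insert (by decide),
    Finset.sum_insert (by decide), Finset.sum_singleton, counts.1, counts.2.1, counts.2.2.1,
    counts.2.2.2.1, counts.2.2.2.2, wsum]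
  ring

/-- the coordinates with a tag -/
def tagSupp (tag : ℤ → Bool) (y : GolayPt → ℤ) : Finset GolayPt := Finset.univ.filter fun i => tag (y i) = true

/-- vectors with options according to a code word -/
abbrev codeSet (tag : ℤ → Bool) (A B : List ℤ) (a r : ℕ) : Set (GolayPt → ℤ) :=
  {y | tagSupp tag y ∈ Code ∧ (∀ i, y i ∈ A ++ B) ∧ ∑ i, nn (y i) = a ∧ (∑ i, y i) % (R : ℤ) = r}

theorem finite_codeSet (tag : ℤ → Bool) (A B : List ℤ) (a r : ℕ) :
    (codeSet nn R tag A B a r).Finite := by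
  refine Set.Finite.subset (Fintype.piFinset fun _ : GolayPt => (A ++ B).toFinset).finite_toSet ?_
  intro y hy
  simpa [Fintype.mem_piFinset] using hy.2.1

theorem code_count (tag : ℤ → Bool) (A B : List ℤ) (hA : A.Nodup) (hB : B.Nodup)
    (tA : A.all tag = true) (tB : B.all (fun v => !tag v) = true) {a r : ℕ} (ha : a ≤ M) (hr : r < R) :
    (codeSet nn R tag A B a r).ncard = wsum fun k => (tab nn M R (opts A B k)).getD (a * R + r) 0 := by
  classical
  have hfin := finite_codeSet nn R tag A B a r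
  rw [Set.ncard_eq_toFinset_card _ hfin]
  have hC : ∀ s, s ∈ (Finset.univ.filter fun s : Finset GolayPt => s ∈ Code) ↔ s ∈ Code := fun s => by simp
  rw [Finset.card_eq_sum_card_fiberwise (f := tagSupp tag) (t := Finset.univ.filter fun s => s ∈ Code)
    (fun y hy => by
      rw [Finset.mem_coe, Set.Finite.mem_toFinset] at hy
      exact (hC _).2 hy.1), ← code_sum _ hC]
  refine Finset.sum_congr rfl fun s hs => ?_
  rw [← fibre_count nn M R A B hA hB s ha hr, ← Set.ncard_coe_finset]
  congr 1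
  ext y
  simp only [Finset.coe_filter, Set.Finite.mem_toFinset, Set.mem_setOf_eq]
  simp only [List.all_eq_true, Bool.not_eq_true'] at tA tB
  constructor
  · rintro ⟨⟨-, h1, h2, h3⟩, rfl⟩
    refine ⟨fun i => ?_, h2, h3⟩
    rcases List.mem_append.1 (h1 i) with h | h
    · rw [if_pos (show i ∈ tagSupp tag y from Finset.mem_filter.2 ⟨Finset.mem_univ _, tA _ h⟩)]
      exact h
    · rw [if_neg fun hc : i ∈ tagSupp tag y => by
        rw [tagSupp, Finset.mem_filter, tB _ h] at hc; exact absurd hc.2 (by simp)]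
      exact h
  · rintro ⟨h1, h2, h3⟩
    have e : tagSupp tag y = s := by
      ext i
      rw [tagSupp, Finset.mem_filter]
      have := h1 i
      by_cases hi : i ∈ s
      · rw [if_pos hi] at this; simp [hi, tA _ this]
      · rw [if_neg hi] at this; simp [hi, tB _ this]
    refine ⟨⟨e ▸ (hC s).1 hs, fun i => ?_, h2, h3⟩, e⟩
    have := h1 i
    split at this
    · exact List.mem_append_left _ this
    · exact List.mem_append_right _ this

/-! ### even vectors -/

/-- parity -/
def oddTag (v : ℤ) : Bool := decide (v % 2 = 1)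

theorem tagSupp_odd (y : GolayPt → ℤ) : tagSupp oddTag y = oddSupp y := by
  ext i
  simp only [tagSupp, oddTag, Finset.mem_filter, Finset.mem_univ, true_and, decide_eq_true_iff, mem_oddSupp]
  omega

/-- square -/
def sqW (v : ℤ) : ℕ := v.natAbs * v.natAbs

theorem sqW_eq (v : ℤ) : (sqW v : ℤ) = v ^ 2 := by
  rw [sqW, Nat.cast_mul, Int.natCast_natAbs, abs_mul_abs_self, sq]

theorem small_of_sq {v : ℤ} {b : ℤ} (hb : 0 ≤ b) (h : v ^ 2 < (b + 1) ^ 2) : -b ≤ v ∧ v ≤ b := by
  have := abs_lt_of_sq_lt_sq h (by omega)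
  rw [abs_lt] at this
  omega

/-- even vectors of given sum of squares -/
abbrev evenVecs (N : ℤ) : Set (GolayPt → ℤ) :=
  {x | x ∈ leechLattice ∧ sqNorm x = N ∧ (2 : ℤ) ∣ x none}

/-- odd vectors of given sum of squares -/
abbrev oddVecs (N : ℤ) : Set (GolayPt → ℤ) :=
  {x | x ∈ leechLattice ∧ sqNorm x = N ∧ ¬(2 : ℤ) ∣ x none}

theorem even_image (a : ℕ) (A B : List ℤ) (S : Set (GolayPt → ℤ))
    (hS : ∀ y : GolayPt → ℤ, oddSupp y ∈ Code → (4 : ℤ) ∣ ∑ i, y i →
      ((fun i => 2 * y i) ∈ S ↔ (∀ i, y i ∈ A ++ B) ∧ ∑ i, sqW (y i) = a))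
    (hS2 : ∀ x ∈ S, x ∈ leechLattice ∧ (2 : ℤ) ∣ x none) :
    S = dbl '' codeSet sqW 4 oddTag A B a 0 := by
  ext x
  constructor
  · intro hx
    obtain ⟨hL, he⟩ := hS2 x hx
    rcases leech_cases hL with ⟨y, rfl, hc, h4⟩ | ho
    · obtain ⟨h1, h2⟩ := (hS y hc h4).1 hx
      exact ⟨y, ⟨(tagSupp_odd y).symm ▸ hc, h1, h2, by push_cast; omega⟩, rfl⟩
    · exact absurd he (ho none)
  · rintro ⟨y, ⟨hc, h1, h2, h3⟩, rfl⟩
    rw [tagSupp_odd] at hc
    exact (hS y hc (by push_cast at h3; omega)).2 ⟨h1, h2⟩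

theorem norm_sqW (y : GolayPt → ℤ) : sqNorm (fun i => 2 * y i) = 4 * ((∑ i, sqW (y i) : ℕ) : ℤ) := by
  rw [norm_two_mul, Nat.cast_sum, Finset.sum_congr rfl fun i _ => (sqW_eq (y i)).symm]

theorem evenVecs_eq {a : ℕ} (ha : a ≤ 16) :
    evenVecs (4 * (a : ℤ)) = dbl '' codeSet sqW 4 oddTag [1, -1, 3, -3] [0, 2, -2, 4, -4] a 0 := by
  refine even_image a _ _ _ (fun y hc h4 => ?_) fun x hx => ⟨hx.1, hx.2.2⟩
  simp only [Set.mem_setOf_eq, norm_sqW, dvd_mul_right, and_true]
  refine ⟨fun ⟨_, h⟩ => ?_, fun ⟨_, h⟩ => ⟨two_mul_mem hc h4, by rw [h]⟩⟩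
  have h2 : ∑ i, sqW (y i) = a := by omega
  refine ⟨fun i => ?_, h2⟩
  have hle : sqW (y i) ≤ a := le_of_le_of_eq
    (Finset.single_le_sum (f := fun j => sqW (y j)) (fun j _ => Nat.zero_le _) (Finset.mem_univ i)) h2
  have : y i ^ 2 < (4 + 1) ^ 2 := by rw [← sqW_eq]; omega
  obtain ⟨hl, hu⟩ := small_of_sq (by norm_num) this
  simp only [List.cons_append, List.nil_append, List.mem_cons, List.not_mem_nil, or_false]
  omega

theorem ncard_even {a : ℕ} (ha : a ≤ 16) (v : ℕ)
    (h : (wsum fun k => (tab sqW a 4 (opts [1, -1, 3, -3] [0, 2, -2, 4, -4] k)).getD (a * 4 + 0) 0) = v) :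
    (evenVecs (4 * (a : ℤ))).ncard = v := by
  rw [evenVecs_eq ha, Set.ncard_image_of_injective _ dbl_inj,
    code_count sqW a 4 oddTag _ _ (by decide) (by decide) (by decide) (by decide) le_rfl (by norm_num), h]

/-! ### odd vectors -/

/-- three modulo four -/
def threeTag (v : ℤ) : Bool := decide (v % 4 = 3)

theorem tagSupp_three (x : GolayPt → ℤ) : tagSupp threeTag x = threeSupp x := by
  ext i
  simp only [tagSupp, threeTag, Finset.mem_filter, Finset.mem_univ, true_and, decide_eq_true_iff, mem_threeSupp]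
  omega

/-- the reduced square -/
def oddW (v : ℤ) : ℕ := (v.natAbs * v.natAbs - 1) / 8

theorem oddW_eq {v : ℤ} (h : v ∈ [-1, 3, -5] ++ [1, -3, 5]) : v ^ 2 = 1 + 8 * (oddW v : ℤ) := by
  simp only [List.cons_append, List.nil_append, List.mem_cons, List.not_mem_nil, or_false] at h
  rcases h with rfl | rfl | rfl | rfl | rfl | rfl <;> rfl

theorem odd_values {x : GolayPt → ℤ} {N : ℤ} (ho : ∀ i, ¬(2 : ℤ) ∣ x i) (hn : sqNorm x = N) (hN : N ≤ 64) :
    ∀ i, x i ∈ [-1, 3, -5] ++ [1, -3, 5] := by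
  intro i
  have hone : ∀ j, (1 : ℤ) ≤ x j ^ 2 := fun j => by
    have : x j ≠ 0 := fun h => ho j (by rw [h]; exact dvd_zero _)
    nlinarith [Int.one_le_abs this, sq_abs (x j)]
  have h1 : x i ^ 2 - 1 ≤ ∑ j, (x j ^ 2 - 1) :=
    Finset.single_le_sum (f := fun j => x j ^ 2 - 1) (fun j _ => sub_nonneg.2 (hone j)) (Finset.mem_univ i)
  have h2 : (∑ j, (x j ^ 2 - 1)) = N - 24 := by
    rw [Finset.sum_sub_distrib, ← hn, sqNorm]
    simp
  have h3 : x i ^ 2 < (6 + 1) ^ 2 := by omega
  obtain ⟨hl, hu⟩ := small_of_sq (by norm_num) h3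
  have := ho i
  simp only [List.cons_append, List.nil_append, List.mem_cons, List.not_mem_nil, or_false]
  omega

theorem norm_oddW {x : GolayPt → ℤ} (h : ∀ i, x i ∈ [-1, 3, -5] ++ [1, -3, 5]) :
    sqNorm x = 24 + 8 * ((∑ i, oddW (x i) : ℕ) : ℤ) := by
  rw [sqNorm, Finset.sum_congr rfl fun i _ => oddW_eq (h i), Finset.sum_add_distrib, Nat.cast_sum,
    Finset.mul_sum]
  simp

theorem oddVecs_eq {a : ℕ} (ha : a ≤ 5) :
    oddVecs (24 + 8 * (a : ℤ)) = codeSet oddW 8 threeTag [-1, 3, -5] [1, -3, 5] a 4 := by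
  ext x
  constructor
  · rintro ⟨hL, hn, ho⟩
    rcases leech_cases hL with ⟨y, rfl, -, -⟩ | ho'
    · exact absurd (Dvd.intro _ rfl) ho
    have hv := odd_values ho' hn (by omega)
    obtain ⟨hc, h8⟩ := (odd_mem_iff ho').1 hL
    refine ⟨(tagSupp_three x).symm ▸ hc, hv, ?_, by push_cast; omega⟩
    rw [norm_oddW hv] at hn
    omega
  · rintro ⟨hc, hv, h2, h3⟩
    have ho : ∀ i, ¬(2 : ℤ) ∣ x i := fun i => by
      have := hv i
      simp only [List.cons_append, List.nil_append, List.mem_cons, List.not_mem_nil, or_false] at this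
      omega
    rw [tagSupp_three] at hc
    refine ⟨(odd_mem_iff ho).2 ⟨hc, by push_cast at h3; omega⟩, ?_, ho none⟩
    rw [norm_oddW hv, h2]

theorem ncard_odd {a : ℕ} (ha : a ≤ 5) (v : ℕ)
    (h : (wsum fun k => (tab oddW a 8 (opts [-1, 3, -5] [1, -3, 5] k)).getD (a * 8 + 4) 0) = v) :
    (oddVecs (24 + 8 * (a : ℤ))).ncard = v := by
  rw [oddVecs_eq ha,
    code_count oddW a 8 threeTag _ _ (by decide) (by decide) (by decide) (by decide) le_rfl (by norm_num), h]

theorem table_values :
    (wsum fun k => (tab sqW 8 4 (opts [1, -1, 3, -3] [0, 2, -2, 4, -4] k)).getD (8 * 4 + 0) 0) = 98256 ∧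
    (wsum fun k => (tab sqW 12 4 (opts [1, -1, 3, -3] [0, 2, -2, 4, -4] k)).getD (12 * 4 + 0) 0) = 8384512 ∧
    (wsum fun k => (tab oddW 1 8 (opts [-1, 3, -5] [1, -3, 5] k)).getD (1 * 8 + 4) 0) = 98304 ∧
    (wsum fun k => (tab oddW 3 8 (opts [-1, 3, -5] [1, -3, 5] k)).getD (3 * 8 + 4) 0) = 8388608 := by
  decide +kernel

theorem table_values64 :
    (wsum fun k => (tab sqW 16 4 (opts [1, -1, 3, -3] [0, 2, -2, 4, -4] k)).getD (16 * 4 + 0) 0) +
    (wsum fun k => (tab oddW 5 8 (opts [-1, 3, -5] [1, -3, 5] k)).getD (5 * 8 + 4) 0) = 398034000 := by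
  decide +kernel

theorem finite_vecs (N : ℤ) : {x : GolayPt → ℤ | x ∈ leechLattice ∧ sqNorm x = N}.Finite := by
  refine Set.Finite.subset (Fintype.piFinset fun _ : GolayPt => Finset.Icc (-|N| : ℤ) |N|).finite_toSet ?_
  intro x hx
  rw [Finset.mem_coe, Fintype.mem_piFinset]
  intro i
  have h1 : x i ^ 2 ≤ N := le_of_le_of_eq
    (Finset.single_le_sum (f := fun j => x j ^ 2) (fun j _ => sq_nonneg (x j)) (Finset.mem_univ i)) hx.2
  rw [Finset.mem_Icc, ← abs_le]
  calc |x i| ≤ |x i| * |x i| := by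
        rcases eq_or_ne (x i) 0 with h | h
        · simp [h]
        · nlinarith [Int.one_le_abs h]
    _ ≤ |N| := by rw [abs_mul_abs_self, ← sq]; exact le_trans h1 (le_abs_self N)

theorem ncard_split (N : ℤ) :
    {x : GolayPt → ℤ | x ∈ leechLattice ∧ sqNorm x = N}.ncard = (evenVecs N).ncard + (oddVecs N).ncard := by
  rw [← Set.ncard_union_eq ?_ ((finite_vecs N).subset fun x hx => ⟨hx.1, hx.2.1⟩)
    ((finite_vecs N).subset fun x hx => ⟨hx.1, hx.2.1⟩)]
  · congr 1
    ext x
    simp only [Set.mem_setOf_eq, Set.mem_union]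
    tauto
  · exact Set.disjoint_left.2 fun x h1 h2 => h2.2.2 h1.2.2

theorem count32 : {x : GolayPt → ℤ | x ∈ leechLattice ∧ sqNorm x = 32}.ncard = 196560 := by
  have h1 := ncard_even (a := 8) (by norm_num) _ table_values.1
  have h2 := ncard_odd (a := 1) (by norm_num) _ table_values.2.2.1
  norm_num at h1 h2
  rw [ncard_split, h1, h2]

theorem count48 : {x : GolayPt → ℤ | x ∈ leechLattice ∧ sqNorm x = 48}.ncard = 16773120 := by
  have h1 := ncard_even (a := 12) (by norm_num) _ table_values.2.1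
  have h2 := ncard_odd (a := 3) (by norm_num) _ table_values.2.2.2
  norm_num at h1 h2
  rw [ncard_split, h1, h2]

theorem count64 : {x : GolayPt → ℤ | x ∈ leechLattice ∧ sqNorm x = 64}.ncard = 398034000 := by
  have h1 := ncard_even (a := 16) (by norm_num) _ rfl
  have h2 := ncard_odd (a := 5) (by norm_num) _ rfl
  have e1 : (4 : ℤ) * ((16 : ℕ) : ℤ) = 64 := by norm_num
  have e2 : (24 : ℤ) + 8 * ((5 : ℕ) : ℤ) = 64 := by norm_num
  rw [e1] at h1
  rw [e2] at h2
  rw [ncard_split, h1, h2, table_values64]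

/-! ### shapes of sum of squares 48 -/

theorem shape_values :
    (wsum fun k => (tab sqW 12 4 (opts [1, -1] [0] k)).getD (12 * 4 + 0) 0) = 5275648 ∧
    (wsum fun k => (tab oddW 3 8 (opts [-1, 3] [1, -3] k)).getD (3 * 8 + 4) 0) = 8290304 := by
  decide +kernel

theorem twos_eq : {x : GolayPt → ℤ | x ∈ leechLattice ∧ sqNorm x = 48 ∧ ∀ i, x i = 0 ∨ x i = 2 ∨ x i = -2} =
    dbl '' codeSet sqW 4 oddTag [1, -1] [0] 12 0 := by
  refine even_image 12 _ _ _ (fun y hc h4 => ?_) fun x hx => ⟨hx.1, by have := hx.2.2 none; omega⟩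
  simp only [Set.mem_setOf_eq, norm_sqW, List.cons_append, List.nil_append, List.mem_cons,
    List.not_mem_nil, or_false]
  constructor
  · rintro ⟨-, hn, hv⟩
    exact ⟨fun i => by have := hv i; omega, by omega⟩
  · rintro ⟨hv, hn⟩
    exact ⟨two_mul_mem hc h4, by omega, fun i => by have := hv i; omega⟩

theorem count_twos :
    {x : GolayPt → ℤ | x ∈ leechLattice ∧ sqNorm x = 48 ∧ ∀ i, x i = 0 ∨ x i = 2 ∨ x i = -2}.ncard = 5275648 := by
  rw [twos_eq, Set.ncard_image_of_injective _ dbl_inj,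
    code_count sqW 12 4 oddTag _ _ (by decide) (by decide) (by decide) (by decide) le_rfl (by norm_num)]
  exact shape_values.1

theorem oddW_cases {v : ℤ} (h : v ∈ [-1, 3, -5] ++ [1, -3, 5]) :
    (oddW v = 0 ∧ |v| = 1) ∨ (oddW v = 1 ∧ |v| = 3) ∨ (oddW v = 3 ∧ |v| = 5) := by
  simp only [List.cons_append, List.nil_append, List.mem_cons, List.not_mem_nil, or_false] at h
  rcases h with rfl | rfl | rfl | rfl | rfl | rfl <;> decide

theorem threes_eq : {x : GolayPt → ℤ | x ∈ leechLattice ∧ sqNorm x = 48 ∧ ∃ i j k, i ≠ j ∧ j ≠ k ∧ i ≠ k ∧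
      |x i| = 3 ∧ |x j| = 3 ∧ |x k| = 3} = codeSet oddW 8 threeTag [-1, 3] [1, -3] 3 4 := by
  classical
  have hodd := oddVecs_eq (a := 3) (by norm_num)
  ext x
  constructor
  · rintro ⟨hL, hn, i, j, k, hij, hjk, hik, hi, hj, hk⟩
    have ho : ∀ l, ¬(2 : ℤ) ∣ x l := by
      rcases leech_cases hL with ⟨y, rfl, -, -⟩ | ho
      · exfalso
        rw [abs_eq (by norm_num)] at hi
        simp only at hi
        omega
      · exact ho
    obtain ⟨hc, hv, ha, hr⟩ := (Set.ext_iff.1 hodd x).1 ⟨hL, by rw [hn]; norm_num, ho none⟩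
    refine ⟨hc, fun l => ?_, ha, hr⟩
    have h3 : ({i, j, k} : Finset GolayPt).card = 3 :=
      Finset.card_eq_three.2 ⟨i, j, k, hij, hik, hjk, rfl⟩
    have hw : ∀ m ∈ ({i, j, k} : Finset GolayPt), oddW (x m) = 1 := by
      intro m hm
      have e : |x m| = 3 := by
        simp only [Finset.mem_insert, Finset.mem_singleton] at hm
        rcases hm with rfl | rfl | rfl <;> assumption
      rcases oddW_cases (hv m) with h | h | h <;> omega
    have hl : oddW (x l) ≤ 1 := by
      by_cases hm : l ∈ ({i, j, k} : Finset GolayPt)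
      · rw [hw l hm]
      · have := Finset.sum_le_sum_of_subset (f := fun m => oddW (x m))
          (Finset.subset_univ (insert l ({i, j, k} : Finset GolayPt)))
        rw [Finset.sum_insert hm, Finset.sum_congr rfl hw, Finset.sum_const, h3, ha] at this
        simp only [smul_eq_mul, mul_one] at this
        omega
    have := hv l
    simp only [List.cons_append, List.nil_append, List.mem_cons, List.not_mem_nil, or_false] at this ⊢
    rcases this with h | h | h | h | h | h
    all_goals first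
      | omega
      | (rw [h, show oddW (-5) = 3 from rfl] at hl; omega)
      | (rw [h, show oddW 5 = 3 from rfl] at hl; omega)
  · rintro ⟨hc, hv, ha, hr⟩
    have hv' : ∀ l, x l ∈ [-1, 3, -5] ++ [1, -3, 5] := fun l => by
      have := hv l
      simp only [List.cons_append, List.nil_append, List.mem_cons, List.not_mem_nil, or_false] at this ⊢
      omega
    obtain ⟨hL, hn, -⟩ := (Set.ext_iff.1 hodd x).2 ⟨hc, hv', ha, hr⟩
    refine ⟨hL, hn.trans (by norm_num), ?_⟩
    have hle : ∀ l, oddW (x l) = if |x l| = 3 then 1 else 0 := fun l => by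
      have := hv l
      simp only [List.cons_append, List.nil_append, List.mem_cons, List.not_mem_nil, or_false] at this
      rcases this with h | h | h | h <;> rw [h] <;> decide
    rw [Finset.sum_congr rfl fun l _ => hle l, Finset.sum_boole, Nat.cast_id] at ha
    obtain ⟨i, j, k, hij, hik, hjk, he⟩ := Finset.card_eq_three.1 ha
    have hm : ∀ l, l ∈ ({i, j, k} : Finset GolayPt) → |x l| = 3 := fun l hl => by
      rw [← he] at hl; exact (Finset.mem_filter.1 hl).2
    exact ⟨i, j, k, hij, hjk, hik, hm i (by simp), hm j (by simp), hm k (by simp)⟩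

theorem count_threes : {x : GolayPt → ℤ | x ∈ leechLattice ∧ sqNorm x = 48 ∧ ∃ i j k, i ≠ j ∧ j ≠ k ∧ i ≠ k ∧
      |x i| = 3 ∧ |x j| = 3 ∧ |x k| = 3}.ncard = 8290304 := by
  rw [threes_eq,
    code_count oddW 3 8 threeTag _ _ (by decide) (by decide) (by decide) (by decide) le_rfl (by norm_num)]
  exact shape_values.2

theorem count_four : {x : GolayPt → ℤ | x ∈ leechLattice ∧ sqNorm x = 48 ∧ ∃ i, |x i| = 4}.ncard = 3108864 := by
  have h1 := ncard_even (a := 12) (by norm_num) _ table_values.2.1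
  norm_num at h1
  have e : {x : GolayPt → ℤ | x ∈ leechLattice ∧ sqNorm x = 48 ∧ ∃ i, |x i| = 4} =
      evenVecs 48 \ {x | x ∈ leechLattice ∧ sqNorm x = 48 ∧ ∀ i, x i = 0 ∨ x i = 2 ∨ x i = -2} := by
    ext x
    constructor
    · rintro ⟨hL, hn, i, hi⟩
      rw [abs_eq (by norm_num)] at hi
      refine ⟨⟨hL, hn, ?_⟩, fun h => by have := h.2.2 i; omega⟩
      rcases leech_cases hL with ⟨y, rfl, -, -⟩ | ho
      · exact Dvd.intro _ rfl
      · exfalso
        have := ho i
        omega
    · rintro ⟨⟨hL, hn, he⟩, hnot⟩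
      rcases leech_cases hL with ⟨y, rfl, hc, -⟩ | ho
      swap
      · exact absurd he (ho none)
      refine ⟨hL, hn, ?_⟩
      have : ∃ i, ¬(y i = 0 ∨ y i = 1 ∨ y i = -1) := by
        by_contra h
        refine hnot ⟨hL, hn, fun i => ?_⟩
        have := not_exists.1 h i
        show 2 * y i = 0 ∨ 2 * y i = 2 ∨ 2 * y i = -2
        omega
      obtain ⟨i, hi⟩ := this
      refine ⟨i, ?_⟩
      rw [norm_two_mul] at hn
      have hs : ∑ j, y j ^ 2 = 12 := by omega
      have hle : y i ^ 2 ≤ 12 := le_of_le_of_eq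
        (Finset.single_le_sum (f := fun j => y j ^ 2) (fun j _ => sq_nonneg (y j)) (Finset.mem_univ i)) hs
      obtain ⟨hl, hu⟩ := small_of_sq (b := 3) (by norm_num) (by omega : y i ^ 2 < (3 + 1) ^ 2)
      rcases (show y i = 2 ∨ y i = -2 ∨ y i = 3 ∨ y i = -3 by omega) with h | h | h | h
      · simp [h]
      · simp [h]
      all_goals
        exfalso
        have hmem : i ∈ oddSupp y := mem_oddSupp.2 (by omega)
        have h8 : 8 ≤ (oddSupp y).card := by
          have := Finset.card_pos.2 ⟨i, hmem⟩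
          rcases card_cases hc with g | g | g | g | g <;> omega
        have h7 : ((oddSupp y).erase i).card ≥ 7 := by rw [Finset.card_erase_of_mem hmem]; omega
        have hlow : (((oddSupp y).erase i).card : ℤ) ≤ ∑ j ∈ (oddSupp y).erase i, y j ^ 2 := by
          rw [Finset.card_eq_sum_ones, Nat.cast_sum]
          refine Finset.sum_le_sum fun j hj => ?_
          have h0 : y j ≠ 0 := fun h0 => mem_oddSupp.1 (Finset.mem_of_mem_erase hj) (by rw [h0]; exact dvd_zero _)
          rw [Nat.cast_one]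
          nlinarith [Int.one_le_abs h0, sq_abs (y j)]
        have htot := Finset.sum_le_sum_of_subset_of_nonneg (f := fun j => y j ^ 2)
          (Finset.subset_univ (oddSupp y)) (fun j _ _ => sq_nonneg _)
        rw [← Finset.add_sum_erase _ _ hmem, hs, h] at htot
        norm_num at htot
        omega
  rw [e, Set.ncard_sdiff ?_ ((finite_vecs 48).subset fun x hx => ⟨hx.1, hx.2.1⟩), h1, count_twos]
  rintro x ⟨hL, hn, hv⟩
  exact ⟨hL, hn, by have := hv none; omega⟩

theorem count_five : {x : GolayPt → ℤ | x ∈ leechLattice ∧ sqNorm x = 48 ∧ ∃ i, |x i| = 5}.ncard = 98304 := by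
  classical
  have hodd := oddVecs_eq (a := 3) (by norm_num)
  have h1 := ncard_odd (a := 3) (by norm_num) _ table_values.2.2.2
  norm_num at h1
  have e : {x : GolayPt → ℤ | x ∈ leechLattice ∧ sqNorm x = 48 ∧ ∃ i, |x i| = 5} =
      oddVecs 48 \ {x | x ∈ leechLattice ∧ sqNorm x = 48 ∧ ∃ i j k, i ≠ j ∧ j ≠ k ∧ i ≠ k ∧
        |x i| = 3 ∧ |x j| = 3 ∧ |x k| = 3} := by
    ext x
    constructor
    · rintro ⟨hL, hn, i, hi⟩
      refine ⟨⟨hL, hn, ?_⟩, fun h => ?_⟩
      · rcases leech_cases hL with ⟨y, rfl, -, -⟩ | ho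
        · exfalso
          rw [abs_eq (by norm_num)] at hi
          simp only at hi
          omega
        · exact ho none
      · rw [threes_eq] at h
        have := h.2.1 i
        simp only [List.cons_append, List.nil_append, List.mem_cons, List.not_mem_nil, or_false] at this
        rcases this with g | g | g | g <;> rw [g] at hi <;> norm_num at hi
    · rintro ⟨hx, hnot⟩
      obtain ⟨hc, hv, ha, hr⟩ := (Set.ext_iff.1 hodd x).1 ⟨hx.1, hx.2.1.trans (by norm_num), hx.2.2⟩
      refine ⟨hx.1, hx.2.1, ?_⟩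
      by_contra h
      refine hnot ((Set.ext_iff.1 threes_eq x).2 ⟨hc, fun l => ?_, ha, hr⟩)
      have := hv l
      simp only [List.cons_append, List.nil_append, List.mem_cons, List.not_mem_nil, or_false] at this ⊢
      have h5 : |x l| ≠ 5 := not_exists.1 h l
      rcases this with g | g | g | g | g | g
      all_goals rw [g] at h5 ⊢
      all_goals first
        | decide
        | exact absurd (by norm_num) h5
  rw [e, Set.ncard_sdiff ?_ ((finite_vecs 48).subset fun x hx => ⟨hx.1, hx.2.1⟩), h1, count_threes]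
  rintro x hx
  refine ⟨hx.1, hx.2.1, ?_⟩
  rw [threes_eq] at hx
  have := hx.2.1 none
  simp only [List.cons_append, List.nil_append, List.mem_cons, List.not_mem_nil, or_false] at this
  omega

end CfsgLib.Spor.LeechCount
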