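import Cfsg.Agent.Spor.LeechBasic
import Cfsg.Agent.Spor.M24Trans

/-!
A quadratic map on the lattice modulo two which is invariant under the monomial automorphisms
vanishes on a twelve-dimensional space.
-/

set_option autoImplicit false

namespace CfsgLib.Spor

open Cfsg
open scoped Pointwise

/-- `4 e_a + 4 e_b` -/
def pairVec (a b : GolayPt) : GolayPt → ℤ := Pi.single a 4 + Pi.single b 4

/-- `8 e_a` -/
def eightVec (a : GolayPt) : GolayPt → ℤ := Pi.single a 8

theorem inLeech_of_four {x : GolayPt → ℤ} (h : ∀ i, (4 : ℤ) ∣ x i) (hs : (8 : ℤ) ∣ ∑ i, x i) :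
    InLeech x := by
  refine ⟨0, fun i => ?_, ?_, ?_⟩
  · have := h i; omega
  · simpa using hs
  · have : halfWord x 0 = 0 := by
      funext i
      have := h i
      show (((x i - 0) / 2 : ℤ) : ZMod 2) = 0
      rw [ZMod.intCast_zmod_eq_zero_iff_dvd]
      omega
    rw [this]; exact Submodule.zero_mem _

theorem four_dvd_single (a i : GolayPt) {c : ℤ} (hc : (4 : ℤ) ∣ c) :
    (4 : ℤ) ∣ (Pi.single a c : GolayPt → ℤ) i := by
  by_cases h : i = a
  · subst h; simpa using hc
  · simp [h]

theorem inLeech_pairVec (a b : GolayPt) : InLeech (pairVec a b) := by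
  refine inLeech_of_four (fun i => dvd_add (four_dvd_single a i dvd_rfl) (four_dvd_single b i dvd_rfl)) ?_
  simp [pairVec, Finset.sum_add_distrib]

theorem inLeech_eightVec (a : GolayPt) : InLeech (eightVec a) :=
  inLeech_of_four (fun i => four_dvd_single a i (by norm_num)) (by simp [eightVec])

/-- `4 e_a + 4 e_b` as a lattice vector -/
def lpair (a b : GolayPt) : leechLattice := ⟨pairVec a b, mem_leechLattice.2 (inLeech_pairVec a b)⟩

/-- `8 e_a` as a lattice vector -/
def leight (a : GolayPt) : leechLattice := ⟨eightVec a, mem_leechLattice.2 (inLeech_eightVec a)⟩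

theorem co0Perm_lpair (σ : Equiv.Perm GolayPt) (hσ : σ ∈ M24) (a b : GolayPt) :
    co0Perm σ hσ • lpair a b = lpair (σ a) (σ b) := by
  apply Subtype.ext; funext i
  rw [co0Perm_apply]
  simp only [lpair, pairVec, Pi.add_apply, Pi.single_apply, Equiv.Perm.inv_def, Equiv.symm_apply_eq]

theorem exists_m24_map {k : ℕ} (hk : k ≤ 5) (f g : Fin k → GolayPt) (hf : Function.Injective f)
    (hg : Function.Injective g) : ∃ σ ∈ M24, ∀ i, σ (f i) = g i := by
  haveI : MulAction.IsMultiplyPretransitive M24 GolayPt 5 := m24_five_transitive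
  haveI : MulAction.IsPretransitive M24 (Fin k ↪ GolayPt) :=
    MulAction.isMultiplyPretransitive_of_le (n := 5) hk (by simp)
  obtain ⟨s, hs⟩ := MulAction.exists_smul_eq M24 (⟨f, hf⟩ : Fin k ↪ GolayPt) ⟨g, hg⟩
  exact ⟨s.1, s.2, fun i => DFunLike.congr_fun hs i⟩

theorem m24_map_pair {a b c d : GolayPt} (h : a ≠ b) (h' : c ≠ d) :
    ∃ σ ∈ M24, σ a = c ∧ σ b = d := by
  have hf : Function.Injective ![a, b] := by
    intro i j; fin_cases i <;> fin_cases j <;> simp [h, h.symm]
  have hg : Function.Injective ![c, d] := by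
    intro i j; fin_cases i <;> fin_cases j <;> simp [h', h'.symm]
  obtain ⟨σ, hσ, he⟩ := exists_m24_map (by norm_num) _ _ hf hg
  exact ⟨σ, hσ, he 0, he 1⟩

theorem m24_map_triple {a b c a' b' c' : GolayPt} (h1 : a ≠ b) (h2 : a ≠ c) (h3 : b ≠ c)
    (k1 : a' ≠ b') (k2 : a' ≠ c') (k3 : b' ≠ c') :
    ∃ σ ∈ M24, σ a = a' ∧ σ b = b' ∧ σ c = c' := by
  have hf : Function.Injective ![a, b, c] := by
    intro i j; fin_cases i <;> fin_cases j <;> simp [h1, h1.symm, h2, h2.symm, h3, h3.symm]
  have hg : Function.Injective ![a', b', c'] := by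
    intro i j; fin_cases i <;> fin_cases j <;> simp [k1, k1.symm, k2, k2.symm, k3, k3.symm]
  obtain ⟨σ, hσ, he⟩ := exists_m24_map (by norm_num) _ _ hf hg
  exact ⟨σ, hσ, he 0, he 1, he 2⟩

theorem m24_map_quad {a b c d a' b' c' d' : GolayPt} (hf : Function.Injective ![a, b, c, d])
    (hg : Function.Injective ![a', b', c', d']) :
    ∃ σ ∈ M24, σ a = a' ∧ σ b = b' ∧ σ c = c' ∧ σ d = d' := by
  obtain ⟨σ, hσ, he⟩ := exists_m24_map (by norm_num) _ _ hf hg
  exact ⟨σ, hσ, he 0, he 1, he 2, he 3⟩

/-- the sets used for the sign change and for the octad relation -/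
def octMask : ℕ := octadList.getD 0 0

/-- the numbers of the points of the reference octad -/
def octPts : List ℕ := (List.range 24).filter fun i => octMask.testBit i

/-- a quadratic map on the lattice modulo two, invariant under the lattice automorphisms -/
structure InvForm (q : leechLattice → ZMod 2) (f : leechLattice → leechLattice → ZMod 2) : Prop where
  add : ∀ u v, q (u + v) = q u + q v + f u v
  biadd : ∀ u v w, f u (v + w) = f u v + f u w
  double : ∀ u, q (u + u) = 0
  inv : ∀ (g : Co0) u, q (g • u) = q u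

namespace InvForm

variable {q : leechLattice → ZMod 2} {f : leechLattice → leechLattice → ZMod 2}

theorem zero (h : InvForm q f) : q 0 = 0 := by simpa using h.double 0

theorem f_comm (h : InvForm q f) (u v : leechLattice) : f u v = f v u := by
  have h1 := h.add u v
  rw [add_comm u v, h.add v u, add_comm (q v) (q u)] at h1
  exact (add_left_cancel h1).symm

theorem f_self (h : InvForm q f) (u : leechLattice) : f u u = 0 := by
  have h1 := h.add u u
  rw [h.double, CharTwo.add_self_eq_zero, zero_add] at h1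
  exact h1.symm

theorem f_double (h : InvForm q f) (u v : leechLattice) : f u (v + v) = 0 := by
  rw [h.biadd, CharTwo.add_self_eq_zero]

theorem q_add_double (h : InvForm q f) (u v : leechLattice) : q (u + (v + v)) = q u := by
  rw [h.add, h.double, h.f_double, add_zero, add_zero]

theorem f_inv (h : InvForm q f) (g : Co0) (u v : leechLattice) : f (g • u) (g • v) = f u v := by
  have h1 := h.add (g • u) (g • v)
  have h2 : g • (u + v) = g • u + g • v := g.2.1 u v
  rw [← h2, h.inv, h.inv, h.inv, h.add] at h1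
  exact (add_left_cancel h1).symm

theorem f_pairs_disjoint (h : InvForm q f) {a b c d a' b' c' d' : GolayPt}
    (hf : Function.Injective ![a, b, c, d]) (hg : Function.Injective ![a', b', c', d']) :
    f (lpair a b) (lpair c d) = f (lpair a' b') (lpair c' d') := by
  obtain ⟨σ, hσ, ea, eb, ec, ed⟩ := m24_map_quad hf hg
  rw [← h.f_inv (co0Perm σ hσ), co0Perm_lpair, co0Perm_lpair, ea, eb, ec, ed]

theorem f_pairs_meet (h : InvForm q f) {a b c a' b' c' : GolayPt}
    (h1 : a ≠ b) (h2 : a ≠ c) (h3 : b ≠ c) (k1 : a' ≠ b') (k2 : a' ≠ c') (k3 : b' ≠ c') :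
    f (lpair a b) (lpair a c) = f (lpair a' b') (lpair a' c') := by
  obtain ⟨σ, hσ, ea, eb, ec⟩ := m24_map_triple h1 h2 h3 k1 k2 k3
  rw [← h.f_inv (co0Perm σ hσ), co0Perm_lpair, co0Perm_lpair, ea, eb, ec]

theorem q_pair_const (h : InvForm q f) {a b c d : GolayPt} (h1 : a ≠ b) (h2 : c ≠ d) :
    q (lpair a b) = q (lpair c d) := by
  obtain ⟨σ, hσ, ea, eb⟩ := m24_map_pair h1 h2
  rw [← h.inv (co0Perm σ hσ), co0Perm_lpair, ea, eb]

end InvForm

theorem octMask_ok : inCode octMask = true ∧ octPts = [octPts.getD 0 0, octPts.getD 1 0,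
    octPts.getD 2 0, octPts.getD 3 0, octPts.getD 4 0, octPts.getD 5 0, octPts.getD 6 0,
    octPts.getD 7 0] := by decide +kernel

/-- the `i`-th point of the reference octad -/
def op (i : ℕ) : GolayPt := pt (octPts.getD i 0)

/-- a point outside the reference octad -/
def opOut : GolayPt := pt (((List.range 24).filter fun i => ! octMask.testBit i).getD 0 0)

theorem op_distinct : [op 0, op 1, op 2, op 3, op 4, op 5, op 6, op 7, opOut].Nodup := by
  decide +kernel

theorem octVec_eq : ∀ i : GolayPt,
    (pairVec (op 0) (op 1) + pairVec (op 2) (op 3) + (pairVec (op 4) (op 5) + pairVec (op 6) (op 7))) i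
      = if i ∈ ofMask octMask then 4 else 0 := by
  decide +kernel

theorem twoOct_inLeech : InLeech (fun i => if i ∈ ofMask octMask then 2 else 0) := by
  refine ⟨0, fun i => by dsimp only; split <;> norm_num, by decide +kernel, ?_⟩
  rw [mem_code_iff]
  have h : support₂ (halfWord (fun i => if i ∈ ofMask octMask then 2 else 0) 0) = ofMask octMask := by
    ext i
    rw [mem_supp, halfWord]
    by_cases hi : i ∈ ofMask octMask <;> simp [hi]
  rw [h]
  exact (ofMask_mem_Code (inCode_lt octMask_ok.1)).2 octMask_ok.1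

namespace InvForm

variable {q : leechLattice → ZMod 2} {f : leechLattice → leechLattice → ZMod 2}

theorem eight_congr (h : InvForm q f) (a b : GolayPt) :
    q (leight a) = q (leight b) ∧ ∀ u, f u (leight a) = f u (leight b) := by
  have hmem : InLeech (Pi.single a 4 - Pi.single b 4 : GolayPt → ℤ) := by
    refine inLeech_of_four (fun i => dvd_sub (four_dvd_single a i dvd_rfl) (four_dvd_single b i dvd_rfl)) ?_
    simp [Finset.sum_sub_distrib]
  have e : leight a = leight b + ((⟨_, mem_leechLattice.2 hmem⟩ : leechLattice) + ⟨_, mem_leechLattice.2 hmem⟩) := by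
    apply Subtype.ext; funext i
    simp only [leight, eightVec, AddSubgroup.coe_add, Pi.add_apply, Pi.sub_apply, Pi.single_apply]
    split <;> split <;> norm_num
  refine ⟨by rw [e, h.q_add_double], fun u => ?_⟩
  rw [e, h.biadd, h.f_double, add_zero]

/-- all the values on pairs and on eight times a unit vector -/
theorem values (h : InvForm q f) :
    (∀ a, q (leight a) = 0) ∧ (∀ a b, a ≠ b → q (lpair a b) = 0) ∧
    (∀ a b c, a ≠ b → a ≠ c → b ≠ c → f (lpair a b) (lpair a c) = 0) ∧
    (∀ a b e, a ≠ b → f (lpair a b) (leight e) = 0) := by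
  classical
  have hn := op_distinct
  simp only [List.nodup_cons, List.mem_cons, List.not_mem_nil, or_false, not_or] at hn
  obtain ⟨⟨n01, n02, n03, n04, n05, n06, n07, n08⟩, ⟨n12, n13, n14, n15, n16, n17, n18⟩,
    ⟨n23, n24, n25, n26, n27, n28⟩, ⟨n34, n35, n36, n37, n38⟩, ⟨n45, n46, n47, n48⟩,
    ⟨n56, n57, n58⟩, ⟨n67, n68⟩, n78, -⟩ := hn
  have inj4 : ∀ {a b c d : GolayPt}, a ≠ b → a ≠ c → a ≠ d → b ≠ c → b ≠ d → c ≠ d →
      Function.Injective ![a, b, c, d] := by
    intro a b c d h1 h2 h3 h4 h5 h6 i j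
    fin_cases i <;> fin_cases j <;>
      simp [h1, h1.symm, h2, h2.symm, h3, h3.symm, h4, h4.symm, h5, h5.symm, h6, h6.symm]
  set α := f (lpair (op 0) (op 1)) (lpair (op 2) (op 3)) with hα
  have hO : ∀ u, f u (lpair (op 0) (op 1)) + f u (lpair (op 2) (op 3)) +
      (f u (lpair (op 4) (op 5)) + f u (lpair (op 6) (op 7))) = 0 := by
    intro u
    rw [← h.biadd, ← h.biadd, ← h.biadd]
    have e : lpair (op 0) (op 1) + lpair (op 2) (op 3) + (lpair (op 4) (op 5) + lpair (op 6) (op 7))
        = (⟨_, mem_leechLattice.2 twoOct_inLeech⟩ : leechLattice) + ⟨_, mem_leechLattice.2 twoOct_inLeech⟩ := by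
      apply Subtype.ext; funext i
      refine (octVec_eq i).trans ?_
      simp only [AddSubgroup.coe_add, Pi.add_apply]
      split <;> norm_num
    rw [e, h.f_double]
  -- disjoint pairs
  have hα0 : α = 0 := by
    have h1 := hO (lpair (op 0) (op 1))
    rw [h.f_self, zero_add,
      h.f_pairs_disjoint (inj4 n01 n04 n05 n14 n15 n45) (inj4 n01 n02 n03 n12 n13 n23),
      h.f_pairs_disjoint (inj4 n01 n06 n07 n16 n17 n67) (inj4 n01 n02 n03 n12 n13 n23),
      ← hα, CharTwo.add_self_eq_zero, add_zero] at h1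
    exact h1
  have hdis : ∀ {a b c d : GolayPt}, a ≠ b → a ≠ c → a ≠ d → b ≠ c → b ≠ d → c ≠ d →
      f (lpair a b) (lpair c d) = 0 := by
    intro a b c d h1 h2 h3 h4 h5 h6
    rw [h.f_pairs_disjoint (inj4 h1 h2 h3 h4 h5 h6) (inj4 n01 n02 n03 n12 n13 n23), ← hα, hα0]
  -- meeting pairs
  have hγ : f (lpair (op 0) opOut) (lpair (op 0) (op 1)) = 0 := by
    have h1 := hO (lpair (op 0) opOut)
    rw [hdis n08 n02 n03 (Ne.symm n28) (Ne.symm n38) n23, hdis n08 n04 n05 (Ne.symm n48) (Ne.symm n58) n45,
      hdis n08 n06 n07 (Ne.symm n68) (Ne.symm n78) n67, add_zero, add_zero, add_zero] at h1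
    exact h1
  have hmeet : ∀ a b c, a ≠ b → a ≠ c → b ≠ c → f (lpair a b) (lpair a c) = 0 := by
    intro a b c h1 h2 h3
    rw [h.f_pairs_meet h1 h2 h3 n08 n01 (Ne.symm n18), hγ]
  -- the relation through a middle point
  have hR : ∀ a b c, lpair a b + lpair b c = lpair a c + leight b := by
    intro a b c
    apply Subtype.ext; funext i
    simp only [lpair, leight, pairVec, eightVec, AddSubgroup.coe_add, Pi.add_apply, Pi.single_apply]
    split <;> split <;> split <;> norm_num
  have hsym : ∀ a b, lpair a b = lpair b a := fun a b => Subtype.ext (add_comm _ _)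
  have hβ : ∀ a b e, a ≠ b → f (lpair a b) (leight e) = 0 := by
    intro a b e hab
    obtain ⟨x, hx⟩ := Finset.card_pos.1 (show 0 < (Finset.univ \ {a, b} : Finset GolayPt).card by
      rw [Finset.card_sdiff_of_subset (Finset.subset_univ _), Finset.card_univ, Finset.card_pair hab]
      decide)
    obtain ⟨y, hy⟩ := Finset.card_pos.1 (show 0 < (Finset.univ \ {a, b, x} : Finset GolayPt).card by
      have h3 : ({a, b, x} : Finset GolayPt).card ≤ 3 := Finset.card_le_three
      rw [Finset.card_sdiff_of_subset (Finset.subset_univ _), Finset.card_univ]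
      have : Fintype.card GolayPt = 24 := by decide
      omega)
    obtain ⟨w, hw⟩ := Finset.card_pos.1 (show 0 < (Finset.univ \ {a, b, x, y} : Finset GolayPt).card by
      have h4 : ({a, b, x, y} : Finset GolayPt).card ≤ 4 := Finset.card_le_four
      rw [Finset.card_sdiff_of_subset (Finset.subset_univ _), Finset.card_univ]
      have : Fintype.card GolayPt = 24 := by decide
      omega)
    simp only [Finset.mem_sdiff, Finset.mem_univ, true_and, Finset.mem_insert, Finset.mem_singleton,
      not_or] at hx hy hw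
    obtain ⟨xa, xb⟩ := hx
    obtain ⟨ya, yb, yx⟩ := hy
    obtain ⟨wa, wb, wx, wy⟩ := hw
    have h1 := congrArg (f (lpair a b)) (hR x w y)
    rw [h.biadd, h.biadd, hdis hab (Ne.symm xa) (Ne.symm wa) (Ne.symm xb) (Ne.symm wb) (Ne.symm wx),
      hdis hab (Ne.symm wa) (Ne.symm ya) (Ne.symm wb) (Ne.symm yb) wy,
      hdis hab (Ne.symm xa) (Ne.symm ya) (Ne.symm xb) (Ne.symm yb) (Ne.symm yx),
      (h.eight_congr w e).2, zero_add, zero_add] at h1
    exact h1.symm
  have hc : q (lpair (op 0) (op 1)) = q (leight (op 0)) := by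
    have h1 := congrArg q (hR (op 2) (op 0) (op 1))
    rw [h.add, h.add, hsym (op 2) (op 0), hmeet _ _ _ n02 n01 (Ne.symm n12), hβ _ _ _ (Ne.symm n12),
      h.q_pair_const n02 n01, h.q_pair_const (Ne.symm n12) n01,
      CharTwo.add_self_eq_zero, zero_add, add_zero] at h1
    exact (CharTwo.add_eq_zero.1 h1.symm)
  have hd : q (leight (op 0)) = 0 := by
    have hoct : ofMask octMask ∈ Code := (ofMask_mem_Code (inCode_lt octMask_ok.1)).2 octMask_ok.1
    have hin : op 0 ∈ ofMask octMask := by decide +kernel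
    have hout : opOut ∉ ofMask octMask := by decide +kernel
    have e : lpair opOut (op 0) = co0Sign _ hoct • lpair opOut (op 0) + leight (op 0) := by
      apply Subtype.ext; funext i
      rw [AddSubgroup.coe_add, Pi.add_apply, co0Sign_apply]
      simp only [lpair, leight, pairVec, eightVec, Pi.add_apply, Pi.single_apply]
      by_cases h0 : i = op 0
      · subst h0; simp [hin, n08]
      · by_cases h9 : i = opOut
        · subst h9; simp [hout, h0]
        · simp [h0, h9]
    have h1 := congrArg q e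
    rw [h.add, h.inv] at h1
    have hf0 : f (co0Sign _ hoct • lpair opOut (op 0)) (leight (op 0)) = 0 := by
      have h2 := hβ opOut (op 0) (op 0) (Ne.symm n08)
      rw [e, h.f_comm, h.biadd, h.f_self, add_zero, h.f_comm] at h2
      exact h2
    rw [hf0, add_zero] at h1
    exact add_left_cancel (a := q (lpair opOut (op 0))) (h1.symm.trans (add_zero _).symm)
  refine ⟨fun a => (h.eight_congr a (op 0)).1.trans hd, fun a b hab => ?_, hmeet, hβ⟩
  rw [h.q_pair_const hab n01, hc, hd]

end InvForm

end CfsgLib.Spor
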