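import Cfsg.Agent.Spor.M24Order

/-!
The order of the automorphism group of the code, multiple transitivity and generation.
-/

set_option autoImplicit false

namespace CfsgLib.Spor

open Cfsg
open scoped Pointwise

theorem card_le_allowed {G X : Type*} [Group G] [MulAction G X] [Finite G] [DecidableEq X]
    {H : Subgroup G} {x : X} (A : Finset X) (h : ∀ g ∈ H, g • x ∈ A) :
    Nat.card H ≤ A.card * Nat.card ↥(H ⊓ MulAction.stabilizer G x) := by
  have horb := ncard_orbit_mul_card (G := H) x
  have h1 : (MulAction.orbit H x).ncard ≤ A.card := by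
    rw [← Set.ncard_coe_finset]
    refine Set.ncard_le_ncard ?_ A.finite_toSet
    rintro _ ⟨g, rfl⟩
    exact h g g.2
  have h2 : Nat.card (MulAction.stabilizer H x) = Nat.card ↥(H ⊓ MulAction.stabilizer G x) :=
    Nat.card_congr
      { toFun := fun k => ⟨k.1.1, k.1.2, k.2⟩
        invFun := fun k => ⟨⟨k.1, k.2.1⟩, k.2.2⟩
        left_inv := fun _ => rfl
        right_inv := fun _ => rfl }
  rw [← horb, h2]
  exact Nat.mul_le_mul_right _ h1

/-- fixer of a list of numbered points inside the automorphism group of the code -/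
noncomputable def fixer : List ℕ → Subgroup (Equiv.Perm GolayPt)
  | [] => M24
  | b :: bs => fixer bs ⊓ MulAction.stabilizer (Equiv.Perm GolayPt) (pt b)

theorem fixer_le_M24 : ∀ bs, fixer bs ≤ M24
  | [] => le_rfl
  | _ :: bs => inf_le_left.trans (fixer_le_M24 bs)

theorem fixer_fix : ∀ {bs : List ℕ} {σ : Equiv.Perm GolayPt}, σ ∈ fixer bs →
    ∀ b ∈ bs, σ (pt b) = pt b
  | [], _, _ => by simp
  | c :: bs, σ, h => by
    intro b hb
    rcases List.mem_cons.1 hb with rfl | hb
    · exact MulAction.mem_stabilizer_iff.1 h.2
    · exact fixer_fix h.1 b hb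

theorem card_fixer_le_avoid (bs : List ℕ) (b m : ℕ)
    (hbs : bs.all (fun c => decide (c < 24)) = true)
    (hm : (List.range 24).all (fun i => bs.contains i || m.testBit i) = true)
    (hb : bs.contains (b % 24) = false) :
    Nat.card (fixer bs) ≤ pop m * Nat.card (fixer (b :: bs)) := by
  rw [← card_ofMask]
  refine card_le_allowed (ofMask m) fun σ hσ => ?_
  rw [mem_ofMask]
  have h := List.all_eq_true.1 hm (num (σ (pt b))) (List.mem_range.2 (num_lt _))
  rw [Bool.or_eq_true] at h
  rcases h with h | h
  · exfalso
    rw [List.contains_iff_mem] at h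
    have hfix := fixer_fix hσ _ h
    rw [pt_num] at hfix
    have he := σ.injective hfix
    have : b % 24 ∈ bs := by
      have e := congrArg num he
      rw [show num (pt b) = b % 24 by simp [num, pt]] at e
      rwa [e] at h
    rw [← List.contains_iff_mem, hb] at this
    exact Bool.noConfusion this
  · exact h

theorem card_M24_le : Nat.card M24 ≤ 244823040 := by
  have e1 := card_fixer_le_avoid [] 23 FULL (by decide) (by decide +kernel) (by decide)
  have e2 := card_fixer_le_avoid [23] 0 8388607 (by decide) (by decide +kernel) (by decide)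
  have e3 := card_fixer_le_avoid [0, 23] 1 8388606 (by decide) (by decide +kernel) (by decide)
  have e4 := card_fixer_le_avoid [1, 0, 23] 2 8388604 (by decide) (by decide +kernel) (by decide)
  have e5 := card_fixer_le_avoid [2, 1, 0, 23] 3 8388600 (by decide) (by decide +kernel) (by decide)
  have hO : ofMask m24Oct ∈ octads := (mem_octads_iff (by decide)).2 (by decide +kernel)
  have hfixO : ∀ σ ∈ fixer [3, 2, 1, 0, 23], σ • ofMask m24Oct = ofMask m24Oct := by
    intro σ hσ
    refine octad_ext (smul_mem_octads (fixer_le_M24 _ hσ) hO) hO ?_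
    refine le_trans (le_of_eq ?_) (Finset.card_le_card (s := ofMask 8388623) ?_)
    · rw [card_ofMask]; decide +kernel
    · intro p hp
      have hp' : p ∈ ofMask m24Oct := ofMask_subset (by decide +kernel) hp
      refine Finset.mem_inter.2 ⟨?_, hp'⟩
      have hmem : num p ∈ [3, 2, 1, 0, 23] := by
        revert hp; revert p; decide +kernel
      have hfix := fixer_fix hσ _ hmem
      rw [pt_num] at hfix
      rw [← hfix]
      exact mem_smul_iff.2 hp'
  have e6 : Nat.card (fixer [3, 2, 1, 0, 23]) ≤
      pop (m24Oct &&& 8388592) * Nat.card (fixer [5, 3, 2, 1, 0, 23]) := by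
    rw [← card_ofMask]
    refine card_le_allowed _ fun σ hσ => ?_
    rw [ofMask_and, Finset.mem_inter]
    constructor
    · show σ (pt 5) ∈ _
      rw [← hfixO σ hσ]
      exact mem_smul_iff.2 (by decide +kernel)
    · rw [mem_ofMask]
      have hne : ∀ i ∈ [3, 2, 1, 0, 23], σ (pt 5) ≠ pt i := by
        intro i hi he
        rw [← fixer_fix hσ i hi] at he
        have := σ.injective he
        revert this
        simp only [List.mem_cons, List.not_mem_nil, or_false] at hi
        rcases hi with rfl | rfl | rfl | rfl | rfl <;> decide +kernel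
      revert hne
      show (∀ i ∈ [3, 2, 1, 0, 23], (σ • pt 5) ≠ pt i) → _
      generalize σ • pt 5 = q
      revert q
      decide +kernel
  have e7 : Nat.card (fixer [5, 3, 2, 1, 0, 23]) ≤
      pop (FULL ^^^ m24Oct) * Nat.card (fixer [4, 5, 3, 2, 1, 0, 23]) := by
    rw [← card_ofMask]
    refine card_le_allowed _ fun σ hσ => ?_
    rw [ofMask_compl, Finset.mem_compl]
    intro hmem
    rw [← hfixO σ hσ.1] at hmem
    exact absurd (mem_smul_iff.1 hmem) (by decide +kernel)
  have e8 : Nat.card (fixer [4, 5, 3, 2, 1, 0, 23]) = 1 := by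
    rw [Subgroup.card_eq_one, eq_bot_iff]
    intro σ hσ
    rw [Subgroup.mem_bot]
    refine eq_one_of_fix_base (fixer_le_M24 _ hσ) fun l hl => fixer_fix hσ _ ?_
    have key : m24Chain.all (fun l => [4, 5, 3, 2, 1, 0, 23].contains l.base) = true := by
      decide +kernel
    simpa [List.contains_iff_mem] using List.all_eq_true.1 key l hl
  have p1 : pop FULL = 24 := by decide +kernel
  have p2 : pop 8388607 = 23 := by decide +kernel
  have p3 : pop 8388606 = 22 := by decide +kernel
  have p4 : pop 8388604 = 21 := by decide +kernel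
  have p5 : pop 8388600 = 20 := by decide +kernel
  have p6 : pop (m24Oct &&& 8388592) = 3 := by decide +kernel
  have p7 : pop (FULL ^^^ m24Oct) = 16 := by decide +kernel
  rw [p1] at e1; rw [p2] at e2; rw [p3] at e3; rw [p4] at e4; rw [p5] at e5; rw [p6] at e6
  rw [p7, e8] at e7
  have h0 : Nat.card M24 = Nat.card (fixer []) := rfl
  omega

theorem card_M24 : Nat.card M24 = 244823040 := le_antisymm card_M24_le le_card_M24

theorem gtGroup_m24_eq : gtGroup (chainTop m24Chain) = M24 := by
  refine Subgroup.eq_of_le_of_card_ge gtGroup_m24_le ?_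
  rw [card_M24, ← m24Chain_size]
  exact chain_card_le _ m24Chain_ok

/-! ### generation by the three standard permutations -/

/-- composition test for packed permutations -/
def compB (P Q R : ℕ) : Bool :=
  okP P && okP Q && okP R && (List.range 24).all fun i => app R i == app P (app Q i)

theorem mkPerm_comp {P Q R : ℕ} (h : compB P Q R = true) : mkPerm R = mkPerm P * mkPerm Q := by
  simp only [compB, Bool.and_eq_true, List.all_eq_true, beq_iff_eq, List.mem_range] at h
  obtain ⟨⟨⟨hP, hQ⟩, hR⟩, hc⟩ := h
  refine Equiv.ext fun p => num_injective ?_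
  rw [Equiv.Perm.mul_apply, num_mkPerm hR, num_mkPerm hP, num_mkPerm hQ, hc _ (num_lt p)]

/-- the straight-line program check -/
def slpOK : Bool :=
  decide (m24Slp.length = m24SlpOps.length + 3) && (m24Slp.take 3 == [packT, packI, packC]) &&
    (List.range m24SlpOps.length).all fun k =>
      decide ((m24SlpOps.getD k (0, 0)).1 < k + 3) && decide ((m24SlpOps.getD k (0, 0)).2 < k + 3) &&
        compB (m24Slp.getD (m24SlpOps.getD k (0, 0)).1 0) (m24Slp.getD (m24SlpOps.getD k (0, 0)).2 0)
          (m24Slp.getD (k + 3) 0)

theorem slpOK_eq : slpOK = true := by decide +kernel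

theorem slp_mem (k : ℕ) (hk : k < m24Slp.length) :
    mkPerm (m24Slp.getD k 0) ∈ Subgroup.closure {genT, projInv, cubeTwist} := by
  have h := slpOK_eq
  simp only [slpOK, Bool.and_eq_true, decide_eq_true_eq, beq_iff_eq, List.all_eq_true,
    List.mem_range] at h
  obtain ⟨⟨hlen, htake⟩, hops⟩ := h
  induction k using Nat.strong_induction_on with
  | _ k ih =>
    by_cases h3 : k < 3
    · have e : m24Slp.getD k 0 = [packT, packI, packC].getD k 0 := by
        rw [← htake, List.getD_eq_getElem?_getD, List.getD_eq_getElem?_getD,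
          List.getElem?_take_of_lt h3]
      rw [e]
      interval_cases k
      · exact Subgroup.subset_closure (Or.inl genT_eq.symm)
      · exact Subgroup.subset_closure (Or.inr (Or.inl projInv_eq.symm))
      · exact Subgroup.subset_closure (Or.inr (Or.inr cubeTwist_eq.symm))
    · obtain ⟨j, rfl⟩ : ∃ j, k = j + 3 := ⟨k - 3, by omega⟩
      obtain ⟨⟨ha, hb⟩, hc⟩ := hops j (by omega)
      rw [mkPerm_comp hc]
      exact mul_mem (ih _ ha (by omega)) (ih _ hb (by omega))

theorem M24_eq_closure : Subgroup.closure {genT, projInv, cubeTwist} = M24 := by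
  refine le_antisymm ?_ ?_
  · rw [Subgroup.closure_le]
    rintro x (rfl | rfl | rfl)
    exacts [genT_mem, projInv_mem, cubeTwist_mem]
  · rw [← gtGroup_m24_eq]
    refine gtGroup_le fun g hg => ?_
    have key : (chainTop m24Chain).all (fun g => m24Slp.contains g.P) = true := by decide +kernel
    have h := List.all_eq_true.1 key g hg
    rw [List.contains_iff_mem, List.mem_iff_getElem] at h
    obtain ⟨k, hk, he⟩ := h
    have := slp_mem k hk
    rw [List.getD_eq_getElem?_getD, List.getElem?_eq_getElem hk] at this
    simp only [Option.getD_some, he] at this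
    exact this

end CfsgLib.Spor
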