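import Cfsg.Agent.Spor.LeechFrame
import Cfsg.Agent.Spor.LeechForm
import Cfsg.Agent.Spor.M24Card
import Mathlib.GroupTheory.GroupAction.Quotient

/-!
The crosses of the lattice: transitivity of the isometry group, its order and centre, and
transitivity on the vectors of sum of squares 32, 48.
-/

set_option autoImplicit false

namespace CfsgLib.Spor.LeechCross

open Cfsg CfsgLib.Spor CfsgLib.Spor.LeechFacts CfsgLib.Spor.LeechCount CfsgLib.Spor.LeechModTwo
  CfsgLib.Spor.LeechFrame
open scoped Pointwise Matrix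

theorem parseval {n : Type*} [Fintype n] [DecidableEq n] (B P : Matrix n n ℤ) (k : ℤ) (hk : k ≠ 0)
    (h : Pᵀ * B * P = k • 1) : P * Pᵀ * B = k • 1 := by
  have hdet : P.det ≠ 0 := by
    intro h0
    have h1 := congrArg Matrix.det h
    rw [Matrix.det_mul, h0, mul_zero, Matrix.det_smul, Matrix.det_one, mul_one] at h1
    exact pow_ne_zero _ hk h1.symm
  have h2 : (P * Pᵀ * B - k • 1) * P = 0 := by
    rw [Matrix.sub_mul, Matrix.mul_assoc, Matrix.mul_assoc P Pᵀ, ← Matrix.mul_assoc Pᵀ, h,
      Matrix.mul_smul, Matrix.smul_mul, Matrix.mul_one, Matrix.one_mul, sub_self]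
  have h3 := congrArg (fun M => M * P.adjugate) h2
  simp only [Matrix.mul_assoc, Matrix.mul_adjugate, Matrix.zero_mul, Matrix.mul_smul, Matrix.mul_one,
    smul_eq_zero] at h3
  rcases h3 with h3 | h3
  · exact absurd h3 hdet
  · exact sub_eq_zero.1 (by rw [Matrix.mul_assoc]; exact h3)

theorem exists_frame {V : Type*} [AddGroup V] [DecidableEq V] (orth : V → V → Prop) (S : Finset V)
    (hcard : 48 ≤ S.card) (hS : ∀ y ∈ S, ∀ y' ∈ S, y' = y ∨ y' = -y ∨ orth y y') :
    ∃ v : GolayPt → V, (∀ i, v i ∈ S) ∧ ∀ i j, i ≠ j → orth (v i) (v j) := by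
  classical
  let f : V → Finset V := fun y => {y, -y}
  have hb := Finset.card_le_mul_card_image (f := f) S 2 fun p hp => by
    obtain ⟨y, hy, rfl⟩ := Finset.mem_image.1 hp
    refine le_trans (Finset.card_le_card ?_) (Finset.card_le_two (a := y) (b := -y))
    intro u hu
    have e := (Finset.mem_filter.1 hu).2
    have : u ∈ f u := Finset.mem_insert_self _ _
    rwa [e] at this
  obtain ⟨T, hT, hTcard⟩ := Finset.exists_subset_card_eq (s := S.image f) (n := 24) (by omega)
  have hrep : ∀ p : T, ∃ y ∈ S, f y = p.1 := fun p => Finset.mem_image.1 (hT p.2)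
  choose g hgS hgf using hrep
  have hc : Fintype.card GolayPt = Fintype.card T := by
    rw [Fintype.card_coe, hTcard]; rfl
  let e : GolayPt ≃ T := Fintype.equivOfCardEq hc
  refine ⟨fun i => g (e i), fun i => hgS _, fun i j hij => ?_⟩
  have hne : f (g (e i)) ≠ f (g (e j)) := by
    rw [hgf, hgf]
    exact fun h => hij (e.injective (Subtype.ext h))
  rcases hS _ (hgS (e i)) _ (hgS (e j)) with h | h | h
  · exact absurd (by rw [h]) hne
  · exact absurd (by rw [h]; simp [f, Finset.pair_comm]) hne
  · exact h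

theorem dot_comm' (x y : GolayPt → ℤ) : dotInt x y = dotInt y x :=
  Finset.sum_congr rfl fun i _ => mul_comm _ _

theorem dot_self (x : GolayPt → ℤ) : dotInt x x = sqNorm x :=
  Finset.sum_congr rfl fun i _ => (sq (x i)).symm

theorem dot_add_left (x y z : GolayPt → ℤ) : dotInt (x + y) z = dotInt x z + dotInt y z := by
  simp only [dotInt, Pi.add_apply, add_mul, Finset.sum_add_distrib]

theorem dot_smul_left (c : ℤ) (x z : GolayPt → ℤ) : dotInt (c • x) z = c * dotInt x z := by
  simp only [dotInt, Pi.smul_apply, smul_eq_mul, Finset.mul_sum, mul_assoc]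

theorem dot_two_left (x z : GolayPt → ℤ) : dotInt (2 • x) z = 2 * dotInt x z := by
  rw [two_nsmul, dot_add_left]; ring

theorem leech_dot_dvd {x y : GolayPt → ℤ} (hx : x ∈ leechLattice) (hy : y ∈ leechLattice) :
    (8 : ℤ) ∣ dotInt x y := by
  have h1 := norm_dvd hx
  have h2 := norm_dvd hy
  have h3 := norm_dvd (leechLattice.add_mem hx hy)
  rw [LeechModTwo.norm_add] at h3
  omega

theorem dot_single (x : GolayPt → ℤ) (i : GolayPt) (c : ℤ) : dotInt x (Pi.single i c) = x i * c := by
  simp [dotInt, Pi.single_apply]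

theorem norm_single (i : GolayPt) (c : ℤ) : sqNorm (Pi.single i c : GolayPt → ℤ) = c ^ 2 := by
  rw [← dot_self, dot_single, Pi.single_eq_same, sq]

theorem cong_trans {x y z : GolayPt → ℤ} (h1 : Cong x y) (h2 : Cong y z) : Cong x z := by
  obtain ⟨a, ha, e1⟩ := h1
  obtain ⟨b, hb, e2⟩ := h2
  exact ⟨a + b, leechLattice.add_mem ha hb, by rw [nsmul_add, ← e1, ← e2]; abel⟩

theorem cong_symm {x y : GolayPt → ℤ} (h : Cong x y) : Cong y x := by
  obtain ⟨a, ha, e⟩ := h
  exact ⟨-a, leechLattice.neg_mem ha, by rw [smul_neg, ← e]; abel⟩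

theorem cong_refl (x : GolayPt → ℤ) : Cong x x := ⟨0, leechLattice.zero_mem, by simp⟩

theorem stdCross_eq : stdCross = cross (Pi.single none 8) := by
  have hn : sqNorm (Pi.single none 8 : GolayPt → ℤ) = 64 := by rw [norm_single]; norm_num
  have hmem : ∀ (i : GolayPt) (s : ℤ), (s = 8 ∨ s = -8) → (Pi.single i s : GolayPt → ℤ) ∈ leechLattice := by
    intro i s hs
    refine mem_leechLattice.2 (inLeech_of_four (fun j => four_dvd_single i j (by omega)) ?_)
    rw [Finset.sum_pi_single', if_pos (Finset.mem_univ _)]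
    omega
  have hsub : stdCross ⊆ cross (Pi.single none 8) := by
    rintro _ ⟨i, s, hs, rfl⟩
    refine ⟨hmem i s hs, by rw [hn, norm_single]; rcases hs with rfl | rfl <;> norm_num, ?_⟩
    refine ⟨fun j => (if j = none then 4 else 0) + if j = i then -(s / 2) else 0,
      mem_leechLattice.2 (inLeech_of_four (fun j => ?_) ?_), funext fun j => ?_⟩
    · rcases hs with rfl | rfl <;> split <;> split <;> norm_num
    · rw [Finset.sum_add_distrib, Finset.sum_ite_eq', Finset.sum_ite_eq', if_pos (Finset.mem_univ _),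
        if_pos (Finset.mem_univ _)]
      omega
    · simp only [Pi.sub_apply, Pi.smul_apply, nsmul_eq_mul, Pi.single_apply, Nat.cast_ofNat]
      split <;> split <;> omega
  refine Set.eq_of_subset_of_ncard_le hsub ?_ ((finite_vecs 64).subset fun y hy => ⟨hy.1, hy.2.1.trans hn⟩)
  rw [cross_card (hmem none 8 (Or.inl rfl)) hn]
  have hinj : Function.Injective fun p : GolayPt × Bool => (Pi.single p.1 (bif p.2 then 8 else -8) : GolayPt → ℤ) := by
    rintro ⟨i, a⟩ ⟨j, b⟩ e
    have h1 := congrFun e i
    simp only [Pi.single_eq_same] at h1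
    by_cases hij : i = j
    · subst hij
      simp only [Pi.single_eq_same] at h1
      cases a <;> cases b <;> simp_all
    · rw [Pi.single_eq_of_ne hij] at h1
      cases a <;> simp at h1
  have h48 : (Set.range fun p : GolayPt × Bool => (Pi.single p.1 (bif p.2 then 8 else -8) : GolayPt → ℤ)).ncard = 48 := by
    rw [← Nat.card_coe_set_eq, Nat.card_congr (Equiv.ofInjective _ hinj).symm, Nat.card_eq_fintype_card]
    rfl
  rw [← h48]
  refine Set.ncard_le_ncard ?_ (((finite_vecs 64).subset fun y hy => ⟨hy.1, hy.2.1.trans hn⟩).subset hsub)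
  rintro _ ⟨⟨i, a⟩, rfl⟩
  exact ⟨i, _, by cases a <;> simp, rfl⟩

/-- the image of a lattice vector -/
theorem smul_add' (g : Co0) (v w : leechLattice) : g • (v + w) = g • v + g • w := g.2.1 v w

theorem smul_norm (g : Co0) (v : leechLattice) :
    sqNorm ((g • v : leechLattice) : GolayPt → ℤ) = sqNorm (v : GolayPt → ℤ) := g.2.2 v

theorem smul_zero' (g : Co0) : g • (0 : leechLattice) = 0 := by
  have h := smul_add' g 0 0
  rw [add_zero] at h
  exact left_eq_add.1 h

theorem smul_neg' (g : Co0) (v : leechLattice) : g • (-v) = -(g • v) := by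
  have h := smul_add' g v (-v)
  rw [add_neg_cancel, smul_zero'] at h
  exact eq_neg_of_add_eq_zero_right h.symm

theorem smul_sub' (g : Co0) (v w : leechLattice) : g • (v - w) = g • v - g • w := by
  rw [sub_eq_add_neg, smul_add', smul_neg', ← sub_eq_add_neg]

theorem smul_dot (g : Co0) (v w : leechLattice) :
    dotInt ((g • v : leechLattice) : GolayPt → ℤ) ((g • w : leechLattice) : GolayPt → ℤ) =
      dotInt (v : GolayPt → ℤ) (w : GolayPt → ℤ) := by
  have h := smul_norm g (v + w)
  rw [smul_add', AddSubgroup.coe_add, AddSubgroup.coe_add, LeechModTwo.norm_add, LeechModTwo.norm_add,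
    smul_norm, smul_norm] at h
  omega

theorem smul_cong (g : Co0) (v w : leechLattice) (h : Cong v.1 w.1) :
    Cong ((g • v : leechLattice) : GolayPt → ℤ) ((g • w : leechLattice) : GolayPt → ℤ) := by
  obtain ⟨z, hz, e⟩ := h
  refine ⟨((g • (⟨z, hz⟩ : leechLattice) : leechLattice) : GolayPt → ℤ), (g • (⟨z, hz⟩ : leechLattice)).2, ?_⟩
  rw [← AddSubgroup.coe_sub, ← smul_sub', show v - w = ⟨z, hz⟩ + ⟨z, hz⟩ from
    Subtype.ext (by rw [AddSubgroup.coe_sub, AddSubgroup.coe_add, e, two_nsmul]), smul_add',
    AddSubgroup.coe_add, two_nsmul]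

/-- every cross can be carried to the standard one -/
theorem to_std {a : GolayPt → ℤ} (ha : a ∈ leechLattice) (han : sqNorm a = 64) :
    ∃ g : Co0, ∀ b : leechLattice, (b : GolayPt → ℤ) ∈ cross a →
      ((g • b : leechLattice) : GolayPt → ℤ) ∈ stdCross := by
  classical
  have hfin : (cross a).Finite := (finite_vecs 64).subset fun y hy => ⟨hy.1, hy.2.1.trans han⟩
  have hS : ∀ y ∈ hfin.toFinset, ∀ y' ∈ hfin.toFinset, y' = y ∨ y' = -y ∨ dotInt y y' = 0 := by
    intro y hy y' hy'
    rw [Set.Finite.mem_toFinset] at hy hy'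
    rcases short_congr hy'.1 (le_of_eq (hy.2.1.trans han)) (le_of_eq (hy'.2.1.trans han))
      (cong_trans (cong_symm hy.2.2) hy'.2.2) with h | h | h
    · exact Or.inl h
    · exact Or.inr (Or.inl h)
    · exact Or.inr (Or.inr h.2.2)
  obtain ⟨v, hvS, hvo⟩ := exists_frame (fun y y' => dotInt y y' = 0) hfin.toFinset
    (by rw [← Set.ncard_eq_toFinset_card _ hfin, cross_card ha han]) hS
  have hv : ∀ i, v i ∈ cross a := fun i => hfin.mem_toFinset.1 (hvS i)
  have hvn : ∀ i, sqNorm (v i) = 64 := fun i => (hv i).2.1.trans han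
  let P : Matrix GolayPt GolayPt ℤ := Matrix.of fun k i => v i k
  have hP : Pᵀ * 1 * P = (64 : ℤ) • 1 := by
    ext i j
    rw [Matrix.mul_one, Matrix.mul_apply, Matrix.smul_apply, Matrix.one_apply]
    show dotInt (v i) (v j) = _
    by_cases hij : i = j
    · subst hij; rw [dot_self, hvn]; simp
    · rw [hvo i j hij, if_neg hij, smul_zero]
  have hPP := parseval 1 P 64 (by norm_num) hP
  rw [Matrix.mul_one] at hPP
  have hpars : ∀ x : GolayPt → ℤ, ∑ i, dotInt x (v i) ^ 2 = 64 * sqNorm x := by
    intro x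
    have h1 : ∀ k l, ∑ i, v i k * v i l = if k = l then 64 else 0 := fun k l => by
      have := congrFun (congrFun hPP k) l
      rw [Matrix.mul_apply, Matrix.smul_apply, Matrix.one_apply] at this
      simpa [P] using this
    calc ∑ i, dotInt x (v i) ^ 2 = ∑ i, ∑ k, ∑ l, (x k * v i k) * (x l * v i l) := by
          simp only [dotInt, sq, Finset.sum_mul_sum]
      _ = ∑ k, ∑ l, x k * x l * ∑ i, v i k * v i l := by
          rw [Finset.sum_comm]
          refine Finset.sum_congr rfl fun k _ => ?_
          rw [Finset.sum_comm]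
          refine Finset.sum_congr rfl fun l _ => ?_
          rw [Finset.mul_sum]
          exact Finset.sum_congr rfl fun i _ => by ring
      _ = 64 * sqNorm x := by
          rw [sqNorm, Finset.mul_sum]
          refine Finset.sum_congr rfl fun k _ => ?_
          simp only [h1, mul_ite, mul_zero, Finset.sum_ite_eq, Finset.mem_univ, if_true]
          ring
  let φ : leechLattice →+ (GolayPt → ℤ) :=
    { toFun := fun x i => dotInt x.1 (v i) / 8
      map_zero' := by funext i; simp [dotInt]
      map_add' := fun x y => by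
        funext i
        show dotInt (x.1 + y.1) (v i) / 8 = dotInt x.1 (v i) / 8 + dotInt y.1 (v i) / 8
        rw [dot_add_left, Int.add_ediv_of_dvd_left (leech_dot_dvd x.2 (hv i).1)] }
  have hφn : ∀ x, sqNorm (φ x) = sqNorm x.1 := by
    intro x
    have h1 : 64 * sqNorm (φ x) = 64 * sqNorm x.1 := by
      rw [← hpars x.1]
      simp only [sqNorm, Finset.mul_sum]
      refine Finset.sum_congr rfl fun i _ => ?_
      obtain ⟨t, ht⟩ := leech_dot_dvd x.2 (hv i).1
      show 64 * (dotInt x.1 (v i) / 8) ^ 2 = _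
      rw [ht, Int.mul_ediv_cancel_left _ (by norm_num)]
      ring
    omega
  have hφinj : Function.Injective φ := by
    rw [injective_iff_map_eq_zero]
    intro x hx
    by_contra hne
    have h1 := hφn x
    rw [hx] at h1
    have := norm_min x.2 fun h0 => hne (Subtype.ext h0)
    rw [show sqNorm (0 : GolayPt → ℤ) = 0 from by simp [sqNorm]] at h1
    omega
  have hφv : ∀ i, φ ⟨v i, (hv i).1⟩ = Pi.single i 8 := by
    intro i
    funext j
    show dotInt (v i) (v j) / 8 = _
    by_cases hij : j = i
    · subst hij; rw [dot_self, hvn, Pi.single_eq_same]; norm_num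
    · rw [hvo i j (Ne.symm hij), Pi.single_eq_of_ne hij]; norm_num
  have hfr : FrameLattice φ.range := by
    refine ⟨?_, ?_, ?_, ?_⟩
    · rintro _ ⟨x, rfl⟩; rw [hφn]; exact norm_dvd x.2
    · rintro _ ⟨x, rfl⟩ hne
      rw [hφn]
      exact norm_min x.2 fun h0 => hne (by rw [show x = 0 from Subtype.ext h0, map_zero])
    · intro i j hij c hc
      obtain ⟨z, hz, e⟩ : Cong (v i) (v j) := cong_trans (cong_symm (hv i).2.2) (hv j).2.2
      have h2 : φ ⟨z, hz⟩ + φ ⟨z, hz⟩ = Pi.single i 8 - Pi.single j 8 := by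
        rw [← hφv, ← hφv, ← map_sub, ← map_add]
        exact congrArg φ (Subtype.ext (by rw [AddSubgroup.coe_add, ← two_nsmul, ← e, AddSubgroup.coe_sub]))
      rcases hc with rfl | rfl
      · refine ⟨⟨z, hz⟩ + ⟨v j, (hv j).1⟩, ?_⟩
        rw [map_add, hφv]
        funext k
        have h3 := congrFun h2 k
        simp only [Pi.add_apply, Pi.sub_apply, Pi.single_apply] at h3 ⊢
        split at h3 <;> split at h3 <;> simp_all <;> omega
      · refine ⟨⟨z, hz⟩, ?_⟩
        funext k
        have h3 := congrFun h2 k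
        simp only [Pi.add_apply, Pi.sub_apply, Pi.single_apply] at h3 ⊢
        split at h3 <;> split at h3 <;> simp_all <;> omega
    · rw [← count32]
      have e : {x : GolayPt → ℤ | x ∈ φ.range ∧ sqNorm x = 32} = φ '' {x | sqNorm x.1 = 32} := by
        ext y
        constructor
        · rintro ⟨⟨x, rfl⟩, hn⟩; exact ⟨x, (hφn x).symm.trans hn, rfl⟩
        · rintro ⟨x, hn, rfl⟩; exact ⟨⟨x, rfl⟩, (hφn x).trans hn⟩
      rw [e, Set.ncard_image_of_injective _ hφinj]
      refine le_of_eq ?_
      rw [← Set.ncard_image_of_injective _ Subtype.val_injective]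
      congr 1
      ext y
      constructor
      · rintro ⟨hy, hn⟩; exact ⟨⟨y, hy⟩, hn, rfl⟩
      · rintro ⟨x, hn, rfl⟩; exact ⟨x.2, hn⟩
  obtain ⟨σ, c, hσ⟩ := hfr.standard
  have hmem : ∀ x, FrameLattice.relabel σ c (φ x) ∈ leechLattice := fun x => by
    exact (SetLike.ext_iff.1 hσ _).1 ⟨φ x, ⟨x, rfl⟩, rfl⟩
  let G : leechLattice → leechLattice := fun x => ⟨FrameLattice.relabel σ c (φ x), hmem x⟩
  have hG : Function.Bijective G := by
    refine ⟨fun x y e => hφinj (FrameLattice.relabel_injective σ c (congrArg Subtype.val e)), fun y => ?_⟩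
    obtain ⟨_, ⟨x, rfl⟩, e⟩ := (SetLike.ext_iff.1 hσ y.1).2 y.2
    exact ⟨x, Subtype.ext e⟩
  refine ⟨⟨Equiv.ofBijective G hG, fun x y => Subtype.ext (by
      show FrameLattice.relabel σ c (φ (x + y)) = _
      rw [map_add, map_add]; rfl), fun x => (FrameLattice.norm_relabel σ c _).trans (hφn x)⟩, fun b hb => ?_⟩
  show FrameLattice.relabel σ c (φ b) ∈ stdCross
  by_cases h0 : ∀ i, dotInt b.1 (v i) = 0
  · exfalso
    have h1 := hpars b.1
    simp only [h0] at h1
    norm_num at h1
    rw [hb.2.1, han] at h1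
    omega
  · push_neg at h0
    obtain ⟨i, hi⟩ := h0
    obtain ⟨s, hs, hbv⟩ : ∃ s : ℤ, (s = 8 ∨ s = -8) ∧ φ b = Pi.single i s := by
      rcases hS (v i) (hvS i) b.1 (hfin.mem_toFinset.2 hb) with h | h | h
      · exact ⟨8, Or.inl rfl, by rw [show b = ⟨v i, (hv i).1⟩ from Subtype.ext h, hφv]⟩
      · exact ⟨-8, Or.inr rfl, by
          rw [show b = -⟨v i, (hv i).1⟩ from Subtype.ext h, map_neg, hφv, ← Pi.single_neg]⟩
      · exact absurd ((dot_comm' _ _).trans h) hi
    rw [hbv, FrameLattice.relabel_single]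
    exact ⟨σ i, _, by split <;> omega, rfl⟩

/-! ### the stabiliser of the standard cross -/

/-- fixing the standard cross as a set -/
def FixesStd (g : Co0) : Prop :=
  ∀ v : leechLattice, (v : GolayPt → ℤ) ∈ stdCross → ((g • v : leechLattice) : GolayPt → ℤ) ∈ stdCross

/-- `8 e_i` -/
def eightL (i : GolayPt) : leechLattice := leight i

theorem eight_zsmul (g : Co0) (v : leechLattice) :
    (8 : ℤ) • ((g • v : leechLattice) : GolayPt → ℤ) =
      ∑ i, (v : GolayPt → ℤ) i • ((g • eightL i : leechLattice) : GolayPt → ℤ) := by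
  let L : leechLattice →+ (GolayPt → ℤ) :=
    { toFun := fun x => ((g • x : leechLattice) : GolayPt → ℤ)
      map_zero' := by rw [smul_zero']; rfl
      map_add' := fun x y => by rw [smul_add']; rfl }
  have e : (8 : ℤ) • v = ∑ i, (v : GolayPt → ℤ) i • eightL i := by
    apply Subtype.ext
    rw [AddSubgroup.coe_zsmul, AddSubgroup.val_finset_sum]
    funext j
    simp [eightL, leight, eightVec, Finset.sum_apply, Pi.single_apply, mul_comm]
  have h := congrArg L e
  rw [map_zsmul, map_sum] at h
  simp only [map_zsmul] at h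
  exact h

theorem ext_eight {g g' : Co0} (h : ∀ i, g • eightL i = g' • eightL i) : g = g' := by
  apply Subtype.ext
  apply Equiv.ext
  intro v
  apply Subtype.ext
  funext j
  have h1 := congrFun (eight_zsmul g v) j
  have h2 := congrFun (eight_zsmul g' v) j
  simp only [h] at h1
  rw [← h2] at h1
  simp only [Pi.smul_apply, smul_eq_mul] at h1
  exact mul_left_cancel₀ (by norm_num) h1

theorem monomial_of_fixes {g : Co0} (hg : FixesStd g) :
    ∃ σ, σ ∈ M24 ∧ ∃ c ∈ Code, ∀ v : leechLattice,
      ((g • v : leechLattice) : GolayPt → ℤ) = signedPerm σ c v.1 := by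
  classical
  have h8 : ∀ i, ∃ (j : GolayPt) (s : ℤ), (s = 8 ∨ s = -8) ∧
      ((g • eightL i : leechLattice) : GolayPt → ℤ) = Pi.single j s :=
    fun i => hg (eightL i) ⟨i, 8, Or.inl rfl, rfl⟩
  choose π s hs hπ using h8
  have hinj : Function.Injective π := by
    intro i j e
    by_contra hne
    have h1 := smul_dot g (eightL i) (eightL j)
    rw [hπ i, hπ j, e, dot_single, Pi.single_eq_same] at h1
    have h2 : dotInt (eightL i : GolayPt → ℤ) (eightL j : GolayPt → ℤ) = 0 := by
      show dotInt (eightVec i) (eightVec j) = 0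
      rw [eightVec, eightVec, dot_single, Pi.single_eq_of_ne (Ne.symm hne), zero_mul]
    rw [h2] at h1
    rcases hs i with a | a <;> rcases hs j with b | b <;> rw [a, b] at h1 <;> norm_num at h1
  let σ : Equiv.Perm GolayPt := Equiv.ofBijective π (Finite.injective_iff_bijective.1 hinj)
  let c : Finset GolayPt := Finset.univ.filter fun j => s (σ.symm j) = -8
  have hact : ∀ v : leechLattice, ((g • v : leechLattice) : GolayPt → ℤ) = signedPerm σ c v.1 := by
    intro v
    funext j
    have h1 := congrFun (eight_zsmul g v) j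
    rw [Finset.sum_apply, Finset.sum_eq_single (σ.symm j) (fun i _ hne => by
        rw [Pi.smul_apply, hπ i, Pi.single_eq_of_ne (fun e => hne (by
          rw [Equiv.eq_symm_apply]; exact e.symm)), smul_zero])
      (fun h => absurd (Finset.mem_univ _) h), Pi.smul_apply, Pi.smul_apply, hπ,
      show π (σ.symm j) = j from σ.apply_symm_apply j, Pi.single_eq_same, smul_eq_mul, smul_eq_mul] at h1
    simp only [signedPerm, c, Finset.mem_filter, Finset.mem_univ, true_and]
    rcases hs (σ.symm j) with e | e
    · rw [if_neg (by omega)]; rw [e] at h1; omega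
    · rw [if_pos e]; rw [e] at h1; omega
  have himg : ∀ {x : GolayPt → ℤ}, x ∈ leechLattice → signedPerm σ c x ∈ leechLattice := fun hx => by
    rw [← hact ⟨_, hx⟩]; exact (g • (⟨_, hx⟩ : leechLattice)).2
  have hvo : ∀ i : GolayPt, ¬(2 : ℤ) ∣ (if i = none then (-3 : ℤ) else 1) := fun i => by split <;> omega
  have hv : (fun i : GolayPt => if i = none then (-3 : ℤ) else 1) ∈ leechLattice := by
    refine (odd_mem_iff hvo).2 ⟨?_, by decide +kernel⟩
    have : threeSupp (fun i : GolayPt => if i = none then (-3 : ℤ) else 1) = ∅ := by decide +kernel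
    rw [this]
    exact empty_mem_code
  have hc : c ∈ Code := by
    have ho : ∀ i, ¬(2 : ℤ) ∣ signedPerm σ c (fun i : GolayPt => if i = none then (-3 : ℤ) else 1) i := fun i => by
      have := hvo (σ.symm i)
      simp only [signedPerm]
      split <;> omega
    have h1 := ((odd_mem_iff ho).1 (himg hv)).1
    convert h1 using 1
    ext i
    simp only [mem_threeSupp, signedPerm]
    by_cases hi : i ∈ c <;> simp only [hi, if_true, if_false, true_iff, false_iff] <;>
      split <;> norm_num
  refine ⟨σ, ?_, c, hc, hact⟩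
  refine mem_M24_iff.2 fun t ht => ?_
  have hkey : ∀ o ∈ octads, σ • o ∈ Code := by
    intro o ho
    let z : GolayPt → ℤ := fun i => if i ∈ o then 1 else 0
    have hzs : oddSupp z = o := by
      ext i
      rw [mem_oddSupp]
      by_cases hi : i ∈ o <;> simp [z, hi]
    have hzm : (fun i => 2 * z i) ∈ leechLattice := by
      refine two_mul_mem (hzs.symm ▸ (mem_octads.1 ho).1) ?_
      simp [z, (mem_octads.1 ho).2]
    rcases leech_cases (himg hzm) with ⟨y, hy, hyc, -⟩ | ho'
    · convert hyc using 1
      ext i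
      have h1 := congrFun hy i
      rw [← Finset.inv_smul_mem_iff, mem_oddSupp]
      show σ.symm i ∈ o ↔ _
      simp only [signedPerm, z] at h1
      by_cases hi : σ.symm i ∈ o <;> simp only [hi, if_true, if_false, true_iff, false_iff] at h1 ⊢ <;>
        split at h1 <;> omega
    · exfalso
      apply ho' none
      simp only [signedPerm]
      split
      · exact (Dvd.intro _ rfl).neg_right
      · exact Dvd.intro _ rfl
  refine code_induction (P := fun t => σ • t ∈ Code) ?_ ?_ ht
  · simpa using empty_mem_code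
  · intro u o ho hu
    rw [smul_symmDiff_perm]
    exact symmDiff_mem_code (hkey o ho) hu

/-- a monomial map in the isometry group -/
def mono (p : ↥M24 × Code) : Co0 := co0Sign p.2.1 p.2.2 * co0Perm p.1.1 p.1.2

theorem mono_apply (p : ↥M24 × Code) (v : leechLattice) :
    ((mono p • v : leechLattice) : GolayPt → ℤ) = signedPerm p.1.1 p.2.1 v.1 := by
  funext i
  rw [mono, mul_smul, co0Sign_apply, co0Perm_apply]
  rfl

theorem mono_fixes (p : ↥M24 × Code) : FixesStd (mono p) := by
  rintro v ⟨i, s, hs, he⟩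
  rw [mono_apply, he, ← FrameLattice.relabel_eq, FrameLattice.relabel_single]
  exact ⟨_, _, by split <;> omega, rfl⟩

theorem mono_injective : Function.Injective mono := by
  rintro ⟨⟨σ, hσ⟩, ⟨c, hc⟩⟩ ⟨⟨τ, hτ⟩, ⟨d, hd⟩⟩ e
  have key : ∀ i, (Pi.single (σ i) (if σ i ∈ c then -8 else 8) : GolayPt → ℤ) =
      Pi.single (τ i) (if τ i ∈ d then -8 else 8) := fun i => by
    have h := congrArg (fun g : Co0 => ((g • eightL i : leechLattice) : GolayPt → ℤ)) e
    simp only [mono_apply] at h
    rw [← FrameLattice.relabel_eq, ← FrameLattice.relabel_eq, show ((eightL i : leechLattice) : GolayPt → ℤ)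
      = Pi.single i 8 from rfl, FrameLattice.relabel_single, FrameLattice.relabel_single] at h
    exact h
  have hst : σ = τ := Equiv.ext fun i => by
    have h := congrFun (key i) (σ i)
    rw [Pi.single_eq_same] at h
    by_contra hne
    rw [Pi.single_eq_of_ne hne] at h
    split at h <;> omega
  subst hst
  have hcd : c = d := by
    ext j
    have h := congrFun (key (σ.symm j)) j
    rw [Equiv.apply_symm_apply, Pi.single_eq_same, Pi.single_eq_same] at h
    by_cases h1 : j ∈ c <;> by_cases h2 : j ∈ d <;> simp [h1, h2] at h ⊢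
  subst hcd
  rfl

theorem range_mono : Set.range mono = {g | FixesStd g} := by
  ext g
  constructor
  · rintro ⟨p, rfl⟩; exact mono_fixes p
  · intro hg
    obtain ⟨σ, hσ, c, hc, h⟩ := monomial_of_fixes hg
    refine ⟨(⟨σ, hσ⟩, ⟨c, hc⟩), Subtype.ext (Equiv.ext fun v => Subtype.ext ?_)⟩
    show ((mono (⟨σ, hσ⟩, ⟨c, hc⟩) • v : leechLattice) : GolayPt → ℤ) = ((g • v : leechLattice) : GolayPt → ℤ)
    rw [mono_apply, h]

theorem card_fixes : Nat.card {g : Co0 // FixesStd g} = 4096 * 244823040 := by
  rw [show Nat.card {g : Co0 // FixesStd g} = Nat.card (Set.range mono) from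
    Nat.card_congr (Equiv.setCongr range_mono.symm), Nat.card_congr (Equiv.ofInjective _ mono_injective).symm,
    Nat.card_prod, card_M24, Nat.card_coe_set_eq, ncard_Code, mul_comm]

/-! ### order -/

/-- the cross of a lattice vector as a set of lattice vectors -/
def crossL (a : leechLattice) : Set leechLattice := Subtype.val ⁻¹' cross a.1

theorem smul_crossL (g : Co0) (a : leechLattice) : g • crossL a = crossL (g • a) := by
  ext x
  rw [Set.mem_smul_set_iff_inv_smul_mem]
  constructor
  · rintro ⟨-, hn, hc⟩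
    refine ⟨x.2, ?_, ?_⟩
    · rw [smul_norm, ← hn, smul_norm]
    · have := smul_cong g a (g⁻¹ • x) hc
      rwa [smul_inv_smul] at this
  · rintro ⟨-, hn, hc⟩
    refine ⟨(g⁻¹ • x).2, ?_, ?_⟩
    · rw [smul_norm, hn, smul_norm]
    · have := smul_cong g⁻¹ (g • a) x hc
      rwa [inv_smul_smul] at this

theorem crossL_finite {a : leechLattice} (ha : sqNorm a.1 = 64) : (crossL a).Finite :=
  ((finite_vecs 64).subset fun y (hy : y ∈ cross a.1) => ⟨hy.1, hy.2.1.trans ha⟩).preimage
    Subtype.val_injective.injOn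

theorem ncard_crossL {a : leechLattice} (ha : sqNorm a.1 = 64) : (crossL a).ncard = 48 := by
  rw [← cross_card a.2 ha, crossL, ← Set.ncard_image_of_injective _ Subtype.val_injective,
    Set.image_preimage_eq_of_subset]
  intro y hy
  exact ⟨⟨y, hy.1⟩, rfl⟩

theorem crossL_eq {a b : leechLattice} (hb : b ∈ crossL a) : crossL b = crossL a := by
  obtain ⟨-, hn, hc⟩ := hb
  ext x
  constructor
  · rintro ⟨h1, h2, h3⟩; exact ⟨h1, h2.trans hn, cong_trans hc h3⟩
  · rintro ⟨h1, h2, h3⟩; exact ⟨h1, h2.trans hn.symm, cong_trans (cong_symm hc) h3⟩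

theorem crossL_none : crossL (eightL none) = Subtype.val ⁻¹' stdCross := by
  rw [stdCross_eq]; rfl

theorem to_std_set {a : leechLattice} (ha : sqNorm a.1 = 64) :
    ∃ g : Co0, g • crossL a = crossL (eightL none) := by
  obtain ⟨g, hg⟩ := to_std a.2 ha
  refine ⟨g, ?_⟩
  have h : g • a ∈ crossL (eightL none) := by
    rw [crossL_none]
    exact hg a ⟨a.2, rfl, cong_refl _⟩
  rw [smul_crossL, crossL_eq h]

instance : FaithfulSMul Co0 leechLattice :=
  ⟨fun h => Subtype.ext (Equiv.ext h)⟩

theorem finite_co0 : Finite Co0 := by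
  classical
  let M : Set leechLattice := {v | sqNorm v.1 = 32}
  have hM : M.Finite := ((finite_vecs 32).preimage Subtype.val_injective.injOn).subset fun v hv => ⟨v.2, hv⟩
  haveI := hM.to_subtype
  let F : Co0 → (M → M) := fun g v => ⟨g • v.1, (smul_norm g v.1).trans v.2⟩
  refine Finite.of_injective F fun g g' e => Subtype.ext (Equiv.ext fun v => ?_)
  obtain ⟨x, hx⟩ := v
  have hx' := hx
  rw [← generated] at hx'
  show g • (⟨x, hx⟩ : leechLattice) = g' • (⟨x, hx⟩ : leechLattice)
  induction hx' using AddSubgroup.closure_induction with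
  | mem y hy => exact congrArg Subtype.val (congrFun e ⟨⟨y, hx⟩, hy.2⟩)
  | zero => exact (smul_zero' g).trans (smul_zero' g').symm
  | add y z hy hz ihy ihz =>
    have hy' : y ∈ leechLattice := generated ▸ hy
    have hz' : z ∈ leechLattice := generated ▸ hz
    rw [show (⟨y + z, hx⟩ : leechLattice) = ⟨y, hy'⟩ + ⟨z, hz'⟩ from rfl, smul_add', smul_add',
      ihy hy', ihz hz']
  | neg y hy ihy =>
    have hy' : y ∈ leechLattice := generated ▸ hy
    rw [show (⟨-y, hx⟩ : leechLattice) = -⟨y, hy'⟩ from rfl, smul_neg', smul_neg', ihy hy']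

theorem ncard_orbit : (MulAction.orbit Co0 (crossL (eightL none))).ncard = 8292375 := by
  classical
  let N : Set leechLattice := {v | sqNorm v.1 = 64}
  have h8 : eightL none ∈ N := by
    show sqNorm (eightVec none) = 64
    rw [eightVec, norm_single]; norm_num
  have himg : Subtype.val '' N = {x : GolayPt → ℤ | x ∈ leechLattice ∧ sqNorm x = 64} := by
    ext x
    constructor
    · rintro ⟨v, hv, rfl⟩; exact ⟨v.2, hv⟩
    · rintro ⟨hx, hn⟩; exact ⟨⟨x, hx⟩, hn, rfl⟩
  have hN : N.ncard = 398034000 := by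
    rw [← count64, ← himg, Set.ncard_image_of_injective _ Subtype.val_injective]
  have hNf : N.Finite := Set.Finite.of_finite_image (himg ▸ finite_vecs 64) Subtype.val_injective.injOn
  have horb : MulAction.orbit Co0 (crossL (eightL none)) = crossL '' N := by
    ext S
    constructor
    · rintro ⟨g, rfl⟩
      exact ⟨g • eightL none, (smul_norm g _).trans h8, (smul_crossL g _).symm⟩
    · rintro ⟨a, ha, rfl⟩
      obtain ⟨g, hg⟩ := to_std_set ha
      exact ⟨g⁻¹, by show g⁻¹ • crossL (eightL none) = _; rw [← hg, inv_smul_smul]⟩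
  have hfib := Finset.card_eq_sum_card_fiberwise (s := hNf.toFinset) (f := crossL)
    (t := hNf.toFinset.image crossL) fun v hv => Finset.mem_image_of_mem _ hv
  rw [Finset.sum_congr rfl (g := fun _ => 48) (fun S hS => by
      obtain ⟨a, ha, rfl⟩ := Finset.mem_image.1 hS
      rw [Set.Finite.mem_toFinset] at ha
      rw [← ncard_crossL ha, ← Set.ncard_coe_finset]
      congr 1
      ext x
      simp only [Finset.coe_filter, Set.Finite.mem_toFinset, Set.mem_setOf_eq]
      constructor
      · rintro ⟨hx, e⟩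
        rw [← e]
        exact ⟨x.2, rfl, cong_refl _⟩
      · intro hx
        exact ⟨hx.2.1.trans ha, crossL_eq hx⟩),
    Finset.sum_const, smul_eq_mul, ← Set.ncard_eq_toFinset_card _ hNf, hN] at hfib
  rw [horb, ← hNf.coe_toFinset, ← Finset.coe_image, Set.ncard_coe_finset]
  omega

theorem mem_stab_iff (g : Co0) :
    g ∈ MulAction.stabilizer Co0 (crossL (eightL none)) ↔ FixesStd g := by
  have h8 : sqNorm (eightL none : GolayPt → ℤ) = 64 := by
    show sqNorm (eightVec none) = 64
    rw [eightVec, norm_single]; norm_num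
  rw [MulAction.mem_stabilizer_iff, crossL_none]
  constructor
  · intro h v hv
    have : g • v ∈ g • (Subtype.val ⁻¹' stdCross : Set leechLattice) := Set.smul_mem_smul_set hv
    rwa [h] at this
  · intro h
    rw [← crossL_none, smul_crossL]
    refine crossL_eq ?_
    rw [crossL_none]
    exact h _ ⟨none, 8, Or.inl rfl, rfl⟩

theorem card_co0 : Nat.card Co0 = 8315553613086720000 := by
  haveI := finite_co0
  have hcard := Nat.card_congr (MulAction.orbitProdStabilizerEquivGroup Co0 (crossL (eightL none)))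
  have hstab : Nat.card ↥(MulAction.stabilizer Co0 (crossL (eightL none))) = 4096 * 244823040 := by
    rw [← card_fixes]
    exact Nat.card_congr (Equiv.subtypeEquivRight mem_stab_iff)
  rw [Nat.card_prod, Nat.card_coe_set_eq, ncard_orbit, hstab] at hcard
  rw [← hcard]

theorem class_transitive (v w : leechLattice) (hv : sqNorm v.1 = 64) (hw : sqNorm w.1 = 64) :
    ∃ g : Co0, Cong ((g • v : leechLattice) : GolayPt → ℤ) w.1 := by
  obtain ⟨g, hg⟩ := to_std_set hv
  obtain ⟨k, hk⟩ := to_std_set hw
  refine ⟨k⁻¹ * g, cong_symm ?_⟩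
  have h : (k⁻¹ * g) • crossL v = crossL w := by rw [mul_smul, hg, ← hk, inv_smul_smul]
  have h1 : (k⁻¹ * g) • v ∈ crossL w := by
    rw [← h]; exact Set.smul_mem_smul_set ⟨v.2, rfl, cong_refl _⟩
  exact h1.2.2

/-! ### centre -/

/-- negation -/
def negOne : Co0 := co0Sign Finset.univ univ_mem_code

theorem negOne_apply (v : leechLattice) : negOne • v = -v := by
  apply Subtype.ext; funext i
  rw [negOne, co0Sign_apply, if_pos (Finset.mem_univ _)]
  rfl

theorem mem_center_iff {g : Co0} : g ∈ Subgroup.center Co0 ↔ g = 1 ∨ g = negOne := by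
  classical
  constructor
  · intro hg
    have hc : ∀ (k : Co0) (v : leechLattice), g • (k • v) = k • (g • v) := fun k v => by
      rw [← mul_smul, ← mul_smul, Subgroup.mem_center_iff.1 hg k]
    have hsupp : ∀ i j, j ≠ i → ((g • eightL i : leechLattice) : GolayPt → ℤ) j = 0 := by
      intro i j hji
      obtain ⟨σ, hσ, h0, h1⟩ := m24_map_pair (a := (none : GolayPt)) (b := some 0) (by simp) hji
      obtain ⟨m, hm, hm1, hm2⟩ : ∃ m ∈ octadList, (none : GolayPt) ∈ ofMask m ∧ (some 0 : GolayPt) ∉ ofMask m := by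
        decide +kernel
      have hlt : m < 2 ^ 24 := of_decide_eq_true (List.all_eq_true.1 octadList_lt m hm)
      set o := σ • ofMask m with ho
      have hoc : o ∈ Code := smul_mem_code hσ ((mem_octads_iff hlt).2 hm).1
      have hjo : j ∈ o := by rw [ho, ← h0]; exact Finset.smul_mem_smul_finset hm1
      have hio : i ∉ o := by
        rw [ho, ← h1]
        exact fun h => hm2 ((Finset.smul_mem_smul_finset_iff σ).1 h)
      have hfix : co0Sign o hoc • eightL i = eightL i := by
        apply Subtype.ext; funext k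
        rw [co0Sign_apply]
        show (if k ∈ o then -eightVec i k else eightVec i k) = eightVec i k
        by_cases hk : k ∈ o
        · rw [if_pos hk, eightVec, Pi.single_eq_of_ne (fun e => hio (by rw [← e]; exact hk)), neg_zero]
        · rw [if_neg hk]
      have h := congrArg (fun x : leechLattice => (x : GolayPt → ℤ) j) (hc (co0Sign o hoc) (eightL i))
      simp only [hfix, co0Sign_apply, if_pos hjo] at h
      omega
    have hfx : FixesStd g := by
      rintro v ⟨i, s, hs, he⟩
      have hi : ((g • eightL i : leechLattice) : GolayPt → ℤ) =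
          Pi.single i (((g • eightL i : leechLattice) : GolayPt → ℤ) i) := by
        funext j
        by_cases hji : j = i
        · subst hji; rw [Pi.single_eq_same]
        · rw [Pi.single_eq_of_ne hji, hsupp i j hji]
      have hn := smul_norm g (eightL i)
      rw [hi, norm_single, show sqNorm (eightL i : GolayPt → ℤ) = (8 : ℤ) ^ 2 from norm_single i 8,
        sq_eq_sq_iff_eq_or_eq_neg] at hn
      rcases hs with rfl | rfl
      · rw [show v = eightL i from Subtype.ext he, hi]
        exact ⟨i, _, hn, rfl⟩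
      · rw [show v = -eightL i from Subtype.ext (by rw [he, Pi.single_neg]; rfl), smul_neg',
          AddSubgroup.coe_neg, hi, ← Pi.single_neg]
        exact ⟨i, _, by omega, rfl⟩
    obtain ⟨σ, hσ, c, hcC, hact⟩ := monomial_of_fixes hfx
    have h1 : ∀ i, σ i = i := by
      intro i
      by_contra hne
      have h := hsupp i (σ i) hne
      rw [hact, signedPerm, Equiv.symm_apply_apply, show ((eightL i : leechLattice) : GolayPt → ℤ) i = 8 from
        Pi.single_eq_same i 8] at h
      split at h <;> omega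
    have hall : ∀ i j, (i ∈ c ↔ j ∈ c) := by
      intro i j
      by_cases hij : i = j
      · rw [hij]
      obtain ⟨τ, hτ, e1, e2⟩ := m24_map_pair hij (Ne.symm hij)
      have h := congrArg (fun x : leechLattice => (x : GolayPt → ℤ) j) (hc (co0Perm τ hτ) (eightL i))
      simp only [co0Perm_apply, hact, signedPerm, σ.symm_apply_eq.2 (h1 j).symm] at h
      rw [Equiv.Perm.inv_def, show τ.symm j = i from by rw [Equiv.symm_apply_eq, e1],
        σ.symm_apply_eq.2 (h1 i).symm,
        show ((eightL i : leechLattice) : GolayPt → ℤ) i = 8 from Pi.single_eq_same i 8] at h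
      by_cases hi : i ∈ c <;> by_cases hj : j ∈ c <;> simp [hi, hj] at h ⊢
    by_cases h0 : (none : GolayPt) ∈ c
    · right
      refine ext_eight fun i => Subtype.ext (funext fun j => ?_)
      rw [hact, negOne_apply, signedPerm, σ.symm_apply_eq.2 (h1 j).symm, if_pos ((hall none j).1 h0)]
      rfl
    · left
      refine ext_eight fun i => Subtype.ext (funext fun j => ?_)
      rw [hact, one_smul, signedPerm, σ.symm_apply_eq.2 (h1 j).symm, if_neg (fun h => h0 ((hall none j).2 h))]
  · rintro (rfl | rfl)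
    · exact Subgroup.one_mem _
    · refine Subgroup.mem_center_iff.2 fun k => ?_
      refine ext_eight fun i => ?_
      rw [mul_smul, mul_smul, negOne_apply, negOne_apply, smul_neg']

theorem card_center : Nat.card (Subgroup.center Co0) = 2 := by
  have hne : (1 : Co0) ≠ negOne := by
    intro e
    have h := congrArg (fun x : leechLattice => (x : GolayPt → ℤ) none) (congrArg (fun g : Co0 => g • eightL none) e)
    simp only [one_smul, negOne_apply] at h
    exact absurd h (by decide +kernel)
  have e : ((Subgroup.center Co0 : Subgroup Co0) : Set Co0) = {1, negOne} := by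
    ext g
    rw [SetLike.mem_coe, mem_center_iff, Set.mem_insert_iff, Set.mem_singleton_iff]
  show Nat.card ((Subgroup.center Co0 : Subgroup Co0) : Set Co0) = 2
  rw [e, Nat.card_coe_set_eq, Set.ncard_pair hne]

end CfsgLib.Spor.LeechCross
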