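import Cfsg.Agent.Spor.LeechStab

/-!
Simplicity of the stabiliser of a minimal vector and of the lattice's group modulo its centre.
-/

set_option autoImplicit false

namespace CfsgLib.Spor.LeechCo12

open Cfsg MulAction CfsgLib.Spor CfsgLib.Spor.LeechFacts CfsgLib.Spor.LeechCount CfsgLib.Spor.LeechModTwo
  CfsgLib.Spor.LeechCross CfsgLib.Spor.LeechOrbits CfsgLib.Spor.LeechPairs CfsgLib.Spor.LeechCensus
  CfsgLib.Spor.LeechIso CfsgLib.Spor.LeechCo3 CfsgLib.Spor.LeechCo3Count CfsgLib.Spor.LeechStab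
open scoped Pointwise

/-! ### arithmetic -/

theorem part_bound {q k e m : ℕ} (h : q ^ k ∣ m) (hn : ¬q ^ (e + 1) ∣ m) : k ≤ e := by
  by_contra hc
  exact hn ((pow_dvd_pow q (show e + 1 ≤ k by omega)).trans h)

theorem two_part {n m : ℕ} (hn0 : n ≠ 0) (hn1 : n ≠ 1) (hn : n ∣ 2 ^ 11 * m) (hm : Odd m)
    (hm23 : ∀ q k : ℕ, q.Prime → q ≠ 2 → 0 < k → q ^ k ∣ m → q ^ k % 23 ≠ 1)
    (hpart : ∀ q : ℕ, q.Prime → q ∣ n → ∃ k, 0 < k ∧ q ^ k ∣ n ∧ q ^ k % 23 = 1) :
    ∃ j, 11 ≤ j ∧ n = 2 ^ j := by
  have honly : ∀ q : ℕ, q.Prime → q ∣ n → q = 2 := by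
    intro q hq hqn
    by_contra h2
    obtain ⟨k, hk, hkn, hk1⟩ := hpart q hq hqn
    refine hm23 q k hq h2 hk ?_ hk1
    refine Nat.Coprime.dvd_of_dvd_mul_left ?_ (hkn.trans hn)
    exact Nat.Coprime.pow _ _ ((Nat.coprime_primes hq Nat.prime_two).2 h2)
  have he := Nat.eq_prime_pow_of_unique_prime_dvd hn0 (fun {d} hd hdn => honly d hd hdn)
  obtain ⟨k, hk, hkn, hk1⟩ := hpart 2 Nat.prime_two (by
    obtain ⟨q, hq, hqn⟩ := Nat.exists_prime_and_dvd hn1
    rwa [honly q hq hqn] at hqn)
  have hcop : Nat.Coprime (2 ^ k) m := Nat.Coprime.pow_left _ (Nat.coprime_two_left.2 hm)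
  have hk11 : k ≤ 11 :=
    (Nat.pow_dvd_pow_iff_le_right (by norm_num)).1 (hcop.dvd_of_dvd_mul_right (hkn.trans hn))
  have hk' : k = 11 := by
    by_contra hne
    have : ∀ i : ℕ, i < 11 → 0 < i → 2 ^ i % 23 ≠ 1 := by decide +kernel
    exact this k (by omega) hk hk1
  subst hk'
  refine ⟨_, ?_, he⟩
  rw [he] at hkn
  exact (Nat.pow_dvd_pow_iff_le_right (by norm_num)).1 hkn

theorem sylow_of_prime {G : Type*} [Group G] [Finite G] {p : ℕ} [Fact p.Prime] {z : G}
    (hz : orderOf z = p) (hp2 : ¬p ^ 2 ∣ Nat.card G) :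
    ∃ P : Sylow p G, Nat.card (P : Subgroup G) = p ∧ (P : Subgroup G) = Subgroup.zpowers z := by
  have hpg : IsPGroup p (Subgroup.zpowers z) :=
    IsPGroup.of_card (n := 1) (by rw [Nat.card_zpowers, hz, pow_one])
  obtain ⟨P, hP⟩ := hpg.exists_le_sylow
  obtain ⟨k, hk⟩ := P.isPGroup'.exists_card_eq
  have h1 : k ≤ 1 := by
    by_contra h
    exact hp2 ((pow_dvd_pow p (show 2 ≤ k by omega)).trans (hk ▸ Subgroup.card_subgroup_dvd_card _))
  have h2 := Subgroup.card_le_of_le hP
  rw [Nat.card_zpowers, hz, hk] at h2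
  have hcard : Nat.card (P : Subgroup G) = p := by
    interval_cases k
    · exact absurd h2 (by simpa using (Fact.out : p.Prime).one_lt)
    · rw [hk, pow_one]
  exact ⟨P, hcard, (Subgroup.eq_of_le_of_card_ge hP (by rw [hcard, Nat.card_zpowers, hz])).symm⟩

theorem le_of_odd_index {G : Type*} [Group G] [Finite G] (N K : Subgroup G) [N.Normal]
    (hN : IsPGroup 2 N) (hK : ¬2 ∣ K.index) : N ≤ K := by
  haveI : Fact (Nat.Prime 2) := ⟨Nat.prime_two⟩
  obtain ⟨x, hx⟩ := hN.nonempty_fixed_point_of_prime_not_dvd_card (G ⧸ K) hK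
  obtain ⟨g, rfl⟩ := QuotientGroup.mk_surjective x
  intro n hn
  have h : ((g * n * g⁻¹ * g : G) : G ⧸ K) = (g : G ⧸ K) :=
    hx ⟨g * n * g⁻¹, (inferInstance : N.Normal).conj_mem n hn g⟩
  rw [QuotientGroup.eq] at h
  have := K.inv_mem h
  simpa [mul_assoc] using this

/-! ### fixed vectors of the translation -/

theorem fixed64 {y : leechLattice} (hf : ∀ l, y.1 ((tM : Equiv.Perm GolayPt) l) = y.1 l)
    (hn : sqNorm y.1 = 64) : y = eightL none ∨ y = -eightL none := by
  rw [sqNorm, sum23 hf fun t => t ^ 2] at hn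
  obtain ⟨a, b, ha, hb⟩ : ∃ a b : ℤ, a = y.1 none ∧ b = y.1 (some 0) := ⟨_, _, rfl, rfl⟩
  rw [← ha, ← hb] at hn
  have hb2 : b ^ 2 ≤ 2 := by nlinarith [sq_nonneg a]
  obtain ⟨h1, h2⟩ := small_of_sq (b := 1) (by norm_num) (by omega : b ^ 2 < (1 + 1) ^ 2)
  have ha2 : a ^ 2 ≤ 64 := by nlinarith [sq_nonneg b]
  obtain ⟨g1, g2⟩ := small_of_sq (b := 8) (by norm_num) (by omega : a ^ 2 < (8 + 1) ^ 2)
  have key : b = 0 ∧ (a = 8 ∨ a = -8) := by
    interval_cases b <;> interval_cases a <;> first | (exfalso; omega) | simp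
  obtain ⟨hb0, hab⟩ := key
  have hsome : ∀ c : ZMod 23, y.1 (some c) = 0 := fun c => by rw [const23 hf c, ← hb, hb0]
  rcases hab with e | e
  · left
    apply Subtype.ext
    funext l
    rw [eightL_val]
    match l with
    | none => rw [Pi.single_eq_same, ← ha, e]
    | some c => rw [hsome, Pi.single_eq_of_ne (by simp)]
  · right
    apply Subtype.ext
    funext l
    rw [AddSubgroup.coe_neg, Pi.neg_apply, eightL_val]
    match l with
    | none => rw [Pi.single_eq_same, ← ha, e]
    | some c => rw [hsome, Pi.single_eq_of_ne (by simp), neg_zero]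

theorem fixed48 {y : leechLattice} (hf : ∀ l, y.1 ((tM : Equiv.Perm GolayPt) l) = y.1 l)
    (hn : sqNorm y.1 = 48) (hd : dotInt y.1 (eightL none).1 = 40) : y = fiveL := by
  rw [eightL_val, dot_single] at hd
  rw [sqNorm, sum23 hf fun t => t ^ 2] at hn
  obtain ⟨a, b, ha, hb⟩ : ∃ a b : ℤ, a = y.1 none ∧ b = y.1 (some 0) := ⟨_, _, rfl, rfl⟩
  rw [← ha] at hd
  rw [← ha, ← hb] at hn
  have ha5 : a = 5 := by omega
  subst ha5
  have hb2 : b ^ 2 = 1 := by omega
  rcases sq_eq_one_iff.1 hb2 with e | e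
  · apply Subtype.ext
    funext l
    rw [fiveL_val]
    match l with
    | none => rw [← ha]; rfl
    | some c => rw [const23 hf c, ← hb, e]; rfl
  · exfalso
    have h := norm_dvd (leechLattice.sub_mem fiveL.2 y.2)
    have hval : (fiveL.1 - y.1) = fun l : GolayPt => if l = none then 0 else 2 := by
      funext l
      rw [Pi.sub_apply, fiveL_val]
      match l with
      | none => rw [← ha]; rfl
      | some c => rw [const23 hf c, ← hb, e]; rfl
    rw [hval] at h
    revert h
    decide +kernel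

theorem perm_of_key {g : Co0} (h8 : g • eightL none = eightL none) (h5 : g • fiveL = fiveL) :
    ∃ σ : M24, σ • (none : GolayPt) = none ∧ g = permHom σ :=
  perm_of_fix h8 fiveL (Or.inl fun l => by rw [fiveL_val]; unfold five; split <;> norm_num) h5

/-! ### the normal two subgroups of the stabiliser of `(4, 4, 0, ..., 0)` -/

/-- the permutation part of a monomial element -/
def Rel (g : Co0) (σ : M24) : Prop :=
  ∀ i, g • eightL i = eightL (σ • i) ∨ g • eightL i = -eightL (σ • i)

theorem rel_one : Rel 1 1 := fun i => Or.inl (by rw [one_smul, one_smul])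

theorem rel_mul {g h : Co0} {σ τ : M24} (hg : Rel g σ) (hh : Rel h τ) : Rel (g * h) (σ * τ) := by
  intro i
  rw [mul_smul, mul_smul]
  rcases hh i with e | e <;> rw [e] <;> rcases hg (τ • i) with e' | e'
  · exact Or.inl e'
  · exact Or.inr e'
  · rw [smul_neg', e']; exact Or.inr rfl
  · rw [smul_neg', e', neg_neg]; exact Or.inl rfl

theorem rel_inv {g : Co0} {σ : M24} (hg : Rel g σ) : Rel g⁻¹ σ⁻¹ := by
  intro i
  rcases hg (σ⁻¹ • i) with e | e <;> rw [smul_inv_smul] at e
  · left; rw [← e, inv_smul_smul]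
  · right; rw [inv_smul_eq_iff, smul_neg', e, neg_neg]

theorem rel_perm (σ : M24) : Rel (permHom σ) σ := fun i => Or.inl (permHom_eight σ i)

theorem eightL_cases {i j : GolayPt} (h : eightL i = eightL j ∨ eightL i = -eightL j) : i = j := by
  by_contra hne
  rcases h with h | h <;>
  · have h1 := congrArg (fun v : leechLattice => v.1 i) h
    simp [eightL_val, Pi.single_eq_of_ne hne] at h1

theorem rel_unique {g : Co0} {σ τ : M24} (h1 : Rel g σ) (h2 : Rel g τ) : σ = τ := by
  refine Subtype.ext (Equiv.ext fun i => eightL_cases ?_)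
  show eightL (σ • i) = eightL (τ • i) ∨ eightL (σ • i) = -eightL (τ • i)
  rcases h1 i with a | a <;> rcases h2 i with b | b <;> rw [a] at b
  · exact Or.inl b
  · exact Or.inr b
  · exact Or.inr (by rw [← b, neg_neg])
  · exact Or.inl (neg_injective b)

theorem rel_mono (σ : Equiv.Perm GolayPt) (hσ : σ ∈ M24) (c : Finset GolayPt) (hc : c ∈ Code) :
    Rel (mono (⟨σ, hσ⟩, ⟨c, hc⟩)) ⟨σ, hσ⟩ := by
  intro i
  have h : ∀ l, (mono (⟨σ, hσ⟩, ⟨c, hc⟩) • eightL i : leechLattice).1 (σ l) =
      if σ l ∈ c then -(eightL i).1 l else (eightL i).1 l := fun l => mono_smul_apply σ hσ c hc _ l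
  have hval : ∀ l, (eightL ((⟨σ, hσ⟩ : M24) • i)).1 (σ l) = (eightL i).1 l := fun l => by
    rw [eightL_val, eightL_val]
    simp only [Pi.single_apply, Subgroup.smul_def, Equiv.Perm.smul_def, EmbeddingLike.apply_eq_iff_eq]
  by_cases hi : σ i ∈ c
  · right
    refine Subtype.ext (funext fun l' => ?_)
    obtain ⟨l, rfl⟩ := σ.surjective l'
    rw [h, AddSubgroup.coe_neg, Pi.neg_apply, hval]
    by_cases hl : l = i
    · subst hl; rw [if_pos hi]
    · rw [show (eightL i).1 l = 0 from Pi.single_eq_of_ne hl _, neg_zero, ite_self]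
  · left
    refine Subtype.ext (funext fun l' => ?_)
    obtain ⟨l, rfl⟩ := σ.surjective l'
    rw [h, hval]
    by_cases hl : l = i
    · subst hl; rw [if_neg hi]
    · rw [show (eightL i).1 l = 0 from Pi.single_eq_of_ne hl _, neg_zero, ite_self]

/-- the code words avoiding the two base points -/
def avoid : Set (Finset GolayPt) := {c | c ∈ Code ∧ (none : GolayPt) ∉ c ∧ (some 0 : GolayPt) ∉ c}

theorem card_avoid : avoid.ncard = 1024 := by
  show {c | c ∈ Code ∧ ((none : GolayPt) ∉ c ∧ (some 0 : GolayPt) ∉ c)}.ncard = 1024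
  rw [ncard_filter_code (fun c => (none : GolayPt) ∉ c ∧ (some 0 : GolayPt) ∉ c)
    (fun m => decide ((none : GolayPt) ∉ ofMask m ∧ (some 0 : GolayPt) ∉ ofMask m))
    (fun m _ => by rw [decide_eq_true_iff])]
  decide +kernel

/-- the setwise stabiliser of the two base points -/
abbrev pairStab : Subgroup M24 := stabilizer M24 ({none, some 0} : Finset GolayPt)

theorem mem_pairStab {σ : M24} : σ ∈ pairStab ↔
    (σ • (none : GolayPt) = none ∧ σ • (some 0 : GolayPt) = some 0) ∨
    (σ • (none : GolayPt) = some 0 ∧ σ • (some 0 : GolayPt) = none) := by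
  have hne : σ • (none : GolayPt) ≠ σ • (some 0 : GolayPt) := fun e => by simpa using smul_left_cancel σ e
  have himg : σ • ({none, some 0} : Finset GolayPt) = {σ • none, σ • some 0} := by
    ext x; simp [Finset.mem_smul_finset, eq_comm]
  rw [mem_stabilizer_iff, himg]
  constructor
  · intro h
    have h1 : σ • (none : GolayPt) ∈ ({none, some 0} : Finset GolayPt) := by rw [← h]; simp
    have h2 : σ • (some 0 : GolayPt) ∈ ({none, some 0} : Finset GolayPt) := by rw [← h]; simp
    simp only [Finset.mem_insert, Finset.mem_singleton] at h1 h2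
    rcases h1 with a | a <;> rcases h2 with b | b
    · exact absurd (a.trans b.symm) hne
    · exact Or.inl ⟨a, b⟩
    · exact Or.inr ⟨a, b⟩
    · exact absurd (a.trans b.symm) hne
  · rintro (⟨a, b⟩ | ⟨a, b⟩) <;> rw [a, b]
    exact Finset.pair_comm _ _

theorem card_pairStab : Nat.card pairStab = 887040 := by
  have horb : orbit pairStab (none : GolayPt) = {(none : GolayPt), some 0} := by
    ext b
    constructor
    · rintro ⟨g, rfl⟩
      rcases mem_pairStab.1 g.2 with ⟨a, -⟩ | ⟨a, -⟩
      · exact Or.inl a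
      · exact Or.inr a
    · intro hb
      rcases hb with rfl | hb
      · exact mem_orbit_self _
      · rw [Set.mem_singleton_iff] at hb
        subst hb
        obtain ⟨σ, hσ, h1, h2⟩ := m24_map_pair (show (none : GolayPt) ≠ some 0 by simp)
          (show (some 0 : GolayPt) ≠ none by simp)
        exact ⟨⟨⟨σ, hσ⟩, mem_pairStab.2 (Or.inr ⟨h1, h2⟩)⟩, h1⟩
  have h := Nat.card_congr (orbitProdStabilizerEquivGroup pairStab (none : GolayPt))
  rw [Nat.card_prod, Nat.card_coe_set_eq, horb, Set.ncard_pair (by simp)] at h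
  have e : Nat.card ↥(stabilizer pairStab (none : GolayPt)) = Nat.card LeechStab.twoStab :=
    Nat.card_congr
      { toFun := fun g => ⟨g.1.1, g.2, by
          rcases mem_pairStab.1 g.1.2 with ⟨-, b⟩ | ⟨a, -⟩
          · exact b
          · exact absurd ((g.2).symm.trans a) (by simp)⟩
        invFun := fun g => ⟨⟨g.1, mem_pairStab.2 (Or.inl ⟨g.2.1, g.2.2⟩)⟩, g.2.1⟩
        left_inv := fun g => rfl
        right_inv := fun g => rfl }
  rw [e, card_m22] at h
  omega

theorem leechU_val : (Spor.leechU : leechLattice).1 = Spor.vecU := rfl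

theorem vecU_none : Spor.vecU none = 4 ∧ Spor.vecU (some 0) = 4 := by decide +kernel

theorem vecU_zero {l : GolayPt} : Spor.vecU l = 0 ↔ l ∉ ({none, some 0} : Finset GolayPt) := by
  simp only [Spor.vecU, Finset.mem_insert, Finset.mem_singleton]
  split <;> simp_all

theorem mono_fix_iff (σ : Equiv.Perm GolayPt) (hσ : σ ∈ M24) (c : Finset GolayPt) (hc : c ∈ Code) :
    mono (⟨σ, hσ⟩, ⟨c, hc⟩) • Spor.leechU = Spor.leechU ↔
      (⟨σ, hσ⟩ : M24) ∈ pairStab ∧ c ∈ avoid := by
  have happ : ∀ l, (mono (⟨σ, hσ⟩, ⟨c, hc⟩) • Spor.leechU : leechLattice).1 (σ l) =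
      if σ l ∈ c then -Spor.vecU l else Spor.vecU l := fun l => mono_smul_apply σ hσ c hc _ l
  constructor
  · intro h
    have h' : ∀ l, (if σ l ∈ c then -Spor.vecU l else Spor.vecU l) = Spor.vecU (σ l) := fun l => by
      rw [← happ, h]; rfl
    have hcase : ∀ l, l ∈ ({none, some 0} : Finset GolayPt) →
        σ l ∈ ({none, some 0} : Finset GolayPt) ∧ σ l ∉ c := by
      intro l hl
      have hl4 : Spor.vecU l = 4 := by
        simp only [Finset.mem_insert, Finset.mem_singleton] at hl
        rcases hl with rfl | rfl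
        · exact vecU_none.1
        · exact vecU_none.2
      have h1 := h' l
      rw [hl4] at h1
      have h2 : σ l ∈ ({none, some 0} : Finset GolayPt) := by
        by_contra hn
        rw [vecU_zero.2 hn] at h1
        split at h1 <;> omega
      refine ⟨h2, fun hin => ?_⟩
      rw [if_pos hin] at h1
      simp only [Finset.mem_insert, Finset.mem_singleton] at h2
      rcases h2 with e | e <;> rw [e] at h1
      · rw [vecU_none.1] at h1; omega
      · rw [vecU_none.2] at h1; omega
    obtain ⟨a1, a2⟩ := hcase none (by simp)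
    obtain ⟨b1, b2⟩ := hcase (some 0) (by simp)
    have hne : σ none ≠ σ (some 0) := fun e => by simpa using σ.injective e
    simp only [Finset.mem_insert, Finset.mem_singleton] at a1 b1
    rcases a1 with a | a <;> rcases b1 with b | b
    · exact absurd (a.trans b.symm) hne
    · exact ⟨mem_pairStab.2 (Or.inl ⟨a, b⟩), hc, a ▸ a2, b ▸ b2⟩
    · exact ⟨mem_pairStab.2 (Or.inr ⟨a, b⟩), hc, b ▸ b2, a ▸ a2⟩
    · exact absurd (a.trans b.symm) hne
  · rintro ⟨hp, -, hc1, hc2⟩
    refine Subtype.ext (funext fun l' => ?_)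
    obtain ⟨l, rfl⟩ := σ.surjective l'
    rw [happ]
    show _ = Spor.vecU (σ l)
    have hm : σ l ∈ ({none, some 0} : Finset GolayPt) ↔ l ∈ ({none, some 0} : Finset GolayPt) := by
      have h := Finset.smul_mem_smul_finset_iff (⟨σ, hσ⟩ : M24) (b := l) (s := ({none, some 0} : Finset GolayPt))
      rwa [mem_stabilizer_iff.1 hp] at h
    by_cases hl : l ∈ ({none, some 0} : Finset GolayPt)
    · have hl' := hm.2 hl
      have hnc : σ l ∉ c := by
        simp only [Finset.mem_insert, Finset.mem_singleton] at hl'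
        rcases hl' with e | e <;> rw [e]
        · exact hc1
        · exact hc2
      rw [if_neg hnc]
      simp only [Finset.mem_insert, Finset.mem_singleton] at hl hl'
      rcases hl with rfl | rfl <;> rcases hl' with e | e <;> rw [e] <;>
        simp [vecU_none.1, vecU_none.2]
    · rw [vecU_zero.2 hl, vecU_zero.2 (fun e => hl (hm.1 e)), neg_zero, ite_self]

/-- the monomial elements fixing `(4, 4, 0, ..., 0)` -/
noncomputable abbrev monoU : Subgroup Co0 :=
  stabilizer Co0 Spor.leechU ⊓ stabilizer Co0 (crossL (eightL none))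

theorem card_monoU : Nat.card monoU = 908328960 := by
  let f : ↥pairStab × ↥avoid → ↥monoU := fun p =>
    ⟨mono (p.1.1, ⟨p.2.1, p.2.2.1⟩), (mono_fix_iff _ _ _ _).2 ⟨p.1.2, p.2.2⟩,
      (mem_stab_iff _).2 (mono_fixes _)⟩
  have hf : Function.Bijective f := by
    constructor
    · rintro ⟨⟨σ, hσ⟩, ⟨c, hc⟩⟩ ⟨⟨τ, hτ⟩, ⟨d, hd⟩⟩ h
      have h1 := mono_injective (congrArg Subtype.val h)
      simp only [Prod.mk.injEq, Subtype.mk.injEq] at h1
      obtain ⟨rfl, rfl⟩ := h1
      rfl
    · rintro ⟨g, hg1, hg2⟩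
      have hg3 : g ∈ Set.range mono := by rw [range_mono]; exact (mem_stab_iff g).1 hg2
      obtain ⟨⟨⟨σ, hσ⟩, ⟨c, hc⟩⟩, rfl⟩ := hg3
      obtain ⟨h1, h2⟩ := (mono_fix_iff σ hσ c hc).1 hg1
      exact ⟨(⟨_, h1⟩, ⟨c, h2⟩), rfl⟩
  rw [← Nat.card_congr (Equiv.ofBijective f hf), Nat.card_prod, card_pairStab, Nat.card_coe_set_eq, card_avoid]

theorem norm_U : sqNorm (Spor.leechU : leechLattice).1 = 32 := by rw [leechU_val]; decide +kernel

theorem small_two (N : Subgroup (stabilizer Co0 Spor.leechU)) [N.Normal] (hN : IsPGroup 2 N) :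
    Nat.card N ≤ 1024 := by
  classical
  haveI := finite_co0
  have hle : monoU ≤ stabilizer Co0 Spor.leechU := inf_le_left
  have hidx : (monoU.subgroupOf (stabilizer Co0 Spor.leechU)).index = 46575 := by
    have h := (monoU.subgroupOf (stabilizer Co0 Spor.leechU)).index_mul_card
    rw [Nat.card_congr (Subgroup.subgroupOfEquivOfLe hle).toEquiv, card_monoU, card_co2 norm_U] at h
    exact Nat.eq_of_mul_eq_mul_right (by norm_num : 0 < 908328960) (h.trans (by norm_num))
  have hNK : N ≤ monoU.subgroupOf (stabilizer Co0 Spor.leechU) := le_of_odd_index N _ hN (by rw [hidx]; norm_num)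
  have hdata : ∀ n : N, ∃ σ : M24, ∃ c : Code, n.1.1 = mono (σ, c) ∧ σ ∈ pairStab ∧ c.1 ∈ avoid := by
    intro n
    have h := Subgroup.mem_subgroupOf.1 (hNK n.2)
    have hg : (n.1.1 : Co0) ∈ Set.range mono := by rw [range_mono]; exact (mem_stab_iff _).1 h.2
    obtain ⟨⟨⟨σ, hσ⟩, ⟨c, hc⟩⟩, e⟩ := hg
    have h1 : mono (⟨σ, hσ⟩, ⟨c, hc⟩) • Spor.leechU = Spor.leechU := by rw [e]; exact h.1
    exact ⟨⟨σ, hσ⟩, ⟨c, hc⟩, e.symm, (mono_fix_iff σ hσ c hc).1 h1⟩
  choose sg cd hmono hpair havoid using hdata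
  have hrel : ∀ n : N, Rel n.1.1 (sg n) := fun n => by rw [hmono n]; exact rel_mono _ _ _ _
  let Nb : Subgroup M24 :=
    { carrier := {σ | ∃ n : N, Rel n.1.1 σ}
      one_mem' := ⟨1, rel_one⟩
      mul_mem' := by
        rintro a b ⟨n, hn⟩ ⟨m, hm⟩
        exact ⟨n * m, rel_mul hn hm⟩
      inv_mem' := by
        rintro a ⟨n, hn⟩
        exact ⟨n⁻¹, rel_inv hn⟩ }
  have hpow : ∀ σ ∈ Nb, ∃ k, σ ^ 2 ^ k = 1 := by
    rintro σ ⟨n, hn⟩
    obtain ⟨k, hk⟩ := hN n
    refine ⟨k, rel_unique ?_ rel_one⟩
    have hp : ∀ j : ℕ, Rel (n.1.1 ^ j) (σ ^ j) := fun j => by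
      induction j with
      | zero => rw [pow_zero, pow_zero]; exact rel_one
      | succ j ih => rw [pow_succ, pow_succ]; exact rel_mul ih hn
    have := hp (2 ^ k)
    have e : (n.1.1 : Co0) ^ 2 ^ k = 1 := by
      rw [← Subgroup.coe_pow, ← Subgroup.coe_pow, hk]; rfl
    rwa [e] at this
  have hsub : ∀ σ ∈ Nb, σ ∈ pairStab := by
    rintro σ ⟨n, hn⟩
    rw [rel_unique hn (hrel n)]
    exact hpair n
  have hconj : ∀ x ∈ LeechStab.twoStab, ∀ σ ∈ Nb, x * σ * x⁻¹ ∈ Nb := by
    rintro x hx σ ⟨n, hn⟩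
    have hxG : permHom x ∈ stabilizer Co0 Spor.leechU := by
      refine permHom_fix.2 fun l => ?_
      have e1 : (x : Equiv.Perm GolayPt) none = none := hx.1
      have e2 : (x : Equiv.Perm GolayPt) (some 0) = some 0 := hx.2
      by_cases hl : l = none
      · subst hl; rw [e1]
      by_cases hl' : l = some 0
      · subst hl'; rw [e2]
      show Spor.vecU ((x : Equiv.Perm GolayPt) l) = Spor.vecU l
      rw [vecU_zero.2 (show l ∉ ({none, some 0} : Finset GolayPt) by simp [hl, hl']), vecU_zero.2 ?_]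
      simp only [Finset.mem_insert, Finset.mem_singleton, not_or]
      exact ⟨fun e => hl ((x : Equiv.Perm GolayPt).injective (e.trans e1.symm)),
        fun e => hl' ((x : Equiv.Perm GolayPt).injective (e.trans e2.symm))⟩
    refine ⟨⟨_, (inferInstance : N.Normal).conj_mem n.1 n.2 ⟨permHom x, hxG⟩⟩, ?_⟩
    exact rel_mul (rel_mul (rel_perm x) hn) (rel_inv (rel_perm x))
  have htriv : ∀ σ ∈ Nb, σ ∈ LeechStab.twoStab → σ = 1 := by
    haveI : IsSimpleGroup LeechStab.twoStab := M24Simple.m22_simple none (some 0) (by simp)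
    haveI : (Nb.subgroupOf LeechStab.twoStab).Normal :=
      ⟨fun a ha x => hconj x.1 x.2 a.1 ha⟩
    rcases IsSimpleGroup.eq_bot_or_eq_top_of_normal (Nb.subgroupOf LeechStab.twoStab) inferInstance with h | h
    · intro σ hσ hσ2
      have h1 : (⟨σ, hσ2⟩ : LeechStab.twoStab) ∈ Nb.subgroupOf LeechStab.twoStab := hσ
      rw [h, Subgroup.mem_bot] at h1
      exact congrArg Subtype.val h1
    · exfalso
      have hd : dM ∈ LeechStab.twoStab := ⟨dM_apply.1, (dM_apply.2 0).trans (by rw [mul_zero])⟩
      obtain ⟨k, hk⟩ := hpow dM (Subgroup.subgroupOf_eq_top.1 h hd)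
      have h1 := orderOf_dvd_of_pow_eq_one hk
      rw [orderOf_dM] at h1
      have := Nat.Prime.dvd_of_dvd_pow (by norm_num : Nat.Prime 11) h1
      norm_num at this
  have hone : ∀ σ ∈ Nb, σ = 1 := by
    intro σ hσ
    rcases mem_pairStab.1 (hsub σ hσ) with ⟨a, b⟩ | ⟨a, b⟩
    · exact htriv σ hσ ⟨a, b⟩
    exfalso
    have ai : σ⁻¹ • (none : GolayPt) = some 0 := by rw [inv_smul_eq_iff, b]
    have bi : σ⁻¹ • (some 0 : GolayPt) = none := by rw [inv_smul_eq_iff, a]
    have hcomm : ∀ x ∈ LeechStab.twoStab, σ * x = x * σ := by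
      intro x hx
      have h1 : σ * (x * σ⁻¹ * x⁻¹) ∈ Nb := Nb.mul_mem hσ (hconj x hx _ (Nb.inv_mem hσ))
      have hxi : x⁻¹ ∈ LeechStab.twoStab := LeechStab.twoStab.inv_mem hx
      have h2 : σ * (x * σ⁻¹ * x⁻¹) ∈ LeechStab.twoStab := by
        refine ⟨?_, ?_⟩
        · show (σ * (x * σ⁻¹ * x⁻¹)) • (none : GolayPt) = none
          rw [mul_smul, mul_smul, mul_smul, mem_stabilizer_iff.1 hxi.1, ai, mem_stabilizer_iff.1 hx.2, b]
        · show (σ * (x * σ⁻¹ * x⁻¹)) • (some 0 : GolayPt) = some 0
          rw [mul_smul, mul_smul, mul_smul, mem_stabilizer_iff.1 hxi.2, bi, mem_stabilizer_iff.1 hx.1, a]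
      have h3 := htriv _ h1 h2
      calc σ * x = σ * (x * σ⁻¹ * x⁻¹) * (x * σ) := by group
        _ = x * σ := by rw [h3, one_mul]
    have hfix : ∀ p : GolayPt, p ≠ none → p ≠ some 0 → σ • p = p := by
      intro p h1 h2
      by_contra hne
      have hq1 : σ • p ≠ none := fun e => h2 (smul_left_cancel σ (e.trans b.symm))
      have hq2 : σ • p ≠ some 0 := fun e => h1 (smul_left_cancel σ (e.trans a.symm))
      obtain ⟨e, he⟩ : ∃ e : GolayPt, e ∉ ({none, some 0, p, σ • p} : Finset GolayPt) := by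
        by_contra hall
        have hsub' : (Finset.univ : Finset GolayPt) ⊆ {none, some 0, p, σ • p} := fun j _ => by
          by_contra hj; exact hall ⟨j, hj⟩
        have h4 := (Finset.card_le_card hsub').trans Finset.card_le_four
        simp at h4
      simp only [Finset.mem_insert, Finset.mem_singleton, not_or] at he
      obtain ⟨x, hx, x1, x2, x3, x4⟩ := m24_map_quad
        (a := none) (b := some 0) (c := p) (d := σ • p) (a' := none) (b' := some 0) (c' := p) (d' := e)
        (by
          intro i j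
          fin_cases i <;> fin_cases j <;>
            simp [Ne.symm h1, Ne.symm h2, h1, h2, hq1, hq2, Ne.symm hq1, Ne.symm hq2, hne, Ne.symm hne])
        (by
          intro i j
          fin_cases i <;> fin_cases j <;>
            simp [Ne.symm h1, Ne.symm h2, h1, h2, he.1, he.2.1, he.2.2.1, Ne.symm he.1, Ne.symm he.2.1,
              Ne.symm he.2.2.1])
      have h5 := congrArg (fun s : M24 => s • p) (hcomm ⟨x, hx⟩ ⟨x1, x2⟩)
      simp only [mul_smul] at h5
      rw [show (⟨x, hx⟩ : M24) • p = p from x3, show (⟨x, hx⟩ : M24) • (σ • p) = e from x4] at h5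
      exact he.2.2.2 h5.symm
    obtain ⟨m, hm, hm1, hm2⟩ : ∃ m ∈ octadList, (none : GolayPt) ∈ ofMask m ∧ (some 0 : GolayPt) ∉ ofMask m := by
      decide +kernel
    have hlt : m < 2 ^ 24 := of_decide_eq_true (List.all_eq_true.1 octadList_lt m hm)
    have ho : ofMask m ∈ Code := ((mem_octads_iff hlt).2 hm).1
    have hs : σ • ofMask m ∈ Code := smul_mem_code σ.2 ho
    have hpair' : symmDiff (ofMask m) (σ • ofMask m) = {none, some 0} := by
      ext p
      rw [Finset.mem_symmDiff, ← Finset.inv_smul_mem_iff]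
      by_cases h1 : p = none
      · subst h1; rw [ai]; simp [hm1, hm2]
      by_cases h2 : p = some 0
      · subst h2; rw [bi]; simp [hm1, hm2]
      rw [show σ⁻¹ • p = p by rw [inv_smul_eq_iff, hfix p h1 h2]]
      simp [h1, h2]
    have h6 := card_cases (symmDiff_mem_code ho hs)
    rw [hpair', Finset.card_pair (by simp)] at h6
    omega
  have hinj : Function.Injective (fun n : N => (⟨(cd n).1, havoid n⟩ : avoid)) := by
    intro n m h
    have hc : cd n = cd m := Subtype.ext (congrArg (fun c : avoid => c.1) h)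
    have hsn : sg n = sg m := by rw [hone _ ⟨n, hrel n⟩, hone _ ⟨m, hrel m⟩]
    exact Subtype.ext (Subtype.ext (by rw [hmono n, hmono m, hsn, hc]))
  have hfin : Finite avoid := (Set.finite_of_ncard_pos (by rw [card_avoid]; norm_num)).to_subtype
  have := Nat.card_le_card_of_injective _ hinj
  rwa [Nat.card_coe_set_eq, card_avoid] at this

/-! ### the stabiliser of a minimal vector -/

/-- `(-3, 1, ..., 1)` -/
noncomputable def oddL : leechLattice := fiveL - eightL none

theorem norm_oddL : sqNorm oddL.1 = 32 := by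
  rw [oddL, AddSubgroup.coe_sub, fiveL_val, eightL_val]; decide +kernel

theorem co2_simple : IsSimpleGroup (stabilizer Co0 oddL) := by
  classical
  haveI := finite_co0
  haveI : Fact (Nat.Prime 23) := ⟨by norm_num⟩
  haveI := M24Simple.m23_simple (none : GolayPt)
  have hfive : ∀ σ : M24, σ • (none : GolayPt) = none → permHom σ • fiveL = fiveL := fun σ h => permHom_fix.2 fun l => by
    have h' : (σ : Equiv.Perm GolayPt) none = none := h
    rw [fiveL_val]
    by_cases hl : l = none
    · subst hl; rw [h']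
    · simp only [five, if_neg hl, if_neg (fun e : (σ : Equiv.Perm GolayPt) l = none => hl ((σ : Equiv.Perm GolayPt).injective (e.trans h'.symm)))]
  have hKG : (stabilizer M24 (none : GolayPt)).map permHom ≤ stabilizer Co0 oddL := by
    rintro _ ⟨σ, hσ, rfl⟩
    rw [mem_stabilizer_iff, oddL, smul_sub', hfive σ hσ, permHom_eight, mem_stabilizer_iff.1 hσ]
  refine simple_stab (p := 23) _ (stabilizer M24 (none : GolayPt)) hKG (z := tM) ?_ orderOf_tM ?_
    (eightL none) ?_ (fun g hg hz => ?_) ?_
  · decide +kernel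
  · rw [card_co2 norm_oddL]; norm_num
  · rw [permHom_eight, show tM • (none : GolayPt) = none by decide +kernel]
  · have hgo : g • oddL = oddL := mem_stabilizer_iff.1 hg
    have hd : dotInt oddL.1 (g • eightL none).1 = -24 := by
      have h := smul_dot g oddL (eightL none)
      rw [hgo] at h
      rw [h, oddL, AddSubgroup.coe_sub, fiveL_val, eightL_val]
      decide +kernel
    have h8 : g • eightL none = eightL none := by
      rcases fixed64 (permHom_fix.1 hz) ((smul_norm g _).trans (norm_eightL none)) with e | e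
      · exact e
      · exfalso
        rw [e, oddL, AddSubgroup.coe_sub, AddSubgroup.coe_neg, fiveL_val, eightL_val] at hd
        revert hd
        decide +kernel
    have h5 : g • fiveL = fiveL := by
      have h := congrArg (fun w => w + eightL none) hgo
      simp only [oddL, smul_sub', h8, sub_add_cancel] at h
      exact h
    obtain ⟨σ, hσ, e⟩ := perm_of_key h8 h5
    exact ⟨σ, hσ, e.symm⟩
  · intro N hNn hN0 hI hpart
    rw [map_index hKG (I := 2 ^ 11 * 2025) (by rw [card_co2 norm_oddL, card_m23]; norm_num)] at hI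
    obtain ⟨j, hj, hcard⟩ := two_part Nat.card_pos.ne' (fun h => hN0 (Subgroup.card_eq_one.1 h)) hI
      (by decide) (fun q k hq hq2 hk hd => by
        have h35 : q = 3 ∨ q = 5 := by
          have h' : q ∣ 2 ^ 0 * 3 ^ 4 * 5 ^ 2 := by
            have := (dvd_pow_self q hk.ne').trans hd
            simpa using this
          rcases prime_cases_235 hq h' with e | e | e
          · exact absurd e hq2
          · exact Or.inl e
          · exact Or.inr e
        rcases h35 with rfl | rfl
        · have := part_bound (e := 4) hd (by norm_num)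
          interval_cases k <;> norm_num
        · have := part_bound (e := 2) hd (by norm_num)
          interval_cases k <;> norm_num) hpart
    obtain ⟨g, hg⟩ := transitive32 oddL Spor.leechU norm_oddL norm_U
    obtain ⟨e⟩ := conj_one g oddL
    rw [hg] at e
    haveI := hNn
    haveI : (N.map e.toMonoidHom).Normal := hNn.map _ e.surjective
    have hc : Nat.card ↥(N.map e.toMonoidHom) = 2 ^ j := by
      rw [Subgroup.card_map_of_injective e.injective, hcard]
    have h := small_two (N.map e.toMonoidHom) (IsPGroup.of_card hc)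
    rw [hc] at h
    have h2 : (2 : ℕ) ^ 11 ≤ 2 ^ j := Nat.pow_le_pow_right (by norm_num) hj
    omega

theorem isCo2 (v : leechLattice) (hv : sqNorm v.1 = 32) : IsCo2 (stabilizer Co0 v) := by
  obtain ⟨g, hg⟩ := transitive32 v oddL hv norm_oddL
  obtain ⟨e⟩ := conj_one g v
  rw [hg] at e
  haveI := co2_simple
  exact ⟨e.isSimpleGroup, card_co2 hv⟩

/-! ### the group modulo its centre -/

/-- the classes modulo two under an automorphism -/
noncomputable def classHom (g : Co0) : leechLattice ⧸ twoL → leechLattice ⧸ twoL :=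
  Quotient.map' (fun v : leechLattice => g • v) fun a b h => by
    have h1 : (QuotientAddGroup.mk a : leechLattice ⧸ twoL) = QuotientAddGroup.mk b := Quotient.sound' h
    exact Quotient.exact' ((mk_eq_iff _ _).2 (smul_cong g a b ((mk_eq_iff a b).1 h1)))

theorem classHom_mk (g : Co0) (v : leechLattice) :
    classHom g (QuotientAddGroup.mk v) = QuotientAddGroup.mk (g • v) := rfl

theorem normal_two_central (N : Subgroup Co0) [N.Normal] (hN : IsPGroup 2 N) :
    N ≤ Subgroup.center Co0 := by
  classical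
  haveI : Fact (Nat.Prime 2) := ⟨Nat.prime_two⟩
  letI : MulAction N (leechLattice ⧸ twoL) :=
    { smul := fun n c => classHom n.1 c
      one_smul := fun c => by
        obtain ⟨v, rfl⟩ := QuotientAddGroup.mk_surjective c
        show classHom (1 : Co0) _ = _
        rw [classHom_mk, one_smul]
      mul_smul := fun a b c => by
        obtain ⟨v, rfl⟩ := QuotientAddGroup.mk_surjective c
        show classHom (a.1 * b.1) _ = classHom a.1 (classHom b.1 _)
        rw [classHom_mk, classHom_mk, classHom_mk, mul_smul] }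
  haveI : Finite (leechLattice ⧸ twoL) := Nat.finite_of_card_ne_zero (by rw [card_quot]; norm_num)
  let c0 : leechLattice ⧸ twoL := QuotientAddGroup.mk (0 : leechLattice)
  have h0 : c0 ∈ fixedPoints N (leechLattice ⧸ twoL) := fun n => by
    show classHom n.1 _ = _
    rw [classHom_mk, smul_zero']
  obtain ⟨c, hc, hne⟩ := hN.exists_fixed_point_of_prime_dvd_card_of_fixed_point (leechLattice ⧸ twoL)
    (by rw [card_quot]; exact dvd_pow_self 2 (by norm_num)) h0
  obtain ⟨x, rfl⟩ := QuotientAddGroup.mk_surjective c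
  let M : AddSubgroup (GolayPt → ℤ) :=
    AddSubgroup.map leechLattice.subtype
      { carrier := {v : leechLattice | ∀ n : N, (QuotientAddGroup.mk (n.1 • v) : leechLattice ⧸ twoL) = QuotientAddGroup.mk v}
        zero_mem' := fun n => by rw [smul_zero']
        add_mem' := fun {a b} ha hb n => by rw [smul_add', QuotientAddGroup.mk_add, QuotientAddGroup.mk_add, ha n, hb n]
        neg_mem' := fun {a} ha n => by rw [smul_neg', QuotientAddGroup.mk_neg, QuotientAddGroup.mk_neg, ha n] }
  have hM : ∀ v : leechLattice, v.1 ∈ M ↔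
      ∀ n : N, (QuotientAddGroup.mk (n.1 • v) : leechLattice ⧸ twoL) = QuotientAddGroup.mk v := by
    intro v
    constructor
    · rintro ⟨w, hw, e⟩
      obtain rfl : w = v := Subtype.ext e
      exact hw
    · exact fun h => ⟨v, h, rfl⟩
  have hle : M ≤ leechLattice := by
    rintro _ ⟨w, -, rfl⟩
    exact w.2
  rcases irreducible M (fun v hv => by
      have hv2 : (2 : ℤ) • v ∈ leechLattice := leechLattice.zsmul_mem hv 2
      refine (hM ⟨_, hv2⟩).2 fun n => ?_
      have hz : ∀ w : leechLattice, (QuotientAddGroup.mk (w + w) : leechLattice ⧸ twoL) = QuotientAddGroup.mk 0 :=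
        fun w => (mk_eq_iff _ _).2 ⟨w.1, w.2, by rw [AddSubgroup.coe_add, AddSubgroup.coe_zero, sub_zero, two_nsmul]⟩
      rw [show (⟨(2 : ℤ) • v, hv2⟩ : leechLattice) = ⟨v, hv⟩ + ⟨v, hv⟩ from Subtype.ext (two_zsmul v),
        smul_add', hz, hz])
    hle
    (fun g v hv => (hM _).2 fun n => by
      have h1 := (hM v).1 hv ⟨g⁻¹ * n.1 * g, by
        simpa using (inferInstance : N.Normal).conj_mem n.1 n.2 g⁻¹⟩
      have h2 := congrArg (classHom g) h1
      rw [classHom_mk, classHom_mk] at h2
      have e : g • ((g⁻¹ * n.1 * g) • v) = n.1 • (g • v) := by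
        rw [← mul_smul, ← mul_smul]; congr 1; group
      rwa [e] at h2) with h | h
  · exfalso
    obtain ⟨w, hw, e⟩ := h x.1 ((hM x).2 fun n => hc n)
    refine hne ((mk_eq_iff _ _).2 ?_)
    exact ⟨-w, leechLattice.neg_mem hw, by
      rw [e]; simp [two_zsmul, two_nsmul]⟩
  · intro n hn
    refine kernel_central fun v => ?_
    have h1 : v.1 ∈ M := by rw [h]; exact v.2
    exact (mk_eq_iff _ _).1 ((hM v).1 h1 ⟨n, hn⟩)

theorem card_co1 : Nat.card (Co0 ⧸ Subgroup.center Co0) = 4157776806543360000 := by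
  have h := Subgroup.card_eq_card_quotient_mul_card_subgroup (Subgroup.center Co0)
  rw [card_center, card_co0] at h
  omega

/-- the coordinate permutations modulo the centre -/
noncomputable def permQ : M24 →* Co0 ⧸ Subgroup.center Co0 := (QuotientGroup.mk' _).comp permHom

theorem permQ_injective : Function.Injective permQ := by
  rw [← MonoidHom.ker_eq_bot_iff, Subgroup.eq_bot_iff_forall]
  intro σ hσ
  rcases mem_center_iff.1 ((QuotientGroup.eq_one_iff _).1 hσ) with h | h
  · exact permHom_injective (h.trans (map_one _).symm)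
  · exfalso
    have h1 := congrArg (fun g : Co0 => g • eightL none) h
    simp only [permHom_eight, negOne_apply] at h1
    have h2 := eightL_cases (Or.inr h1)
    rw [h2] at h1
    have h3 := congrArg (fun v : leechLattice => v.1 none) h1
    simp [eightL_val] at h3

theorem negOne_sq : negOne * negOne = 1 :=
  ext_eight fun i => by rw [mul_smul, negOne_apply, negOne_apply, neg_neg, one_smul]

theorem co1_simple : IsSimpleGroup (Co0 ⧸ Subgroup.center Co0) := by
  classical
  haveI := finite_co0
  haveI : Fact (Nat.Prime 23) := ⟨by norm_num⟩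
  haveI : IsSimpleGroup permQ.range :=
    haveI := M24Simple.m24_simple
    (MonoidHom.ofInjective permQ_injective).symm.isSimpleGroup
  obtain ⟨P, hP, hPz⟩ := sylow_of_prime (z := permQ tM) (p := 23)
    (by rw [orderOf_injective permQ permQ_injective, orderOf_tM]) (by rw [card_co1]; norm_num)
  have hN : Subgroup.normalizer ((P : Subgroup (Co0 ⧸ Subgroup.center Co0)) : Set (Co0 ⧸ Subgroup.center Co0)) ≤
      permQ.range := by
    intro q hq
    obtain ⟨g, rfl⟩ := QuotientGroup.mk_surjective q
    have h1 := (Subgroup.mem_normalizer_iff.1 (inv_mem hq) (permQ tM)).1 (by rw [hPz]; exact Subgroup.mem_zpowers _)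
    rw [inv_inv, hPz] at h1
    obtain ⟨j, hj⟩ := h1
    have hj' : ((permHom (tM ^ j) : Co0) : Co0 ⧸ Subgroup.center Co0) = ((g⁻¹ * permHom tM * g : Co0) : Co0 ⧸ Subgroup.center Co0) := by
      rw [map_zpow]; exact hj
    rw [QuotientGroup.eq] at hj'
    have hmem : tM ^ j ∈ stabilizer M24 (none : GolayPt) :=
      zpow_mem (show tM ∈ stabilizer M24 (none : GolayPt) by decide +kernel) j
    have he : g⁻¹ * permHom tM * g = permHom (tM ^ j) := by
      rcases mem_center_iff.1 hj' with e | e
      · exact (inv_mul_eq_one.1 e).symm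
      · exfalso
        have e' : g⁻¹ * permHom tM * g = permHom (tM ^ j) * negOne := eq_mul_of_inv_mul_eq e
        have hc : (negOne : Co0) ∈ Subgroup.center Co0 := mem_center_iff.2 (Or.inr rfl)
        have hcom : Commute (permHom (tM ^ j)) negOne := Subgroup.mem_center_iff.1 hc _
        have h23 : (g⁻¹ * permHom tM * g) ^ 23 = 1 := by
          rw [show g⁻¹ * permHom tM * g = g⁻¹ * permHom tM * (g⁻¹)⁻¹ by rw [inv_inv], conj_pow, ← map_pow,
            tM_pow, map_one, mul_one, inv_inv, inv_mul_cancel]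
        have hpw : (tM ^ j) ^ 23 = (1 : M24) := by
          rw [← zpow_natCast, zpow_comm, zpow_natCast, tM_pow, one_zpow]
        rw [e', hcom.mul_pow, ← map_pow, hpw, map_one, one_mul, show 23 = 2 * 11 + 1 from rfl, pow_succ, pow_mul,
          sq, negOne_sq, one_pow, one_mul] at h23
        have h8 := congrArg (fun k : Co0 => ((k • eightL none : leechLattice) : GolayPt → ℤ) none) h23
        simp [negOne_apply, eightL_val] at h8
    have hfive : permHom (tM ^ j) • fiveL = fiveL := by
      refine permHom_fix.2 fun l => ?_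
      have hm : ((tM ^ j : M24) : Equiv.Perm GolayPt) none = none := hmem
      rw [fiveL_val]
      by_cases hl : l = none
      · subst hl; rw [hm]
      · simp only [five, if_neg hl, if_neg (fun e : ((tM ^ j : M24) : Equiv.Perm GolayPt) l = none =>
          hl (((tM ^ j : M24) : Equiv.Perm GolayPt).injective (e.trans hm.symm)))]
    have hmove : ∀ v : leechLattice, permHom (tM ^ j) • v = v → permHom tM • (g • v) = g • v := by
      intro v hv
      rw [← he] at hv
      conv_rhs => rw [← hv]
      rw [← mul_smul, ← mul_smul]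
      congr 1
      group
    have h8 : permHom (tM ^ j) • eightL none = eightL none := by
      rw [permHom_eight, mem_stabilizer_iff.1 hmem]
    have hdot : dotInt (g • fiveL).1 (g • eightL none).1 = 40 := by
      rw [smul_dot, fiveL_val, eightL_val, dot_single]
      rfl
    rcases fixed64 (permHom_fix.1 (hmove _ h8)) ((smul_norm g _).trans (norm_eightL none)) with e8 | e8
    · rw [e8] at hdot
      have h5 : g • fiveL = fiveL :=
        fixed48 (permHom_fix.1 (hmove _ hfive)) ((smul_norm g _).trans norm_fiveL) hdot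
      obtain ⟨σ, -, rfl⟩ := perm_of_key e8 h5
      exact ⟨σ, rfl⟩
    · have e8' : (negOne * g) • eightL none = eightL none := by rw [mul_smul, e8, negOne_apply, neg_neg]
      have h5 : (negOne * g) • fiveL = fiveL := by
        refine fixed48 (permHom_fix.1 ?_) ((smul_norm _ _).trans norm_fiveL) ?_
        · rw [mul_smul, negOne_apply, smul_neg', hmove _ hfive]
        · have h := smul_dot (negOne * g) fiveL (eightL none)
          rw [e8'] at h
          rw [h, fiveL_val, eightL_val, dot_single]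
          rfl
      obtain ⟨σ, -, e⟩ := perm_of_key e8' h5
      refine ⟨σ, ?_⟩
      show ((permHom σ : Co0) : Co0 ⧸ Subgroup.center Co0) = (g : Co0 ⧸ Subgroup.center Co0)
      rw [← e, QuotientGroup.eq, show (negOne * g)⁻¹ * g = g⁻¹ * negOne⁻¹ * g by group]
      have hc : (negOne : Co0)⁻¹ ∈ Subgroup.center Co0 := inv_mem (mem_center_iff.2 (Or.inr rfl))
      rw [Subgroup.mem_center_iff.1 hc g⁻¹, inv_mul_cancel_right]
      exact hc
  refine SimpleBySylow.isSimple hP hN fun N hNn hN0 hNM => ?_
  haveI := hNn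
  have hidx : permQ.range.index = 2 ^ 11 * 8292375 := by
    have h := permQ.range.index_mul_card
    rw [Nat.card_congr (MonoidHom.ofInjective permQ_injective).symm.toEquiv, card_M24, card_co1] at h
    exact Nat.eq_of_mul_eq_mul_right (by norm_num : 0 < 244823040) (h.trans (by norm_num))
  have hI := SimpleBySylow.card_dvd_index hNM
  rw [hidx] at hI
  obtain ⟨j, -, hcard⟩ := two_part Nat.card_pos.ne' (fun h => hN0 (Subgroup.card_eq_one.1 h)) hI
    (by decide) (fun q k hq hq2 hk hd => by
      have hq' : q ∣ 3 ^ 6 * 5 ^ 3 * 7 * 13 := by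
        have := (dvd_pow_self q hk.ne').trans hd
        simpa using this
      have hcases : q = 3 ∨ q = 5 ∨ q = 7 ∨ q = 13 := by
        rcases hq.dvd_mul.1 hq' with h | h
        · rcases hq.dvd_mul.1 h with h | h
          · rcases hq.dvd_mul.1 h with h | h
            · exact Or.inl ((Nat.prime_dvd_prime_iff_eq hq Nat.prime_three).1 (hq.dvd_of_dvd_pow h))
            · exact Or.inr (Or.inl ((Nat.prime_dvd_prime_iff_eq hq Nat.prime_five).1 (hq.dvd_of_dvd_pow h)))
          · exact Or.inr (Or.inr (Or.inl ((Nat.prime_dvd_prime_iff_eq hq (by norm_num)).1 h)))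
        · exact Or.inr (Or.inr (Or.inr ((Nat.prime_dvd_prime_iff_eq hq (by norm_num)).1 h)))
      rcases hcases with rfl | rfl | rfl | rfl
      · have := part_bound (e := 6) hd (by norm_num)
        interval_cases k <;> norm_num
      · have := part_bound (e := 3) hd (by norm_num)
        interval_cases k <;> norm_num
      · have := part_bound (e := 1) hd (by norm_num)
        interval_cases k <;> norm_num
      · have := part_bound (e := 1) hd (by norm_num)
        interval_cases k <;> norm_num)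
    (fun q hqp hqn => SimpleBySylow.prime_part hP hN hNM hqp hqn)
  set N0 := N.comap (QuotientGroup.mk' (Subgroup.center Co0)) with hN0'
  haveI : N0.Normal := hNn.comap _
  have h2 : IsPGroup 2 N0 := by
    intro x
    have hpg : IsPGroup 2 N := IsPGroup.of_card hcard
    obtain ⟨k, hk⟩ := hpg ⟨QuotientGroup.mk' (Subgroup.center Co0) x.1, x.2⟩
    refine ⟨k + 1, Subtype.ext ?_⟩
    have hk' : ((x.1 ^ 2 ^ k : Co0) : Co0 ⧸ Subgroup.center Co0) = 1 := congrArg Subtype.val hk
    rw [QuotientGroup.eq_one_iff, mem_center_iff] at hk'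
    rw [Subgroup.coe_pow, pow_succ, pow_mul, sq]
    rcases hk' with e | e <;> rw [e]
    · rw [one_mul]; rfl
    · rw [negOne_sq]; rfl
  refine hN0 ((Subgroup.eq_bot_iff_forall _).2 fun q hq => ?_)
  obtain ⟨g, rfl⟩ := QuotientGroup.mk_surjective q
  exact (QuotientGroup.eq_one_iff g).2 (normal_two_central N0 h2 (show g ∈ N0 from hq))

theorem isCo1 : IsCo1 (Co0 ⧸ Subgroup.center Co0) := ⟨co1_simple, card_co1⟩

end CfsgLib.Spor.LeechCo12
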