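import Cfsg.Agent.Spor.LeechCross
import Cfsg.Agent.Spor.M24Dodecads

/-!
Transitivity on the short vectors, the kernel and irreducibility of the action modulo two, the
invariant quadratic form, a totally singular subgroup, non-splitting over negation.
-/

set_option autoImplicit false

namespace CfsgLib.Spor.LeechOrbits

open Cfsg CfsgLib.Spor CfsgLib.Spor.LeechFacts CfsgLib.Spor.LeechCount CfsgLib.Spor.LeechModTwo
  CfsgLib.Spor.LeechFrame CfsgLib.Spor.LeechCross
open scoped Pointwise

theorem eightVec_mem (i : GolayPt) (s : ℤ) (hs : s = 8 ∨ s = -8) :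
    (Pi.single i s : GolayPt → ℤ) ∈ leechLattice := by
  refine mem_leechLattice.2 (inLeech_of_four (fun j => four_dvd_single i j (by omega)) ?_)
  rw [Finset.sum_pi_single', if_pos (Finset.mem_univ _)]
  omega

theorem pm_one {y : GolayPt → ℤ} (s : Finset GolayPt) (hs : oddSupp y = s) :
    (s.card : ℤ) ≤ ∑ i ∈ s, y i ^ 2 ∧ 0 ≤ ∑ i ∈ sᶜ, y i ^ 2 ∧
      (∑ i ∈ s, y i ^ 2) + (∑ i ∈ sᶜ, y i ^ 2) = ∑ i, y i ^ 2 := by
  refine ⟨?_, Finset.sum_nonneg fun i _ => sq_nonneg _, Finset.sum_add_sum_compl s _⟩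
  rw [Finset.card_eq_sum_ones, Nat.cast_sum]
  refine Finset.sum_le_sum fun i hi => ?_
  have h1 : y i ≠ 0 := fun he => mem_oddSupp.1 (hs.symm ▸ hi) (by rw [he]; exact dvd_zero _)
  rw [Nat.cast_one]
  nlinarith [Int.one_le_abs h1, sq_abs (y i)]

theorem pm_one_eq {y : GolayPt → ℤ} {s : Finset GolayPt} (hs : oddSupp y = s)
    (h : ∑ i ∈ s, y i ^ 2 = s.card) : ∀ i ∈ s, y i = 1 ∨ y i = -1 := by
  intro i hi
  have hone : ∀ j ∈ s, (1 : ℤ) ≤ y j ^ 2 := fun j hj => by
    have h0 : y j ≠ 0 := fun h0 => mem_oddSupp.1 (hs.symm ▸ hj) (by rw [h0]; exact dvd_zero _)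
    nlinarith [Int.one_le_abs h0, sq_abs (y j)]
  have h2 : ∑ j ∈ s, (y j ^ 2 - 1) = 0 := by
    rw [Finset.sum_sub_distrib, h]; simp
  have h3 := (Finset.sum_eq_zero_iff_of_nonneg fun j hj => sub_nonneg.2 (hone j hj)).1 h2 i hi
  exact sq_eq_one_iff.1 (by omega)

theorem sq_sub (y : ℤ) : (2 : ℤ) ∣ y ^ 2 - y := by
  rcases Int.even_or_odd y with ⟨k, hk⟩ | ⟨k, hk⟩
  · exact ⟨2 * k ^ 2 - k, by rw [hk]; ring⟩
  · exact ⟨2 * k ^ 2 + k, by rw [hk]; ring⟩

/-- a long vector over a short one -/
theorem exists_over32 {x : GolayPt → ℤ} (hx : x ∈ leechLattice) (hn : sqNorm x = 32) :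
    ∃ a ∈ leechLattice, sqNorm a = 64 ∧ dotInt x a = 32 := by
  classical
  rcases leech_cases hx with ⟨y, rfl, hc, h4⟩ | ho
  · have hs : ∑ i, y i ^ 2 = 8 := by rw [norm_two_mul] at hn; omega
    obtain ⟨hlo, h0, hsum⟩ := pm_one (oddSupp y) rfl
    rcases (oddSupp y).eq_empty_or_nonempty with he | hne
    · have heven : ∀ i, (2 : ℤ) ∣ y i := fun i => by
        by_contra h
        exact Finset.notMem_empty i (he ▸ mem_oddSupp.2 h)
      obtain ⟨i, -, hi⟩ := Finset.exists_ne_zero_of_sum_ne_zero (s := Finset.univ) (f := fun i => y i ^ 2)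
        (by omega)
      have hle : y i ^ 2 ≤ 8 := le_of_le_of_eq
        (Finset.single_le_sum (f := fun j => y j ^ 2) (fun j _ => sq_nonneg _) (Finset.mem_univ i)) hs
      obtain ⟨hl, hu⟩ := small_of_sq (b := 2) (by norm_num) (by omega : y i ^ 2 < (2 + 1) ^ 2)
      have hi0 : y i ≠ 0 := fun h => hi (by simp [h])
      have := heven i
      refine ⟨Pi.single i (4 * y i), eightVec_mem i _ (by omega), ?_, ?_⟩
      · rw [norm_single]
        rcases (show y i = 2 ∨ y i = -2 by omega) with e | e <;> rw [e] <;> norm_num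
      · rw [dot_single]
        rcases (show y i = 2 ∨ y i = -2 by omega) with e | e <;> simp [e]
    · have h8 : (oddSupp y).card = 8 := by
        have := hne.card_pos
        rcases card_cases hc with h | h | h | h | h <;> omega
      have hpm := pm_one_eq rfl (show ∑ i ∈ oddSupp y, y i ^ 2 = ((oddSupp y).card : ℤ) by omega)
      obtain ⟨t, ht, htc⟩ := Finset.exists_subset_card_eq (s := oddSupp y) (n := 4) (by omega)
      let z : GolayPt → ℤ := fun i => if i ∈ t then 2 * y i else 0
      have hz0 : oddSupp z = ∅ := by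
        ext i; simp only [mem_oddSupp, z, Finset.notMem_empty, iff_false, not_not]; split <;> omega
      have hone : ∀ i ∈ t, y i ^ 2 = 1 := fun i hi => sq_eq_one_iff.2 (hpm i (ht hi))
      have hzs : ∑ i, z i = 2 * ∑ i ∈ t, y i := by
        rw [Finset.sum_ite_mem, Finset.univ_inter, Finset.mul_sum]
      refine ⟨fun i => 2 * z i, two_mul_mem (hz0.symm ▸ empty_mem_code) ?_, ?_, ?_⟩
      · have h2 : (2 : ℤ) ∣ ∑ i ∈ t, (y i ^ 2 - y i) := Finset.dvd_sum fun i _ => sq_sub _
        rw [Finset.sum_sub_distrib, Finset.sum_congr rfl hone, Finset.sum_const, htc] at h2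
        simp only [nsmul_eq_mul, mul_one, Nat.cast_ofNat] at h2
        omega
      · rw [norm_two_mul, Finset.sum_congr rfl fun i _ => show z i ^ 2 = if i ∈ t then 4 else 0 by
          simp only [z]; split
          · next hi => rw [mul_pow, hone i hi]; norm_num
          · norm_num, Finset.sum_ite_mem, Finset.univ_inter, Finset.sum_const, htc]
        norm_num
      · rw [dotInt, Finset.sum_congr rfl fun i _ => show 2 * y i * (2 * z i) = if i ∈ t then 8 else 0 by
          simp only [z]; split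
          · next hi => nlinarith [hone i hi]
          · ring, Finset.sum_ite_mem, Finset.univ_inter, Finset.sum_const, htc]
        norm_num
  · have hv := odd_values ho hn (by norm_num)
    have hs : ∑ i, oddW (x i) = 1 := by
      have := norm_oddW hv
      rw [hn] at this
      omega
    obtain ⟨i, -, hi⟩ := Finset.exists_ne_zero_of_sum_ne_zero (s := Finset.univ) (f := fun i => oddW (x i))
      (by omega)
    obtain ⟨t, hit, htc⟩ := Finset.exists_superset_card_eq (s := ({i} : Finset GolayPt)) (n := 5)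
      (by simp) (by simp)
    obtain ⟨o, ⟨ho8, hto⟩, -⟩ := existsUnique_octad htc
    have hio : i ∈ o := hto (hit (Finset.mem_singleton_self i))
    let e : GolayPt → ℤ := fun j => if j ∈ o then 1 else 0
    have hem : (fun j => 2 * e j) ∈ leechLattice := by
      refine two_mul_mem ?_ ?_
      · have : oddSupp e = o := by
          ext j; rw [mem_oddSupp]; by_cases h : j ∈ o <;> simp [e, h]
        rw [this]; exact (mem_octads.1 ho8).1
      · simp [e, (mem_octads.1 ho8).2]
    have h8 : (8 : ℤ) ∣ 2 * ∑ j ∈ o, x j := by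
      have h := leech_dot_dvd hx hem
      rw [dotInt, Finset.sum_congr rfl fun j _ => show x j * (2 * e j) = if j ∈ o then 2 * x j else 0 by
        simp only [e]; split <;> ring, Finset.sum_ite_mem, Finset.univ_inter, ← Finset.mul_sum] at h
      exact h
    let z : GolayPt → ℤ := fun j => if j ∈ o then x j else 0
    have hzs : oddSupp z = o := by
      ext j; rw [mem_oddSupp]; by_cases h : j ∈ o <;> simp [z, h, ho j]
    have hsq : ∑ j ∈ o, x j ^ 2 = 16 := by
      have h0 : ∀ j ∈ o, x j ^ 2 = 1 + 8 * ((oddW (x j) : ℕ) : ℤ) := fun j _ => oddW_eq (hv j)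
      rw [Finset.sum_congr rfl h0, Finset.sum_add_distrib, ← Finset.mul_sum, ← Nat.cast_sum]
      have h1 : ∑ j ∈ o, oddW (x j) = 1 := by
        refine le_antisymm (hs ▸ Finset.sum_le_sum_of_subset (Finset.subset_univ o)) ?_
        exact le_trans (Nat.one_le_iff_ne_zero.2 hi)
          (Finset.single_le_sum (f := fun j => oddW (x j)) (fun j _ => Nat.zero_le _) hio)
      rw [h1, Finset.sum_const, (mem_octads.1 ho8).2]
      norm_num
    refine ⟨fun j => 2 * z j, two_mul_mem (hzs.symm ▸ (mem_octads.1 ho8).1) ?_, ?_, ?_⟩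
    · rw [Finset.sum_ite_mem, Finset.univ_inter]; omega
    · rw [norm_two_mul, Finset.sum_congr rfl fun j _ => show z j ^ 2 = if j ∈ o then x j ^ 2 else 0 by
        simp only [z]; split <;> ring, Finset.sum_ite_mem, Finset.univ_inter, hsq]
      norm_num
    · rw [dotInt, Finset.sum_congr rfl fun j _ => show x j * (2 * z j) = if j ∈ o then 2 * x j ^ 2 else 0 by
        simp only [z]; split <;> ring, Finset.sum_ite_mem, Finset.univ_inter, ← Finset.mul_sum, hsq]
      norm_num

theorem exists_over48 {x : GolayPt → ℤ} (hx : x ∈ leechLattice) (hn : sqNorm x = 48) :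
    ∃ a ∈ leechLattice, sqNorm a = 64 ∧ dotInt x a = 40 := by
  classical
  rcases leech_cases hx with ⟨y, rfl, hc, h4⟩ | ho
  · have hs : ∑ i, y i ^ 2 = 12 := by rw [norm_two_mul] at hn; omega
    obtain ⟨hlo, h0, hsum⟩ := pm_one (oddSupp y) rfl
    have hcomp : ∀ i, i ∉ oddSupp y → (2 : ℤ) ∣ y i := fun i hi => by
      by_contra h; exact hi (mem_oddSupp.2 h)
    have key : ∀ (z : GolayPt → ℤ), oddSupp z = oddSupp y → (4 : ℤ) ∣ ∑ i, z i → ∑ i, z i ^ 2 = 16 →
        ∑ i, y i * z i = 10 →
        ∃ a ∈ leechLattice, sqNorm a = 64 ∧ dotInt (fun i => 2 * y i) a = 40 := by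
      intro z hz hz4 hz16 hz10
      refine ⟨fun i => 2 * z i, two_mul_mem (hz.symm ▸ hc) hz4, by rw [norm_two_mul, hz16]; norm_num, ?_⟩
      rw [dotInt, Finset.sum_congr rfl fun i _ => show 2 * y i * (2 * z i) = 4 * (y i * z i) by ring,
        ← Finset.mul_sum, hz10]
      norm_num
    have hcase : (oddSupp y).card = 0 ∨ (oddSupp y).card = 8 ∨ (oddSupp y).card = 12 := by
      rcases card_cases hc with h | h | h | h | h <;> omega
    rcases hcase with h | h | h
    · exfalso
      have heven : ∀ i, (2 : ℤ) ∣ y i := fun i => hcomp i (by simp [Finset.card_eq_zero.1 h])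
      obtain ⟨u, rfl⟩ : ∃ u : GolayPt → ℤ, y = fun i => 2 * u i :=
        ⟨fun i => y i / 2, funext fun i => by
          have := heven i
          show y i = 2 * (y i / 2)
          omega⟩
      have hp : (2 : ℤ) ∣ ∑ i, (u i ^ 2 - u i) := Finset.dvd_sum fun i _ => sq_sub _
      rw [Finset.sum_sub_distrib] at hp
      rw [← Finset.mul_sum] at h4
      rw [Finset.sum_congr rfl fun i _ => show (2 * u i) ^ 2 = 4 * u i ^ 2 by ring, ← Finset.mul_sum] at hs
      omega
    · have hcs : ∑ i ∈ (oddSupp y)ᶜ, y i ^ 2 = 4 := by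
        have hd : (4 : ℤ) ∣ ∑ i ∈ (oddSupp y)ᶜ, y i ^ 2 := Finset.dvd_sum fun i hi => by
          obtain ⟨k, hk⟩ := hcomp i (Finset.mem_compl.1 hi)
          exact ⟨k ^ 2, by rw [hk]; ring⟩
        by_contra hne
        have h12 : ∑ i ∈ (oddSupp y)ᶜ, y i ^ 2 = 0 := by omega
        have hy0 := (Finset.sum_eq_zero_iff_of_nonneg fun i _ => sq_nonneg (y i)).1 h12
        have hw12 : ∑ i ∈ oddSupp y, y i ^ 2 = 12 := by omega
        have h8 : (8 : ℤ) ∣ ∑ i ∈ oddSupp y, (y i ^ 2 - 1) := Finset.dvd_sum fun i hi => by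
          obtain ⟨k, hk⟩ : ∃ k, y i = 2 * k + 1 := ⟨y i / 2, by have := mem_oddSupp.1 hi; omega⟩
          obtain ⟨t, ht⟩ := sq_sub k
          exact ⟨t + k, by rw [hk]; linear_combination 4 * ht⟩
        rw [Finset.sum_sub_distrib, hw12, Finset.sum_const, h] at h8
        norm_num at h8
      have hpm := pm_one_eq rfl (show ∑ i ∈ oddSupp y, y i ^ 2 = ((oddSupp y).card : ℤ) by omega)
      obtain ⟨j, hj⟩ := Finset.card_pos.1 (show 0 < (oddSupp y).card by omega)
      have hy2 := sq_eq_one_iff.2 (hpm j hj)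
      have hw : ∑ i ∈ oddSupp y, y i ^ 2 = 8 := by omega
      let z : GolayPt → ℤ := fun i => (if i ∈ oddSupp y then y i else 0) + if i = j then 2 * y j else 0
      have hsplit : ∀ F : GolayPt → ℤ, (∀ i, i ∉ oddSupp y → F i = 0) → ∑ i, F i = ∑ i ∈ oddSupp y, F i :=
        fun F hF => (Finset.sum_subset (Finset.subset_univ _) fun i _ hi => hF i hi).symm
      have hz0 : ∀ i, i ∉ oddSupp y → z i = 0 := fun i hi => by
        simp only [z, if_neg hi, if_neg (fun e : i = j => hi (e ▸ hj)), add_zero]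
      have hzv : ∀ i ∈ oddSupp y, z i = y i + if i = j then 2 * y j else 0 := fun i hi => by
        simp only [z, if_pos hi]
      refine key z ?_ ?_ ?_ ?_
      · ext i
        rw [mem_oddSupp, mem_oddSupp]
        by_cases hi : i ∈ oddSupp y
        · have := mem_oddSupp.1 hi
          rw [hzv i hi]
          split <;> omega
        · rw [hz0 i hi]
          have := hcomp i hi
          omega
      · rw [hsplit z hz0, Finset.sum_congr rfl hzv, Finset.sum_add_distrib, Finset.sum_ite_eq', if_pos hj]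
        have hu : (4 : ℤ) ∣ ∑ i ∈ (oddSupp y)ᶜ, (y i ^ 2 - 2 * y i) := Finset.dvd_sum fun i hi => by
          obtain ⟨k, hk⟩ := hcomp i (Finset.mem_compl.1 hi)
          exact ⟨k ^ 2 - k, by rw [hk]; ring⟩
        rw [Finset.sum_sub_distrib, hcs, ← Finset.mul_sum] at hu
        have hpar : (2 : ℤ) ∣ ∑ i ∈ oddSupp y, (y i ^ 2 - y i) := Finset.dvd_sum fun i _ => sq_sub _
        rw [Finset.sum_sub_distrib, hw] at hpar
        have htot := Finset.sum_add_sum_compl (oddSupp y) y
        have hp2 : (4 : ℤ) ∣ (∑ i ∈ (oddSupp y)ᶜ, y i) - 2 := by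
          have h8' : (8 : ℤ) ∣ ∑ i ∈ (oddSupp y)ᶜ, (y i ^ 2 - 2 * y i) := Finset.dvd_sum fun i hi => by
            obtain ⟨k, hk⟩ := hcomp i (Finset.mem_compl.1 hi)
            obtain ⟨t, ht⟩ := sq_sub k
            exact ⟨t, by rw [hk]; linear_combination 4 * ht⟩
          rw [Finset.sum_sub_distrib, hcs, ← Finset.mul_sum] at h8'
          omega
        have := sq_eq_one_iff.1 hy2
        omega
      · rw [hsplit (fun i => z i ^ 2) (fun i hi => by rw [hz0 i hi]; ring),
          Finset.sum_congr rfl fun i hi => show z i ^ 2 = y i ^ 2 + if i = j then 8 else 0 by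
            rw [hzv i hi]; split
            · next e => subst e; linear_combination 8 * hy2
            · ring, Finset.sum_add_distrib, Finset.sum_ite_eq', if_pos hj, hw]
        norm_num
      · rw [hsplit (fun i => y i * z i) (fun i hi => by rw [hz0 i hi]; ring),
          Finset.sum_congr rfl fun i hi => show y i * z i = y i ^ 2 + if i = j then 2 else 0 by
            rw [hzv i hi]; split
            · next e => subst e; linear_combination 2 * hy2
            · ring, Finset.sum_add_distrib, Finset.sum_ite_eq', if_pos hj, hw]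
        norm_num
    · have hw : ∑ i ∈ oddSupp y, y i ^ 2 = 12 := by omega
      have hz : ∀ i, i ∉ oddSupp y → y i = 0 := fun i hi => by
        have h12 : ∑ i ∈ (oddSupp y)ᶜ, y i ^ 2 = 0 := by omega
        exact pow_eq_zero_iff (n := 2) (by norm_num) |>.1
          ((Finset.sum_eq_zero_iff_of_nonneg fun i _ => sq_nonneg (y i)).1 h12 i (Finset.mem_compl.2 hi))
      have hpm := pm_one_eq rfl (show ∑ i ∈ oddSupp y, y i ^ 2 = ((oddSupp y).card : ℤ) by omega)
      obtain ⟨j, hj⟩ := Finset.card_pos.1 (show 0 < (oddSupp y).card by omega)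
      obtain ⟨k, hk⟩ := Finset.card_pos.1 (show 0 < (oddSupp y)ᶜ.card by
        rw [Finset.card_compl, h]; decide)
      rw [Finset.mem_compl] at hk
      have hjk : j ≠ k := fun e => hk (e ▸ hj)
      have hyj := sq_eq_one_iff.2 (hpm j hj)
      have hyk := hz k hk
      let z : GolayPt → ℤ := fun i => y i + ((if i = j then -2 * y j else 0) + if i = k then 2 else 0)
      refine key z ?_ ?_ ?_ ?_
      · ext i
        rw [mem_oddSupp, mem_oddSupp]
        simp only [z]
        split <;> split <;> omega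
      · simp only [z, Finset.sum_add_distrib, Finset.sum_ite_eq', Finset.mem_univ, if_true]
        have := hpm j hj
        omega
      · rw [Finset.sum_congr rfl fun i _ => show z i ^ 2 = y i ^ 2 + if i = k then 4 else 0 by
          simp only [z]
          split <;> split
          · exact absurd (‹i = j›.symm.trans ‹i = k›) hjk
          · subst ‹i = j›; ring
          · subst ‹i = k›; rw [hyk]; norm_num
          · ring, Finset.sum_add_distrib, Finset.sum_ite_eq', if_pos (Finset.mem_univ _), hs]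
        norm_num
      · rw [Finset.sum_congr rfl fun i _ => show y i * z i = y i ^ 2 + if i = j then -2 else 0 by
          simp only [z]
          split <;> split
          · exact absurd (‹i = j›.symm.trans ‹i = k›) hjk
          · subst ‹i = j›; linear_combination -2 * hyj
          · subst ‹i = k›; rw [hyk]; norm_num
          · ring, Finset.sum_add_distrib, Finset.sum_ite_eq', if_pos (Finset.mem_univ _), hs]
        norm_num
  · have hv := odd_values ho hn (by norm_num)
    have ha : ∑ i, oddW (x i) = 3 := by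
      have := norm_oddW hv
      rw [hn] at this
      omega
    by_cases h5 : ∃ i, |x i| = 5
    · obtain ⟨i, hi⟩ := h5
      rcases (abs_eq (by norm_num)).1 hi with e | e
      · exact ⟨Pi.single i 8, eightVec_mem i _ (Or.inl rfl), by rw [norm_single]; norm_num,
          by rw [dot_single, e]; norm_num⟩
      · exact ⟨Pi.single i (-8), eightVec_mem i _ (Or.inr rfl), by rw [norm_single]; norm_num,
          by rw [dot_single, e]; norm_num⟩
    · have hle : ∀ l, oddW (x l) = if |x l| = 3 then 1 else 0 := fun l => by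
        rcases oddW_cases (hv l) with g | g | g
        · rw [g.1, if_neg (by omega)]
        · rw [g.1, if_pos g.2]
        · exact absurd ⟨l, g.2⟩ h5
      rw [Finset.sum_congr rfl fun l _ => hle l, Finset.sum_boole, Nat.cast_id] at ha
      set T := Finset.univ.filter fun l => |x l| = 3
      obtain ⟨l, hl⟩ := Finset.card_pos.1 (show 0 < Tᶜ.card by rw [Finset.card_compl, ha]; decide)
      rw [Finset.mem_compl] at hl
      have hlT : ∀ i, i ∈ T ↔ |x i| = 3 := fun i => by simp [T]
      have hsgn : ∀ i, Int.sign (x i) = 1 ∧ x i > 0 ∨ Int.sign (x i) = -1 ∧ x i < 0 := fun i => by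
        rcases lt_trichotomy (x i) 0 with g | g | g
        · exact Or.inr ⟨Int.sign_eq_neg_one_iff_neg.2 g, g⟩
        · exact absurd (g ▸ dvd_zero _) (ho i)
        · exact Or.inl ⟨Int.sign_eq_one_iff_pos.2 g, g⟩
      let U := insert l T
      have hUc : U.card = 4 := by rw [Finset.card_insert_of_notMem hl, ha]
      let z : GolayPt → ℤ := fun i => if i ∈ U then 2 * Int.sign (x i) else 0
      have hz0 : oddSupp z = ∅ := by
        ext i; simp only [mem_oddSupp, z, Finset.notMem_empty, iff_false, not_not]; split <;> omega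
      refine ⟨fun i => 2 * z i, two_mul_mem (hz0.symm ▸ empty_mem_code) ?_, ?_, ?_⟩
      · rw [Finset.sum_ite_mem, Finset.univ_inter]
        have h2 : (4 : ℤ) ∣ ∑ i ∈ U, (2 * Int.sign (x i) + 2) := Finset.dvd_sum fun i _ => by
          rcases hsgn i with g | g <;> rw [g.1] <;> norm_num
        rw [Finset.sum_add_distrib, Finset.sum_const, hUc] at h2
        norm_num at h2
        omega
      · rw [norm_two_mul, Finset.sum_congr rfl fun i _ => show z i ^ 2 = if i ∈ U then 4 else 0 by
          simp only [z]; split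
          · rcases hsgn i with g | g <;> rw [g.1] <;> norm_num
          · norm_num, Finset.sum_ite_mem, Finset.univ_inter, Finset.sum_const, hUc]
        norm_num
      · rw [dotInt, Finset.sum_congr rfl fun i _ => show x i * (2 * z i) = if i ∈ U then 4 * |x i| else 0 by
          simp only [z]; split
          · rcases hsgn i with g | g <;> rw [g.1]
            · rw [abs_of_pos g.2]; ring
            · rw [abs_of_neg g.2]; ring
          · ring, Finset.sum_ite_mem, Finset.univ_inter, ← Finset.mul_sum]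
        rw [Finset.sum_insert hl, Finset.sum_congr rfl fun i hi => (hlT i).1 hi, Finset.sum_const, ha]
        rcases oddW_cases (hv l) with g | g | g
        · rw [g.2]; norm_num
        · exact absurd ((hlT l).2 g.2) hl
        · exact absurd ⟨l, g.2⟩ h5

/-- carrying a vector to one with a prescribed product with a coordinate vector -/
theorem coord_form {x : leechLattice} {a : GolayPt → ℤ} (ha : a ∈ leechLattice) (han : sqNorm a = 64) {d : ℤ}
    (hd : dotInt x.1 a = 8 * d) :
    ∃ (g : Co0) (i : GolayPt),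
      ((g • x : leechLattice) : GolayPt → ℤ) i = d ∨ ((g • x : leechLattice) : GolayPt → ℤ) i = -d := by
  obtain ⟨g, hg⟩ := to_std ha han
  obtain ⟨i, s, hs, he⟩ := hg ⟨a, ha⟩ ⟨ha, rfl, cong_refl _⟩
  refine ⟨g, i, ?_⟩
  have h := smul_dot g x ⟨a, ha⟩
  rw [he, dot_single, hd] at h
  rcases hs with rfl | rfl <;> omega

theorem pair_signs (p q : Bool) :
    ∃ c ∈ Code, ((none : GolayPt) ∈ c ↔ p = true) ∧ ((some 0 : GolayPt) ∈ c ↔ q = true) := by
  obtain ⟨m, hm, hm1, hm2⟩ : ∃ m ∈ octadList, (none : GolayPt) ∈ ofMask m ∧ (some 0 : GolayPt) ∉ ofMask m := by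
    decide +kernel
  have hlt : m < 2 ^ 24 := of_decide_eq_true (List.all_eq_true.1 octadList_lt m hm)
  have hc : ofMask m ∈ Code := ((mem_octads_iff hlt).2 hm).1
  cases p <;> cases q
  · exact ⟨∅, empty_mem_code, by simp, by simp⟩
  · exact ⟨(ofMask m)ᶜ, compl_mem_code hc, by simp [hm1], by simp [hm2]⟩
  · exact ⟨ofMask m, hc, by simp [hm1], by simp [hm2]⟩
  · exact ⟨Finset.univ, univ_mem_code, by simp, by simp⟩

theorem to_vecU {x : leechLattice} (hn : sqNorm x.1 = 32) : ∃ g : Co0, g • x = Spor.leechU := by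
  classical
  obtain ⟨a, ha, han, had⟩ := exists_over32 x.2 hn
  obtain ⟨g, i, hi⟩ := coord_form (d := 4) ha han (by rw [had]; norm_num)
  set y := g • x with hy
  have hyn : sqNorm y.1 = 32 := (smul_norm g x).trans hn
  rcases leech_cases y.2 with ⟨t, ht, hc, h4⟩ | ho
  swap
  · exfalso; have := ho i; omega
  have hti := congrFun ht i
  rw [ht, norm_two_mul] at hyn
  have hs : ∑ j, t j ^ 2 = 8 := by omega
  obtain ⟨hlo, h0, hsum⟩ := pm_one (oddSupp t) rfl
  have hti2 : t i ^ 2 = 4 := by
    rcases (show t i = 2 ∨ t i = -2 by omega) with e | e <;> rw [e] <;> norm_num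
  have hiw : i ∉ oddSupp t := fun h => by
    have := mem_oddSupp.1 h
    omega
  have hge : 4 ≤ ∑ j ∈ (oddSupp t)ᶜ, t j ^ 2 := hti2 ▸
    Finset.single_le_sum (f := fun j => t j ^ 2) (fun j _ => sq_nonneg _) (Finset.mem_compl.2 hiw)
  have hemp : oddSupp t = ∅ := by
    rw [← Finset.card_eq_zero]
    rcases card_cases hc with h | h | h | h | h <;> omega
  have heven : ∀ j, (2 : ℤ) ∣ t j := fun j => by
    by_contra h; exact Finset.notMem_empty j (hemp ▸ mem_oddSupp.2 h)
  have herase : ∑ j ∈ Finset.univ.erase i, t j ^ 2 = 4 := by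
    have := Finset.add_sum_erase Finset.univ (fun j => t j ^ 2) (Finset.mem_univ i)
    omega
  obtain ⟨j, hj, hj0⟩ := Finset.exists_ne_zero_of_sum_ne_zero (s := Finset.univ.erase i)
    (f := fun j => t j ^ 2) (by omega)
  have hji : j ≠ i := Finset.ne_of_mem_erase hj
  have hjle : t j ^ 2 ≤ 4 := herase ▸ Finset.single_le_sum (f := fun j => t j ^ 2) (fun j _ => sq_nonneg _) hj
  obtain ⟨hl, hu⟩ := small_of_sq (b := 2) (by norm_num) (by omega : t j ^ 2 < (2 + 1) ^ 2)
  have hj2 : t j = 2 ∨ t j = -2 := by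
    have := heven j
    have : t j ≠ 0 := fun h => hj0 (by simp [h])
    omega
  have hrest : ∀ l, l ≠ i → l ≠ j → t l = 0 := by
    intro l h1 h2
    have h3 := Finset.add_sum_erase (Finset.univ.erase i) (fun l => t l ^ 2) hj
    rw [herase, show t j ^ 2 = 4 by rcases hj2 with e | e <;> rw [e] <;> norm_num] at h3
    have h4' : ∑ l ∈ (Finset.univ.erase i).erase j, t l ^ 2 = 0 := by omega
    exact pow_eq_zero_iff (n := 2) (by norm_num) |>.1
      ((Finset.sum_eq_zero_iff_of_nonneg fun l _ => sq_nonneg (t l)).1 h4' l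
        (Finset.mem_erase.2 ⟨h2, Finset.mem_erase.2 ⟨h1, Finset.mem_univ _⟩⟩))
  obtain ⟨σ, hσ, e1, e2⟩ := m24_map_pair (Ne.symm hji) (show (none : GolayPt) ≠ some 0 by simp)
  obtain ⟨c, hc', hc1, hc2⟩ := pair_signs (decide (t i = -2)) (decide (t j = -2))
  rw [decide_eq_true_iff] at hc1 hc2
  refine ⟨mono (⟨σ, hσ⟩, ⟨c, hc'⟩) * g, ?_⟩
  rw [mul_smul, ← hy]
  apply Subtype.ext
  rw [mono_apply, ht]
  funext l
  show (if l ∈ c then -(2 * t (σ.symm l)) else 2 * t (σ.symm l)) = Spor.vecU l
  rw [Spor.vecU]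
  by_cases hl1 : l = none
  · subst hl1
    rw [show σ.symm none = i from by rw [Equiv.symm_apply_eq, e1], if_pos (Or.inl rfl)]
    by_cases g : (none : GolayPt) ∈ c
    · rw [if_pos g, hc1.1 g]; norm_num
    · rw [if_neg g]; have := hc1.not.1 g; omega
  by_cases hl2 : l = some 0
  · subst hl2
    rw [show σ.symm (some 0) = j from by rw [Equiv.symm_apply_eq, e2], if_pos (Or.inr rfl)]
    by_cases g : (some 0 : GolayPt) ∈ c
    · rw [if_pos g, hc2.1 g]; norm_num
    · rw [if_neg g]; have := hc2.not.1 g; omega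
  · rw [if_neg (show ¬(l = none ∨ l = some 0) by tauto), hrest _ (fun e => hl1 (by rw [← e1, ← e, Equiv.apply_symm_apply]))
      (fun e => hl2 (by rw [← e2, ← e, Equiv.apply_symm_apply]))]
    split <;> ring

theorem transitive32 (v w : leechLattice) (hv : sqNorm v.1 = 32) (hw : sqNorm w.1 = 32) :
    ∃ g : Co0, g • v = w := by
  obtain ⟨g, hg⟩ := to_vecU hv
  obtain ⟨k, hk⟩ := to_vecU hw
  exact ⟨k⁻¹ * g, by rw [mul_smul, hg, ← hk, inv_smul_smul]⟩

theorem to_vecV {x : leechLattice} (hn : sqNorm x.1 = 48) : ∃ g : Co0, g • x = Spor.leechV := by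
  classical
  obtain ⟨a, ha, han, had⟩ := exists_over48 x.2 hn
  obtain ⟨g, i, hi⟩ := coord_form (d := 5) ha han (by rw [had]; norm_num)
  set y := g • x with hy
  have hyn : sqNorm y.1 = 48 := (smul_norm g x).trans hn
  have ho : ∀ l, ¬(2 : ℤ) ∣ y.1 l := by
    rcases leech_cases y.2 with ⟨t, ht, -, -⟩ | ho
    · have := congrFun ht i
      omega
    · exact ho
  have hv := odd_values ho hyn (by norm_num)
  have hs : ∑ l, oddW (y.1 l) = 3 := by
    have := norm_oddW hv
    rw [hyn] at this
    omega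
  have hi3 : oddW (y.1 i) = 3 := by
    rcases hi with e | e <;> rw [e] <;> rfl
  have hrest : ∀ l, l ≠ i → |y.1 l| = 1 := by
    intro l hl
    have h := Finset.sum_le_sum_of_subset (f := fun m => oddW (y.1 m)) (Finset.subset_univ {l, i})
    rw [Finset.sum_pair hl, hs, hi3] at h
    rcases oddW_cases (hv l) with g' | g' | g'
    · exact g'.2
    all_goals omega
  obtain ⟨σ, hσ, e1, -⟩ : ∃ σ ∈ M24, σ i = (none : GolayPt) ∧ True := by
    obtain ⟨j, hj⟩ := exists_ne i
    obtain ⟨σ, hσ, h1, -⟩ := m24_map_pair (Ne.symm hj) (show (none : GolayPt) ≠ some 0 by simp)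
    exact ⟨σ, hσ, h1, trivial⟩
  have hT := ((odd_mem_iff ho).1 y.2).1
  have hpos : (threeSupp y.1)ᶜ = Finset.univ.filter fun l => 0 < y.1 l := by
    ext l
    simp only [Finset.mem_compl, mem_threeSupp, Finset.mem_filter, Finset.mem_univ, true_and]
    by_cases hl : l = i
    · subst hl; omega
    · have := (abs_eq (by norm_num)).1 (hrest l hl)
      omega
  have hc' : σ • (threeSupp y.1)ᶜ ∈ Code := smul_mem_code hσ (compl_mem_code hT)
  refine ⟨mono (⟨σ, hσ⟩, ⟨_, hc'⟩) * g, ?_⟩
  rw [mul_smul, ← hy]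
  apply Subtype.ext
  rw [mono_apply]
  funext l
  show (if l ∈ σ • (threeSupp y.1)ᶜ then -(y.1 (σ.symm l)) else y.1 (σ.symm l)) = Spor.vecV l
  have hmem : l ∈ σ • (threeSupp y.1)ᶜ ↔ 0 < y.1 (σ.symm l) := by
    rw [← Finset.inv_smul_mem_iff, hpos, Finset.mem_filter]
    simp [Equiv.Perm.inv_def]
  simp only [hmem, Spor.vecV]
  by_cases hl : l = none
  · subst hl
    rw [show σ.symm none = i from by rw [Equiv.symm_apply_eq, e1], if_pos rfl]
    split <;> omega
  · rw [if_neg hl]
    have h1 := (abs_eq (by norm_num)).1 (hrest (σ.symm l) fun e => hl (by rw [← e1, ← e, Equiv.apply_symm_apply]))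
    split <;> omega

theorem transitive48 (v w : leechLattice) (hv : sqNorm v.1 = 48) (hw : sqNorm w.1 = 48) :
    ∃ g : Co0, g • v = w := by
  obtain ⟨g, hg⟩ := to_vecV hv
  obtain ⟨k, hk⟩ := to_vecV hw
  exact ⟨k⁻¹ * g, by rw [mul_smul, hg, ← hk, inv_smul_smul]⟩

/-! ### action modulo two -/

theorem norm_congr {x y : GolayPt → ℤ} (hy : y ∈ leechLattice) (h : Cong x y) :
    (32 : ℤ) ∣ sqNorm x - sqNorm y := by
  obtain ⟨z, hz, e⟩ := h
  rw [show x = y + (2 • z) from by rw [← e]; abel, LeechModTwo.norm_add, LeechModTwo.norm_two,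
    dot_comm', dot_two_left, dot_comm']
  have := leech_dot_dvd hy hz
  have := norm_dvd hz
  omega

theorem kernel_central {g : Co0}
    (h : ∀ v : leechLattice, Cong ((g • v : leechLattice) : GolayPt → ℤ) v.1) : g ∈ Subgroup.center Co0 := by
  classical
  have hpm : ∀ v : leechLattice, sqNorm v.1 = 32 → g • v = v ∨ g • v = -v := by
    intro v hv
    rcases short_congr (g • v).2 (by rw [hv]; norm_num) (by rw [smul_norm, hv]; norm_num)
      (cong_symm (h v)) with e | e | e
    · exact Or.inl (Subtype.ext e)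
    · exact Or.inr (Subtype.ext e)
    · omega
  have hfix : FixesStd g := by
    intro v hv
    rw [stdCross_eq] at hv ⊢
    exact ⟨(g • v).2, (smul_norm g v).trans hv.2.1, cong_trans hv.2.2 (cong_symm (h v))⟩
  obtain ⟨σ, hσ, c, -, hact⟩ := monomial_of_fixes hfix
  have hpn : ∀ i j : GolayPt, i ≠ j → sqNorm (pairVec i j) = 32 := fun i j hij => by
    rw [pairVec, LeechModTwo.norm_add, norm_single, norm_single, dot_single,
      Pi.single_eq_of_ne (Ne.symm hij)]
    norm_num
  have key : ∀ i j, i ≠ j → ∀ k, (σ.symm k = i ∨ σ.symm k = j) → k = i ∨ k = j := by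
    intro i j hij k hk
    by_contra hne
    have hne' : k ≠ i ∧ k ≠ j := ⟨fun e => hne (Or.inl e), fun e => hne (Or.inr e)⟩
    have h0 : ((g • lpair i j : leechLattice) : GolayPt → ℤ) k = 0 := by
      rcases hpm (lpair i j) (hpn i j hij) with e | e <;> rw [e] <;>
        simp [lpair, pairVec, Pi.single_eq_of_ne hne'.1, Pi.single_eq_of_ne hne'.2]
    rw [hact, signedPerm] at h0
    have h4 : ((lpair i j : leechLattice) : GolayPt → ℤ) (σ.symm k) = 4 := by
      rcases hk with e | e <;> rw [e] <;> simp [lpair, pairVec, Pi.single_eq_of_ne hij, Pi.single_eq_of_ne (Ne.symm hij)]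
    rw [h4] at h0
    split at h0 <;> omega
  have hσ1 : ∀ k, σ.symm k = k := by
    intro k
    by_contra hne
    obtain ⟨j, hj⟩ : ∃ j : GolayPt, j ∉ ({σ.symm k, k} : Finset GolayPt) := by
      by_contra hall
      have : (Finset.univ : Finset GolayPt) ⊆ {σ.symm k, k} := fun j _ => by
        by_contra hj; exact hall ⟨j, hj⟩
      have := le_trans (Finset.card_le_card this) Finset.card_le_two
      simp at this
    simp only [Finset.mem_insert, Finset.mem_singleton, not_or] at hj
    rcases key (σ.symm k) j (Ne.symm hj.1) k (Or.inl rfl) with e | e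
    · exact hne e.symm
    · exact hj.2 e.symm
  have hcc : ∀ i j, i ∈ c → j ∈ c := by
    intro i j hi
    by_contra hj
    have hij : i ≠ j := fun e => hj (e ▸ hi)
    rcases hpm (lpair i j) (hpn i j hij) with e | e
    · have h1 := congrFun (congrArg Subtype.val e) i
      rw [hact, signedPerm, hσ1, if_pos hi] at h1
      simp [lpair, pairVec, Pi.single_eq_of_ne hij] at h1
    · have h1 := congrFun (congrArg Subtype.val e) j
      rw [hact, signedPerm, hσ1, if_neg hj] at h1
      simp [lpair, pairVec, Pi.single_eq_of_ne (Ne.symm hij)] at h1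
  rw [mem_center_iff]
  by_cases h0 : (none : GolayPt) ∈ c
  · right
    refine ext_eight fun i => Subtype.ext (funext fun j => ?_)
    rw [hact, negOne_apply, signedPerm, hσ1, if_pos (hcc none j h0)]
    rfl
  · left
    refine ext_eight fun i => Subtype.ext (funext fun j => ?_)
    rw [hact, one_smul, signedPerm, hσ1, if_neg (fun h => h0 (hcc j none h))]

theorem irreducible (M : AddSubgroup (GolayPt → ℤ)) (h2 : ∀ v ∈ leechLattice, (2 : ℤ) • v ∈ M)
    (hle : M ≤ leechLattice)
    (hinv : ∀ g : Co0, ∀ v : leechLattice, (v : GolayPt → ℤ) ∈ M → ((g • v : leechLattice) : GolayPt → ℤ) ∈ M) :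
    (∀ x ∈ M, ∃ w ∈ leechLattice, x = (2 : ℤ) • w) ∨ M = leechLattice := by
  classical
  by_cases hall : ∀ x ∈ M, ∃ w ∈ leechLattice, x = (2 : ℤ) • w
  · exact Or.inl hall
  right
  push_neg at hall
  obtain ⟨x, hxM, hx2⟩ := hall
  refine le_antisymm hle ?_
  obtain ⟨y, hy, hyn, z, hz, e⟩ := representatives (hle hxM)
  have h2z : 2 • z ∈ M := by
    have := h2 z hz
    rwa [show (2 : ℤ) • z = 2 • z from by rw [← natCast_zsmul]; rfl] at this
  have hyM : y ∈ M := by
    rw [show y = x - 2 • z from by rw [← e]; abel]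
    exact M.sub_mem hxM h2z
  have hy0 : y ≠ 0 := by
    rintro rfl
    rw [sub_zero] at e
    exact hx2 z hz (by rw [e, ← natCast_zsmul]; rfl)
  have hfin : ∀ u : leechLattice, sqNorm u.1 = 32 → u.1 ∈ M → leechLattice ≤ M := by
    intro u hu huM
    rw [← generated, AddSubgroup.closure_le]
    rintro v ⟨hvL, hvn⟩
    obtain ⟨g, hg⟩ := transitive32 u ⟨v, hvL⟩ hu hvn
    have := hinv g u huM
    rwa [hg] at this
  have h16 := norm_dvd hy
  have h32 := norm_min hy hy0
  rcases (show sqNorm y = 32 ∨ sqNorm y = 48 ∨ sqNorm y = 64 by omega) with h | h | h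
  · exact hfin ⟨y, hy⟩ h hyM
  · have hb : ∀ b : leechLattice, sqNorm b.1 = 48 → b.1 ∈ M := fun b hb => by
      obtain ⟨g, hg⟩ := transitive48 ⟨y, hy⟩ b h hb
      have := hinv g ⟨y, hy⟩ hyM
      rwa [hg] at this
    obtain ⟨σ, hσ, e1, e2⟩ := m24_map_pair (show (none : GolayPt) ≠ some 0 by simp)
      (show (some 0 : GolayPt) ≠ none by simp)
    have hsym : ∀ l : GolayPt, σ.symm l = none ↔ l = some 0 := fun l => by
      rw [Equiv.symm_apply_eq, e1]
    have hVn : sqNorm Spor.vecV = 48 := by decide +kernel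
    have hd := M.sub_mem (hb Spor.leechV hVn) (hb (co0Perm σ hσ • Spor.leechV) ((smul_norm _ _).trans hVn))
    refine hfin (Spor.leechV - co0Perm σ hσ • Spor.leechV) ?_ (by rwa [AddSubgroup.coe_sub])
    rw [AddSubgroup.coe_sub, sqNorm, Finset.sum_congr rfl fun l _ =>
      show (((Spor.leechV : leechLattice) : GolayPt → ℤ) - ((co0Perm σ hσ • Spor.leechV : leechLattice) : GolayPt → ℤ)) l ^ 2 =
          (if l = none then 16 else 0) + (if l = some 0 then 16 else 0) by
        rw [Pi.sub_apply, co0Perm_apply]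
        show (Spor.vecV l - Spor.vecV (σ.symm l)) ^ 2 = _
        simp only [Spor.vecV, hsym]
        by_cases h1 : l = none
        · subst h1; simp
        · by_cases h3 : l = some 0 <;> simp [h1, h3]]
    rw [Finset.sum_add_distrib, Finset.sum_ite_eq', Finset.sum_ite_eq', if_pos (Finset.mem_univ _),
      if_pos (Finset.mem_univ _)]
    norm_num
  · have hb : ∀ b : leechLattice, sqNorm b.1 = 64 → b.1 ∈ M := fun b hb => by
      obtain ⟨g, u, hu, he⟩ := class_transitive ⟨y, hy⟩ b h hb
      have h1 := hinv g ⟨y, hy⟩ hyM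
      have h3 := h2 u hu
      rw [show (2 : ℤ) • u = 2 • u from by rw [← natCast_zsmul]; rfl, ← he] at h3
      simpa using M.sub_mem h1 h3
    let za : GolayPt → ℤ := fun l =>
      if l ∈ ({none, some 0, some 1, some 2} : Finset GolayPt) then 2 else 0
    let zb : GolayPt → ℤ := fun l =>
      if l ∈ ({none, some 0, some 1, some 3} : Finset GolayPt) then 2 else 0
    have hza : oddSupp za = ∅ ∧ (∑ l, za l) = 8 ∧ sqNorm (fun l => 2 * za l) = 64 := by decide +kernel
    have hzb : oddSupp zb = ∅ ∧ (∑ l, zb l) = 8 ∧ sqNorm (fun l => 2 * zb l) = 64 := by decide +kernel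
    have ha : (fun l => 2 * za l) ∈ leechLattice :=
      two_mul_mem (hza.1 ▸ empty_mem_code) (by rw [hza.2.1]; norm_num)
    have hb' : (fun l => 2 * zb l) ∈ leechLattice :=
      two_mul_mem (hzb.1 ▸ empty_mem_code) (by rw [hzb.2.1]; norm_num)
    exact hfin ⟨_, leechLattice.sub_mem ha hb'⟩
      (by show sqNorm ((fun l => 2 * za l) - fun l => 2 * zb l) = 32; decide +kernel)
      (M.sub_mem (hb ⟨_, ha⟩ hza.2.2) (hb ⟨_, hb'⟩ hzb.2.2))

theorem form_unique (Q : leechLattice → ZMod 2) (hcoset : ∀ v w : leechLattice, Q (v + (w + w)) = Q v)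
    (hquad : ∀ u v w : leechLattice, Q (u + v + w) + Q u + Q v + Q w = Q (u + v) + Q (u + w) + Q (v + w))
    (hinv : ∀ (g : Co0) (v : leechLattice), Q (g • v) = Q v) (hne : ∃ v : leechLattice, Q v ≠ 0)
    (v : leechLattice) : Q v = ((sqNorm (v : GolayPt → ℤ) / 16 : ℤ) : ZMod 2) := by
  have h0 : Q 0 = 0 := by
    have h := hquad 0 0 0
    simp only [add_zero] at h
    revert h
    generalize Q 0 = a
    revert a
    decide
  have hform : InvForm Q fun u w => Q (u + w) + Q u + Q w := by
    refine ⟨fun u w => ?_, fun u w r => ?_, fun u => ?_, hinv⟩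
    · show Q (u + w) = Q u + Q w + (Q (u + w) + Q u + Q w)
      generalize Q (u + w) = a; generalize Q u = b; generalize Q w = c; revert a b c; decide
    · show Q (u + (w + r)) + Q u + Q (w + r) = (Q (u + w) + Q u + Q w) + (Q (u + r) + Q u + Q r)
      have h := hquad u w r
      rw [add_assoc u w r] at h
      revert h
      generalize Q (u + (w + r)) = a; generalize Q u = b; generalize Q (w + r) = c
      generalize Q (u + w) = d; generalize Q w = e; generalize Q (u + r) = f; generalize Q r = k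
      revert a b c d e f k
      decide
    · simpa [h0] using hcoset 0 u
  obtain ⟨h8, hp, -, -⟩ := hform.values
  have hQc : ∀ (x y : leechLattice), Cong x.1 y.1 → Q x = Q y := by
    intro x y hc
    obtain ⟨z, hz, e⟩ := hc
    have hxy : x = y + (⟨z, hz⟩ + ⟨z, hz⟩) := Subtype.ext (by
      rw [AddSubgroup.coe_add, AddSubgroup.coe_add, ← two_nsmul, ← e]; abel)
    rw [hxy, hcoset]
  have hU : sqNorm Spor.vecU = 32 := by decide +kernel
  have hV : sqNorm Spor.vecV = 48 := by decide +kernel
  have h32 : ∀ x : leechLattice, sqNorm x.1 = 32 → Q x = 0 := fun x hx => by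
    obtain ⟨g, hg⟩ := transitive32 x (lpair none (some 0)) hx (by decide +kernel)
    rw [← hinv g x, hg, hp _ _ (by simp)]
  have h64 : ∀ x : leechLattice, sqNorm x.1 = 64 → Q x = 0 := fun x hx => by
    obtain ⟨g, hg⟩ := class_transitive x (leight none) hx (by decide +kernel)
    rw [← hinv g x, hQc _ _ hg, h8]
  have hred : ∀ x : leechLattice, ∃ y : leechLattice, Q x = Q y ∧
      (32 : ℤ) ∣ sqNorm x.1 - sqNorm y.1 ∧ (y = 0 ∨ sqNorm y.1 = 32 ∨ sqNorm y.1 = 48 ∨ sqNorm y.1 = 64) := by
    intro x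
    obtain ⟨y, hy, hyn, hc⟩ := representatives x.2
    refine ⟨⟨y, hy⟩, hQc x ⟨y, hy⟩ hc, norm_congr hy hc, ?_⟩
    by_cases hy0 : y = 0
    · exact Or.inl (Subtype.ext hy0)
    · have := norm_dvd hy
      have := norm_min hy hy0
      refine Or.inr ?_
      show sqNorm y = 32 ∨ sqNorm y = 48 ∨ sqNorm y = 64
      omega
  have h48 : Q Spor.leechV = 1 := by
    obtain ⟨x, hx⟩ := hne
    obtain ⟨y, hQ, -, hy⟩ := hred x
    rw [hQ] at hx
    rcases hy with e | e | e | e
    · exact absurd (e ▸ h0) hx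
    · exact absurd (h32 y e) hx
    · obtain ⟨g, hg⟩ := transitive48 y Spor.leechV e hV
      rw [← hg, hinv]
      revert hx
      generalize Q y = a
      revert a
      decide
    · exact absurd (h64 y e) hx
  obtain ⟨y, hQ, hd, hy⟩ := hred v
  have := norm_dvd v.2
  have e : ((sqNorm v.1 / 16 : ℤ) : ZMod 2) = ((sqNorm y.1 / 16 : ℤ) : ZMod 2) := by
    rw [ZMod.intCast_eq_intCast_iff_dvd_sub]
    have := norm_dvd y.2
    omega
  rw [hQ, e]
  rcases hy with g | g | g | g
  · subst g; rw [h0]; simp [sqNorm]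
  · rw [h32 y g, g]; rfl
  · obtain ⟨k, hk⟩ := transitive48 y Spor.leechV g hV
    rw [← hinv k y, hk, h48, g]; rfl
  · rw [h64 y g, g]; rfl

/-! ### non-splitting over negation -/

theorem nonsplit (K : Subgroup Co0) : ¬ (Subgroup.zpowers negOne).IsComplement' K := by
  classical
  intro hK
  have hfix : ∀ v : leechLattice, negOne • v = -v := negOne_apply
  have hsq : negOne * negOne = 1 := ext_eight fun i => by rw [mul_smul, hfix, hfix, neg_neg, one_smul]
  have hne : negOne ≠ 1 := by
    intro e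
    have h := congrArg (fun g : Co0 => ((g • eightL none : leechLattice) : GolayPt → ℤ) none) e
    simp only [one_smul, negOne_apply] at h
    exact absurd h (by decide +kernel)
  haveI := finite_co0
  have hord : orderOf negOne = 2 := orderOf_eq_prime (by rw [sq, hsq]) hne
  have hidx : K.index = 2 := by
    rw [hK.index_eq_card, Nat.card_zpowers, hord]
  have hnK : negOne ∉ K := fun h => hne (Subgroup.disjoint_def.1 hK.disjoint (Subgroup.mem_zpowers _) h)
  haveI : K.Normal := Subgroup.normal_of_index_eq_two hidx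
  have hmul : ∀ a b : Co0, (a * b ∈ K) ↔ (a ∈ K ↔ b ∈ K) := fun a b => Subgroup.mul_mem_iff_of_index_two hidx
  let χ : Code → Prop := fun c => co0Sign c.1 c.2 ∈ K
  have hadd : ∀ (a b : Code) (h : symmDiff a.1 b.1 ∈ Code), χ ⟨_, h⟩ ↔ (χ a ↔ χ b) := by
    intro a b h
    rw [← hmul]
    have : co0Sign (symmDiff a.1 b.1) h = co0Sign a.1 a.2 * co0Sign b.1 b.2 := by
      refine ext_eight fun i => Subtype.ext (funext fun l => ?_)
      rw [mul_smul, co0Sign_apply, co0Sign_apply, co0Sign_apply]
      by_cases h1 : l ∈ a.1 <;> by_cases h2 : l ∈ b.1 <;> simp [h1, h2, Finset.mem_symmDiff]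
    show co0Sign (symmDiff a.1 b.1) h ∈ K ↔ _
    rw [this]
  have hconj : ∀ (σ : Equiv.Perm GolayPt) (hσ : σ ∈ M24) (a : Code) (h : σ • a.1 ∈ Code),
      χ ⟨_, h⟩ ↔ χ a := by
    intro σ hσ a h
    have : co0Sign (σ • a.1) h = co0Perm σ hσ * co0Sign a.1 a.2 * (co0Perm σ hσ)⁻¹ := by
      rw [eq_mul_inv_iff_mul_eq]
      refine ext_eight fun i => Subtype.ext (funext fun l => ?_)
      rw [mul_smul, mul_smul, co0Sign_apply, co0Perm_apply, co0Perm_apply, co0Sign_apply]
      have hmem : σ⁻¹ l ∈ a.1 ↔ l ∈ σ • a.1 := by rw [← Finset.inv_smul_mem_iff]; rfl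
      simp only [hmem]
    show co0Sign (σ • a.1) h ∈ K ↔ co0Sign a.1 a.2 ∈ K
    rw [this, Subgroup.Normal.mem_comm_iff (inferInstance : K.Normal), ← mul_assoc, inv_mul_cancel, one_mul]
  have hD := mem_dodecads.1 D0_mem
  obtain ⟨g, hg⟩ := dodecads_transitive D0_mem (mem_dodecads.2 ⟨compl_mem_code hD.1, by
    rw [Finset.card_compl, hD.2]; decide⟩)
  have hsd : symmDiff D0 D0ᶜ = (Finset.univ : Finset GolayPt) := by
    ext l; simp [Finset.mem_symmDiff]
  have h1 := hadd ⟨_, hD.1⟩ ⟨_, compl_mem_code hD.1⟩ (hsd.symm ▸ univ_mem_code)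
  have h2 : χ ⟨_, compl_mem_code hD.1⟩ ↔ χ ⟨_, hD.1⟩ := by
    have := hconj g.1 g.2 ⟨_, hD.1⟩ (by rw [show g.1 • D0 = D0ᶜ from hg]; exact compl_mem_code hD.1)
    simpa only [show g.1 • D0 = D0ᶜ from hg] using this
  have h3 : ¬ χ ⟨Finset.univ, univ_mem_code⟩ := hnK
  simp only [hsd] at h1
  tauto

end CfsgLib.Spor.LeechOrbits
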