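import Mathlib

/-!
Simplicity from a simple subgroup containing the normalizer of a Sylow subgroup of prime order.
-/

set_option autoImplicit false

namespace CfsgLib.Spor.SimpleBySylow

open Subgroup
open scoped Pointwise

variable {G : Type*} [Group G] [Finite G]

theorem quot_dvd_of_sup {K N : Subgroup G} [N.Normal] (h : K ⊔ N = ⊤) :
    Nat.card (G ⧸ N) ∣ Nat.card K := by
  refine Subgroup.card_dvd_of_surjective ((QuotientGroup.mk' N).comp K.subtype) fun q => ?_
  obtain ⟨g, rfl⟩ := QuotientGroup.mk'_surjective N q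
  have hg : g ∈ K ⊔ N := h.symm ▸ Subgroup.mem_top g
  obtain ⟨k, hk, n, hn, rfl⟩ := Subgroup.mem_sup_of_normal_right.1 hg
  exact ⟨⟨k, hk⟩, (QuotientGroup.eq.2 (by simpa using hn))⟩

theorem card_dvd_index {M N : Subgroup G} [N.Normal] (h : N ⊓ M = ⊥) : Nat.card N ∣ M.index := by
  have hinj : Function.Injective ((QuotientGroup.mk' N).comp M.subtype) := by
    rw [← MonoidHom.ker_eq_bot_iff, Subgroup.eq_bot_iff_forall]
    intro x hx
    have h1 : (x : G) ∈ N := (QuotientGroup.eq_one_iff _).1 hx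
    exact Subtype.ext (Subgroup.mem_bot.1 (h ▸ (⟨h1, x.2⟩ : (x : G) ∈ N ⊓ M)))
  have h1 := mul_dvd_mul_right (Subgroup.card_dvd_of_injective _ hinj) (Nat.card N)
  rw [← Subgroup.card_eq_card_quotient_mul_card_subgroup, ← M.index_mul_card, mul_comm M.index] at h1
  exact Nat.dvd_of_mul_dvd_mul_left Nat.card_pos h1

variable {p : ℕ} [hp : Fact p.Prime] {P : Sylow p G} {M : Subgroup G}

theorem prime_part (hP : Nat.card (P : Subgroup G) = p)
    (hN : normalizer ((P : Subgroup G) : Set G) ≤ M) {N : Subgroup G} [N.Normal] (hNM : N ⊓ M = ⊥)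
    {q : ℕ} (hq : q.Prime) (hqN : q ∣ Nat.card N) :
    ∃ k, 0 < k ∧ q ^ k ∣ Nat.card N ∧ q ^ k % p = 1 := by
  classical
  haveI : Fact q.Prime := ⟨hq⟩
  obtain ⟨Q⟩ : Nonempty (Sylow q N) := inferInstance
  set Q' := (Q : Subgroup N).map N.subtype with hQ'
  have hsup : normalizer (Q' : Set G) ⊔ N = ⊤ := Sylow.normalizer_sup_eq_top Q
  have hpN : ¬p ∣ Nat.card N := by
    intro h
    obtain ⟨x, hx⟩ := exists_prime_orderOf_dvd_card' p h
    have hx' : orderOf (x : G) = p := by rw [← hx]; exact orderOf_injective N.subtype N.subtype_injective x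
    have hpg : IsPGroup p (Subgroup.zpowers (x : G)) :=
      IsPGroup.of_card (n := 1) (by rw [Nat.card_zpowers, hx', pow_one])
    obtain ⟨R, hR⟩ := hpg.exists_le_sylow
    obtain ⟨g, hg⟩ := MulAction.exists_smul_eq G R P
    have h1 : g * x * g⁻¹ ∈ (P : Subgroup G) := by
      rw [← hg]; exact ⟨_, hR (Subgroup.mem_zpowers _), rfl⟩
    have h2 : g * x * g⁻¹ ∈ N ⊓ M :=
      ⟨‹N.Normal›.conj_mem _ x.2 g, hN (le_normalizer h1)⟩
    rw [hNM, Subgroup.mem_bot, conj_eq_one_iff] at h2
    rw [h2, orderOf_one] at hx'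
    exact hp.out.one_lt.ne hx'
  have hpK : p ∣ Nat.card (normalizer (Q' : Set G)) := by
    have h1 : p ∣ Nat.card (G ⧸ N) := by
      have h2 : p ∣ Nat.card G := by
        have := Subgroup.card_subgroup_dvd_card (P : Subgroup G)
        rwa [hP] at this
      rw [Subgroup.card_eq_card_quotient_mul_card_subgroup N] at h2
      exact (hp.out.dvd_mul.1 h2).resolve_right hpN
    exact h1.trans (quot_dvd_of_sup hsup)
  obtain ⟨x, hx⟩ := exists_prime_orderOf_dvd_card' p hpK
  have hx' : orderOf (x : G) = p := by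
    rw [← hx]; exact orderOf_injective (normalizer (Q' : Set G)).subtype (Subgroup.subtype_injective _) x
  have hpg : IsPGroup p (Subgroup.zpowers (x : G)) :=
    IsPGroup.of_card (n := 1) (by rw [Nat.card_zpowers, hx', pow_one])
  obtain ⟨R, hR⟩ := hpg.exists_le_sylow
  have hRx : (R : Subgroup G) = Subgroup.zpowers (x : G) := by
    refine (Subgroup.eq_of_le_of_card_ge hR ?_).symm
    obtain ⟨g, hg⟩ := MulAction.exists_smul_eq G R P
    have h1 : Nat.card (R : Subgroup G) = Nat.card (P : Subgroup G) := by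
      rw [← hg]
      exact Nat.card_congr (Subgroup.equivSMul _ (R : Subgroup G)).toEquiv
    rw [Nat.card_zpowers, hx', h1, hP]
  obtain ⟨g, hg⟩ := MulAction.exists_smul_eq G P R
  -- the elements of `Q'` moved into position
  let Q'' : Subgroup G := Q'.comap (MulAut.conj g).toMonoidHom
  have hmemQ : ∀ y, y ∈ Q'' ↔ g * y * g⁻¹ ∈ Q' := fun y => Iff.rfl
  have hQN : ∀ y ∈ Q', y ∈ N := by
    rintro _ ⟨z, -, rfl⟩; exact z.2
  have hQN'' : ∀ y ∈ Q'', y ∈ N := fun y hy => by
    have := ‹N.Normal›.conj_mem _ (hQN _ ((hmemQ y).1 hy)) g⁻¹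
    simpa [mul_assoc] using this
  have hact : ∀ z ∈ (P : Subgroup G), ∀ y ∈ Q'', z * y * z⁻¹ ∈ Q'' := by
    intro z hz y hy
    have hzR : g * z * g⁻¹ ∈ (R : Subgroup G) := by rw [← hg]; exact ⟨z, hz, rfl⟩
    rw [hRx] at hzR
    have hzK : g * z * g⁻¹ ∈ normalizer (Q' : Set G) :=
      (Subgroup.zpowers_le.2 x.2) hzR
    rw [hmemQ] at hy ⊢
    have := (Subgroup.mem_normalizer_iff.1 hzK (g * y * g⁻¹)).1 hy
    simpa [mul_assoc] using this
  letI : MulAction (P : Subgroup G) Q'' :=
    { smul := fun z y => ⟨z.1 * y.1 * z.1⁻¹, hact z.1 z.2 y.1 y.2⟩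
      one_smul := fun y => Subtype.ext (show (1 : G) * y.1 * (1 : G)⁻¹ = y.1 by group)
      mul_smul := fun a b y => Subtype.ext (show (a.1 * b.1) * y.1 * (a.1 * b.1)⁻¹ =
        a.1 * (b.1 * y.1 * b.1⁻¹) * a.1⁻¹ by group) }
  have hfix : MulAction.fixedPoints (P : Subgroup G) Q'' = {1} := by
    ext y
    constructor
    · intro hy
      have hc : ∀ z ∈ (P : Subgroup G), z * y.1 = y.1 * z := fun z hz =>
        mul_inv_eq_iff_eq_mul.1 (congrArg Subtype.val (hy ⟨z, hz⟩))
      have h1 : y.1 ∈ N ⊓ M := ⟨hQN'' _ y.2, hN (by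
        rw [Subgroup.mem_normalizer_iff]
        intro z
        constructor
        · intro hz
          rw [show y.1 * z * y.1⁻¹ = z by rw [← hc z hz, mul_inv_cancel_right]]
          exact hz
        · intro hz
          have h := hc _ hz
          have e : z = y.1 * z * y.1⁻¹ := by
            calc z = y.1⁻¹ * ((y.1 * z * y.1⁻¹) * y.1) := by group
              _ = y.1⁻¹ * (y.1 * (y.1 * z * y.1⁻¹)) := by rw [h]
              _ = _ := by group
          rw [e]
          exact hz)⟩
      rw [hNM, Subgroup.mem_bot] at h1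
      exact Subtype.ext h1
    · intro hy
      rw [Set.mem_singleton_iff] at hy
      subst hy
      intro z
      exact Subtype.ext (show z.1 * 1 * z.1⁻¹ = 1 by group)
  have hmod := (IsPGroup.of_card (n := 1) (by rw [hP, pow_one]) :
    IsPGroup p (P : Subgroup G)).card_modEq_card_fixedPoints Q''
  rw [hfix, Nat.card_coe_set_eq, Set.ncard_singleton] at hmod
  obtain ⟨k, hk⟩ := Q.isPGroup'.exists_card_eq
  have hQcard : Nat.card Q'' = q ^ k := by
    rw [← hk, ← Subgroup.card_map_of_injective (K := (Q : Subgroup N)) N.subtype_injective, ← hQ']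
    exact Nat.card_congr ((MulAut.conj g).toEquiv.subtypeEquiv fun y => Iff.rfl)
  refine ⟨k, ?_, hk ▸ Subgroup.card_subgroup_dvd_card _, ?_⟩
  · rcases Nat.eq_zero_or_pos k with h0 | h0
    · exfalso
      have h := Q.card_eq_multiplicity
      rw [hk, h0, pow_zero] at h
      have := hq.factorization_pos_of_dvd Nat.card_pos.ne' hqN
      exact (Nat.one_lt_pow this.ne' hq.one_lt).ne h
    · exact h0
  · rw [hQcard] at hmod
    exact (show q ^ k % p = 1 % p from hmod).trans (Nat.mod_eq_of_lt hp.out.one_lt)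

theorem isSimple (hP : Nat.card (P : Subgroup G) = p) [IsSimpleGroup M]
    (hN : normalizer ((P : Subgroup G) : Set G) ≤ M)
    (hq : ∀ N : Subgroup G, N.Normal → N ≠ ⊥ → N ⊓ M = ⊥ → False) : IsSimpleGroup G := by
  haveI : Nontrivial G := by
    obtain ⟨a, b, hab⟩ := exists_pair_ne M
    exact ⟨⟨a, b, fun h => hab (Subtype.ext h)⟩⟩
  refine ⟨fun N hNn => ?_⟩
  haveI := hNn
  by_cases hbot : N = ⊥
  · exact Or.inl hbot
  right
  rcases IsSimpleGroup.eq_bot_or_eq_top_of_normal (N.subgroupOf M) inferInstance with h | h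
  · refine (hq N hNn hbot ?_).elim
    rwa [Subgroup.subgroupOf_eq_bot, disjoint_iff] at h
  · have hMN : M ≤ N := Subgroup.subgroupOf_eq_top.1 h
    have hPN : (P : Subgroup G) ≤ N := (le_normalizer.trans hN).trans hMN
    have h1 := Sylow.normalizer_sup_eq_top (P.subtype hPN)
    rw [Sylow.coe_subtype, Subgroup.subgroupOf_map_subtype, inf_eq_left.2 hPN,
      sup_eq_right.2 (hN.trans hMN)] at h1
    exact h1

end CfsgLib.Spor.SimpleBySylow
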