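import Cfsg.Agent.Spor.LeechCo3Count
import Cfsg.Agent.Spor.SimpleBySylow
import Cfsg.Agent.Spor.M24Simple
import Cfsg.Prelude.Def_Sporadic

/-!
Permutations of the coordinates inside stabilisers of lattice vectors, orders of stabilisers, and
the simplicity of the stabilisers of a vector of sum of squares 48 and of the two rank three pairs.
-/

set_option autoImplicit false

namespace CfsgLib.Spor.LeechStab

open Cfsg MulAction CfsgLib.Spor CfsgLib.Spor.LeechFacts CfsgLib.Spor.LeechCount CfsgLib.Spor.LeechModTwo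
  CfsgLib.Spor.LeechCross CfsgLib.Spor.LeechOrbits CfsgLib.Spor.LeechPairs CfsgLib.Spor.LeechCensus
  CfsgLib.Spor.LeechIso CfsgLib.Spor.LeechCo3 CfsgLib.Spor.LeechCo3Count
open scoped Pointwise

/-- coordinate permutations as automorphisms of the lattice -/
noncomputable def permHom : M24 →* Co0 :=
  MonoidHom.mk' (fun σ => co0Perm σ.1 σ.2) fun σ τ => Subtype.ext (Equiv.ext fun v => Subtype.ext (funext fun i => by
    show ((co0Perm _ (σ * τ).2 • v : leechLattice) : GolayPt → ℤ) i =
      ((co0Perm σ.1 σ.2 • co0Perm τ.1 τ.2 • v : leechLattice) : GolayPt → ℤ) i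
    rw [co0Perm_apply, co0Perm_apply, co0Perm_apply, Subgroup.coe_mul, mul_inv_rev]
    rfl))

theorem permHom_apply (σ : M24) (v : leechLattice) (l : GolayPt) :
    ((permHom σ • v : leechLattice) : GolayPt → ℤ) ((σ : Equiv.Perm GolayPt) l) = (v : GolayPt → ℤ) l := by
  show ((co0Perm σ.1 σ.2 • v : leechLattice) : GolayPt → ℤ) _ = _
  rw [co0Perm_apply, Equiv.Perm.inv_def, Equiv.symm_apply_apply]

theorem permHom_fix {σ : M24} {v : leechLattice} :
    permHom σ • v = v ↔ ∀ l, (v : GolayPt → ℤ) ((σ : Equiv.Perm GolayPt) l) = (v : GolayPt → ℤ) l := by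
  constructor
  · intro h l
    have h1 := permHom_apply σ v l
    rwa [h] at h1
  · intro h
    apply Subtype.ext
    funext l'
    obtain ⟨l, rfl⟩ := (σ : Equiv.Perm GolayPt).surjective l'
    rw [permHom_apply, h]

theorem permHom_eight (σ : M24) (i : GolayPt) : permHom σ • eightL i = eightL (σ • i) := by
  apply Subtype.ext
  funext l'
  obtain ⟨l, rfl⟩ := (σ : Equiv.Perm GolayPt).surjective l'
  rw [permHom_apply]
  show eightVec i l = eightVec (σ • i) ((σ : Equiv.Perm GolayPt) l)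
  simp only [eightVec, Pi.single_apply, Subgroup.smul_def, Equiv.Perm.smul_def, EmbeddingLike.apply_eq_iff_eq]

theorem permHom_injective : Function.Injective permHom := fun σ τ h =>
  Subtype.ext (Equiv.ext fun i => by
    have h1 := congrArg (fun g : Co0 => ((g • eightL i : leechLattice) : GolayPt → ℤ) ((σ : Equiv.Perm GolayPt) i)) h
    simp only [permHom_eight] at h1
    by_contra hne
    simp [eightL, leight, eightVec, Subgroup.smul_def, hne] at h1)

/-! ### two elements of prime order -/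

/-- the translation in the group of the code -/
def tM : M24 := ⟨genT, genT_mem⟩

theorem tM_pow : tM ^ 23 = 1 := Subtype.ext (Equiv.ext (by decide +kernel))

theorem orderOf_tM : orderOf tM = 23 := by
  have h1 : (tM : Equiv.Perm GolayPt) (some 0) ≠ some 0 := by decide +kernel
  haveI : Fact (Nat.Prime 23) := ⟨by norm_num⟩
  refine orderOf_eq_prime tM_pow fun h => ?_
  exact h1 (by rw [h]; rfl)

/-- the multiplication by two in the group of the code -/
def dM : M24 :=
  (⟨projInv, projInv_mem⟩ * tM ^ 9) * (⟨projInv, projInv_mem⟩ * tM ^ 18) * (⟨projInv, projInv_mem⟩ * tM ^ 9)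

theorem dM_apply : (dM : Equiv.Perm GolayPt) none = none ∧
    ∀ a : ZMod 23, (dM : Equiv.Perm GolayPt) (some a) = some (2 * a) := by decide +kernel

theorem dM_pow : dM ^ 11 = 1 := Subtype.ext (Equiv.ext (by decide +kernel))

theorem orderOf_dM : orderOf dM = 11 := by
  haveI : Fact (Nat.Prime 11) := ⟨by norm_num⟩
  refine orderOf_eq_prime dM_pow fun h => ?_
  have h1 := congrArg (fun s : M24 => (s : Equiv.Perm GolayPt) (some 1)) h
  rw [dM_apply.2] at h1
  revert h1
  decide

theorem const23 {x : GolayPt → ℤ} (h : ∀ l, x ((tM : Equiv.Perm GolayPt) l) = x l) (a : ZMod 23) :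
    x (some a) = x (some 0) := by
  have key : ∀ n : ℕ, x (some (n : ZMod 23)) = x (some 0) := by
    intro n
    induction n with
    | zero => rw [Nat.cast_zero]
    | succ n ih =>
      rw [← ih, Nat.cast_succ]
      exact h (some (n : ZMod 23))
  have := key a.val
  rwa [ZMod.natCast_zmod_val] at this

theorem sum23 {x : GolayPt → ℤ} (h : ∀ l, x ((tM : Equiv.Perm GolayPt) l) = x l) (F : ℤ → ℤ) :
    ∑ l, F (x l) = F (x none) + 23 * F (x (some 0)) := by
  rw [Fintype.sum_option, Finset.sum_congr rfl fun a _ => by rw [const23 h a], Finset.sum_const,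
    Finset.card_univ, ZMod.card, nsmul_eq_mul]
  norm_num

theorem sum11 {x : GolayPt → ℤ} (h : ∀ l, x ((dM : Equiv.Perm GolayPt) l) = x l) (F : ℤ → ℤ) :
    ∑ l, F (x l) = F (x none) + F (x (some 0)) + 11 * F (x (some 1)) + 11 * F (x (some 5)) := by
  have key : ∀ (b : ZMod 23) (k : ℕ), x (some (2 ^ k * b)) = x (some b) := by
    intro b k
    induction k with
    | zero => rw [pow_zero, one_mul]
    | succ n ih => rw [← ih, pow_succ', mul_assoc, ← dM_apply.2]; exact h _
  have hcl : ∀ a : ZMod 23, a = 0 ∨ (∃ k : Fin 11, a = 2 ^ k.val * 1) ∨ ∃ k : Fin 11, a = 2 ^ k.val * 5 := by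
    decide +kernel
  have hval : ∀ a : ZMod 23, F (x (some a)) =
      (if a = 0 then F (x (some 0)) else 0) +
      (if ∃ k : Fin 11, a = 2 ^ k.val * 1 then F (x (some 1)) else 0) +
      (if ∃ k : Fin 11, a = 2 ^ k.val * 5 then F (x (some 5)) else 0) := by
    intro a
    have hd : ∀ b : ZMod 23, ¬((b = 0 ∧ ∃ k : Fin 11, b = 2 ^ k.val * 1) ∨ (b = 0 ∧ ∃ k : Fin 11, b = 2 ^ k.val * 5) ∨
        ((∃ k : Fin 11, b = 2 ^ k.val * 1) ∧ ∃ k : Fin 11, b = 2 ^ k.val * 5)) := by decide +kernel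
    rcases hcl a with g | g | g
    · subst g
      rw [if_pos rfl, if_neg (fun e => hd 0 (Or.inl ⟨rfl, e⟩)), if_neg (fun e => hd 0 (Or.inr (Or.inl ⟨rfl, e⟩)))]
      ring
    · rw [if_neg (fun e => hd a (Or.inl ⟨e, g⟩)), if_pos g, if_neg (fun e => hd a (Or.inr (Or.inr ⟨g, e⟩)))]
      obtain ⟨k, rfl⟩ := g
      rw [key]; ring
    · rw [if_neg (fun e => hd a (Or.inr (Or.inl ⟨e, g⟩))), if_neg (fun e => hd a (Or.inr (Or.inr ⟨e, g⟩))), if_pos g]
      obtain ⟨k, rfl⟩ := g
      rw [key]; ring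
  rw [Fintype.sum_option, Finset.sum_congr rfl fun a _ => hval a, Finset.sum_add_distrib, Finset.sum_add_distrib,
    Finset.sum_ite_eq', if_pos (Finset.mem_univ _), ← Finset.sum_filter, ← Finset.sum_filter, Finset.sum_const,
    Finset.sum_const,
    show (Finset.univ.filter fun a : ZMod 23 => ∃ k : Fin 11, a = 2 ^ k.val * 1).card = 11 by decide +kernel,
    show (Finset.univ.filter fun a : ZMod 23 => ∃ k : Fin 11, a = 2 ^ k.val * 5).card = 11 by decide +kernel]
  simp only [nsmul_eq_mul]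
  push_cast
  ring

/-! ### recognising coordinate permutations -/

theorem eightL_val (i : GolayPt) : ((eightL i : leechLattice) : GolayPt → ℤ) = Pi.single i 8 := rfl

theorem norm_eightL (i : GolayPt) : sqNorm ((eightL i : leechLattice) : GolayPt → ℤ) = 64 := by
  rw [eightL_val, norm_single]; norm_num

theorem perm_of_fix {g : Co0} (h8 : g • eightL none = eightL none) (v : leechLattice)
    (hpos : (∀ l, 0 < (v : GolayPt → ℤ) l) ∨ ((v : GolayPt → ℤ) none < 0 ∧ ∀ l, l ≠ none → 0 < (v : GolayPt → ℤ) l))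
    (hv : g • v = v) : ∃ σ : M24, σ • (none : GolayPt) = none ∧ g = permHom σ := by
  classical
  have hst : FixesStd g := (mem_stab_iff g).1 (by rw [mem_stabilizer_iff, smul_crossL, h8])
  obtain ⟨⟨⟨σ, hσ⟩, ⟨c, hc⟩⟩, rfl⟩ : g ∈ Set.range mono := by rw [range_mono]; exact hst
  have hn : σ none = none := by
    by_contra hne
    have h := congrArg (fun w : leechLattice => (w : GolayPt → ℤ) (σ none)) h8
    rw [mono_smul_apply, eightL_val, Pi.single_eq_same, Pi.single_eq_of_ne hne] at h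
    split at h <;> omega
  have hnc : (none : GolayPt) ∉ c := by
    intro hin
    have h := congrArg (fun w : leechLattice => (w : GolayPt → ℤ) (σ none)) h8
    rw [mono_smul_apply, hn] at h
    simp only [eightL_val, Pi.single_eq_same, if_pos hin] at h
    norm_num at h
  have hc0 : c = ∅ := by
    refine Finset.eq_empty_of_forall_notMem fun l' hl' => ?_
    obtain ⟨l, rfl⟩ := σ.surjective l'
    have hln : l ≠ none := fun e => hnc (by rw [← hn, ← e]; exact hl')
    have h := congrArg (fun w : leechLattice => (w : GolayPt → ℤ) (σ l)) hv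
    simp only [mono_smul_apply, if_pos hl'] at h
    have hne : σ l ≠ none := fun e => hln (σ.injective (e.trans hn.symm))
    rcases hpos with g | ⟨-, g⟩
    · have := g l; have := g (σ l); omega
    · have := g l hln; have := g (σ l) hne; omega
  subst hc0
  refine ⟨⟨σ, hσ⟩, hn, Subtype.ext (Equiv.ext fun w => Subtype.ext (funext fun l' => ?_))⟩
  obtain ⟨l, rfl⟩ := σ.surjective l'
  show ((mono (⟨σ, hσ⟩, ⟨∅, hc⟩) • w : leechLattice) : GolayPt → ℤ) (σ l) =
    ((permHom ⟨σ, hσ⟩ • w : leechLattice) : GolayPt → ℤ) ((⟨σ, hσ⟩ : M24).1 l)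
  rw [mono_smul_apply, permHom_apply, if_neg (Finset.notMem_empty _)]

/-! ### simplicity -/

theorem simple_stab (G : Subgroup Co0) (K : Subgroup M24) [IsSimpleGroup K] {p : ℕ} [Fact p.Prime]
    (hKG : K.map permHom ≤ G) {z : M24} (hz : z ∈ K) (hzo : orderOf z = p) (hp2 : ¬p ^ 2 ∣ Nat.card G)
    (a : leechLattice) (hza : permHom z • a = a)
    (hkey : ∀ g ∈ G, permHom z • (g • a) = g • a → g ∈ K.map permHom)
    (hq : ∀ N : Subgroup G, N.Normal → N ≠ ⊥ → Nat.card N ∣ ((K.map permHom).subgroupOf G).index →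
      (∀ q : ℕ, q.Prime → q ∣ Nat.card N → ∃ k, 0 < k ∧ q ^ k ∣ Nat.card N ∧ q ^ k % p = 1) → False) :
    IsSimpleGroup G := by
  classical
  haveI := finite_co0
  set M := (K.map permHom).subgroupOf G with hM
  haveI : IsSimpleGroup M :=
    ((Subgroup.subgroupOfEquivOfLe hKG).trans (K.equivMapOfInjective permHom permHom_injective).symm).isSimpleGroup
  let z' : G := ⟨permHom z, hKG ⟨z, hz, rfl⟩⟩
  have hz' : orderOf z' = p := by
    rw [← orderOf_injective G.subtype G.subtype_injective]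
    show orderOf (permHom z) = p
    rw [orderOf_injective permHom permHom_injective, hzo]
  have hpg : IsPGroup p (Subgroup.zpowers z') :=
    IsPGroup.of_card (n := 1) (by rw [Nat.card_zpowers, hz', pow_one])
  obtain ⟨P, hP⟩ := hpg.exists_le_sylow
  have hPcard : Nat.card (P : Subgroup G) = p := by
    obtain ⟨k, hk⟩ := P.isPGroup'.exists_card_eq
    have h1 : k ≤ 1 := by
      by_contra h
      exact hp2 ((pow_dvd_pow p (show 2 ≤ k by omega)).trans (hk ▸ Subgroup.card_subgroup_dvd_card _))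
    have h2 := Subgroup.card_le_of_le hP
    rw [Nat.card_zpowers, hz', hk] at h2
    interval_cases k
    · exact absurd h2 (by simpa using (Fact.out : p.Prime).one_lt)
    · rw [hk, pow_one]
  have hPz : (P : Subgroup G) = Subgroup.zpowers z' :=
    (Subgroup.eq_of_le_of_card_ge hP (by rw [hPcard, Nat.card_zpowers, hz'])).symm
  have hN : Subgroup.normalizer ((P : Subgroup G) : Set G) ≤ M := by
    intro g hg
    rw [hM, Subgroup.mem_subgroupOf]
    refine hkey g.1 g.2 ?_
    have h1 : g⁻¹ * z' * g ∈ (P : Subgroup G) := by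
      have := (Subgroup.mem_normalizer_iff.1 (inv_mem hg) z').1 (hP (Subgroup.mem_zpowers z'))
      rwa [inv_inv] at this
    rw [hPz] at h1
    obtain ⟨j, hj⟩ := h1
    have h2 : (g⁻¹ * z' * g : G).1 • a = a := by
      have e : (z' ^ j : G) = g⁻¹ * z' * g := hj
      rw [← e]
      show ((z' ^ j : G) : Co0) • a = a
      rw [Subgroup.coe_zpow, ← mem_stabilizer_iff]
      exact zpow_mem (show z'.1 ∈ stabilizer Co0 a from hza) j
    calc permHom z • (g.1 • a) = g.1 • ((g⁻¹ * z' * g : G).1 • a) := by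
          rw [← mul_smul, ← mul_smul]
          congr 1
          show permHom z * g.1 = g.1 * (g.1⁻¹ * permHom z * g.1)
          group
      _ = g.1 • a := by rw [h2]
  refine SimpleBySylow.isSimple hPcard hN fun N hNn hN0 hNM => ?_
  haveI := hNn
  exact hq N hNn hN0 (SimpleBySylow.card_dvd_index hNM) fun q hqp hqn => SimpleBySylow.prime_part hPcard hN hNM hqp hqn

theorem map_index {G : Subgroup Co0} {K : Subgroup M24} (hKG : K.map permHom ≤ G) {I : ℕ}
    (h : Nat.card G = I * Nat.card K) : ((K.map permHom).subgroupOf G).index = I := by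
  haveI := finite_co0
  have h1 := ((K.map permHom).subgroupOf G).index_mul_card
  rw [Nat.card_congr (Subgroup.subgroupOfEquivOfLe hKG).toEquiv,
    Subgroup.card_map_of_injective permHom_injective, h] at h1
  exact Nat.eq_of_mul_eq_mul_right Nat.card_pos h1

/-! ### orders -/

theorem card_step (H : Subgroup Co0) (a : leechLattice) (S : Set leechLattice)
    (hS : ∀ b ∈ S, ∃ g ∈ H, g • a = b) (hinv : ∀ g ∈ H, g • a ∈ S) :
    Nat.card H = S.ncard * Nat.card ↥(H ⊓ stabilizer Co0 a) := by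
  have horb : orbit H a = S := by
    ext b
    constructor
    · rintro ⟨g, rfl⟩; exact hinv g.1 g.2
    · intro hb
      obtain ⟨g, hg, rfl⟩ := hS b hb
      exact ⟨⟨g, hg⟩, rfl⟩
  have h := Nat.card_congr (orbitProdStabilizerEquivGroup H a)
  rw [Nat.card_prod, Nat.card_coe_set_eq, horb] at h
  rw [← h]
  congr 1
  exact Nat.card_congr
    { toFun := fun g => ⟨g.1.1, g.1.2, g.2⟩
      invFun := fun g => ⟨⟨g.1, g.2.1⟩, g.2.2⟩
      left_inv := fun g => rfl
      right_inv := fun g => rfl }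

theorem conj_pair (g : Co0) (v w : leechLattice) :
    Nonempty (↥(stabilizer Co0 v ⊓ stabilizer Co0 w) ≃*
      ↥(stabilizer Co0 (g • v) ⊓ stabilizer Co0 (g • w))) := by
  have e : (stabilizer Co0 v ⊓ stabilizer Co0 w).map (MulAut.conj g).toMonoidHom =
      stabilizer Co0 (g • v) ⊓ stabilizer Co0 (g • w) := by
    ext h
    rw [Subgroup.mem_map_equiv, Subgroup.mem_inf, Subgroup.mem_inf, mem_stabilizer_iff, mem_stabilizer_iff,
      mem_stabilizer_iff, mem_stabilizer_iff, MulAut.conj_symm_apply, mul_smul, mul_smul, mul_smul, mul_smul,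
      inv_smul_eq_iff, inv_smul_eq_iff]
  exact ⟨((stabilizer Co0 v ⊓ stabilizer Co0 w).equivMapOfInjective _ (MulAut.conj g).injective).trans
    (MulEquiv.subgroupCongr e)⟩

theorem conj_one (g : Co0) (v : leechLattice) :
    Nonempty (↥(stabilizer Co0 v) ≃* ↥(stabilizer Co0 (g • v))) := by
  obtain ⟨e⟩ := conj_pair g v v
  exact ⟨(MulEquiv.subgroupCongr (inf_idem _).symm).trans (e.trans (MulEquiv.subgroupCongr (inf_idem _)))⟩

/-- `(5, 1, ..., 1)` in the lattice -/
noncomputable def fiveL : leechLattice := -Spor.leechV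

theorem fiveL_val : ((fiveL : leechLattice) : GolayPt → ℤ) = five := by
  funext l
  show -Spor.vecV l = five l
  simp only [Spor.vecV, five]
  split <;> norm_num

theorem norm_fiveL : sqNorm ((fiveL : leechLattice) : GolayPt → ℤ) = 48 := by rw [fiveL_val]; decide +kernel

theorem finite_norm (N : ℤ) : {v : leechLattice | sqNorm v.1 = N}.ncard =
    {x : GolayPt → ℤ | x ∈ leechLattice ∧ sqNorm x = N}.ncard := by
  rw [← Set.ncard_image_of_injective _ Subtype.val_injective]
  congr 1
  ext x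
  constructor
  · rintro ⟨v, hv, rfl⟩; exact ⟨v.2, hv⟩
  · rintro ⟨hx, hn⟩; exact ⟨⟨x, hx⟩, hn, rfl⟩

theorem card_co3 {v : leechLattice} (hv : sqNorm v.1 = 48) :
    Nat.card (stabilizer Co0 v) = 495766656000 := by
  have h := card_step ⊤ v {w | sqNorm w.1 = 48}
    (fun b hb => by obtain ⟨g, hg⟩ := transitive48 v b hv hb; exact ⟨g, Subgroup.mem_top g, hg⟩)
    (fun g _ => (smul_norm g v).trans hv)
  rw [Subgroup.card_top, card_co0, top_inf_eq, finite_norm, count48] at h
  omega

theorem card_co2 {v : leechLattice} (hv : sqNorm v.1 = 32) :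
    Nat.card (stabilizer Co0 v) = 42305421312000 := by
  have h := card_step ⊤ v {w | sqNorm w.1 = 32}
    (fun b hb => by obtain ⟨g, hg⟩ := transitive32 v b hv hb; exact ⟨g, Subgroup.mem_top g, hg⟩)
    (fun g _ => (smul_norm g v).trans hv)
  rw [Subgroup.card_top, card_co0, top_inf_eq, finite_norm, count32] at h
  omega

theorem mcl_move {v w v' w' : leechLattice} (hv : sqNorm v.1 = 32) (hw : sqNorm w.1 = 32)
    (hv' : sqNorm v'.1 = 32) (hw' : sqNorm w'.1 = 32) (h : dotInt v.1 w.1 = -8) (h' : dotInt v'.1 w'.1 = -8) :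
    ∃ g : Co0, g • v = v' ∧ g • w = w' := by
  have hn : ∀ a b : leechLattice, dotInt a.1 b.1 = -8 → dotInt a.1 (-b).1 = 8 := fun a b hab => by
    rw [AddSubgroup.coe_neg, dot_comm', dot_neg_left, dot_comm', hab, neg_neg]
  obtain ⟨g, g1, g2⟩ := transitive8 v (-w) v' (-w') hv ((norm_neg' _).trans hw) hv' ((norm_neg' _).trans hw')
    (hn v w h) (hn v' w' h')
  rw [smul_neg'] at g2
  exact ⟨g, g1, neg_injective g2⟩

theorem split_facts {u b : leechLattice} (hu : sqNorm u.1 = 48) (hb : b ∈ splits u) :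
    sqNorm (u - b).1 = 32 ∧ dotInt b.1 (u - b).1 = -8 ∧ dotInt u.1 b.1 = 24 := by
  obtain ⟨h1, h2⟩ := hb
  have h3 : dotInt u.1 b.1 = 24 := by rw [LeechModTwo.norm_sub, hu, h1] at h2; omega
  refine ⟨h2, ?_, h3⟩
  rw [AddSubgroup.coe_sub, dot_comm', sub_eq_add_neg, dot_add_left, dot_neg_left, dot_self, h1, h3]
  norm_num

theorem card_mcl {u v : leechLattice} (hu : sqNorm u.1 = 48) (hv : v ∈ splits u) :
    Nat.card ↥(stabilizer Co0 u ⊓ stabilizer Co0 v) = 898128000 := by
  have h := card_step (stabilizer Co0 u) v (splits u) (fun b hb => ?_) fun g hg => ?_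
  · rw [card_co3 hu, count_splits u hu] at h
    omega
  · obtain ⟨n1, d1, -⟩ := split_facts hu hv
    obtain ⟨n2, d2, -⟩ := split_facts hu hb
    obtain ⟨g, g1, g2⟩ := mcl_move hv.1 n1 hb.1 n2 d1 d2
    refine ⟨g, ?_, g1⟩
    rw [mem_stabilizer_iff]
    rw [smul_sub', g1] at g2
    exact sub_left_injective g2
  · have hmem : g • v ∈ g • splits u := Set.smul_mem_smul_set hv
    rwa [splits_smul, mem_stabilizer_iff.1 hg] at hmem

theorem card_hs {u d : leechLattice} (hu : sqNorm u.1 = 48) (hd : sqNorm d.1 = 32) (hud : dotInt u.1 d.1 = 16) :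
    Nat.card ↥(stabilizer Co0 u ⊓ stabilizer Co0 d) = 44352000 := by
  let S : Set leechLattice := {b | sqNorm b.1 = 32 ∧ dotInt u.1 b.1 = 16}
  have h := card_step (stabilizer Co0 u) d S (fun b hb => ?_) fun g hg => ?_
  · have hS : S.ncard = 11178 := by
      rw [← (census48 u.1 u.2 hu).1]
      refine sub_count _ _ (fun x => ?_) fun y hy => (mem_minSet.1 (Finset.mem_filter.1 hy).1).1
      rw [Finset.mem_filter, mem_minSet]
      exact ⟨fun h => ⟨⟨x.2, h.1⟩, h.2⟩, fun h => ⟨h.1.2, h.2⟩⟩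
    rw [card_co3 hu, hS] at h
    omega
  · obtain ⟨g, g1, g2⟩ := pairs_transitive u d u b hu hd hu hb.1 hud hb.2
    exact ⟨g, g1, g2⟩
  · refine ⟨(smul_norm g d).trans hd, ?_⟩
    have h := smul_dot g u d
    rw [mem_stabilizer_iff.1 hg] at h
    exact h.trans hud

theorem card_m23 : Nat.card (stabilizer M24 (none : GolayPt)) = 10200960 := by
  have horb : orbit M24 (none : GolayPt) = Set.univ := Set.eq_univ_of_forall fun b => by
    obtain ⟨l, hl⟩ := exists_ne b
    obtain ⟨σ, hσ, h1, -⟩ := m24_map_pair (show (none : GolayPt) ≠ some 0 by simp) (Ne.symm hl)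
    exact ⟨⟨σ, hσ⟩, h1⟩
  have h := Nat.card_congr (orbitProdStabilizerEquivGroup M24 (none : GolayPt))
  rw [Nat.card_prod, Nat.card_coe_set_eq, horb, Set.ncard_univ, Nat.card_eq_fintype_card (α := GolayPt),
    show Fintype.card GolayPt = 24 from rfl, card_M24] at h
  omega

/-- the stabiliser of the two base points -/
abbrev twoStab : Subgroup M24 := stabilizer M24 (none : GolayPt) ⊓ stabilizer M24 (some 0 : GolayPt)

theorem card_m22 : Nat.card twoStab = 443520 := by
  have horb : orbit (stabilizer M24 (none : GolayPt)) (some 0 : GolayPt) = {(none : GolayPt)}ᶜ := by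
    ext b
    constructor
    · rintro ⟨g, rfl⟩ (hb : g.1 • (some 0 : GolayPt) = none)
      have := smul_left_cancel g.1 (hb.trans (mem_stabilizer_iff.1 g.2).symm)
      simp at this
    · intro hb
      obtain ⟨σ, hσ, h1, h2⟩ := m24_map_pair (show (none : GolayPt) ≠ some 0 by simp) (Ne.symm hb)
      exact ⟨⟨⟨σ, hσ⟩, h1⟩, h2⟩
  have h := Nat.card_congr (orbitProdStabilizerEquivGroup (stabilizer M24 (none : GolayPt)) (some 0 : GolayPt))
  rw [Nat.card_prod, Nat.card_coe_set_eq, horb, Set.ncard_compl, Set.ncard_singleton,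
    Nat.card_eq_fintype_card (α := GolayPt), show Fintype.card GolayPt = 24 from rfl, card_m23] at h
  have e : Nat.card ↥(stabilizer (stabilizer M24 (none : GolayPt)) (some 0 : GolayPt)) = Nat.card twoStab :=
    Nat.card_congr
      { toFun := fun g => ⟨g.1.1, g.1.2, g.2⟩
        invFun := fun g => ⟨⟨g.1, g.2.1⟩, g.2.2⟩
        left_inv := fun g => rfl
        right_inv := fun g => rfl }
  omega

theorem prime_cases_235 {q a b c : ℕ} (hq : q.Prime) (h : q ∣ 2 ^ a * 3 ^ b * 5 ^ c) :
    q = 2 ∨ q = 3 ∨ q = 5 := by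
  rcases hq.dvd_mul.1 h with h | h
  · rcases hq.dvd_mul.1 h with h | h
    · exact Or.inl ((Nat.prime_dvd_prime_iff_eq hq Nat.prime_two).1 (hq.dvd_of_dvd_pow h))
    · exact Or.inr (Or.inl ((Nat.prime_dvd_prime_iff_eq hq Nat.prime_three).1 (hq.dvd_of_dvd_pow h)))
  · exact Or.inr (Or.inr ((Nat.prime_dvd_prime_iff_eq hq Nat.prime_five).1 (hq.dvd_of_dvd_pow h)))

theorem no_part (p : ℕ) {a b c n : ℕ} (hn : n ∣ 2 ^ a * 3 ^ b * 5 ^ c) (hn1 : n ≠ 1)
    (hchk : (∀ k ∈ Finset.Icc 1 a, 2 ^ k % p ≠ 1) ∧ (∀ k ∈ Finset.Icc 1 b, 3 ^ k % p ≠ 1) ∧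
      ∀ k ∈ Finset.Icc 1 c, 5 ^ k % p ≠ 1)
    (hpart : ∀ q : ℕ, q.Prime → q ∣ n → ∃ k, 0 < k ∧ q ^ k ∣ n ∧ q ^ k % p = 1) : False := by
  obtain ⟨q, hq, hqn⟩ := Nat.exists_prime_and_dvd hn1
  obtain ⟨k, hk, hkn, hk1⟩ := hpart q hq hqn
  have hkI := hkn.trans hn
  have h2 : ∀ m : ℕ, Nat.Coprime 2 m → q = 2 → q ^ k ∣ 2 ^ a * m → k ≤ a := fun m hm e h => by
    subst e
    exact (Nat.pow_dvd_pow_iff_le_right (by norm_num)).1 ((Nat.Coprime.pow_left k hm).dvd_of_dvd_mul_right h)
  rcases prime_cases_235 hq (hqn.trans hn) with rfl | rfl | rfl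
  · refine hchk.1 k (Finset.mem_Icc.2 ⟨hk, h2 (3 ^ b * 5 ^ c) ?_ rfl (by rwa [← mul_assoc])⟩) hk1
    exact (Nat.Coprime.pow_right _ (by norm_num)).mul_right (Nat.Coprime.pow_right _ (by norm_num))
  · refine hchk.2.1 k (Finset.mem_Icc.2 ⟨hk, ?_⟩) hk1
    have h3 : Nat.Coprime (3 ^ k) (2 ^ a * 5 ^ c) := Nat.Coprime.pow_left _
      ((Nat.Coprime.pow_right _ (by norm_num)).mul_right (Nat.Coprime.pow_right _ (by norm_num)))
    exact (Nat.pow_dvd_pow_iff_le_right (by norm_num)).1
      (h3.dvd_of_dvd_mul_left (by rwa [mul_right_comm] at hkI))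
  · refine hchk.2.2 k (Finset.mem_Icc.2 ⟨hk, ?_⟩) hk1
    have h5 : Nat.Coprime (5 ^ k) (2 ^ a * 3 ^ b) := Nat.Coprime.pow_left _
      ((Nat.Coprime.pow_right _ (by norm_num)).mul_right (Nat.Coprime.pow_right _ (by norm_num)))
    exact (Nat.pow_dvd_pow_iff_le_right (by norm_num)).1 (h5.dvd_of_dvd_mul_left hkI)

theorem co3_simple : IsSimpleGroup (stabilizer Co0 fiveL) := by
  haveI : Fact (Nat.Prime 23) := ⟨by norm_num⟩
  haveI := M24Simple.m23_simple (none : GolayPt)
  have hfix : ∀ σ : M24, σ • (none : GolayPt) = none → permHom σ • fiveL = fiveL := fun σ h => permHom_fix.2 fun l => by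
    have h' : (σ : Equiv.Perm GolayPt) none = none := h
    rw [fiveL_val]
    by_cases hl : l = none
    · subst hl; rw [h']
    · simp only [five, if_neg hl, if_neg (fun e : (σ : Equiv.Perm GolayPt) l = none => hl ((σ : Equiv.Perm GolayPt).injective (e.trans h'.symm)))]
  have hKG : (stabilizer M24 (none : GolayPt)).map permHom ≤ stabilizer Co0 fiveL := by
    rintro _ ⟨σ, hσ, rfl⟩; exact hfix σ hσ
  refine simple_stab (p := 23) _ (stabilizer M24 (none : GolayPt)) hKG (z := tM) ?_ orderOf_tM ?_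
    (eightL none) ?_ (fun g hg hz => ?_) ?_
  · decide +kernel
  · rw [card_co3 norm_fiveL]; norm_num
  · rw [permHom_eight, show tM • (none : GolayPt) = none by decide +kernel]
  · set y := g • eightL none with hy
    have hfy := permHom_fix.1 hz
    have hn : sqNorm y.1 = 64 := (smul_norm g _).trans (norm_eightL none)
    have hd : dotInt five y.1 = 40 := by
      have h := smul_dot g fiveL (eightL none)
      rw [mem_stabilizer_iff.1 hg, fiveL_val] at h
      rw [h, eightL_val, dot_single]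
      rfl
    rw [dot_five, sum23 hfy fun t => t] at hd
    rw [sqNorm, sum23 hfy fun t => t ^ 2] at hn
    obtain ⟨a, b, ha, hb⟩ : ∃ a b : ℤ, a = y.1 none ∧ b = y.1 (some 0) := ⟨_, _, rfl, rfl⟩
    rw [← ha, ← hb] at hd hn
    have hb2 : b ^ 2 ≤ 2 := by nlinarith [sq_nonneg a]
    obtain ⟨h1, h2⟩ := small_of_sq (b := 1) (by norm_num) (by omega : b ^ 2 < (1 + 1) ^ 2)
    have hb0 : b = 0 := by
      rcases (show b = -1 ∨ b = 0 ∨ b = 1 by omega) with e | e | e
      · subst e; exfalso; omega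
      · exact e
      · subst e; exfalso; omega
    have hy8 : g • eightL none = eightL none := by
      rw [← hy]
      apply Subtype.ext
      funext l
      rw [eightL_val]
      match l with
      | none => rw [Pi.single_eq_same, ← ha]; omega
      | some c => rw [const23 hfy c, Pi.single_eq_of_ne (by simp), ← hb, hb0]
    obtain ⟨σ, hσ, e⟩ := perm_of_fix hy8 fiveL (Or.inl fun l => by rw [fiveL_val]; unfold five; split <;> norm_num)
      (mem_stabilizer_iff.1 hg)
    exact ⟨σ, hσ, e.symm⟩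
  · intro N _ hN0 hI hpart
    rw [map_index hKG (I := 2 ^ 3 * 3 ^ 5 * 5 ^ 2) (by rw [card_co3 norm_fiveL, card_m23]; norm_num)] at hI
    exact no_part 23 hI (fun h => hN0 (Subgroup.card_eq_one.1 h)) (by decide +kernel) hpart

theorem eleven_key {G : Subgroup Co0} (v : leechLattice) (hG : G ≤ stabilizer Co0 fiveL ⊓ stabilizer Co0 v)
    (hsep : ∀ b : GolayPt, b ≠ none → v.1 b = v.1 (some 0) → b = some 0)
    (hval : ∀ y : GolayPt → ℤ, dotInt v.1 y = 8 * v.1 none →
      (∀ l, y ((dM : Equiv.Perm GolayPt) l) = y l) → dotInt five y = 40 → sqNorm y = 64 → y none = 8) :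
    ∀ g ∈ G, permHom dM • (g • eightL none) = g • eightL none → g ∈ twoStab.map permHom := by
  intro g hg hz
  obtain ⟨h1, h2⟩ := hG hg
  set y := g • eightL none with hy
  have hn : sqNorm y.1 = 64 := (smul_norm g _).trans (norm_eightL none)
  have hd : dotInt five y.1 = 40 := by
    have h := smul_dot g fiveL (eightL none)
    rw [mem_stabilizer_iff.1 h1, fiveL_val] at h
    rw [h, eightL_val, dot_single]
    rfl
  have hdv : dotInt v.1 y.1 = 8 * v.1 none := by
    have h := smul_dot g v (eightL none)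
    rw [mem_stabilizer_iff.1 h2] at h
    rw [h, eightL_val, dot_single]
    ring
  have h8 := hval y.1 hdv (permHom_fix.1 hz) hd hn
  have hy8 : g • eightL none = eightL none := by
    rw [← hy]
    apply Subtype.ext
    funext l
    rw [eightL_val]
    by_cases hl : l = none
    · subst hl; rw [h8, Pi.single_eq_same]
    · rw [Pi.single_eq_of_ne hl]
      have h3 := Finset.add_sum_erase Finset.univ (fun i => y.1 i ^ 2) (Finset.mem_univ (none : GolayPt))
      rw [show ∑ i, y.1 i ^ 2 = 64 from hn, h8] at h3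
      exact pow_eq_zero_iff (n := 2) (by norm_num) |>.1 ((Finset.sum_eq_zero_iff_of_nonneg
        fun i _ => sq_nonneg (y.1 i)).1 (by omega) l (Finset.mem_erase.2 ⟨hl, Finset.mem_univ l⟩))
  obtain ⟨σ, hσ, rfl⟩ := perm_of_fix hy8 fiveL (Or.inl fun l => by rw [fiveL_val]; unfold five; split <;> norm_num)
    (mem_stabilizer_iff.1 h1)
  refine ⟨σ, ⟨hσ, ?_⟩, rfl⟩
  refine hsep _ (fun e => ?_) ((permHom_fix.1 (mem_stabilizer_iff.1 h2)) (some 0))
  have := smul_left_cancel σ (e.trans hσ.symm)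
  simp at this

theorem two_fix {v : leechLattice}
    (hv : ∀ l, l ≠ none → l ≠ some 0 → v.1 l = 0) (σ : M24) (hσ : σ ∈ twoStab) :
    permHom σ • fiveL = fiveL ∧ permHom σ • v = v := by
  obtain ⟨h1, h2⟩ := hσ
  have e1 : (σ : Equiv.Perm GolayPt) none = none := h1
  have e2 : (σ : Equiv.Perm GolayPt) (some 0) = some 0 := h2
  constructor <;> refine permHom_fix.2 fun l => ?_
  · rw [fiveL_val]
    by_cases hl : l = none
    · subst hl; rw [e1]
    · simp only [five, if_neg hl, if_neg (fun e : (σ : Equiv.Perm GolayPt) l = none => hl ((σ : Equiv.Perm GolayPt).injective (e.trans e1.symm)))]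
  · by_cases hl : l = none
    · subst hl; rw [e1]
    by_cases hl' : l = some 0
    · subst hl'; rw [e2]
    rw [hv l hl hl', hv _ (fun e => hl ((σ : Equiv.Perm GolayPt).injective (e.trans e1.symm)))
      (fun e => hl' ((σ : Equiv.Perm GolayPt).injective (e.trans e2.symm)))]

theorem eleven_simple (v : leechLattice) (hv : ∀ l, l ≠ none → l ≠ some 0 → v.1 l = 0) (h0 : v.1 (some 0) ≠ 0)
    (hval : ∀ y : GolayPt → ℤ, dotInt v.1 y = 8 * v.1 none →
      (∀ l, y ((dM : Equiv.Perm GolayPt) l) = y l) → dotInt five y = 40 → sqNorm y = 64 → y none = 8)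
    {a b c : ℕ} (hcard : Nat.card ↥(stabilizer Co0 fiveL ⊓ stabilizer Co0 v) = 2 ^ a * 3 ^ b * 5 ^ c * 443520)
    (h121 : ¬11 ^ 2 ∣ 2 ^ a * 3 ^ b * 5 ^ c * 443520)
    (hchk : (∀ k ∈ Finset.Icc 1 a, 2 ^ k % 11 ≠ 1) ∧ (∀ k ∈ Finset.Icc 1 b, 3 ^ k % 11 ≠ 1) ∧
      ∀ k ∈ Finset.Icc 1 c, 5 ^ k % 11 ≠ 1) :
    IsSimpleGroup ↥(stabilizer Co0 fiveL ⊓ stabilizer Co0 v) := by
  haveI : Fact (Nat.Prime 11) := ⟨by norm_num⟩
  haveI : IsSimpleGroup twoStab := M24Simple.m22_simple none (some 0) (by simp)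
  have hKG : twoStab.map permHom ≤ stabilizer Co0 fiveL ⊓ stabilizer Co0 v := by
    rintro _ ⟨σ, hσ, rfl⟩
    exact two_fix hv σ hσ
  refine simple_stab (p := 11) _ twoStab hKG (z := dM) ?_ orderOf_dM ?_ (eightL none) ?_ ?_ ?_
  · exact ⟨dM_apply.1, (dM_apply.2 0).trans (by rw [mul_zero])⟩
  · rw [hcard]; exact h121
  · rw [permHom_eight, show dM • (none : GolayPt) = none from dM_apply.1]
  · refine eleven_key v le_rfl (fun l hl e => ?_) hval
    by_contra hne
    rw [hv l hl hne] at e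
    exact h0 e.symm
  · intro N _ hN0 hI hpart
    rw [map_index hKG (I := 2 ^ a * 3 ^ b * 5 ^ c) (by rw [hcard, card_m22])] at hI
    exact no_part 11 hI (fun h => hN0 (Subgroup.card_eq_one.1 h)) hchk hpart

theorem dot_vecU' (y : GolayPt → ℤ) : dotInt Spor.vecU' y = 4 * (y none - y (some 0)) := by
  rw [show Spor.vecU' = minusU from rfl, dot_minusU]

theorem hs_simple : IsSimpleGroup ↥(stabilizer Co0 fiveL ⊓ stabilizer Co0 Spor.leechU') := by
  have hd : dotInt fiveL.1 Spor.leechU'.1 = 16 := by rw [fiveL_val]; decide +kernel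
  refine eleven_simple Spor.leechU' (fun l h1 h2 => by show Spor.vecU' l = 0; simp [Spor.vecU', h1, h2])
    (by decide +kernel) (fun y h1 hfy h2 h3 => ?_) (a := 2) (b := 0) (c := 2)
    (by rw [card_hs norm_fiveL (by decide +kernel) hd]; norm_num) (by decide +kernel) (by decide +kernel)
  rw [show ((Spor.leechU' : leechLattice) : GolayPt → ℤ) = Spor.vecU' from rfl, dot_vecU',
    show Spor.vecU' none = 4 from rfl] at h1
  rw [dot_five, sum11 hfy fun t => t] at h2
  rw [sqNorm, sum11 hfy fun t => t ^ 2] at h3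
  have ha : y none ≤ 8 := by nlinarith [sq_nonneg (y (some 0)), sq_nonneg (y (some 1)), sq_nonneg (y (some 5))]
  have ha' : 0 ≤ y none := by nlinarith [sq_nonneg (y (some 1)), sq_nonneg (y (some 5))]
  omega

theorem mcl_simple : IsSimpleGroup ↥(stabilizer Co0 fiveL ⊓ stabilizer Co0 (lpair none (some 0))) := by
  have hmem : lpair none (some 0) ∈ splits fiveL := by
    refine ⟨by decide +kernel, ?_⟩
    show sqNorm ((fiveL : leechLattice).1 - pairVec none (some 0)) = 32
    rw [fiveL_val]; decide +kernel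
  refine eleven_simple (lpair none (some 0)) (fun l h1 h2 => by
      show pairVec none (some 0) l = 0; simp [pairVec, h1, h2])
    (by decide +kernel) (fun y h1 hfy h2 h3 => ?_) (a := 0) (b := 4) (c := 2)
    (by rw [card_mcl norm_fiveL hmem]; norm_num) (by decide +kernel) (by decide +kernel)
  rw [show ((lpair none (some 0) : leechLattice) : GolayPt → ℤ) = pairVec none (some 0) from rfl,
    dot_two (i := none) (j := some 0) y (by simp) (fun l h1 h2 => by simp [pairVec, h1, h2]),
    show pairVec none (some 0) none = 4 from rfl, show pairVec none (some 0) (some 0) = 4 from rfl] at h1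
  rw [dot_five, sum11 hfy fun t => t] at h2
  rw [sqNorm, sum11 hfy fun t => t ^ 2] at h3
  have ha : y none ≤ 8 := by nlinarith [sq_nonneg (y (some 0)), sq_nonneg (y (some 1)), sq_nonneg (y (some 5))]
  have ha' : 0 ≤ y none := by nlinarith [sq_nonneg (y (some 1)), sq_nonneg (y (some 5))]
  omega

theorem isCo3 (v : leechLattice) (hv : sqNorm v.1 = 48) : IsCo3 (stabilizer Co0 v) := by
  obtain ⟨g, hg⟩ := transitive48 v fiveL hv norm_fiveL
  obtain ⟨e⟩ := conj_one g v
  rw [hg] at e
  haveI := co3_simple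
  exact ⟨e.isSimpleGroup, card_co3 hv⟩

theorem isMcL (v w : leechLattice) (hv : sqNorm v.1 = 32) (hw : sqNorm w.1 = 32) (hvw : dotInt v.1 w.1 = -8) :
    IsMcL ↥(stabilizer Co0 v ⊓ stabilizer Co0 w) := by
  set v0 := lpair none (some 0) with hv0
  have hw0 : sqNorm (fiveL - v0).1 = 32 := by
    rw [AddSubgroup.coe_sub, fiveL_val]; decide +kernel
  have hd0 : dotInt v0.1 (fiveL - v0).1 = -8 := by rw [AddSubgroup.coe_sub, fiveL_val]; decide +kernel
  obtain ⟨g, g1, g2⟩ := mcl_move hv hw (by decide +kernel : sqNorm v0.1 = 32) hw0 hvw hd0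
  obtain ⟨e⟩ := conj_pair g v w
  rw [g1, g2] at e
  have heq : stabilizer Co0 v0 ⊓ stabilizer Co0 (fiveL - v0) = stabilizer Co0 fiveL ⊓ stabilizer Co0 v0 := by
    ext h
    simp only [Subgroup.mem_inf, mem_stabilizer_iff, smul_sub']
    constructor
    · rintro ⟨a, b⟩; rw [a] at b; exact ⟨sub_left_injective b, a⟩
    · rintro ⟨a, b⟩; exact ⟨b, by rw [a, b]⟩
  haveI := mcl_simple
  let e' := e.trans (MulEquiv.subgroupCongr heq)
  refine ⟨e'.isSimpleGroup, ?_⟩
  rw [Nat.card_congr e'.toEquiv]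
  refine card_mcl norm_fiveL ⟨by decide +kernel, ?_⟩
  rw [fiveL_val]; decide +kernel

theorem isHS (v w : leechLattice) (hv : sqNorm v.1 = 48) (hw : sqNorm w.1 = 48) (hvw : dotInt v.1 w.1 = -32) :
    IsHS ↥(stabilizer Co0 v ⊓ stabilizer Co0 w) := by
  obtain ⟨hn, hd⟩ := plus_facts hv hw hvw
  have hd0 : dotInt fiveL.1 Spor.leechU'.1 = 16 := by rw [fiveL_val]; decide +kernel
  have hn0 : sqNorm Spor.leechU'.1 = 32 := by decide +kernel
  obtain ⟨g, g1, g2⟩ := pairs_transitive v (v + w) fiveL Spor.leechU' hv hn norm_fiveL hn0 hd hd0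
  obtain ⟨e⟩ := conj_pair g v (v + w)
  rw [g1, g2] at e
  have heq : stabilizer Co0 v ⊓ stabilizer Co0 w = stabilizer Co0 v ⊓ stabilizer Co0 (v + w) := by
    ext h
    simp only [Subgroup.mem_inf, mem_stabilizer_iff, smul_add']
    constructor
    · rintro ⟨a, b⟩; exact ⟨a, by rw [a, b]⟩
    · rintro ⟨a, b⟩; rw [a] at b; exact ⟨a, add_left_cancel b⟩
  haveI := hs_simple
  let e' := (MulEquiv.subgroupCongr heq).trans e
  exact ⟨e'.isSimpleGroup, by rw [Nat.card_congr e'.toEquiv]; exact card_hs norm_fiveL hn0 hd0⟩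

end CfsgLib.Spor.LeechStab
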