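import Cfsg.Agent.Spor.LeechCross
import Mathlib.LinearAlgebra.Matrix.DotProduct

/-!
An even lattice of rank 24 without roots and with the right numbers of short vectors: the classes
modulo twice the lattice, a frame, and the isometry with the standard lattice.
-/

set_option autoImplicit false

namespace CfsgLib.Spor.LeechChar

open Cfsg CfsgLib.Spor CfsgLib.Spor.LeechCross CfsgLib.Spor.LeechFrame
open scoped Matrix

/-- the hypotheses on a Gram matrix -/
structure Hyp (B : Matrix (Fin 24) (Fin 24) ℤ) : Prop where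
  symm : B.IsSymm
  pos : ∀ x : Fin 24 → ℤ, x ≠ 0 → 0 < x ⬝ᵥ (B *ᵥ x)
  even : ∀ x : Fin 24 → ℤ, (2 : ℤ) ∣ x ⬝ᵥ (B *ᵥ x)
  two : ∀ x : Fin 24 → ℤ, x ⬝ᵥ (B *ᵥ x) ≠ 2
  four : {x : Fin 24 → ℤ | x ⬝ᵥ (B *ᵥ x) = 4}.ncard = 196560
  six : {x : Fin 24 → ℤ | x ⬝ᵥ (B *ᵥ x) = 6}.ncard = 16773120
  eight : {x : Fin 24 → ℤ | x ⬝ᵥ (B *ᵥ x) = 8}.ncard = 398034000

variable {B : Matrix (Fin 24) (Fin 24) ℤ}

/-- reduction modulo two -/
def cls (x : Fin 24 → ℤ) : Fin 24 → ZMod 2 := fun i => ((x i : ℤ) : ZMod 2)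

theorem cls_eq {x y : Fin 24 → ℤ} : cls x = cls y ↔ ∀ i, (2 : ℤ) ∣ (x - y) i := by
  constructor
  · intro h i
    have h1 : (2 : ℤ) ∣ y i - x i := (ZMod.intCast_eq_intCast_iff_dvd_sub _ _ 2).1 (congrFun h i)
    simp only [Pi.sub_apply]
    omega
  · intro h
    funext i
    refine (ZMod.intCast_eq_intCast_iff_dvd_sub _ _ 2).2 ?_
    have := h i
    simp only [Pi.sub_apply] at this
    push_cast
    omega

namespace Hyp

theorem comm (h : Hyp B) (x y : Fin 24 → ℤ) : y ⬝ᵥ (B *ᵥ x) = x ⬝ᵥ (B *ᵥ y) := by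
  rw [Matrix.dotProduct_mulVec, ← Matrix.mulVec_transpose, h.symm.eq, dotProduct_comm]

theorem low (h : Hyp B) {x : Fin 24 → ℤ} (hx : x ≠ 0) : 4 ≤ x ⬝ᵥ (B *ᵥ x) := by
  have := h.pos x hx
  have := h.even x
  have := h.two x
  omega

theorem congr (h : Hyp B) {x y : Fin 24 → ℤ} (hx : x ⬝ᵥ (B *ᵥ x) ≤ 8) (hy : y ⬝ᵥ (B *ᵥ y) ≤ 8)
    (hc : cls x = cls y) :
    y = x ∨ y = -x ∨ (x ⬝ᵥ (B *ᵥ x) = 8 ∧ y ⬝ᵥ (B *ᵥ y) = 8 ∧ x ⬝ᵥ (B *ᵥ y) = 0) := by
  obtain ⟨z, hz⟩ : ∃ z : Fin 24 → ℤ, x - y = (2 : ℤ) • z :=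
    ⟨fun i => (x - y) i / 2, funext fun i => by
      have := cls_eq.1 hc i
      simp only [Pi.smul_apply, smul_eq_mul]
      omega⟩
  have hw : x + y = (2 : ℤ) • (z + y) := by
    rw [smul_add, ← hz, two_smul]
    abel
  have q1 : (x - y) ⬝ᵥ (B *ᵥ (x - y)) = x ⬝ᵥ (B *ᵥ x) + y ⬝ᵥ (B *ᵥ y) - 2 * (x ⬝ᵥ (B *ᵥ y)) := by
    simp only [Matrix.mulVec_sub, dotProduct_sub, sub_dotProduct, h.comm x y]
    ring
  have q2 : (x + y) ⬝ᵥ (B *ᵥ (x + y)) = x ⬝ᵥ (B *ᵥ x) + y ⬝ᵥ (B *ᵥ y) + 2 * (x ⬝ᵥ (B *ᵥ y)) := by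
    simp only [Matrix.mulVec_add, dotProduct_add, add_dotProduct, h.comm x y]
    ring
  have e : ∀ u : Fin 24 → ℤ, ((2 : ℤ) • u) ⬝ᵥ (B *ᵥ ((2 : ℤ) • u)) = 4 * (u ⬝ᵥ (B *ᵥ u)) := fun u => by
    simp only [Matrix.mulVec_smul, dotProduct_smul, smul_dotProduct, smul_eq_mul]
    ring
  rw [hz, e] at q1
  rw [hw, e] at q2
  by_cases h0 : z = 0
  · exact Or.inl (sub_eq_zero.1 (by rw [hz, h0, smul_zero])).symm
  by_cases h1 : z + y = 0
  · exact Or.inr (Or.inl (eq_neg_of_add_eq_zero_right (by rw [hw, h1, smul_zero])))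
  have := h.low h0
  have := h.low h1
  exact Or.inr (Or.inr (by omega))

theorem neg_norm (x : Fin 24 → ℤ) : (-x) ⬝ᵥ (B *ᵥ (-x)) = x ⬝ᵥ (B *ᵥ x) := by
  simp only [Matrix.mulVec_neg, dotProduct_neg, neg_dotProduct, neg_neg]

theorem orth_card (T : Finset (Fin 24 → ℤ)) (hn : ∀ v ∈ T, v ⬝ᵥ (B *ᵥ v) ≠ 0)
    (ho : ∀ v ∈ T, ∀ w ∈ T, v ≠ w → v ⬝ᵥ (B *ᵥ w) = 0) : T.card ≤ 24 := by
  have hli : LinearIndependent ℤ (fun v : T => v.1) := by
    rw [Fintype.linearIndependent_iff]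
    intro c hc j
    have e := congrArg (fun u => u ⬝ᵥ (B *ᵥ j.1)) hc
    simp only [sum_dotProduct, smul_dotProduct, zero_dotProduct, smul_eq_mul] at e
    rw [Finset.sum_eq_single j (fun v _ hv => by
      rw [ho v.1 v.2 j.1 j.2 fun h => hv (Subtype.ext h), mul_zero])
      (fun h => absurd (Finset.mem_univ j) h)] at e
    exact (mul_eq_zero.1 e).resolve_right (hn j.1 j.2)
  have h := hli.fintype_card_le_finrank
  rwa [Fintype.card_coe, Module.finrank_fintype_fun_eq_card, Fintype.card_fin] at h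

theorem pairs_card (S : Finset (Fin 24 → ℤ)) (hn : ∀ v ∈ S, v ⬝ᵥ (B *ᵥ v) ≠ 0)
    (ho : ∀ v ∈ S, ∀ w ∈ S, w = v ∨ w = -v ∨ v ⬝ᵥ (B *ᵥ w) = 0) : S.card ≤ 48 := by
  classical
  let f : (Fin 24 → ℤ) → Finset (Fin 24 → ℤ) := fun y => {y, -y}
  have hb := Finset.card_le_mul_card_image (f := f) S 2 fun p hp => by
    obtain ⟨y, hy, rfl⟩ := Finset.mem_image.1 hp
    refine le_trans (Finset.card_le_card ?_) (Finset.card_le_two (a := y) (b := -y))
    intro u hu
    have e := (Finset.mem_filter.1 hu).2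
    have : u ∈ f u := Finset.mem_insert_self _ _
    rwa [e] at this
  have hrep : ∀ p ∈ S.image f, ∃ y ∈ S, f y = p := fun p hp => Finset.mem_image.1 hp
  choose! g hg using hrep
  have hgi : Set.InjOn g ↑(S.image f) := fun p hp q hq e => by
    rw [← (hg p hp).2, ← (hg q hq).2, e]
  have h24 : (S.image f).card ≤ 24 := by
    rw [← Finset.card_image_of_injOn hgi]
    refine orth_card (B := B) _ (fun v hv => ?_) fun v hv w hw hne => ?_
    · obtain ⟨p, hp, rfl⟩ := Finset.mem_image.1 hv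
      exact hn _ (hg p hp).1
    · obtain ⟨p, hp, rfl⟩ := Finset.mem_image.1 hv
      obtain ⟨q, hq, rfl⟩ := Finset.mem_image.1 hw
      rcases ho _ (hg p hp).1 _ (hg q hq).1 with e | e | e
      · exact absurd e.symm hne
      · exfalso
        apply hne
        have : p = q := by
          rw [← (hg p hp).2, ← (hg q hq).2, e]
          simp [f, Finset.pair_comm]
        rw [this]
      · exact e
  omega

theorem class_card (h : Hyp B) {x : Fin 24 → ℤ} (hx : x ⬝ᵥ (B *ᵥ x) = 8) :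
    {y : Fin 24 → ℤ | y ⬝ᵥ (B *ᵥ y) = 8 ∧ ∀ i, (2 : ℤ) ∣ (x - y) i}.ncard = 48 := by
  classical
  have f4 := Set.finite_of_ncard_ne_zero (h.four.trans_ne (by norm_num))
  have f6 := Set.finite_of_ncard_ne_zero (h.six.trans_ne (by norm_num))
  have f8 := Set.finite_of_ncard_ne_zero (h.eight.trans_ne (by norm_num))
  let q : (Fin 24 → ℤ) → ℤ := fun y => y ⬝ᵥ (B *ᵥ y)
  let S : Finset (Fin 24 → ℤ) := (({0} ∪ f4.toFinset) ∪ f6.toFinset) ∪ f8.toFinset
  let wt : (Fin 24 → ℤ) → ℕ := fun y => if q y = 0 then 48 else if q y = 8 then 1 else 24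
  have hq0 : q 0 = 0 := by simp [q]
  have hmem : ∀ y, y ∈ S ↔ q y ≤ 8 := by
    intro y
    simp only [S, Finset.mem_union, Finset.mem_singleton, Set.Finite.mem_toFinset, Set.mem_setOf_eq]
    constructor
    · rintro (((rfl | h') | h') | h')
      · rw [hq0]; norm_num
      all_goals (show y ⬝ᵥ (B *ᵥ y) ≤ 8; omega)
    · intro h'
      have h'' : y ⬝ᵥ (B *ᵥ y) ≤ 8 := h'
      by_cases hy : y = 0
      · exact Or.inl (Or.inl (Or.inl hy))
      · have := h.low hy
        have := h.even y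
        rcases (show y ⬝ᵥ (B *ᵥ y) = 4 ∨ y ⬝ᵥ (B *ᵥ y) = 6 ∨ y ⬝ᵥ (B *ᵥ y) = 8 by omega) with g | g | g
        · exact Or.inl (Or.inl (Or.inr g))
        · exact Or.inl (Or.inr g)
        · exact Or.inr g
  have htot : ∑ y ∈ S, wt y = 48 * 2 ^ 24 := by
    have d : ∀ (M N : ℤ) (hM : {y | q y = M}.Finite) (hN : {y | q y = N}.Finite), M ≠ N →
        Disjoint hM.toFinset hN.toFinset := by
      intro M N hM hN hMN
      rw [Finset.disjoint_left]
      intro y h1 h2
      rw [Set.Finite.mem_toFinset] at h1 h2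
      exact hMN (h1.symm.trans h2)
    have d0 : ∀ (M : ℤ) (hM : {y | q y = M}.Finite), M ≠ 0 → Disjoint ({0} : Finset _) hM.toFinset := by
      intro M hM hM0
      rw [Finset.disjoint_singleton_left, Set.Finite.mem_toFinset]
      exact fun h1 => hM0 (h1.symm.trans hq0)
    have hs : ∀ (M : ℤ) (hM : {y | q y = M}.Finite) (c : ℕ), {y | q y = M}.ncard = c →
        ∑ y ∈ hM.toFinset, wt y = c * (if M = 0 then 48 else if M = 8 then 1 else 24) := by
      intro M hM c hc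
      rw [Finset.sum_congr rfl fun y hy => show wt y = (if M = 0 then 48 else if M = 8 then 1 else 24) by
        simp only [wt]; rw [show q y = M from hM.mem_toFinset.1 hy],
        Finset.sum_const, ← Set.ncard_eq_toFinset_card _ hM, hc, smul_eq_mul]
    simp only [S]
    rw [Finset.sum_union (by
        simp only [Finset.disjoint_union_left]
        exact ⟨⟨d0 8 f8 (by norm_num), d 4 8 f4 f8 (by norm_num)⟩, d 6 8 f6 f8 (by norm_num)⟩),
      Finset.sum_union (by
        simp only [Finset.disjoint_union_left]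
        exact ⟨d0 6 f6 (by norm_num), d 4 6 f4 f6 (by norm_num)⟩),
      Finset.sum_union (d0 4 f4 (by norm_num)), Finset.sum_singleton, hs 4 f4 _ h.four, hs 6 f6 _ h.six,
      hs 8 f8 _ h.eight]
    simp [wt, hq0]
  have hle : ∀ c : Fin 24 → ZMod 2, ∑ y ∈ S.filter (fun y => cls y = c), wt y ≤ 48 := by
    intro c
    rcases (S.filter fun y => cls y = c).eq_empty_or_nonempty with he | ⟨a, ha⟩
    · simp [he]
    have key : ∀ u ∈ S.filter (fun y => cls y = c), ∀ v ∈ S.filter (fun y => cls y = c),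
        v = u ∨ v = -u ∨ (q u = 8 ∧ q v = 8 ∧ u ⬝ᵥ (B *ᵥ v) = 0) := by
      intro u hu v hv
      rw [Finset.mem_filter] at hu hv
      exact h.congr ((hmem u).1 hu.1) ((hmem v).1 hv.1) (hu.2.trans hv.2.symm)
    by_cases h8 : q a = 8
    · have hall : ∀ y ∈ S.filter (fun y => cls y = c), q y = 8 := fun y hy => by
        rcases key a ha y hy with rfl | rfl | g
        · exact h8
        · exact (neg_norm a).trans h8
        · exact g.2.1
      rw [Finset.sum_congr rfl fun y hy => show wt y = 1 by simp [wt, hall y hy], Finset.sum_const,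
        smul_eq_mul, mul_one]
      refine pairs_card (B := B) _ (fun v hv => by show q v ≠ 0; rw [hall v hv]; norm_num) fun v hv w hw => ?_
      rcases key v hv w hw with g | g | g
      · exact Or.inl g
      · exact Or.inr (Or.inl g)
      · exact Or.inr (Or.inr g.2.2)
    · have hsub : S.filter (fun y => cls y = c) ⊆ {a, -a} := fun y hy => by
        rcases key a ha y hy with g | g | g
        · simp [g]
        · simp [g]
        · exact absurd g.1 h8
      refine le_trans (Finset.sum_le_sum_of_subset hsub) ?_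
      by_cases h0 : a = 0
      · subst h0; simp [wt, hq0]
      · have hne : a ∉ ({-a} : Finset (Fin 24 → ℤ)) := by
          rw [Finset.mem_singleton]
          intro e
          exact h0 (funext fun i => by
            have := congrFun e i
            simp only [Pi.neg_apply] at this
            show a i = 0
            omega)
        have hqn : q (-a) = q a := neg_norm a
        have hlow : 4 ≤ q a := h.low h0
        rw [Finset.sum_insert hne, Finset.sum_singleton]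
        simp only [wt, hqn, if_neg h8, if_neg (show ¬q a = 0 by omega)]
        norm_num
  have heq : ∑ c : Fin 24 → ZMod 2, ∑ y ∈ S.filter (fun y => cls y = c), wt y =
      ∑ _c : Fin 24 → ZMod 2, 48 := by
    rw [Finset.sum_fiberwise, htot, Finset.sum_const, Finset.card_univ, Fintype.card_fun, Fintype.card_fin,
      ZMod.card, smul_eq_mul, mul_comm]
  have hx' := (Finset.sum_eq_sum_iff_of_le fun c _ => hle c).1 heq (cls x) (Finset.mem_univ _)
  have hall : ∀ y ∈ S.filter (fun y => cls y = cls x), q y = 8 := fun y hy => by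
    rw [Finset.mem_filter] at hy
    rcases h.congr (x := x) (le_of_eq hx) ((hmem y).1 hy.1) hy.2.symm with rfl | rfl | g
    · exact hx
    · exact (neg_norm x).trans hx
    · exact g.2.1
  rw [Finset.sum_congr rfl fun y hy => show wt y = 1 by simp [wt, hall y hy], Finset.sum_const,
    smul_eq_mul, mul_one] at hx'
  suffices hset : {y : Fin 24 → ℤ | y ⬝ᵥ (B *ᵥ y) = 8 ∧ ∀ i, (2 : ℤ) ∣ (x - y) i} =
      ↑(S.filter fun y => cls y = cls x) by
    rw [hset, Set.ncard_coe_finset, hx']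
  ext y
  simp only [Set.mem_setOf_eq, Finset.coe_filter]
  constructor
  · rintro ⟨h1, h2⟩
    exact ⟨(hmem y).2 (le_of_eq h1), (cls_eq.2 h2).symm⟩
  · rintro ⟨h1, h2⟩
    exact ⟨hall y (Finset.mem_filter.2 ⟨h1, h2⟩), cls_eq.1 h2.symm⟩

theorem isometry (h : Hyp B) :
    ∃ f : (Fin 24 → ℤ) ≃+ leechLattice, ∀ x : Fin 24 → ℤ,
      sqNorm ((f x : leechLattice) : GolayPt → ℤ) = 8 * (x ⬝ᵥ (B *ᵥ x)) := by
  classical
  obtain ⟨x₀, hx₀⟩ := Set.nonempty_of_ncard_ne_zero (h.eight.trans_ne (by norm_num))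
  have hfin : {y : Fin 24 → ℤ | y ⬝ᵥ (B *ᵥ y) = 8 ∧ ∀ i, (2 : ℤ) ∣ (x₀ - y) i}.Finite :=
    Set.finite_of_ncard_ne_zero ((h.class_card hx₀).trans_ne (by norm_num))
  obtain ⟨v, hvS, hvo⟩ := exists_frame (fun y y' : Fin 24 → ℤ => y ⬝ᵥ (B *ᵥ y') = 0) hfin.toFinset
    (by rw [← Set.ncard_eq_toFinset_card _ hfin, h.class_card hx₀]) (fun y hy y' hy' => by
      rw [Set.Finite.mem_toFinset] at hy hy'
      rcases h.congr (le_of_eq hy.1) (le_of_eq hy'.1)
          ((cls_eq.2 hy.2).symm.trans (cls_eq.2 hy'.2)) with g | g | g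
      · exact Or.inl g
      · exact Or.inr (Or.inl g)
      · exact Or.inr (Or.inr g.2.2))
  have hv : ∀ i, v i ⬝ᵥ (B *ᵥ v i) = 8 ∧ cls x₀ = cls (v i) := fun i =>
    ⟨(hfin.mem_toFinset.1 (hvS i)).1, cls_eq.2 (hfin.mem_toFinset.1 (hvS i)).2⟩
  let e : Fin 24 ≃ GolayPt := Fintype.equivOfCardEq (by rfl)
  let P : Matrix (Fin 24) (Fin 24) ℤ := Matrix.of fun k j => v (e j) k
  have hcol : ∀ (x : Fin 24 → ℤ) (j : Fin 24), (Pᵀ *ᵥ x) j = v (e j) ⬝ᵥ x := fun x j => rfl
  have hP : Pᵀ * B * P = (8 : ℤ) • 1 := by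
    ext i j
    rw [Matrix.mul_assoc, Matrix.mul_apply, Matrix.smul_apply, Matrix.one_apply]
    show v (e i) ⬝ᵥ (B *ᵥ v (e j)) = _
    by_cases hij : i = j
    · subst hij; rw [(hv _).1]; simp
    · rw [hvo _ _ fun g => hij (e.injective g), if_neg hij, smul_zero]
  have hPP := parseval B P 8 (by norm_num) hP
  let φ : (Fin 24 → ℤ) →+ (GolayPt → ℤ) :=
    { toFun := fun x i => v i ⬝ᵥ (B *ᵥ x)
      map_zero' := by funext i; simp
      map_add' := fun x y => by funext i; simp [Matrix.mulVec_add] }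
  have hφn : ∀ x, sqNorm (φ x) = 8 * (x ⬝ᵥ (B *ᵥ x)) := by
    intro x
    rw [sqNorm, ← Equiv.sum_comp e]
    have h1 : ∀ j, φ x (e j) = (Pᵀ *ᵥ (B *ᵥ x)) j := fun j => (hcol _ j).symm
    simp only [h1, sq]
    show (Pᵀ *ᵥ (B *ᵥ x)) ⬝ᵥ (Pᵀ *ᵥ (B *ᵥ x)) = _
    rw [Matrix.mulVec_transpose, ← Matrix.dotProduct_mulVec, ← Matrix.mulVec_transpose, Matrix.mulVec_mulVec,
      Matrix.mulVec_mulVec, hPP, Matrix.smul_mulVec, Matrix.one_mulVec, dotProduct_smul,
      dotProduct_comm, smul_eq_mul]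
  have hφinj : Function.Injective φ := by
    rw [injective_iff_map_eq_zero]
    intro x hx
    by_contra hne
    have h1 := hφn x
    rw [hx, show sqNorm (0 : GolayPt → ℤ) = 0 from by simp [sqNorm]] at h1
    have := h.low hne
    omega
  have hφv : ∀ i, φ (v i) = Pi.single i 8 := by
    intro i
    funext j
    show v j ⬝ᵥ (B *ᵥ v i) = _
    by_cases hij : j = i
    · subst hij; rw [(hv _).1, Pi.single_eq_same]
    · rw [hvo j i hij, Pi.single_eq_of_ne hij]
  have hfr : FrameLattice φ.range := by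
    refine ⟨?_, ?_, ?_, ?_⟩
    · rintro _ ⟨x, rfl⟩
      rw [hφn]
      have := h.even x
      omega
    · rintro _ ⟨x, rfl⟩ hne
      rw [hφn]
      have := h.low fun h0 : x = 0 => hne (by rw [h0, map_zero])
      omega
    · intro i j hij c hc
      have hd := cls_eq.1 ((hv i).2.symm.trans (hv j).2)
      obtain ⟨z, hz⟩ : ∃ z : Fin 24 → ℤ, v i - v j = z + z :=
        ⟨fun k => (v i - v j) k / 2, funext fun k => by
          have := hd k
          simp only [Pi.add_apply]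
          omega⟩
      have h2 : φ z + φ z = Pi.single i 8 - Pi.single j 8 := by
        rw [← hφv, ← hφv, ← map_sub, ← map_add, hz]
      rcases hc with rfl | rfl
      · refine ⟨z + v j, ?_⟩
        rw [map_add, hφv]
        funext k
        have h3 := congrFun h2 k
        simp only [Pi.add_apply, Pi.sub_apply, Pi.single_apply] at h3 ⊢
        split at h3 <;> split at h3 <;> simp_all <;> omega
      · refine ⟨z, ?_⟩
        funext k
        have h3 := congrFun h2 k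
        simp only [Pi.add_apply, Pi.sub_apply, Pi.single_apply] at h3 ⊢
        split at h3 <;> split at h3 <;> simp_all <;> omega
    · have e4 : {x : GolayPt → ℤ | x ∈ φ.range ∧ sqNorm x = 32} =
          φ '' {x | x ⬝ᵥ (B *ᵥ x) = 4} := by
        ext y
        constructor
        · rintro ⟨⟨x, rfl⟩, hn⟩
          refine ⟨x, ?_, rfl⟩
          have := hφn x
          show x ⬝ᵥ (B *ᵥ x) = 4
          omega
        · rintro ⟨x, hn, rfl⟩
          refine ⟨⟨x, rfl⟩, ?_⟩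
          rw [hφn, show x ⬝ᵥ (B *ᵥ x) = 4 from hn]
          norm_num
      rw [e4, Set.ncard_image_of_injective _ hφinj, h.four]
  obtain ⟨σ, c, hσ⟩ := hfr.standard
  let ψ : (Fin 24 → ℤ) →+ leechLattice :=
    ((FrameLattice.relabel σ c).comp φ).codRestrict leechLattice fun x =>
      (SetLike.ext_iff.1 hσ _).1 ⟨φ x, ⟨x, rfl⟩, rfl⟩
  have hψ : Function.Bijective ψ := by
    refine ⟨fun x y g => hφinj (FrameLattice.relabel_injective σ c (congrArg Subtype.val g)), fun y => ?_⟩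
    obtain ⟨_, ⟨x, rfl⟩, g⟩ := (SetLike.ext_iff.1 hσ y.1).2 y.2
    exact ⟨x, Subtype.ext g⟩
  refine ⟨AddEquiv.ofBijective ψ hψ, fun x => ?_⟩
  show sqNorm (FrameLattice.relabel σ c (φ x)) = _
  rw [FrameLattice.norm_relabel, hφn]

end Hyp

end CfsgLib.Spor.LeechChar
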