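import Cfsg.Agent.Spor.Bits

/-! Certificates for the uniqueness of the Steiner system S(5, 8, 24) (generated by a script). -/

set_option autoImplicit false

namespace CfsgLib.Spor.SteinerUnique

/-- the possible remaining planes, a renumbering, and the basis of the code in the renumbered masks -/
def cases : List (List ℕ × ℕ × List ℕ) := [
  (([17025, 10305, 18465, 33345] : List ℕ), 858577468397491954547232476472903712, ([7153, 4910, 2874, 918, 878, 51, 20, 730, 16, 56, 454, 12] : List ℕ)),
  (([17025, 10305, 18465, 9345] : List ℕ), 465615260896587533053942148674717728, ([6675, 4836, 2776, 636, 676, 19, 60, 824, 48, 24, 462, 4] : List ℕ)),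
  (([17025, 10305, 33345, 18465] : List ℕ), 684434600397665159942646107132233760, ([6691, 4856, 2796, 596, 696, 35, 20, 796, 16, 44, 454, 8] : List ℕ)),
  (([17025, 10305, 33345, 9345] : List ℕ), 675631689835896059240606874669778976, ([7121, 4918, 2846, 938, 886, 19, 40, 750, 32, 28, 458, 4] : List ℕ)),
  (([17025, 10305, 9345, 18465] : List ℕ), 485735168395175807841366824424933408, ([7137, 4890, 2854, 958, 858, 35, 60, 758, 48, 36, 462, 8] : List ℕ)),
  (([17025, 10305, 9345, 33345] : List ℕ), 848517478393165821598170515515738144, ([6707, 4828, 2804, 616, 668, 51, 40, 804, 32, 52, 458, 12] : List ℕ)),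
  (([10305, 17025, 18465, 33345] : List ℕ), 858577468397491954547232409900910624, ([6707, 4844, 2808, 596, 684, 51, 20, 792, 16, 56, 454, 12] : List ℕ)),
  (([10305, 17025, 18465, 9345] : List ℕ), 465615260896587533053942215246710816, ([7121, 4902, 2842, 958, 870, 19, 60, 762, 48, 24, 462, 4] : List ℕ)),
  (([10305, 17025, 33345, 18465] : List ℕ), 684434600397665159942646173704226848, ([7137, 4922, 2862, 918, 890, 35, 20, 734, 16, 44, 454, 8] : List ℕ)),
  (([10305, 17025, 33345, 9345] : List ℕ), 675631689835896059240606808097785888, ([6675, 4852, 2780, 616, 692, 19, 40, 812, 32, 28, 458, 4] : List ℕ)),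
  (([10305, 17025, 9345, 18465] : List ℕ), 485735168395175807841366757852940320, ([6691, 4824, 2788, 636, 664, 35, 60, 820, 48, 36, 462, 8] : List ℕ)),
  (([10305, 17025, 9345, 33345] : List ℕ), 848517478393165821598170582087731232, ([7153, 4894, 2870, 938, 862, 51, 40, 742, 32, 52, 458, 12] : List ℕ))]

end CfsgLib.Spor.SteinerUnique
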