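import Cfsg.Agent.Spor.SteinerCount
import Cfsg.Agent.Spor.SteinerUniqueData
import Cfsg.Agent.Spor.Octads
import Mathlib

/-!
Uniqueness of the Steiner system S(5, 8, 24).

A block `O` is fixed; the blocks disjoint from it give the other sixteen points the structure of the
vector space of dimension four over the field with two elements, in which seven chosen tetrads of `O`
correspond to planes in one of twelve ways, each equivalent to the Golay code.
-/

set_option autoImplicit false

namespace CfsgLib.Spor.SteinerUnique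

open Cfsg Finset CfsgLib.Spor.SteinerCount
open scoped symmDiff

variable {α : Type*} [Fintype α] [DecidableEq α] {B : Set (Finset α)}

/-- the number of blocks above `s` meeting `X` in `i` points -/
noncomputable def meetAbove (B : Set (Finset α)) (s X : Finset α) (i : ℕ) : ℕ :=
  (((blocks B).filter (s ⊆ ·)).filter fun b => (b ∩ X).card = i).card

theorem count_meetAbove {t k : ℕ} (hB : IsSteinerSystem t k B) (s X : Finset α) (hd : Disjoint s X)
    {j lam N : ℕ} (hjt : s.card + j ≤ t) (htk : t ≤ k)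
    (hlam : lam * (k - (s.card + j)).choose (t - (s.card + j)) =
      (Fintype.card α - (s.card + j)).choose (t - (s.card + j)))
    (hN : X.card < N) :
    ∑ i ∈ range N, meetAbove B s X i * i.choose j = X.card.choose j * lam := by
  have hsum : ∑ b ∈ (blocks B).filter (s ⊆ ·), (b ∩ X).card.choose j = X.card.choose j * lam := by
    have h3 := sum_card_bipartiteAbove_eq_sum_card_bipartiteBelow (s := (blocks B).filter (s ⊆ ·))
      (t := X.powersetCard j) (fun b T => T ⊆ b)
    simp only [bipartiteAbove, bipartiteBelow] at h3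
    have h4 : ∀ b ∈ (blocks B).filter (s ⊆ ·),
        ((X.powersetCard j).filter (· ⊆ b)).card = (b ∩ X).card.choose j := by
      intro b _
      rw [← card_powersetCard]
      congr 1
      ext T
      simp only [mem_filter, mem_powersetCard, subset_inter_iff]
      tauto
    rw [← sum_congr rfl h4, h3, ← card_powersetCard, ← smul_eq_mul, ← sum_const]
    refine sum_congr rfl fun T hT => ?_
    obtain ⟨hTX, hTc⟩ := mem_powersetCard.1 hT
    have hc : (s ∪ T).card = s.card + j := by
      rw [card_union_of_disjoint (disjoint_of_subset_right hTX hd), hTc]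
    have h5 := count_above hB (s := s ∪ T) (hc.symm ▸ hjt)
    rw [hc, ← hlam] at h5
    rw [filter_filter]
    rw [show (blocks B).filter (fun b => s ⊆ b ∧ T ⊆ b) = (blocks B).filter (s ∪ T ⊆ ·) from
      filter_congr fun b _ => union_subset_iff.symm]
    exact Nat.eq_of_mul_eq_mul_right (Nat.choose_pos (by omega)) h5
  rw [← hsum, ← sum_fiberwise_of_maps_to (t := range N) (g := fun b => (b ∩ X).card)
      (fun b _ => mem_range.2 (lt_of_le_of_lt (card_le_card inter_subset_right) hN))]
  refine sum_congr rfl fun i _ => ?_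
  rw [sum_congr rfl (fun b hb => by rw [(mem_filter.1 hb).2]), sum_const, smul_eq_mul, meetAbove]

/-- blocks through given points outside `O` which avoid `O` -/
theorem count_avoid (hB : IsSteinerSystem 5 8 B) (hα : Fintype.card α = 24) {O : Finset α} (hO : O ∈ B)
    {p q : α} (hp : p ∉ O) (hq : q ∉ O) (hpq : p ≠ q) :
    meetAbove B {p} O 0 = 15 ∧ meetAbove B {p, q} O 0 = 7 := by
  have hzero : ∀ s : Finset α, ∀ x ∈ s, x ∉ O → ∀ i, i ≠ 0 → i ≠ 2 → i ≠ 4 → meetAbove B s O i = 0 := by
    intro s x hx hxO i h0 h2 h4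
    refine card_eq_zero.2 (filter_eq_empty_iff.2 fun b hb e => ?_)
    obtain ⟨hbB, hsb⟩ := mem_filter.1 hb
    have hne : b ≠ O := fun h => hxO (h ▸ hsb hx)
    rcases inter_eight hB hα (mem_blocks.1 hbB) hO hne with h | h | h <;> omega
  have hO8 := hB.1 O hO
  have d1 : Disjoint ({p} : Finset α) O := by simpa using hp
  have d2 : Disjoint ({p, q} : Finset α) O := by simp [hp, hq]
  have c2 : ({p, q} : Finset α).card = 2 := card_pair hpq
  have e4 := count_meetAbove hB {p} O d1 (j := 4) (lam := 1) (N := 9) (by simp) (by norm_num) (by rw [hα, card_singleton]; decide) (by rw [hO8]; norm_num)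
  have e2 := count_meetAbove hB {p} O d1 (j := 2) (lam := 21) (N := 9) (by simp) (by norm_num) (by rw [hα, card_singleton]; decide) (by rw [hO8]; norm_num)
  have e0 := count_meetAbove hB {p} O d1 (j := 0) (lam := 253) (N := 9) (by simp) (by norm_num) (by rw [hα, card_singleton]; decide) (by rw [hO8]; norm_num)
  have f3 := count_meetAbove hB {p, q} O d2 (j := 3) (lam := 1) (N := 9) (by rw [c2]) (by norm_num) (by rw [hα, c2]; decide) (by rw [hO8]; norm_num)
  have f2 := count_meetAbove hB {p, q} O d2 (j := 2) (lam := 5) (N := 9) (by rw [c2]; norm_num) (by norm_num) (by rw [hα, c2]; decide) (by rw [hO8]; norm_num)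
  have f0 := count_meetAbove hB {p, q} O d2 (j := 0) (lam := 77) (N := 9) (by rw [c2]; norm_num) (by norm_num) (by rw [hα, c2]; decide) (by rw [hO8]; norm_num)
  have z1 := hzero {p} p (mem_singleton_self p) hp
  have z2 := hzero {p, q} p (mem_insert_self p _) hp
  simp only [sum_range_succ, sum_range_zero, Nat.choose, hO8, z1 1 (by decide) (by decide) (by decide),
    z1 3 (by decide) (by decide) (by decide), z1 5 (by decide) (by decide) (by decide),
    z1 6 (by decide) (by decide) (by decide), z1 7 (by decide) (by decide) (by decide),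
    z1 8 (by decide) (by decide) (by decide), z2 1 (by decide) (by decide) (by decide),
    z2 3 (by decide) (by decide) (by decide), z2 5 (by decide) (by decide) (by decide),
    z2 6 (by decide) (by decide) (by decide), z2 7 (by decide) (by decide) (by decide),
    z2 8 (by decide) (by decide) (by decide)] at e4 e2 e0 f3 f2 f0
  omega

theorem ncard_eq_759 (hB : IsSteinerSystem 5 8 B) (hα : Fintype.card α = 24) : B.ncard = 759 := by
  have h := count_above hB (s := (∅ : Finset α)) (by simp)
  rw [hα, card_empty] at h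
  simp only [Nat.sub_zero, empty_subset, filter_true] at h
  rw [ncard_blocks]
  rw [show (8 : ℕ).choose 5 = 56 by decide, show (24 : ℕ).choose 5 = 42504 by decide] at h
  omega

/-- parity of an intersection -/
def par (b S : Finset α) : ZMod 2 := ((b ∩ S).card : ZMod 2)

theorem par_symmDiff (b S T : Finset α) : par b (S ∆ T) = par b S + par b T := by
  have h1 : b ∩ (S ∆ T) = (b ∩ S) ∆ (b ∩ T) := by
    ext x; simp only [mem_inter, mem_symmDiff]; tauto
  have h2 := CfsgLib.Spor.card_symmDiff_add (b ∩ S) (b ∩ T)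
  unfold par
  rw [h1, ← Nat.cast_add, ← h2]
  push_cast
  rw [show (2 : ZMod 2) = 0 by decide, zero_mul, add_zero]

theorem par_of_mem (hB : IsSteinerSystem 5 8 B) (hα : Fintype.card α = 24) {b c : Finset α} (hb : b ∈ B)
    (hc : c ∈ B) : par b c = 0 := by
  unfold par
  by_cases hne : b = c
  · rw [hne, inter_self, hB.1 c hc]; decide
  · rcases inter_eight hB hα hb hc hne with h | h | h <;> rw [h] <;> decide

theorem par_empty (b : Finset α) : par b ∅ = 0 := by simp [par]

/-- coordinates of dimension four over two elements -/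
abbrev V4 : Type := Fin 4 → ZMod 2

/-- the vector with given binary digits -/
def toV (v : Fin 16) : V4 := fun i => if v.val.testBit i.val then 1 else 0

theorem toV_bijective : Function.Bijective toV := by decide +kernel

/-- four blocks avoiding `O` give coordinates on the other sixteen points -/
theorem exists_vec (hB : IsSteinerSystem 5 8 B) (hα : Fintype.card α = 24) {O : Finset α} (hO : O ∈ B) :
    ∃ vec : α → V4, Set.InjOn vec {p | p ∉ O} ∧ ∀ b ∈ B, ∑ p ∈ b \ O, vec p = 0 := by
  classical
  set R : Finset α := Oᶜ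
  have hO8 := hB.1 O hO
  have hR : R.card = 16 := by rw [card_compl, hα, hO8]
  set H := (blocks B).filter fun b => (b ∩ O).card = 0
  have hH30 : H.card = 30 := (meet_eight hB hα hO).1
  have hH : ∀ b, b ∈ H ↔ b ∈ B ∧ b ⊆ R := by
    intro b
    simp only [H, mem_filter, mem_blocks, card_eq_zero, R, ← disjoint_iff_inter_eq_empty,
      subset_compl_iff_disjoint_right]
  set V : Finset (Finset α) := insert ∅ (insert R H)
  have hVc : V.card = 32 := by
    rw [card_insert_of_notMem, card_insert_of_notMem, hH30]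
    · intro h; have := hB.1 R ((hH R).1 h).1; omega
    · rw [mem_insert]
      rintro (h | h)
      · rw [← h, card_empty] at hR; omega
      · have := hB.1 ∅ ((hH ∅).1 h).1; simp at this
  have hV0 : ∀ x, x ∈ V ↔ x = ∅ ∨ x = R ∨ x ∈ H := by intro x; simp [V]
  have hVR : ∀ x ∈ V, x ⊆ R := by
    intro x hx
    rcases (hV0 x).1 hx with rfl | rfl | hx
    exacts [empty_subset _, subset_refl _, ((hH x).1 hx).2]
  have hparR : ∀ b ∈ B, par b R = 0 := by
    intro b hb
    have h1 := par_of_mem hB hα hb hO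
    unfold par at h1 ⊢
    have h2 : (b ∩ R).card + (b ∩ O).card = 8 := by
      rw [← card_union_of_disjoint, ← inter_union_distrib_left, show R ∪ O = univ by ext x; simp [R, em'], inter_univ, hB.1 b hb]
      exact disjoint_of_subset_left inter_subset_right (disjoint_of_subset_right inter_subset_right disjoint_compl_left)
    have h3 := congrArg (fun n : ℕ => (n : ZMod 2)) h2
    simp only [Nat.cast_add, h1, add_zero] at h3
    rw [h3]; decide
  have hVpar : ∀ x ∈ V, ∀ b ∈ B, par b x = 0 := by
    intro x hx b hb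
    rcases (hV0 x).1 hx with rfl | rfl | hx
    exacts [par_empty b, hparR b hb, par_of_mem hB hα hb ((hH x).1 hx).1]
  have hVadd : ∀ x ∈ V, ∀ y ∈ V, x ∆ y ∈ V := by
    intro x hx y hy
    have hev : ∀ b ∈ B, par b (x ∆ y) = 0 := fun b hb => by
      rw [par_symmDiff, hVpar x hx b hb, hVpar y hy b hb, add_zero]
    have hsub : x ∆ y ⊆ R := fun p hp => by
      rcases mem_symmDiff.1 hp with ⟨h, -⟩ | ⟨h, -⟩
      exacts [hVR x hx h, hVR y hy h]
    have hcomp : ∀ z ∈ H, R \ z ∈ H := by
      intro z hz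
      obtain ⟨hzB, hzR⟩ := (hH z).1 hz
      refine (hH _).2 ⟨mem_of_even hB hα (by rw [card_sdiff_of_subset hzR, hR, hB.1 z hzB]) fun b hb => ?_,
        sdiff_subset⟩
      rw [← ZMod.natCast_eq_zero_iff_even]
      show par b (R \ z) = 0
      rw [show R \ z = R ∆ z by ext p; simp only [mem_sdiff, mem_symmDiff]; exact ⟨fun h => Or.inl h, fun h => h.resolve_right fun k => k.2 (hzR k.1)⟩,
        par_symmDiff, hparR b hb, par_of_mem hB hα hb hzB, add_zero]
    have hRz : ∀ z ∈ H, R ∆ z ∈ V := fun z hz => by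
      rw [show R ∆ z = R \ z by ext p; simp only [mem_sdiff, mem_symmDiff]; exact ⟨fun h => h.resolve_right fun k => k.2 (((hH z).1 hz).2 k.1), fun h => Or.inl h⟩]
      exact (hV0 _).2 (Or.inr (Or.inr (hcomp z hz)))
    rcases (hV0 x).1 hx with rfl | rfl | hxH
    · rwa [← bot_eq_empty, bot_symmDiff]
    · rcases (hV0 y).1 hy with rfl | rfl | hyH
      · rwa [← bot_eq_empty, symmDiff_bot]
      · rw [symmDiff_self, bot_eq_empty]; exact (hV0 _).2 (Or.inl rfl)
      · exact hRz y hyH
    rcases (hV0 y).1 hy with rfl | rfl | hyH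
    · rwa [← bot_eq_empty, symmDiff_bot]
    · rw [symmDiff_comm]; exact hRz x hxH
    obtain ⟨hxB, hxR⟩ := (hH x).1 hxH
    obtain ⟨hyB, hyR⟩ := (hH y).1 hyH
    by_cases e : x = y
    · subst e; rw [symmDiff_self, bot_eq_empty]; exact (hV0 _).2 (Or.inl rfl)
    rcases inter_eight hB hα hxB hyB e with h | h | h
    · have : x ∆ y = R := by
        refine eq_of_subset_of_card_le hsub ?_
        have := CfsgLib.Spor.card_symmDiff_add x y
        rw [h, hB.1 x hxB, hB.1 y hyB] at this
        omega
      rw [this]; exact (hV0 _).2 (Or.inr (Or.inl rfl))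
    · exfalso
      obtain ⟨hzB, -⟩ := (hH _).1 (hcomp x hxH)
      have h6 : (y ∩ (R \ x)).card = 6 := by
        have h1 : y ∩ (R \ x) = y \ (x ∩ y) := by
          ext p; simp only [mem_inter, mem_sdiff]; exact ⟨fun h => ⟨h.1, fun k => h.2.2 k.1⟩, fun h => ⟨h.1, hyR h.1, fun k => h.2 ⟨k, h.1⟩⟩⟩
        rw [h1, card_sdiff_of_subset inter_subset_right, hB.1 y hyB, h]
      have := eq_of_five hB hyB hzB (by omega)
      rw [this, inter_self, card_sdiff_of_subset hxR, hR, hB.1 x hxB] at h6
      omega
    · exact (hV0 _).2 (Or.inr (Or.inr ((hH _).2 ⟨symmDiff_mem hB hα hxB hyB h, hsub⟩)))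
  -- a basis of this space
  have hgrow : ∀ k ≤ 4, ∃ h : Fin k → Finset α, ∃ S : Finset (Finset α), (∀ i, h i ∈ V) ∧ S ⊆ V ∧
      S.card = 2 ^ (k + 1) ∧ (∀ x ∈ S, ∀ y ∈ S, x ∆ y ∈ S) ∧
      ∀ p ∈ R, ∀ q ∈ R, (∀ i, p ∈ h i ↔ q ∈ h i) → ∀ x ∈ S, (p ∈ x ↔ q ∈ x) := by
    intro k
    induction k with
    | zero =>
      intro _
      have hne : (∅ : Finset α) ≠ R := fun h => by rw [← h, card_empty] at hR; omega
      refine ⟨Fin.elim0, {∅, R}, fun i => i.elim0, fun x hx => ?_, card_pair hne, ?_, ?_⟩
      · rcases mem_insert.1 hx with rfl | hx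
        · exact (hV0 _).2 (Or.inl rfl)
        · exact (hV0 _).2 (Or.inr (Or.inl (mem_singleton.1 hx)))
      · intro x hx y hy
        simp only [mem_insert, mem_singleton] at hx hy ⊢
        rcases hx with rfl | rfl <;> rcases hy with rfl | rfl <;>
          simp [← bot_eq_empty]
      · intro p hp q hq _ x hx
        simp only [mem_insert, mem_singleton] at hx
        rcases hx with rfl | rfl <;> simp [hp, hq]
    | succ k ih =>
      intro hk
      obtain ⟨h, S, hh, hS, hSc, hSa, hsep⟩ := ih (by omega)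
      obtain ⟨z, hzV, hzS⟩ : ∃ z ∈ V, z ∉ S := by
        by_contra hcon
        push Not at hcon
        have := card_le_card hcon
        have : 2 ^ (k + 1) ≤ 2 ^ 4 := Nat.pow_le_pow_right (by norm_num) (by omega)
        omega
      refine ⟨Fin.cons z h, S ∪ S.image (z ∆ ·), ?_, ?_, ?_, ?_, ?_⟩
      · intro i; refine Fin.cases ?_ ?_ i <;> simp [hzV, hh]
      · refine union_subset hS fun x hx => ?_
        obtain ⟨s, hs, rfl⟩ := mem_image.1 hx
        exact hVadd z hzV s (hS hs)
      · rw [card_union_of_disjoint, card_image_of_injective _ (symmDiff_right_injective z), hSc, pow_succ _ (k + 1)]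
        · omega
        · rw [disjoint_left]
          intro x hx hx'
          obtain ⟨s, hs, rfl⟩ := mem_image.1 hx'
          apply hzS
          have := hSa _ hx s hs
          rwa [symmDiff_symmDiff_cancel_right] at this
      · intro x hx y hy
        simp only [mem_union, mem_image] at hx hy ⊢
        rcases hx with hx | ⟨s, hs, rfl⟩ <;> rcases hy with hy | ⟨r, hr, rfl⟩
        · exact Or.inl (hSa x hx y hy)
        · exact Or.inr ⟨x ∆ r, hSa x hx r hr, by rw [symmDiff_left_comm]⟩
        · exact Or.inr ⟨s ∆ y, hSa s hs y hy, by rw [symmDiff_assoc]⟩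
        · refine Or.inl ?_
          rw [symmDiff_symmDiff_symmDiff_comm, symmDiff_self, bot_symmDiff]
          exact hSa s hs r hr
      · intro p hp q hq hpq x hx
        have hold := hsep p hp q hq fun i => by simpa using hpq i.succ
        rcases mem_union.1 hx with hx | hx
        · exact hold x hx
        · obtain ⟨s, hs, rfl⟩ := mem_image.1 hx
          have h0 : p ∈ z ↔ q ∈ z := by simpa using hpq 0
          simp only [mem_symmDiff, h0, hold s hs]
  obtain ⟨h, S, hh, hS, hSc, -, hsep⟩ := hgrow 4 le_rfl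
  have hSV : S = V := eq_of_subset_of_card_le hS (by rw [hSc, hVc]; norm_num)
  refine ⟨fun p i => if p ∈ h i then 1 else 0, ?_, ?_⟩
  · intro p hp q hq he
    by_contra hpq
    have hiff : ∀ i, p ∈ h i ↔ q ∈ h i := by
      intro i
      have := congrFun he i
      simp only at this
      split_ifs at this with a b b <;> simp_all
    have key := hsep p (mem_compl.2 hp) q (mem_compl.2 hq) hiff
    rw [hSV] at key
    obtain ⟨e1, e2⟩ := count_avoid hB hα hO hp hq hpq
    have hsub : ((blocks B).filter ({p} ⊆ ·)).filter (fun b => (b ∩ O).card = 0) ⊆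
        ((blocks B).filter ({p, q} ⊆ ·)).filter (fun b => (b ∩ O).card = 0) := by
      intro b hb
      obtain ⟨hb1, hb0⟩ := mem_filter.1 hb
      obtain ⟨hbB, hpb⟩ := mem_filter.1 hb1
      refine mem_filter.2 ⟨mem_filter.2 ⟨hbB, ?_⟩, hb0⟩
      have hpb' : p ∈ b := hpb (mem_singleton_self p)
      intro x hx
      rcases mem_insert.1 hx with rfl | hx
      · exact hpb'
      · rw [mem_singleton.1 hx]
        exact (key b ((hV0 b).2 (Or.inr (Or.inr (mem_filter.2 ⟨hbB, hb0⟩))))).1 hpb'
    have := card_le_card hsub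
    rw [meetAbove] at e1 e2
    omega
  · intro b hb
    funext i
    rw [Finset.sum_apply]
    simp only [sum_boole, Pi.zero_apply]
    have : ((b \ O).filter fun p => p ∈ h i) = b ∩ h i := by
      ext p
      simp only [mem_filter, mem_sdiff, mem_inter]
      exact ⟨fun k => ⟨k.1.1, k.2⟩, fun k => ⟨⟨k.1, mem_compl.1 (hVR _ (hh i) k.2)⟩, k.2⟩⟩
    rw [this]
    exact hVpar _ (hh i) b hb

theorem zmod_two_add : ∀ x y z : ZMod 2, x + (y + z) = 0 → z = x + y := by decide

/-- the plane of coordinates attached to a tetrad -/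
theorem exists_plane (hB : IsSteinerSystem 5 8 B) (hα : Fintype.card α = 24) {O : Finset α} (hO : O ∈ B)
    {vec : α → V4} (hinj : Set.InjOn vec {p | p ∉ O}) (hsum : ∀ b ∈ B, ∑ p ∈ b \ O, vec p = 0)
    {p0 : α} (hp0 : p0 ∉ O) (h0 : vec p0 = 0) {T : Finset α} (hT : T ⊆ O) (hT4 : T.card = 4) :
    ∃ b ∈ B, b ∩ O = T ∧ p0 ∈ b ∧
      ∃ a c : V4, a ≠ 0 ∧ c ≠ 0 ∧ a ≠ c ∧ (b \ O).image vec = {0, a, c, a + c} := by
  classical
  obtain ⟨b, ⟨hb, hTb⟩, -⟩ := hB.2 (insert p0 T) (by rw [card_insert_of_notMem (fun h => hp0 (hT h)), hT4])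
  have hTb' : T ⊆ b := (subset_insert _ _).trans hTb
  have hp0b : p0 ∈ b := hTb (mem_insert_self _ _)
  have hne : b ≠ O := fun h => hp0 (h ▸ hp0b)
  have hc4 : (b ∩ O).card = 4 := by
    have h1 : 4 ≤ (b ∩ O).card := hT4 ▸ card_le_card (subset_inter hTb' hT)
    rcases inter_eight hB hα hb hO hne with h | h | h <;> omega
  have hbO : b ∩ O = T := (eq_of_subset_of_card_le (subset_inter hTb' hT) (by omega)).symm
  refine ⟨b, hb, hbO, hp0b, ?_⟩
  have hR4 : (b \ O).card = 4 := by
    have := card_sdiff_add_card_inter b O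
    rw [hB.1 b hb] at this; omega
  have hinj' : Set.InjOn vec ↑(b \ O) := hinj.mono fun p hp => (mem_sdiff.1 hp).2
  have hU : ((b \ O).image vec).card = 4 := by rw [card_image_of_injOn hinj', hR4]
  have h0U : (0 : V4) ∈ (b \ O).image vec := mem_image.2 ⟨p0, mem_sdiff.2 ⟨hp0b, hp0⟩, h0⟩
  have hsumU : ∑ x ∈ (b \ O).image vec, x = 0 := by rw [sum_image hinj']; exact hsum b hb
  have h3 : (((b \ O).image vec).erase 0).card = 3 := by rw [card_erase_of_mem h0U, hU]
  obtain ⟨a, c, d, hac, had, hcd, he⟩ := card_eq_three.1 h3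
  have hnz : ∀ x ∈ ((b \ O).image vec).erase 0, x ≠ 0 := fun x hx => (mem_erase.1 hx).1
  rw [← add_sum_erase _ _ h0U, he, zero_add, sum_insert (by simp [hac, had]), sum_insert (by simp [hcd]),
    sum_singleton] at hsumU
  have hd : d = a + c := by
    funext i
    have := congrFun hsumU i
    simp only [Pi.add_apply, Pi.zero_apply] at this ⊢
    exact zmod_two_add _ _ _ this
  refine ⟨a, c, hnz a (by simp [he]), hnz c (by simp [he]), hac, ?_⟩
  rw [← insert_erase h0U, he, hd]

/-- the mask of a plane -/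
def planeMask (a c : Fin 16) : ℕ := 1 ||| (1 <<< a.val) ||| (1 <<< c.val) ||| (1 <<< (a.val ^^^ c.val))

/-- the three fixed planes -/
def stdPlanes : List ℕ := [15, 4369, 33825]

/-- the number of common vectors of two plane masks -/
def meetMask (u w : ℕ) : ℕ := (List.range 16).countP fun i => (u &&& w).testBit i

/-- planes complementary to the first two fixed ones -/
def graphMasks : List ℕ :=
  (List.finRange 16).flatMap fun a => ((List.finRange 16).filter fun c =>
    decide (a.val < c.val) && decide (a.val ≠ 0) && decide (c.val < (a.val ^^^ c.val)) &&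
      (meetMask (planeMask a c) 15 == 1) && (meetMask (planeMask a c) 4369 == 1)).map (planeMask a)

theorem graphMasks_all : ∀ a c : Fin 16, a.val ≠ 0 → c.val ≠ 0 → a ≠ c →
    meetMask (planeMask a c) 15 = 1 → meetMask (planeMask a c) 4369 = 1 → planeMask a c ∈ graphMasks := by
  decide +kernel

/-- the seven tetrads -/
def tets : List ℕ := [15, 23, 39, 71, 135, 27, 29]

/-- planes fitting the intersection pattern of the tetrads -/
def compatible (l : List ℕ) : Bool :=
  (List.range 7).all fun i => (List.range 7).all fun j => decide (i ≥ j) ||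
    (meetMask (l.getD i 0) (l.getD j 0) ==
      (if ((List.range 8).countP fun x => ((tets.getD i 0) &&& (tets.getD j 0)).testBit x) == 3 then 1 else 2))

theorem cases_complete : (graphMasks.all fun u4 => graphMasks.all fun u5 => graphMasks.all fun u6 =>
    graphMasks.all fun u7 => !(compatible [15, 4369, 33825, u4, u5, u6, u7]) ||
      cases.any (fun c => c.1 == [u4, u5, u6, u7])) = true := by decide +kernel

/-- the generating masks for given planes -/
def genMasks (us : List ℕ) : List ℕ :=
  [255, FULL, 43690 <<< 8, 52428 <<< 8, 61680 <<< 8, 65280 <<< 8] ++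
    List.zipWith (fun t u => t ||| (u <<< 8)) tets ([15, 4369, 33825] ++ us)

/-- the combination of masks selected by the bits of `s` -/
def combine : List ℕ → ℕ → ℕ
  | [], _ => 0
  | m :: l, s => (if s.testBit 0 then m else 0) ^^^ combine l (s / 2)

theorem cases_check : (cases.all fun c => okP c.2.1 &&
    ((List.range 12).all fun i =>
      combine ((genMasks c.1).map (imgP c.2.1)) (c.2.2.getD i 0) == basisRows.getD i 0)) = true := by
  decide +kernel

theorem par_zero_combine {β : Finset GolayPt} (l : List ℕ) (s : ℕ) (h : ∀ m ∈ l, par β (ofMask m) = 0) :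
    par β (ofMask (combine l s)) = 0 := by
  induction l generalizing s with
  | nil => rw [combine, ofMask_zero]; exact par_empty β
  | cons m l ih =>
    rw [combine, ofMask_xor, par_symmDiff, ih _ fun x hx => h x (List.mem_cons_of_mem _ hx), add_zero]
    split_ifs
    · exact h m List.mem_cons_self
    · rw [ofMask_zero]; exact par_empty β

theorem par_zero_comboAux {β : Finset GolayPt} : ∀ (l : List ℕ) (j m : ℕ),
    (∀ x ∈ l, par β (ofMask x) = 0) → par β (ofMask (comboAux l j m)) = 0 := by
  intro l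
  induction l with
  | nil => intro j m _; simp [comboAux, ofMask_zero, par_empty]
  | cons a l ih =>
    intro j m h
    rw [comboAux, ofMask_xor, par_symmDiff, ih _ _ fun x hx => h x (List.mem_cons_of_mem _ hx), add_zero]
    split_ifs
    · exact h a List.mem_cons_self
    · rw [ofMask_zero]; exact par_empty β

/-- sets meeting all generators evenly transport onto octads -/
theorem iso_of_masks (hB : IsSteinerSystem 5 8 B) (hα : Fintype.card α = 24) (τ : α ≃ GolayPt) (l : List ℕ)
    (hrows : ∀ r ∈ basisRows, ∃ s, combine l s = r)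
    (heven : ∀ b ∈ B, ∀ m ∈ l, par (b.image τ) (ofMask m) = 0) : SetSystemIso B octads := by
  refine ⟨τ, ?_⟩
  have hsub : (fun b => b.image τ) '' B ⊆ octads := by
    rintro _ ⟨b, hb, rfl⟩
    refine mem_of_even steiner_octads (by simp) (by rw [card_image_of_injective _ τ.injective, hB.1 b hb])
      fun o ho => ?_
    rw [← ZMod.natCast_eq_zero_iff_even, inter_comm]
    show par (b.image τ) o = 0
    have h := mem_Code_iff.1 (mem_octads.1 ho).1
    rw [inCode_iff] at h
    rw [← ofMask_maskOf o, ← h, combo]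
    refine par_zero_comboAux _ _ _ fun r hr => ?_
    obtain ⟨s, rfl⟩ := hrows r hr
    exact par_zero_combine l s (heven b hb)
  refine Set.eq_of_subset_of_ncard_le hsub ?_ octads_finite
  rw [Set.ncard_image_of_injective _ (image_injective τ.injective), ncard_eq_759 hB hα, ncard_octads]

/-- sets of codes below sixteen as masks -/
def maskFin (s : Finset (Fin 16)) : ℕ :=
  (List.finRange 16).foldr (fun i acc => (if i ∈ s then 2 ^ i.val else 0) ||| acc) 0

theorem maskFin_testBit (s : Finset (Fin 16)) (i : Fin 16) : (maskFin s).testBit i.val = decide (i ∈ s) := by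
  have key : ∀ l : List (Fin 16),
      (l.foldr (fun i acc => (if i ∈ s then 2 ^ i.val else 0) ||| acc) 0).testBit i.val =
        (decide (i ∈ l) && decide (i ∈ s)) := by
    intro l
    induction l with
    | nil => simp
    | cons a l ih =>
      simp only [List.foldr_cons, Nat.testBit_lor, ih]
      by_cases h : i = a
      · subst h; by_cases hs : i ∈ s <;> simp [hs, Nat.testBit_two_pow]
      · by_cases ha : a ∈ s <;> simp [ha, h, Nat.testBit_two_pow, Fin.val_inj, Ne.symm h]
  rw [maskFin, key]; simp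

theorem planeMask_eq : ∀ a c : Fin 16, ∀ i : Fin 16, (planeMask a c).testBit i.val =
    decide (toV i = 0 ∨ toV i = toV a ∨ toV i = toV c ∨ toV i = toV a + toV c) := by decide +kernel

theorem planeMask_lt : ∀ a c : Fin 16, planeMask a c < 2 ^ 16 := by decide +kernel

theorem meetMask_eq (u w : ℕ) :
    meetMask u w = ((univ : Finset (Fin 16)).filter fun i : Fin 16 => (u &&& w).testBit i.val).card := by
  rw [meetMask, List.countP_eq_length_filter,
    ← List.toFinset_card_of_nodup (List.nodup_range.filter _)]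
  rw [← card_map Fin.valEmbedding]
  congr 1
  ext i
  simp only [mem_map, mem_filter, mem_univ, true_and, Fin.valEmbedding_apply, List.mem_toFinset,
    List.mem_filter, List.mem_range]
  exact ⟨fun h => ⟨⟨i, h.1⟩, h.2, rfl⟩, fun ⟨j, hj, e⟩ => e ▸ ⟨j.2, hj⟩⟩

theorem closed_std (a c : V4) : ∀ x ∈ ({0, a, c, a + c} : Finset V4), ∀ y ∈ ({0, a, c, a + c} : Finset V4),
    x + y ∈ ({0, a, c, a + c} : Finset V4) := by
  have hself : ∀ v : V4, v + v = 0 := fun v => funext fun i => CharTwo.add_self_eq_zero (v i)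
  intro x hx y hy
  simp only [mem_insert, mem_singleton] at hx hy ⊢
  have e1 : a + (a + c) = c := by rw [← add_assoc, hself, zero_add]
  have e2 : c + (a + c) = a := by rw [add_comm a c, ← add_assoc, hself, zero_add]
  rcases hx with h | h | h | h <;> rcases hy with h' | h' | h' | h' <;> rw [h, h'] <;>
    simp [hself, e1, e2, add_comm c a, add_comm (a + c) a, add_comm (a + c) c]

/-- coordinates adapted to three mutually complementary planes -/
theorem adapted {U1 U2 U3 : Finset V4} {a1 a2 c1 c2 b1 b2 : V4}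
    (h1 : U1 = {0, a1, a2, a1 + a2}) (h2 : U2 = {0, c1, c2, c1 + c2}) (h3 : U3 = {0, b1, b2, b1 + b2})
    (n1 : a1 ≠ 0 ∧ a2 ≠ 0 ∧ a1 ≠ a2) (n2 : c1 ≠ 0 ∧ c2 ≠ 0 ∧ c1 ≠ c2) (n3 : b1 ≠ 0 ∧ b2 ≠ 0 ∧ b1 ≠ b2)
    (h12 : ∀ x ∈ U1, x ∈ U2 → x = 0) (h13 : ∀ x ∈ U1, x ∈ U3 → x = 0) (h23 : ∀ x ∈ U2, x ∈ U3 → x = 0) :
    ∃ L : V4 ≃+ V4, U1.image L = {0, toV 1, toV 2, toV 3} ∧ U2.image L = {0, toV 4, toV 8, toV 12} ∧
      U3.image L = {0, toV 5, toV 10, toV 15} := by
  classical
  have hself : ∀ v : V4, v + v = 0 := fun v => funext fun i => CharTwo.add_self_eq_zero (v i)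
  have heq : ∀ v w : V4, v + w = 0 → v = w := fun v w h => funext fun i => CharTwo.add_eq_zero.1 (congrFun h i)
  have hc1 : ∀ x ∈ U1, ∀ y ∈ U1, x + y ∈ U1 := h1 ▸ closed_std a1 a2
  have hc2 : ∀ x ∈ U2, ∀ y ∈ U2, x + y ∈ U2 := h2 ▸ closed_std c1 c2
  have hc3 : ∀ x ∈ U3, ∀ y ∈ U3, x + y ∈ U3 := h3 ▸ closed_std b1 b2
  have card4 : ∀ a c : V4, a ≠ 0 → c ≠ 0 → a ≠ c → ({0, a, c, a + c} : Finset V4).card = 4 := by
    intro a c ha hc hac
    rw [card_insert_of_notMem, card_insert_of_notMem, card_insert_of_notMem, card_singleton]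
    · simp [ha]
    · simp [hac, hc]
    · simp only [mem_insert, mem_singleton, not_or]
      exact ⟨ha.symm, hc.symm, fun h => hac (heq a c h.symm)⟩
  have hpinj : Set.InjOn (fun z : V4 × V4 => z.1 + z.2) ↑(U1 ×ˢ U2) := by
    rintro ⟨x, y⟩ hxy ⟨x', y'⟩ hxy' e
    obtain ⟨hx, hy⟩ := mem_product.1 hxy
    obtain ⟨hx', hy'⟩ := mem_product.1 hxy'
    have e' : x + x' = y + y' := by
      funext i
      have := congrFun (show x + y = x' + y' from e) i
      simp only [Pi.add_apply] at this ⊢
      revert this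
      generalize x i = u; generalize x' i = u'; generalize y i = v; generalize y' i = v'
      revert u u' v v'; decide
    have := h12 _ (hc1 x hx x' hx') (e' ▸ hc2 y hy y' hy')
    exact Prod.ext (heq _ _ this) (heq _ _ (e'.symm.trans this))
  have hall : (U1 ×ˢ U2).image (fun z : V4 × V4 => z.1 + z.2) = univ := by
    refine eq_univ_of_card _ ?_
    rw [card_image_of_injOn hpinj, card_product, h1, h2, card4 a1 a2 n1.1 n1.2.1 n1.2.2,
      card4 c1 c2 n2.1 n2.2.1 n2.2.2]
    simp
  have hdec : ∀ b : V4, ∃ x ∈ U1, ∃ y ∈ U2, x + y = b := fun b => by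
    obtain ⟨⟨x, y⟩, hxy, e⟩ := mem_image.1 (hall.symm ▸ mem_univ b : b ∈ (U1 ×ˢ U2).image fun z => z.1 + z.2)
    exact ⟨x, (mem_product.1 hxy).1, y, (mem_product.1 hxy).2, e⟩
  have hb1 : b1 ∈ U3 := by simp [h3]
  have hb2 : b2 ∈ U3 := by simp [h3]
  obtain ⟨x1, hx1, y1, hy1, e1⟩ := hdec b1
  obtain ⟨x2, hx2, y2, hy2, e2⟩ := hdec b2
  have hx12 : x1 ≠ 0 ∧ x2 ≠ 0 ∧ x1 ≠ x2 := by
    refine ⟨fun h => n3.1 ?_, fun h => n3.2.1 ?_, fun h => n3.2.2 (heq _ _ ?_)⟩
    · rw [h, zero_add] at e1; exact e1 ▸ h23 y1 hy1 (e1.symm ▸ hb1)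
    · rw [h, zero_add] at e2; exact e2 ▸ h23 y2 hy2 (e2.symm ▸ hb2)
    · have e : b1 + b2 = y1 + y2 := by
        rw [← e1, ← e2, h, add_add_add_comm, hself, zero_add]
      exact h23 _ (e.symm ▸ hc2 y1 hy1 y2 hy2) (hc3 b1 hb1 b2 hb2)
  have hy12 : y1 ≠ 0 ∧ y2 ≠ 0 ∧ y1 ≠ y2 := by
    refine ⟨fun h => n3.1 ?_, fun h => n3.2.1 ?_, fun h => n3.2.2 (heq _ _ ?_)⟩
    · rw [h, add_zero] at e1; exact e1 ▸ h13 x1 hx1 (e1.symm ▸ hb1)
    · rw [h, add_zero] at e2; exact e2 ▸ h13 x2 hx2 (e2.symm ▸ hb2)
    · have e : b1 + b2 = x1 + x2 := by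
        rw [← e1, ← e2, h, add_add_add_comm, hself, add_zero]
      exact h13 _ (e.symm ▸ hc1 x1 hx1 x2 hx2) (hc3 b1 hb1 b2 hb2)
  let M : V4 →+ V4 :=
    { toFun := fun v => (v 0 • x1 + v 1 • x2) + (v 2 • y1 + v 3 • y2)
      map_zero' := by simp
      map_add' := fun v w => by simp only [Pi.add_apply, add_smul]; abel }
  have hm : ∀ (U : Finset V4), (∀ x ∈ U, ∀ y ∈ U, x + y ∈ U) → (0 : V4) ∈ U → ∀ x ∈ U, ∀ y ∈ U,
      ∀ s t : ZMod 2, s • x + t • y ∈ U := by
    intro U hU h0 x hx y hy s t
    rcases (show ∀ z : ZMod 2, z = 0 ∨ z = 1 by decide) s with rfl | rfl <;>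
      rcases (show ∀ z : ZMod 2, z = 0 ∨ z = 1 by decide) t with rfl | rfl <;> simp [h0, hx, hy, hU x hx y hy]
  have hind : ∀ x y : V4, x ≠ 0 → y ≠ 0 → x ≠ y → ∀ s t : ZMod 2, s • x + t • y = 0 → s = 0 ∧ t = 0 := by
    intro x y hx hy hxy s t h
    rcases (show ∀ z : ZMod 2, z = 0 ∨ z = 1 by decide) s with rfl | rfl <;>
      rcases (show ∀ z : ZMod 2, z = 0 ∨ z = 1 by decide) t with rfl | rfl <;> simp at h ⊢
    · exact hy h
    · exact hx h
    · exact hxy (heq _ _ h)
  have hMinj : Function.Injective M := by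
    rw [injective_iff_map_eq_zero]
    intro v hv
    have hA := hm U1 hc1 (by simp [h1]) x1 hx1 x2 hx2 (v 0) (v 1)
    have hC := hm U2 hc2 (by simp [h2]) y1 hy1 y2 hy2 (v 2) (v 3)
    have he := heq _ _ hv
    have hz := h12 _ hA (he ▸ hC)
    obtain ⟨e0, e1'⟩ := hind x1 x2 hx12.1 hx12.2.1 hx12.2.2 _ _ hz
    obtain ⟨e2', e3⟩ := hind y1 y2 hy12.1 hy12.2.1 hy12.2.2 _ _ (he ▸ hz)
    funext i; fin_cases i <;> assumption
  let Me : V4 ≃+ V4 := AddEquiv.ofBijective M ⟨hMinj, Finite.injective_iff_surjective.1 hMinj⟩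
  have hMv : ∀ s t r q : ZMod 2, M ![s, t, r, q] = (s • x1 + t • x2) + (r • y1 + q • y2) := fun _ _ _ _ => rfl
  have himg : ∀ (U : Finset V4) (w : Finset V4), U.card = 4 → w.card = 4 → (∀ v ∈ w, M v ∈ U) →
      U.image Me.symm = w := by
    intro U w hU hw hmem
    have h' : w.image M = U := eq_of_subset_of_card_le
      (fun z hz => by obtain ⟨v, hv, rfl⟩ := mem_image.1 hz; exact hmem v hv)
      (by rw [card_image_of_injective _ hMinj, hU, hw])
    rw [← h', image_image]
    convert image_id (s := w) using 2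
    funext v
    exact Me.symm_apply_apply v
  have t1 : toV 1 = ![1, 0, 0, 0] ∧ toV 2 = ![0, 1, 0, 0] ∧ toV 3 = ![1, 1, 0, 0] := by decide +kernel
  have t2 : toV 4 = ![0, 0, 1, 0] ∧ toV 8 = ![0, 0, 0, 1] ∧ toV 12 = ![0, 0, 1, 1] := by decide +kernel
  have t3 : toV 5 = ![1, 0, 1, 0] ∧ toV 10 = ![0, 1, 0, 1] ∧ toV 15 = ![1, 1, 1, 1] := by decide +kernel
  refine ⟨Me.symm, himg U1 _ (h1 ▸ card4 a1 a2 n1.1 n1.2.1 n1.2.2) (by decide +kernel) ?_,
    himg U2 _ (h2 ▸ card4 c1 c2 n2.1 n2.2.1 n2.2.2) (by decide +kernel) ?_,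
    himg U3 _ (h3 ▸ card4 b1 b2 n3.1 n3.2.1 n3.2.2) (by decide +kernel) ?_⟩
  · intro v hv
    simp only [mem_insert, mem_singleton, t1.1, t1.2.1, t1.2.2] at hv
    rcases hv with rfl | rfl | rfl | rfl
    · rw [map_zero]; simp [h1]
    all_goals (rw [hMv]; simp [hx1, hx2, hc1 x1 hx1 x2 hx2])
  · intro v hv
    simp only [mem_insert, mem_singleton, t2.1, t2.2.1, t2.2.2] at hv
    rcases hv with rfl | rfl | rfl | rfl
    · rw [map_zero]; simp [h2]
    all_goals (rw [hMv]; simp [hy1, hy2, hc2 y1 hy1 y2 hy2])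
  · intro v hv
    simp only [mem_insert, mem_singleton, t3.1, t3.2.1, t3.2.2] at hv
    rcases hv with rfl | rfl | rfl | rfl
    · rw [map_zero]; simp [h3]
    all_goals rw [hMv]
    · simp [e1, hb1]
    · simp [e2, hb2]
    · simp only [one_smul]
      rw [show x1 + x2 + (y1 + y2) = (x1 + y1) + (x2 + y2) by abel, e1, e2]
      exact hc3 b1 hb1 b2 hb2

/-- **Uniqueness of the Steiner system S(5, 8, 24).** -/
theorem iso_octads (hB : IsSteinerSystem 5 8 B) (hα : Fintype.card α = 24) : SetSystemIso B octads := by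
  classical
  obtain ⟨O, hO⟩ : ∃ O, O ∈ B := Set.nonempty_of_ncard_ne_zero (s := B) (by rw [ncard_eq_759 hB hα]; norm_num)
  have hO8 := hB.1 O hO
  obtain ⟨vec, hinj, hsum⟩ := exists_vec hB hα hO
  have hsurj : ∀ v : V4, ∃ p, p ∉ O ∧ vec p = v := by
    have h : (Oᶜ).image vec = univ := eq_univ_of_card _ (by
      rw [card_image_of_injOn (hinj.mono fun p hp => mem_compl.1 hp), card_compl, hα, hO8]; simp)
    intro v
    obtain ⟨p, hp, e⟩ := mem_image.1 (h.symm ▸ mem_univ v : v ∈ Oᶜ.image vec)
    exact ⟨p, mem_compl.1 hp, e⟩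
  obtain ⟨p0, hp0, h0⟩ := hsurj 0
  let eO : Fin 8 ≃ O := (Fintype.equivFinOfCardEq (by rw [Fintype.card_coe, hO8])).symm
  let tet : ℕ → Finset α := fun m => ((univ : Finset (Fin 8)).filter fun i => m.testBit i.val).map
    (eO.toEmbedding.trans (Function.Embedding.subtype _))
  have htet : ∀ m, tet m ⊆ O := by
    intro m x hx
    obtain ⟨i, -, rfl⟩ := mem_map.1 hx
    exact (eO i).2
  have hplane : ∀ m ∈ tets, ∃ b ∈ B, b ∩ O = tet m ∧ p0 ∈ b ∧
      ∃ a c : V4, a ≠ 0 ∧ c ≠ 0 ∧ a ≠ c ∧ (b \ O).image vec = {0, a, c, a + c} := fun m hm =>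
    exists_plane hB hα hO hinj hsum hp0 h0 (htet m) (by
      rw [card_map]
      have : ∀ m ∈ tets, ((univ : Finset (Fin 8)).filter fun i => m.testBit i.val).card = 4 := by decide +kernel
      exact this m hm)
  choose! bl hblB hblO hblp U1a U1c hUa hUc hUne hUim using hplane
  have hmeet : ∀ i ∈ List.range 7, ∀ j ∈ List.range 7, i < j →
      (((bl (tets.getD i 0)) \ O).image vec ∩ ((bl (tets.getD j 0)) \ O).image vec).card =
        (if ((List.range 8).countP fun x => ((tets.getD i 0) &&& (tets.getD j 0)).testBit x) == 3 then 1 else 2) := by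
    intro i hi j hj hij
    have hmem : ∀ i ∈ List.range 7, tets.getD i 0 ∈ tets := by decide +kernel
    set m := tets.getD i 0
    set m' := tets.getD j 0
    have hm := hmem i hi
    have hm' := hmem j hj
    have hinj' : Set.InjOn vec ↑((bl m \ O) ∪ (bl m' \ O)) := hinj.mono fun p hp => by
      rcases mem_union.1 hp with h | h <;> exact (mem_sdiff.1 h).2
    rw [← image_inter_of_injOn _ _ (by simpa only [coe_union] using hinj'), card_image_of_injOn (hinj.mono fun p hp => (mem_sdiff.1 (mem_inter.1 hp).1).2)]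
    have hc : ((bl m) ∩ O ∩ ((bl m') ∩ O)).card =
        ((List.range 8).countP fun x => (m &&& m').testBit x) := by
      rw [hblO m hm, hblO m' hm', ← map_inter, card_map, List.countP_eq_length_filter,
        ← List.toFinset_card_of_nodup (List.nodup_range.filter _), ← card_map Fin.valEmbedding]
      congr 1
      ext x
      simp only [mem_map, mem_inter, mem_filter, mem_univ, true_and, Fin.valEmbedding_apply,
        List.mem_toFinset, List.mem_filter, List.mem_range, Nat.testBit_and, Bool.and_eq_true]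
      exact ⟨fun ⟨y, hy, e⟩ => e ▸ ⟨y.2, hy⟩, fun h => ⟨⟨x, h.1⟩, h.2, rfl⟩⟩
    have htot : (bl m ∩ bl m').card = ((bl m) ∩ O ∩ ((bl m') ∩ O)).card + ((bl m \ O) ∩ (bl m' \ O)).card := by
      rw [← card_union_of_disjoint]
      · congr 1
        ext x; simp only [mem_inter, mem_union, mem_sdiff]; tauto
      · rw [disjoint_left]; intro x; simp only [mem_inter, mem_sdiff]; tauto
    have hne : bl m ≠ bl m' := by
      intro e
      have h1 : tet m = tet m' := by rw [← hblO m hm, ← hblO m' hm', e]
      have key : ∀ i ∈ List.range 7, ∀ j ∈ List.range 7, i < j →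
          ((univ : Finset (Fin 8)).filter fun x => (tets.getD i 0).testBit x.val) ≠
            ((univ : Finset (Fin 8)).filter fun x => (tets.getD j 0).testBit x.val) := by decide +kernel
      exact key i hi j hj hij (map_injective _ h1)
    have hpos : 1 ≤ ((bl m \ O) ∩ (bl m' \ O)).card :=
      card_pos.2 ⟨p0, mem_inter.2 ⟨mem_sdiff.2 ⟨hblp m hm, hp0⟩, mem_sdiff.2 ⟨hblp m' hm', hp0⟩⟩⟩
    have hvals : ∀ i ∈ List.range 7, ∀ j ∈ List.range 7, i < j →
        ((List.range 8).countP fun x => ((tets.getD i 0) &&& (tets.getD j 0)).testBit x) = 2 ∨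
        ((List.range 8).countP fun x => ((tets.getD i 0) &&& (tets.getD j 0)).testBit x) = 3 := by
      decide +kernel
    have hv := inter_eight hB hα (hblB m hm) (hblB m' hm') hne
    rcases hvals i hi j hj hij with hh | hh <;> rw [hh] at hc ⊢
    · show _ = 2
      omega
    · show _ = 1
      omega
  have hz : ∀ i ∈ List.range 7, ∀ j ∈ List.range 7, i < j → i < 3 → j < 3 →
      ∀ x ∈ ((bl (tets.getD i 0)) \ O).image vec, x ∈ ((bl (tets.getD j 0)) \ O).image vec → x = 0 := by
    intro i hi j hj hij hi3 hj3 x hx hx'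
    have h := hmeet i hi j hj hij
    have hval : ∀ i ∈ List.range 3, ∀ j ∈ List.range 3, i < j →
        ((List.range 8).countP fun x => ((tets.getD i 0) &&& (tets.getD j 0)).testBit x) = 3 := by decide +kernel
    rw [hval i (List.mem_range.2 hi3) j (List.mem_range.2 hj3) hij] at h
    obtain ⟨y, hy⟩ := card_eq_one.1 h
    have hmem : ∀ i ∈ List.range 7, tets.getD i 0 ∈ tets := by decide +kernel
    have h0' : (0 : V4) ∈ ((bl (tets.getD i 0)) \ O).image vec ∩ ((bl (tets.getD j 0)) \ O).image vec := by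
      rw [mem_inter]
      exact ⟨mem_image.2 ⟨p0, mem_sdiff.2 ⟨hblp _ (hmem i hi), hp0⟩, h0⟩,
        mem_image.2 ⟨p0, mem_sdiff.2 ⟨hblp _ (hmem j hj), hp0⟩, h0⟩⟩
    have hx'' := mem_inter.2 ⟨hx, hx'⟩
    rw [hy, mem_singleton] at h0' hx''
    rw [hx'', h0']
  obtain ⟨L, hL1, hL2, hL3⟩ := adapted (hUim 15 (by decide)) (hUim 23 (by decide)) (hUim 39 (by decide))
    ⟨hUa 15 (by decide), hUc 15 (by decide), hUne 15 (by decide)⟩
    ⟨hUa 23 (by decide), hUc 23 (by decide), hUne 23 (by decide)⟩
    ⟨hUa 39 (by decide), hUc 39 (by decide), hUne 39 (by decide)⟩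
    (hz 0 (by decide) 1 (by decide) (by decide) (by decide) (by decide))
    (hz 0 (by decide) 2 (by decide) (by decide) (by decide) (by decide))
    (hz 1 (by decide) 2 (by decide) (by decide) (by decide) (by decide))
  -- codes of the sixteen points
  let code : V4 → Fin 16 := Function.surjInv toV_bijective.2
  have hcode : ∀ v, toV (code v) = v := Function.surjInv_eq toV_bijective.2
  have hcode' : ∀ x, code (toV x) = x := fun x => toV_bijective.1 (hcode _)
  let pos : α → Fin 16 := fun p => code (L (vec p))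
  have hpos : Set.InjOn pos {p | p ∉ O} := fun p hp q hq e =>
    hinj hp hq (L.injective (by have := congrArg toV e; rwa [hcode, hcode] at this))
  let um : ℕ → ℕ := fun m => planeMask (code (L (U1a m))) (code (L (U1c m)))
  have hum : ∀ m ∈ tets, ∀ i : Fin 16,
      (um m).testBit i.val = decide (i ∈ ((bl m \ O).image pos)) := by
    intro m hm i
    rw [planeMask_eq, hcode, hcode]
    congr 1
    apply propext
    rw [show (bl m \ O).image pos = ((bl m \ O).image vec).image fun v => code (L v) by rw [image_image]; rfl,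
      hUim m hm]
    simp only [mem_image, mem_insert, mem_singleton]
    constructor
    · rintro (e | e | e | e)
      · exact ⟨0, Or.inl rfl, by rw [map_zero, ← e, hcode']⟩
      · exact ⟨_, Or.inr (Or.inl rfl), by rw [← e, hcode']⟩
      · exact ⟨_, Or.inr (Or.inr (Or.inl rfl)), by rw [← e, hcode']⟩
      · exact ⟨_, Or.inr (Or.inr (Or.inr rfl)), by rw [map_add, ← e, hcode']⟩
    · rintro ⟨v, hv, rfl⟩
      rw [hcode]
      rcases hv with rfl | rfl | rfl | rfl
      · exact Or.inl (map_zero L)
      · exact Or.inr (Or.inl rfl)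
      · exact Or.inr (Or.inr (Or.inl rfl))
      · exact Or.inr (Or.inr (Or.inr (map_add L _ _)))
  have hmask : ∀ m ∈ tets, ∀ w : ℕ, w < 2 ^ 16 →
      (∀ i : Fin 16, w.testBit i.val = decide (toV i ∈ ((bl m \ O).image vec).image L)) → um m = w := by
    intro m hm w hw h
    refine Nat.eq_of_testBit_eq fun n => ?_
    by_cases hn : n < 16
    · rw [hum m hm ⟨n, hn⟩, h ⟨n, hn⟩]
      congr 1
      apply propext
      simp only [mem_image, exists_exists_and_eq_and]
      constructor
      · rintro ⟨p, hp, e⟩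
        exact ⟨p, hp, by rw [← hcode (L (vec p))]; exact congrArg toV e⟩
      · rintro ⟨p, hp, e⟩
        refine ⟨p, hp, ?_⟩
        show code (L (vec p)) = _
        rw [e, hcode']
    · have hle : (2 : ℕ) ^ 16 ≤ 2 ^ n := Nat.pow_le_pow_right (by norm_num) (by omega)
      rw [Nat.testBit_lt_two_pow (lt_of_lt_of_le hw hle),
        Nat.testBit_lt_two_pow (lt_of_lt_of_le (planeMask_lt _ _) hle)]
  have u1 : um 15 = 15 := hmask 15 (by decide) 15 (by norm_num) (by rw [hL1]; decide +kernel)
  have u2 : um 23 = 4369 := hmask 23 (by decide) 4369 (by norm_num) (by rw [hL2]; decide +kernel)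
  have u3 : um 39 = 33825 := hmask 39 (by decide) 33825 (by norm_num) (by rw [hL3]; decide +kernel)
  have hmm : ∀ i ∈ List.range 7, ∀ j ∈ List.range 7, i < j →
      meetMask (um (tets.getD i 0)) (um (tets.getD j 0)) =
        (if ((List.range 8).countP fun x => ((tets.getD i 0) &&& (tets.getD j 0)).testBit x) == 3 then 1 else 2) := by
    intro i hi j hj hij
    have hmem : ∀ i ∈ List.range 7, tets.getD i 0 ∈ tets := by decide +kernel
    rw [← hmeet i hi j hj hij, meetMask_eq]
    have e : ((univ : Finset (Fin 16)).filter fun x : Fin 16 => (um (tets.getD i 0) &&& um (tets.getD j 0)).testBit x.val) =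
        ((bl (tets.getD i 0) \ O).image vec ∩ (bl (tets.getD j 0) \ O).image vec).image fun v => code (L v) := by
      rw [image_inter _ _ (fun v w e => L.injective (by have := congrArg toV e; rwa [hcode, hcode] at this)),
        image_image, image_image]
      ext x
      simp only [mem_filter, mem_univ, true_and, Nat.testBit_and, Bool.and_eq_true,
        hum _ (hmem i hi), hum _ (hmem j hj), decide_eq_true_eq, mem_inter]
      rfl
    rw [e, card_image_of_injective _ (fun v w e => L.injective (by have := congrArg toV e; rwa [hcode, hcode] at this))]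
  have hg : ∀ k ∈ [3, 4, 5, 6], um (tets.getD k 0) ∈ graphMasks := by
    intro k hk
    have hk' : k ∈ List.range 7 ∧ 1 < k ∧ tets.getD k 0 ∈ tets := by
      revert k; decide +kernel
    have h0k := hmm 0 (by decide) k hk'.1 (by omega)
    have h1k := hmm 1 (by decide) k hk'.1 hk'.2.1
    have hcnt : ∀ k ∈ [3, 4, 5, 6],
        ((List.range 8).countP fun x => ((tets.getD 0 0) &&& (tets.getD k 0)).testBit x) = 3 ∧
        ((List.range 8).countP fun x => ((tets.getD 1 0) &&& (tets.getD k 0)).testBit x) = 3 := by decide +kernel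
    rw [(hcnt k hk).1, show tets.getD 0 0 = 15 from rfl, u1] at h0k
    rw [(hcnt k hk).2, show tets.getD 1 0 = 23 from rfl, u2] at h1k
    have hsymm : ∀ u w, meetMask u w = meetMask w u := fun u w => by
      rw [meetMask, meetMask, Nat.and_comm]
    have hnz : ∀ v : V4, v ≠ 0 → (code (L v)).val ≠ 0 := fun v hv e => hv (L.injective (by
      rw [map_zero, ← hcode (L v), show code (L v) = 0 from Fin.ext e]; decide +kernel))
    refine graphMasks_all _ _ (hnz _ (hUa _ hk'.2.2)) (hnz _ (hUc _ hk'.2.2)) (fun e => hUne _ hk'.2.2 ?_)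
      (by rw [hsymm]; exact h0k) (by rw [hsymm]; exact h1k)
    have := congrArg toV e
    rw [hcode, hcode] at this
    exact L.injective this
  set us := [um 71, um 135, um 27, um 29]
  have hcompat : compatible [15, 4369, 33825, um 71, um 135, um 27, um 29] = true := by
    rw [compatible, List.all_eq_true]
    intro i hi
    rw [List.all_eq_true]
    intro j hj
    by_cases hij : j ≤ i
    · simp [hij]
    rw [Bool.or_eq_true]
    right
    rw [beq_iff_eq]
    have hl : [15, 4369, 33825, um 71, um 135, um 27, um 29] = tets.map um := by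
      simp [tets, u1, u2, u3]
    have hget : ∀ i ∈ List.range 7, (tets.map um).getD i 0 = um (tets.getD i 0) := by
      intro i hi
      rw [List.mem_range] at hi
      rw [List.getD_eq_getElem _ _ (by simpa [tets] using hi), List.getD_eq_getElem _ _ (by simpa [tets] using hi),
        List.getElem_map]
    rw [hl, hget i hi, hget j hj]
    exact hmm i hi j hj (by omega)
  have hany : cases.any (fun c => c.1 == us) = true := by
    have := cases_complete
    rw [List.all_eq_true] at this
    have := this (um 71) (hg 3 (by decide))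
    rw [List.all_eq_true] at this
    have := this (um 135) (hg 4 (by decide))
    rw [List.all_eq_true] at this
    have := this (um 27) (hg 5 (by decide))
    rw [List.all_eq_true] at this
    have := this (um 29) (hg 6 (by decide))
    rw [hcompat] at this
    simpa using this
  obtain ⟨⟨us', P, sel⟩, hmemc, he⟩ := List.any_eq_true.1 hany
  obtain rfl : us' = us := by simpa using he
  have hchk := List.all_eq_true.1 cases_check _ hmemc
  rw [Bool.and_eq_true, List.all_eq_true] at hchk
  obtain ⟨hok, hsel⟩ := hchk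
  -- the numbering
  let idx : α → Fin 24 := fun p =>
    if hp : p ∈ O then Fin.castLE (by norm_num) (eO.symm ⟨p, hp⟩) else Fin.natAdd 8 (pos p)
  have hidx1 : ∀ (p : α) (hp : p ∈ O), (idx p).val = (eO.symm ⟨p, hp⟩).val := fun p hp => by
    simp [idx, hp]
  have hidx2 : ∀ p, p ∉ O → (idx p).val = 8 + (pos p).val := fun p hp => by simp [idx, hp]
  have hidxinj : Function.Injective idx := by
    intro p q e
    have e' := congrArg Fin.val e
    by_cases hp : p ∈ O <;> by_cases hq : q ∈ O
    · rw [hidx1 p hp, hidx1 q hq] at e'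
      exact congrArg Subtype.val (eO.symm.injective (Fin.ext e'))
    · rw [hidx1 p hp, hidx2 q hq] at e'; have := (eO.symm ⟨p, hp⟩).2; omega
    · rw [hidx2 p hp, hidx1 q hq] at e'; have := (eO.symm ⟨q, hq⟩).2; omega
    · rw [hidx2 p hp, hidx2 q hq] at e'
      exact hpos hp hq (Fin.ext (by omega))
  let idxE : α ≃ Fin 24 := Equiv.ofBijective idx
    ((Fintype.bijective_iff_injective_and_card idx).2 ⟨hidxinj, by simp [hα]⟩)
  let τ : α ≃ GolayPt := (idxE.trans enc.symm).trans (mkPerm P)
  refine iso_of_masks hB hα τ ((genMasks us).map (imgP P)) (fun r hr => ?_) fun b hb mm hmm' => ?_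
  · obtain ⟨i, hi, rfl⟩ := List.mem_iff_getElem.1 hr
    have hi' : i ∈ List.range 12 := by rw [List.mem_range]; exact hi
    refine ⟨sel.getD i 0, ?_⟩
    have := hsel i hi'
    rw [beq_iff_eq] at this
    rw [this, List.getD_eq_getElem _ _ hi]
  obtain ⟨m, hm, rfl⟩ := List.mem_map.1 hmm'
  have hpre : par (b.image τ) (ofMask (imgP P m)) = ((b.filter fun p => m.testBit (idx p).val).card : ZMod 2) := by
    unfold par
    rw [← smul_ofMask hok, smul_eq_image, ← card_image_of_injective _ τ.injective]
    congr 2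
    ext x
    simp only [mem_inter, mem_image, mem_filter, mem_ofMask]
    constructor
    · rintro ⟨⟨p, hp, rfl⟩, y, hy, e⟩
      have : y = enc.symm (idxE p) := (mkPerm P).injective e
      subst this
      exact ⟨p, ⟨hp, by simpa [num, idxE] using hy⟩, rfl⟩
    · rintro ⟨p, ⟨hp, hbit⟩, rfl⟩
      exact ⟨⟨p, hp, rfl⟩, enc.symm (idxE p), by simpa [num, idxE] using hbit, rfl⟩
  rw [hpre]
  have hsplit : ∀ (t : ℕ) (u : ℕ) (S : Finset α), t < 256 → S ∩ O ⊆ O →
      (∀ p, ∀ hp : p ∈ O, (p ∈ S ↔ t.testBit (eO.symm ⟨p, hp⟩).val = true)) →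
      (∀ p, p ∉ O → (p ∈ S ↔ u.testBit (pos p).val = true)) → m = t ||| (u <<< 8) →
      (b.filter fun p => m.testBit (idx p).val) = b ∩ S := by
    intro t u S ht _ hS1 hS2 hmeq
    ext p
    simp only [mem_filter, mem_inter]
    refine and_congr_right fun _ => ?_
    subst hmeq
    by_cases hp : p ∈ O
    · rw [hidx1 p hp, Nat.testBit_lor, Nat.testBit_shiftLeft, hS1 p hp]
      have := (eO.symm ⟨p, hp⟩).2
      simp [show ¬ (8 ≤ (eO.symm ⟨p, hp⟩).val) by omega]
    · rw [hidx2 p hp, Nat.testBit_lor, Nat.testBit_shiftLeft, hS2 p hp,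
        Nat.testBit_lt_two_pow (lt_of_lt_of_le (show t < 2 ^ 8 by simpa using ht) (Nat.pow_le_pow_right (by norm_num) (by omega)))]
      simp
  rw [genMasks, List.mem_append] at hm
  rcases hm with hm | hm
  · simp only [List.mem_cons, List.mem_singleton, List.not_mem_nil, or_false] at hm
    have hhyp : ∀ (u : ℕ) (i : Fin 4), (∀ v : Fin 16, u.testBit v.val = v.val.testBit i.val) → m = 0 ||| (u <<< 8) →
        ((b.filter fun p => m.testBit (idx p).val).card : ZMod 2) = 0 := by
      intro u i hu hmeq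
      rw [hsplit 0 u ((Oᶜ).filter fun p => (pos p).val.testBit i.val) (by norm_num) inter_subset_right
        (fun p hp => by simp [hp]) (fun p hp => by simp [hp, hu]) hmeq]
      have h1 := congrFun (congrArg L (hsum b hb)) i
      rw [map_sum, map_zero, Finset.sum_apply, Pi.zero_apply] at h1
      rw [← h1]
      have hterm : ∀ p ∈ b \ O, L (vec p) i = if (pos p).val.testBit i.val then 1 else 0 := fun p _ => by
        show _ = toV (pos p) i
        rw [hcode]
      rw [sum_congr rfl hterm, sum_boole]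
      congr 2
      ext p
      simp only [mem_inter, mem_filter, mem_compl, mem_sdiff]
      tauto
    rcases hm with rfl | rfl | rfl | rfl | rfl | rfl
    · rw [hsplit 255 0 O (by norm_num) inter_subset_right (fun p hp => by
          simp only [hp, true_iff]
          have : ∀ x : Fin 8, (255 : ℕ).testBit x.val = true := by decide
          exact this _)
        (fun p hp => by simp [hp]) (by decide)]
      exact par_of_mem hB hα hb hO
    · have : (b.filter fun p => FULL.testBit (idx p).val) = b := filter_eq_self.2 fun p _ => by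
        have : ∀ x : Fin 24, FULL.testBit x.val = true := by decide +kernel
        simpa using this _
      rw [this, hB.1 b hb]; decide
    · exact hhyp 43690 0 (by decide +kernel) (by decide)
    · exact hhyp 52428 1 (by decide +kernel) (by decide)
    · exact hhyp 61680 2 (by decide +kernel) (by decide)
    · exact hhyp 65280 3 (by decide +kernel) (by decide)
  · have hl : [15, 4369, 33825] ++ us = tets.map um := by simp [tets, us, u1, u2, u3]
    rw [hl, List.zipWith_map_right, List.zipWith_self, List.mem_map] at hm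
    obtain ⟨t, ht, rfl⟩ := hm
    have ht256 : ∀ t ∈ tets, t < 256 := by decide +kernel
    rw [hsplit t (um t) (bl t) (ht256 t ht) inter_subset_right (fun p hp => ?_) (fun p hp => ?_) rfl]
    · exact par_of_mem hB hα hb (hblB t ht)
    · have : p ∈ bl t ↔ p ∈ bl t ∩ O := by simp [hp]
      rw [this, hblO t ht]
      simp only [tet, mem_map, mem_filter, mem_univ, true_and]
      constructor
      · rintro ⟨i, hi, e⟩
        have : eO.symm ⟨p, hp⟩ = i := by
          rw [Equiv.symm_apply_eq]; exact Subtype.ext e.symm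
        rw [this]; exact hi
      · intro h; exact ⟨_, h, by simp⟩
    · rw [hum t ht, decide_eq_true_eq, mem_image]
      constructor
      · intro h; exact ⟨p, mem_sdiff.2 ⟨h, hp⟩, rfl⟩
      · rintro ⟨q, hq, e⟩
        obtain ⟨hq1, hq2⟩ := mem_sdiff.1 hq
        exact hpos hq2 hp e ▸ hq1

theorem iso_unique {β : Type*} [Fintype β] [DecidableEq β] {B' : Set (Finset β)} (hα : Fintype.card α = 24)
    (hβ : Fintype.card β = 24) (hB : IsSteinerSystem 5 8 B) (hB' : IsSteinerSystem 5 8 B') :
    SetSystemIso B B' := by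
  obtain ⟨e, he⟩ := iso_octads hB hα
  obtain ⟨f, hf⟩ := iso_octads hB' hβ
  refine ⟨e.trans f.symm, ?_⟩
  rw [← hf] at he
  have hcomp : (fun b : Finset α => b.image (e.trans f.symm)) = (fun c => c.image f.symm) ∘ fun b => b.image e := by
    funext b
    simp [image_image, Function.comp_def]
  rw [hcomp, Set.image_comp, he, ← Set.image_comp]
  convert Set.image_id B' using 2
  simp [image_image, Function.comp_def]

end CfsgLib.Spor.SteinerUnique
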