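import Cfsg.Agent.Spor.SmallSteiner
import Cfsg.Agent.Spor.InterFacts
import Cfsg.Agent.Spor.M24Simple
import Cfsg.Prelude.Def_Sporadic

/-!
The automorphism groups of S(5,6,12) and S(4,5,11).
-/

set_option autoImplicit false

namespace CfsgLib.Spor.SmallSteiner

open Cfsg
open scoped Pointwise

variable {n t : ℕ}

theorem mem_aut_iff {α : Type*} [DecidableEq α] {B : Set (Finset α)}
    (hB : IsSteinerSystem t (t + 1) B) (σ : Equiv.Perm α) :
    σ ∈ setSystemAut B ↔ ∀ b ∈ B, σ • b ∈ B := by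
  constructor
  · intro h b hb
    have := Set.smul_mem_smul_set (a := σ) hb
    rwa [MulAction.mem_stabilizer_iff.1 h] at this
  · intro h
    refine MulAction.mem_stabilizer_iff.2 (system_eq hB (steiner_image σ hB) ?_)
    rintro _ ⟨b, hb, rfl⟩
    exact h b hb

/-- the mask of the first points -/
def baseMask (t : ℕ) : ℕ := 2 ^ t - 1

/-- one rigidity certificate -/
def certOK (n t : ℕ) (L : List ℕ) (F : ℕ) : ℕ × ℕ × ℕ × ℕ × ℕ × ℕ × ℕ → Bool
  | (y, z, w, b1, b2, c1, c2) =>
    memM b1 L && (memM b2 L && (memM c1 L && (memM c2 L && (Nat.blt w n && (!Nat.beq w y &&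
    (b1.testBit y && (b1.testBit w && (b2.testBit y && (b2.testBit w && (!F.testBit w &&
    (Nat.beq (cnt n (Nat.land b1 F)) (t - 1) && (Nat.beq (cnt n (Nat.land b2 F)) (t - 1) &&
    (Nat.beq (Nat.land (Nat.lor (Nat.land b1 F) (Nat.shiftLeft 1 z)) c1)
        (Nat.lor (Nat.land b1 F) (Nat.shiftLeft 1 z)) &&
    (Nat.beq (Nat.land (Nat.lor (Nat.land b2 F) (Nat.shiftLeft 1 z)) c2)
        (Nat.lor (Nat.land b2 F) (Nat.shiftLeft 1 z)) &&
    Nat.beq (Nat.land (Nat.land c1 c2) (Nat.lor F (Nat.shiftLeft 1 z)))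
      (Nat.land c1 c2)))))))))))))))

/-- the certificates suffice -/
def rigidB (n t : ℕ) (L : List ℕ) (F : ℕ) (cert : List (ℕ × ℕ × ℕ × ℕ × ℕ × ℕ × ℕ)) : Bool :=
  memM F L && (Nat.blt F (2 ^ n) && (Nat.beq (Nat.land (baseMask t) F) (baseMask t) &&
    (List.range n).all fun y => F.testBit y || (List.range n).all fun z =>
      Nat.beq y z || (F.testBit z || cert.any fun x =>
        Nat.beq x.1 y && (Nat.beq x.2.1 z && certOK n t L F x))))

theorem fix_base_eq_one {L : List ℕ} {F : ℕ} {cert : List (ℕ × ℕ × ℕ × ℕ × ℕ × ℕ × ℕ)}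
    (htn : t ≤ n) (ht : 1 ≤ t) (hL : IsSteinerSystem t (t + 1) (sys n L))
    (hlt : L.all (fun b => Nat.blt b (2 ^ n)) = true) (h : rigidB n t L F cert = true)
    {σ : Equiv.Perm (Fin n)} (hσ : σ ∈ setSystemAut (sys n L))
    (hfix : ∀ i : Fin n, i.val < t → σ i = i) : σ = 1 := by
  classical
  simp only [rigidB, Bool.and_eq_true, memM_iff, Nat.blt_eq, Nat.beq_eq, List.all_eq_true,
    List.mem_range, Bool.or_eq_true, List.any_eq_true] at h
  obtain ⟨hFL, hFlt, hFb, hcert⟩ := h
  have hmem := (mem_aut_iff hL σ).1 hσ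
  have hbase : baseMask t < 2 ^ n := by
    have := Nat.pow_le_pow_right (show 0 < 2 by norm_num) htn
    have := Nat.one_le_two_pow (n := t)
    simp only [baseMask]; omega
  have hbc : (ofN n (baseMask t)).card = t := by
    have e : ofN n (baseMask t) = (Finset.univ : Finset (Fin t)).map (Fin.castLEEmb htn) := by
      ext i
      simp only [mem_ofN, baseMask, Nat.testBit_two_pow_sub_one, decide_eq_true_eq, Finset.mem_map,
        Finset.mem_univ, true_and]
      exact ⟨fun h => ⟨⟨i, h⟩, Fin.ext rfl⟩, fun ⟨a, ha⟩ => ha ▸ a.2⟩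
    simp [e]
  have hbsub : ofN n (baseMask t) ⊆ ofN n F := (ofN_subset hbase).2 hFb
  have hbfix : σ • ofN n (baseMask t) = ofN n (baseMask t) := by
    refine Finset.eq_of_subset_of_card_le ?_ (by rw [Finset.card_smul_finset])
    intro x hx
    obtain ⟨i, hi, rfl⟩ := Finset.mem_smul_finset.1 hx
    have hit : i.val < t := by simpa [mem_ofN, baseMask, Nat.testBit_two_pow_sub_one] using hi
    show σ i ∈ _
    rwa [hfix i hit]
  have hFimg : σ • ofN n F = ofN n F := by
    refine subset_unique hL (hmem _ ⟨F, hFL, rfl⟩) ⟨F, hFL, rfl⟩ hbc ?_ hbsub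
    rw [← hbfix]
    exact Finset.smul_finset_subset_smul_finset hbsub
  have hFfix : ∀ i ∈ ofN n F, σ i = i := by
    intro i hi
    by_cases hib : i ∈ ofN n (baseMask t)
    · exact hfix i (by simpa [mem_ofN, baseMask, Nat.testBit_two_pow_sub_one] using hib)
    obtain ⟨x0, hx0⟩ : ∃ x0, ofN n F \ ofN n (baseMask t) = {x0} := Finset.card_eq_one.1 (by
      rw [Finset.card_sdiff_of_subset hbsub, hbc, hL.1 _ ⟨F, hFL, rfl⟩]; omega)
    have h1 : σ i ∈ ofN n F \ ofN n (baseMask t) := by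
      refine Finset.mem_sdiff.2 ⟨hFimg ▸ Finset.smul_mem_smul_finset hi, fun hb => hib ?_⟩
      rw [← hbfix] at hb
      exact Finset.smul_mem_smul_finset_iff σ |>.1 hb
    rw [hx0, Finset.mem_singleton] at h1
    have h2 : i ∈ ofN n F \ ofN n (baseMask t) := Finset.mem_sdiff.2 ⟨hi, hib⟩
    rw [hx0, Finset.mem_singleton] at h2
    rw [h1, h2]
  refine Equiv.ext fun y => ?_
  show σ y = y
  by_contra hne
  have hy : y ∉ ofN n F := fun h => hne (hFfix y h)
  have hz : σ y ∉ ofN n F := fun h => hne (σ.injective (hFfix _ h))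
  rw [mem_ofN] at hy hz
  obtain ⟨x, -, hx1, hx2, hok⟩ := (((hcert y.val y.2).resolve_left hy) (σ y).val (σ y).2 |>.resolve_left
    (fun e => hne (Fin.ext e.symm))).resolve_left hz
  obtain ⟨y', z, w, b1, b2, c1, c2⟩ := x
  simp only at hx1 hx2
  subst hx1 hx2
  simp only [certOK, Bool.and_eq_true, memM_iff, Nat.blt_eq, Bool.not_eq_true', Nat.beq_eq] at hok
  obtain ⟨hb1, hb2, hc1, hc2, hwn, hwy, h1y, h1w, h2y, h2w, hwF, hk1, hk2, hs1, hs2, hcap⟩ := hok
  have hlt' : ∀ b ∈ L, b < 2 ^ n := fun b hb => by simpa [Nat.blt_eq] using List.all_eq_true.1 hlt b hb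
  have hsl : Nat.shiftLeft 1 (σ y).val < 2 ^ n := by
    rw [show Nat.shiftLeft 1 (σ y).val = 1 <<< (σ y).val from rfl, Nat.one_shiftLeft]
    exact Nat.pow_lt_pow_right (by norm_num) (σ y).2
  have himg : ∀ b c : ℕ, b ∈ L → c ∈ L → b.testBit y.val = true → cnt n (Nat.land b F) = t - 1 →
      Nat.land (Nat.lor (Nat.land b F) (Nat.shiftLeft 1 (σ y).val)) c =
        Nat.lor (Nat.land b F) (Nat.shiftLeft 1 (σ y).val) → σ • ofN n b = ofN n c := by
    intro b c hb hc hby hk hs
    have hlt2 : Nat.lor (Nat.land b F) (Nat.shiftLeft 1 (σ y).val) < 2 ^ n :=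
      Nat.or_lt_two_pow (lt_of_le_of_lt Nat.and_le_right hFlt) hsl
    have hS : ofN n (Nat.lor (Nat.land b F) (Nat.shiftLeft 1 (σ y).val)) =
        ofN n (Nat.land b F) ∪ {σ y} := by rw [ofN_lor, ofN_bit (σ y).2]
    refine subset_unique hL (hmem _ ⟨b, hb, rfl⟩) ⟨c, hc, rfl⟩
      (s := ofN n (Nat.lor (Nat.land b F) (Nat.shiftLeft 1 (σ y).val))) ?_ ?_ ((ofN_subset hlt2).2 hs)
    · rw [hS, Finset.card_union_of_disjoint, card_ofN, hk, Finset.card_singleton]
      · omega
      · rw [Finset.disjoint_singleton_right, mem_ofN, show Nat.land b F = b &&& F from rfl,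
          Nat.testBit_and]
        simp [hz]
    · rw [hS]
      intro i hi
      rcases Finset.mem_union.1 hi with hi | hi
      · rw [mem_ofN, show Nat.land b F = b &&& F from rfl, Nat.testBit_and, Bool.and_eq_true] at hi
        rw [← hFfix i (mem_ofN.2 hi.2)]
        exact Finset.smul_mem_smul_finset (mem_ofN.2 hi.1)
      · rw [Finset.mem_singleton.1 hi]
        exact Finset.smul_mem_smul_finset (mem_ofN.2 hby)
  set W : Fin n := ⟨w, hwn⟩
  have m1 : σ W ∈ ofN n c1 := by
    rw [← himg b1 c1 hb1 hc1 h1y hk1 hs1]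
    exact Finset.smul_mem_smul_finset (mem_ofN.2 h1w)
  have m2 : σ W ∈ ofN n c2 := by
    rw [← himg b2 c2 hb2 hc2 h2y hk2 hs2]
    exact Finset.smul_mem_smul_finset (mem_ofN.2 h2w)
  have hlc : Nat.land c1 c2 < 2 ^ n := lt_of_le_of_lt Nat.and_le_left (hlt' c1 hc1)
  have m12 : σ W ∈ ofN n (Nat.land c1 c2) := by
    rw [mem_ofN, show Nat.land c1 c2 = c1 &&& c2 from rfl, Nat.testBit_and, mem_ofN.1 m1, mem_ofN.1 m2]
    rfl
  have m3 := (ofN_subset hlc).2 hcap m12
  rw [ofN_lor, ofN_bit (σ y).2, Finset.mem_union, Finset.mem_singleton] at m3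
  rcases m3 with h | h
  · have e : σ W = W := σ.injective (hFfix _ h)
    rw [e, mem_ofN] at h
    simp [W, hwF] at h
  · have : w = y.val := congrArg Fin.val (σ.injective (h.trans (Fin.ext rfl)))
    simp [this] at hwy

/-- the transversal elements -/
def transB (n t : ℕ) (L : List ℕ) (T : List (List ℕ)) : Bool :=
  (List.range t).all fun k => (List.range n).all fun j => Nat.blt j k ||
    (T.getD k []).any fun P => okN n P && (L.all (fun b => memM (imgn n P b) L) &&
      ((List.range k).all (fun i => Nat.beq (app P i) i) && Nat.beq (app P k) j))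

theorem trans_spec {L : List ℕ} {T : List (List ℕ)} (hL : IsSteinerSystem t (t + 1) (sys n L))
    (h : transB n t L T = true) {k : ℕ} (hk : k < t) (hkn : k < n) {j : Fin n} (hj : k ≤ j.val) :
    ∃ P ∈ T.getD k [], permN n P ∈ setSystemAut (sys n L) ∧
      (∀ i : Fin n, i.val < k → permN n P i = i) ∧ permN n P ⟨k, hkn⟩ = j := by
  simp only [transB, List.all_eq_true, List.mem_range, Bool.or_eq_true, List.any_eq_true,
    Bool.and_eq_true, Nat.blt_eq, Nat.beq_eq, memM_iff] at h
  obtain ⟨P, hP, hok, hblk, hfix, hmove⟩ := (h k hk j.val j.2).resolve_left (by omega)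
  refine ⟨P, hP, (mem_aut_iff hL _).2 ?_, fun i hi => Fin.ext (by rw [permN_val hok, hfix _ hi]),
    Fin.ext (by rw [permN_val hok]; exact hmove)⟩
  rintro _ ⟨b, hb, rfl⟩
  exact ⟨imgn n P b, hblk b hb, (smul_ofN hok b).symm⟩

/-- the base points -/
def baseEmb (htn : t ≤ n) : Fin t ↪ Fin n := Fin.castLEEmb htn

theorem moves {L : List ℕ} {T : List (List ℕ)} (htn : t ≤ n) (hL : IsSteinerSystem t (t + 1) (sys n L))
    (hT : transB n t L T = true) {G : Subgroup (Equiv.Perm (Fin n))}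
    (hG : ∀ k, ∀ P ∈ T.getD k [], permN n P ∈ setSystemAut (sys n L) → permN n P ∈ G) :
    ∀ (k : ℕ) (hk : k ≤ t) (x : Fin k → Fin n), Function.Injective x →
      ∃ g ∈ G ⊓ setSystemAut (sys n L), ∀ i : Fin k, g ⟨i.val, by omega⟩ = x i := by
  intro k
  induction k with
  | zero => exact fun _ _ _ => ⟨1, one_mem _, fun i => i.elim0⟩
  | succ k ih =>
    intro hk x hx
    obtain ⟨g, hg, hgx⟩ := ih (by omega) (fun i => x i.castSucc) (hx.comp (Fin.castSucc_injective k))
    have hj : k ≤ (g⁻¹ (x (Fin.last k))).val := by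
      by_contra hlt
      have e := hgx ⟨(g⁻¹ (x (Fin.last k))).val, by omega⟩
      rw [Fin.eta, show g (g⁻¹ (x (Fin.last k))) = x (Fin.last k) by simp] at e
      have := congrArg Fin.val (hx e.symm)
      simp only [Fin.val_castSucc, Fin.val_last] at this
      omega
    obtain ⟨P, hP, hPA, hfix, hmove⟩ := trans_spec hL hT (by omega : k < t) (by omega : k < n) hj
    refine ⟨g * permN n P, mul_mem hg (Subgroup.mem_inf.2 ⟨hG k P hP hPA, hPA⟩), fun i => ?_⟩
    rcases i.eq_castSucc_or_eq_last with ⟨i, rfl⟩ | rfl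
    · rw [Equiv.Perm.mul_apply, show (⟨(Fin.castSucc i).val, _⟩ : Fin n) = ⟨i.val, by omega⟩ from rfl,
        hfix ⟨i.val, by omega⟩ i.2]
      exact hgx i
    · rw [Equiv.Perm.mul_apply, show (⟨(Fin.last k).val, _⟩ : Fin n) = ⟨k, by omega⟩ from rfl, hmove]
      simp

/-- the standard facts -/
structure Std (n t : ℕ) (L : List ℕ) (T : List (List ℕ)) : Prop where
  le : t ≤ n
  system : IsSteinerSystem t (t + 1) (sys n L)
  trans : transB n t L T = true
  rigid : ∀ σ ∈ setSystemAut (sys n L), (∀ i : Fin n, i.val < t → σ i = i) → σ = 1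

theorem std12 : Std 12 5 blocks12 trans12 where
  le := by norm_num
  system := steiner12
  trans := by decide +kernel
  rigid _ h hf := fix_base_eq_one (F := first12) (cert := rigid12) (by norm_num) (by norm_num) steiner12
    (by decide +kernel) (by decide +kernel) h hf

theorem std11 : Std 11 4 blocks11 trans11 where
  le := by norm_num
  system := steiner11
  trans := by decide +kernel
  rigid _ h hf := fix_base_eq_one (F := first11) (cert := rigid11) (by norm_num) (by norm_num) steiner11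
    (by decide +kernel) (by decide +kernel) h hf

variable {L : List ℕ} {T : List (List ℕ)}

theorem Std.le_of_trans (S : Std n t L T) {G : Subgroup (Equiv.Perm (Fin n))}
    (hG : ∀ k, ∀ P ∈ T.getD k [], permN n P ∈ setSystemAut (sys n L) → permN n P ∈ G) :
    setSystemAut (sys n L) ≤ G := by
  intro σ hσ
  obtain ⟨g, hg, hgx⟩ := moves S.le S.system S.trans hG t le_rfl (fun i => σ (baseEmb S.le i))
    (σ.injective.comp (baseEmb S.le).injective)
  have h1 : g⁻¹ * σ = 1 := S.rigid _ (mul_mem (inv_mem (Subgroup.mem_inf.1 hg).2) hσ) fun i hi => by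
    rw [Equiv.Perm.mul_apply, Equiv.Perm.inv_eq_iff_eq]
    exact (hgx ⟨i.val, hi⟩).symm
  rw [inv_mul_eq_one] at h1
  exact h1 ▸ (Subgroup.mem_inf.1 hg).1

theorem Std.orbit_base (S : Std n t L T) (x : Fin t ↪ Fin n) :
    ∃ g ∈ setSystemAut (sys n L), ∀ i, g (baseEmb S.le i) = x i := by
  obtain ⟨g, hg, hgx⟩ := moves S.le S.system S.trans (G := ⊤) (fun _ _ _ _ => Subgroup.mem_top _) t
    le_rfl x x.injective
  exact ⟨g, (Subgroup.mem_inf.1 hg).2, hgx⟩

theorem Std.stab_trivial (S : Std n t L T) {σ : Equiv.Perm (Fin n)} (hσ : σ ∈ setSystemAut (sys n L))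
    (x : Fin t ↪ Fin n) (h : ∀ i, σ (x i) = x i) : σ = 1 := by
  obtain ⟨g, hg, hgx⟩ := S.orbit_base x
  have h1 := S.rigid (g⁻¹ * σ * g) (mul_mem (mul_mem (inv_mem hg) hσ) hg) fun i hi => by
    rw [Equiv.Perm.mul_apply, Equiv.Perm.mul_apply,
      show g i = x ⟨i.val, hi⟩ from hgx ⟨i.val, hi⟩, h, Equiv.Perm.inv_eq_iff_eq]
    exact (hgx ⟨i.val, hi⟩).symm
  calc σ = g * (g⁻¹ * σ * g) * g⁻¹ := by group
    _ = 1 := by rw [h1, mul_one, mul_inv_cancel]

theorem Std.card_aut (S : Std n t L T) :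
    Nat.card (setSystemAut (sys n L)) = n.descFactorial t := by
  rw [show n.descFactorial t = Nat.card (Fin t ↪ Fin n) by
    rw [Nat.card_eq_fintype_card, Fintype.card_embedding_eq, Fintype.card_fin, Fintype.card_fin]]
  refine Nat.card_congr (Equiv.ofBijective
    (fun g : setSystemAut (sys n L) => (baseEmb S.le).trans g.1.toEmbedding) ⟨?_, ?_⟩)
  · intro a b h
    have h1 := S.stab_trivial (mul_mem (inv_mem a.2) b.2) (baseEmb S.le) fun i => by
      rw [Equiv.Perm.mul_apply, Equiv.Perm.inv_eq_iff_eq]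
      exact (DFunLike.congr_fun h i).symm
    exact Subtype.ext (inv_mul_eq_one.1 h1)
  · intro x
    obtain ⟨g, hg, hgx⟩ := S.orbit_base x
    exact ⟨⟨g, hg⟩, DFunLike.ext _ _ hgx⟩

/-! ### transport to any system -/

section Transport

variable {α : Type*} [DecidableEq α] {B : Set (Finset α)} (f : α ≃ Fin n)

theorem permCongr_smul (σ : Equiv.Perm α) (b : Finset α) :
    f.permCongr σ • b.image f = (σ • b).image f := by
  ext x
  simp [Finset.mem_smul_finset, Finset.mem_image]

theorem mem_aut_transport {S : Set (Finset (Fin n))} (hf : (fun b => b.image f) '' B = S)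
    (hB : IsSteinerSystem t (t + 1) B) (hS : IsSteinerSystem t (t + 1) S) (σ : Equiv.Perm α) :
    f.permCongr σ ∈ setSystemAut S ↔ σ ∈ setSystemAut B := by
  rw [mem_aut_iff hS, mem_aut_iff hB]
  subst hf
  constructor
  · intro h b hb
    obtain ⟨c, hc, e⟩ := h _ ⟨b, hb, rfl⟩
    rw [permCongr_smul] at e
    rwa [← Finset.image_injective f.injective e]
  · rintro h _ ⟨b, hb, rfl⟩
    exact ⟨_, h b hb, (permCongr_smul f σ b).symm⟩

/-- isomorphism of the groups -/
def autCongr {S : Set (Finset (Fin n))} (hf : (fun b => b.image f) '' B = S)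
    (hB : IsSteinerSystem t (t + 1) B) (hS : IsSteinerSystem t (t + 1) S) :
    setSystemAut B ≃* setSystemAut S where
  toFun σ := ⟨f.permCongr σ.1, (mem_aut_transport f hf hB hS σ.1).2 σ.2⟩
  invFun σ := ⟨f.symm.permCongr σ.1, (mem_aut_transport f hf hB hS _).1 (by
    rw [show f.permCongr (f.symm.permCongr σ.1) = σ.1 by ext i; simp]
    exact σ.2)⟩
  left_inv σ := Subtype.ext (by ext i; simp)
  right_inv σ := Subtype.ext (by ext i; simp)
  map_mul' σ τ := Subtype.ext (by ext i; simp)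

theorem system_props (S : Std n t L T) (hB : IsSteinerSystem t (t + 1) B)
    (hf : (fun b => b.image f) '' B = sys n L) :
    Nat.card (setSystemAut B) = n.descFactorial t ∧
      MulAction.IsMultiplyPretransitive (setSystemAut B) α t ∧
      ∀ x : Fin t ↪ α, MulAction.stabilizer (setSystemAut B) x = ⊥ := by
  refine ⟨?_, ?_, fun x => ?_⟩
  · rw [Nat.card_congr (autCongr f hf hB S.system).toEquiv, S.card_aut]
  · refine (MulAction.isPretransitive_iff _ _).2 fun x y => ?_
    obtain ⟨g, hg, hgx⟩ := S.orbit_base (x.trans f.toEmbedding)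
    obtain ⟨g', hg', hgy⟩ := S.orbit_base (y.trans f.toEmbedding)
    refine ⟨(autCongr f hf hB S.system).symm ⟨g' * g⁻¹, mul_mem hg' (inv_mem hg)⟩, ?_⟩
    ext i
    show f.symm.permCongr (g' * g⁻¹) (x i) = y i
    rw [Equiv.permCongr_apply, Equiv.symm_symm, Equiv.Perm.mul_apply,
      show g⁻¹ (f (x i)) = baseEmb S.le i from Equiv.Perm.inv_eq_iff_eq.2 (hgx i).symm, hgy]
    exact f.symm_apply_apply _
  · rw [eq_bot_iff]
    intro σ hσ
    have h1 := S.stab_trivial ((autCongr f hf hB S.system) σ).2 (x.trans f.toEmbedding) fun i => by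
      show f.permCongr σ.1 (f (x i)) = f (x i)
      rw [Equiv.permCongr_apply, Equiv.symm_apply_apply]
      exact congrArg f (DFunLike.congr_fun hσ i)
    rw [Subgroup.mem_bot]
    exact (autCongr f hf hB S.system).injective ((Subtype.ext h1).trans (map_one _).symm)

end Transport

/-! ### the systems on a dodecad -/

/-- hexads seen on the base dodecad -/
def hexSys : Set (Finset ↥D0) := {b | b.map (Function.Embedding.subtype _) ∈
  {h : Finset GolayPt | h.card = 6 ∧ ∃ o ∈ octads, o ∩ D0 = h}}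

/-- pentads seen on the base dodecad without its base point -/
def pentSys : Set (Finset ↥(D0.erase p0)) := {b | insert p0 (b.map (Function.Embedding.subtype _)) ∈
  {h : Finset GolayPt | h.card = 6 ∧ ∃ o ∈ octads, o ∩ D0 = h}}

theorem hex_through {s : Finset GolayPt} (hs : s.card = 5) (hsub : s ⊆ D0) :
    ∃! h, (h.card = 6 ∧ ∃ o ∈ octads, o ∩ D0 = h) ∧ s ⊆ h := by
  obtain ⟨o, ⟨ho, hso⟩, huniq⟩ := steiner_octads.2 s hs
  refine ⟨o ∩ D0, ⟨⟨?_, o, ho, rfl⟩, Finset.subset_inter hso hsub⟩, ?_⟩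
  · have h := dO_cases (one_mem M24) ho
    rw [one_smul, Finset.inter_comm] at h
    have h5 := Finset.card_le_card (Finset.subset_inter hso hsub)
    simp only [List.mem_cons, List.not_mem_nil, or_false] at h
    omega
  rintro _ ⟨⟨-, o', ho', rfl⟩, hs'⟩
  rw [huniq o' ⟨ho', hs'.trans Finset.inter_subset_left⟩]

theorem hexSys_steiner : IsSteinerSystem 5 6 hexSys := by
  refine ⟨fun b hb => (Finset.card_map _).symm.trans hb.1, fun s hs => ?_⟩
  obtain ⟨h, ⟨hh, hsub⟩, huniq⟩ := hex_through (s := s.map (Function.Embedding.subtype _))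
    (by rw [Finset.card_map, hs]) (by intro x hx; obtain ⟨y, -, rfl⟩ := Finset.mem_map.1 hx; exact y.2)
  have hhD : h ⊆ D0 := by obtain ⟨-, o, -, rfl⟩ := hh; exact Finset.inter_subset_right
  refine ⟨h.subtype (· ∈ D0), ⟨?_, ?_⟩, ?_⟩
  · show (h.subtype (· ∈ D0)).map (Function.Embedding.subtype _) ∈
      {h : Finset GolayPt | h.card = 6 ∧ ∃ o ∈ octads, o ∩ D0 = h}
    rw [Finset.subtype_map, Finset.filter_true_of_mem fun x hx => hhD hx]
    exact hh
  · intro x hx
    rw [Finset.mem_subtype]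
    exact hsub (Finset.mem_map_of_mem _ hx)
  rintro b ⟨hb, hsb⟩
  rw [← huniq _ ⟨hb, Finset.map_subset_map.2 hsb⟩]
  ext x
  simp

theorem pentSys_steiner : IsSteinerSystem 4 5 pentSys := by
  have hnot : ∀ s : Finset ↥(D0.erase p0), p0 ∉ s.map (Function.Embedding.subtype _) := by
    intro s hs
    obtain ⟨⟨y, hy⟩, -, e⟩ := Finset.mem_map.1 hs
    exact (Finset.mem_erase.1 hy).1 e
  refine ⟨fun b hb => ?_, fun s hs => ?_⟩
  · have h : (insert p0 (b.map _)).card = 6 := hb.1
    rw [Finset.card_insert_of_notMem (hnot b), Finset.card_map] at h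
    omega
  obtain ⟨h, ⟨hh, hsub⟩, huniq⟩ := hex_through (s := insert p0 (s.map (Function.Embedding.subtype _)))
    (by rw [Finset.card_insert_of_notMem (hnot s), Finset.card_map, hs]) (by
      intro x hx
      rcases Finset.mem_insert.1 hx with rfl | hx
      · exact m11X_mem
      · obtain ⟨y, -, rfl⟩ := Finset.mem_map.1 hx
        exact Finset.mem_of_mem_erase y.2)
  have hhD : h ⊆ D0 := by obtain ⟨-, o, -, rfl⟩ := hh; exact Finset.inter_subset_right
  have hp : p0 ∈ h := hsub (Finset.mem_insert_self _ _)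
  refine ⟨h.subtype (· ∈ D0.erase p0), ⟨?_, ?_⟩, ?_⟩
  · show insert p0 ((h.subtype (· ∈ D0.erase p0)).map (Function.Embedding.subtype _)) ∈
      {h : Finset GolayPt | h.card = 6 ∧ ∃ o ∈ octads, o ∩ D0 = h}
    rw [Finset.subtype_map, show h.filter (· ∈ D0.erase p0) = h.erase p0 by
      ext x; simp only [Finset.mem_filter, Finset.mem_erase]; exact
        ⟨fun h => ⟨h.2.1, h.1⟩, fun h => ⟨h.2, h.1, hhD h.2⟩⟩, Finset.insert_erase hp]
    exact hh
  · intro x hx
    rw [Finset.mem_subtype]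
    exact hsub (Finset.mem_insert_of_mem (Finset.mem_map_of_mem _ hx))
  rintro b ⟨hb, hsb⟩
  rw [← huniq _ ⟨hb, Finset.insert_subset_insert _ (Finset.map_subset_map.2 hsb)⟩]
  ext ⟨x, hx⟩
  rw [Finset.mem_subtype]
  constructor
  · intro h
    exact Finset.mem_insert_of_mem (Finset.mem_map.2 ⟨⟨x, hx⟩, h, rfl⟩)
  · intro h
    rcases Finset.mem_insert.1 h with rfl | h
    · exact absurd rfl (Finset.mem_erase.1 hx).1
    · obtain ⟨y, hy, e⟩ := Finset.mem_map.1 h
      rwa [show (⟨x, hx⟩ : ↥(D0.erase p0)) = y from Subtype.ext e.symm]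

section Restrict

variable (H : Subgroup ↥M24) (S : Finset GolayPt) (hS : ∀ h ∈ H, ∀ y ∈ S, h • y ∈ S)

/-- restriction to an invariant set -/
def restrPerm : H →* Equiv.Perm ↥S where
  toFun h :=
    { toFun := fun y => ⟨(h : ↥M24) • (y : GolayPt), hS _ h.2 _ y.2⟩
      invFun := fun y => ⟨(h : ↥M24)⁻¹ • (y : GolayPt), hS _ (inv_mem h.2) _ y.2⟩
      left_inv := fun y => Subtype.ext (inv_smul_smul _ _)
      right_inv := fun y => Subtype.ext (smul_inv_smul _ _) }
  map_one' := Equiv.ext fun y => Subtype.ext (one_smul _ _)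
  map_mul' a b := Equiv.ext fun y => Subtype.ext (mul_smul _ _ _)

theorem restr_map (h : H) (b : Finset ↥S) :
    (restrPerm H S hS h • b).map (Function.Embedding.subtype _) =
      ((h : ↥M24) : Equiv.Perm GolayPt) • b.map (Function.Embedding.subtype _) := by
  ext x
  simp only [Finset.mem_map, Finset.mem_smul_finset]
  constructor
  · rintro ⟨_, ⟨y, hy, rfl⟩, rfl⟩; exact ⟨_, ⟨y, hy, rfl⟩, rfl⟩
  · rintro ⟨_, ⟨y, hy, rfl⟩, rfl⟩; exact ⟨_, ⟨y, hy, rfl⟩, rfl⟩

theorem equiv_restr {t : ℕ} {B : Set (Finset ↥S)} (hB : IsSteinerSystem t (t + 1) B)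
    (hfaith : ∀ h ∈ H, (∀ y ∈ S, h • y = y) → h = 1)
    (hinv : ∀ h : H, ∀ b ∈ B, restrPerm H S hS h • b ∈ B)
    (hcard : Nat.card H = Nat.card (setSystemAut B)) :
    Nonempty (↥H ≃* setSystemAut B) := by
  let f : H →* setSystemAut B :=
    (restrPerm H S hS).codRestrict _ fun h => (mem_aut_iff hB _).2 (hinv h)
  have hinj : Function.Injective f := by
    refine (injective_iff_map_eq_one f).2 fun h hh => Subtype.ext (hfaith h h.2 fun y hy => ?_)
    exact congrArg Subtype.val (DFunLike.congr_fun (congrArg Subtype.val hh) (⟨y, hy⟩ : ↥S))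
  exact ⟨MulEquiv.ofBijective f ((Nat.bijective_iff_injective_and_card f).2 ⟨hinj, hcard⟩)⟩

end Restrict

theorem isM12_aut {α : Type*} [Fintype α] [DecidableEq α] (hα : Fintype.card α = 12)
    {B : Set (Finset α)} (hB : IsSteinerSystem 5 6 B) :
    IsM12 (setSystemAut B) ∧ MulAction.IsMultiplyPretransitive (setSystemAut B) α 5 ∧
      ∀ x : Fin 5 ↪ α, MulAction.stabilizer (setSystemAut B) x = ⊥ := by
  obtain ⟨f, hf⟩ := unique12 hα hB
  obtain ⟨hc, h1, h2⟩ := system_props (t := 5) f std12 hB hf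
  refine ⟨⟨?_, hc.trans (by decide +kernel)⟩, h1, h2⟩
  obtain ⟨g, hg⟩ := unique12 (α := ↥D0) ((Fintype.card_coe _).trans D0_mem.2) hexSys_steiner
  have hS : ∀ h ∈ MulAction.stabilizer M24 D0, ∀ y ∈ D0, h • y ∈ D0 :=
    fun h hh y hy => M24Simple.stab_dod_mem hh hy
  have hfaith : ∀ h ∈ MulAction.stabilizer M24 D0, (∀ y ∈ D0, h • y = y) → h = 1 :=
    fun h hh hy => M24Simple.dod_faithful D0_mem hh hy
  have hinv : ∀ h : ↥(MulAction.stabilizer M24 D0), ∀ b ∈ hexSys,
      restrPerm (MulAction.stabilizer M24 D0) D0 hS h • b ∈ hexSys := by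
    intro h b hb
    have hh : ((h : ↥M24) : Equiv.Perm GolayPt) • D0 = D0 := h.2
    obtain ⟨h6, o, ho, he⟩ := hb
    rw [hexSys, Set.mem_setOf_eq, restr_map, Set.mem_setOf_eq]
    refine ⟨by rw [Finset.card_smul_finset, h6], _, smul_mem_octads (h : ↥M24).2 ho, ?_⟩
    rw [← he, smul_inter_perm, hh]
  have hcard : Nat.card ↥(MulAction.stabilizer M24 D0) = Nat.card (setSystemAut hexSys) := by
    rw [card_stab_dodecad D0_mem, (system_props (t := 5) g std12 hexSys_steiner hg).1]
    decide +kernel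
  obtain ⟨e⟩ := equiv_restr (MulAction.stabilizer M24 D0) D0 hS (t := 5) hexSys_steiner hfaith hinv hcard
  haveI := M24Simple.m12_simple D0 D0_mem
  exact ((((autCongr (t := 5) f hf hB steiner12).trans
    (autCongr (t := 5) g hg hexSys_steiner steiner12).symm)).trans e.symm).isSimpleGroup

theorem isM11_aut {α : Type*} [Fintype α] [DecidableEq α] (hα : Fintype.card α = 11)
    {B : Set (Finset α)} (hB : IsSteinerSystem 4 5 B) :
    IsM11 (setSystemAut B) ∧ MulAction.IsMultiplyPretransitive (setSystemAut B) α 4 ∧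
      ∀ x : Fin 4 ↪ α, MulAction.stabilizer (setSystemAut B) x = ⊥ := by
  obtain ⟨f, hf⟩ := unique11 hα hB
  obtain ⟨hc, h1, h2⟩ := system_props (t := 4) f std11 hB hf
  refine ⟨⟨?_, hc.trans (by decide +kernel)⟩, h1, h2⟩
  obtain ⟨g, hg⟩ := unique11 (α := ↥(D0.erase p0))
    ((Fintype.card_coe _).trans (by rw [Finset.card_erase_of_mem m11X_mem, D0_mem.2])) pentSys_steiner
  set H := MulAction.stabilizer M24 D0 ⊓ MulAction.stabilizer M24 p0
  have hS : ∀ h ∈ H, ∀ y ∈ D0.erase p0, h • y ∈ D0.erase p0 := by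
    intro h hh y hy
    rw [Finset.mem_erase] at hy ⊢
    exact ⟨fun e => hy.1 (smul_left_cancel h (by rw [e]; exact (MulAction.mem_stabilizer_iff.1 hh.2).symm)),
      M24Simple.stab_dod_mem hh.1 hy.2⟩
  have hfaith : ∀ h ∈ H, (∀ y ∈ D0.erase p0, h • y = y) → h = 1 := fun h hh hfix =>
    M24Simple.dod_faithful D0_mem hh.1 fun y hy => by
      by_cases hy' : y = p0
      · subst hy'; exact hh.2
      · exact hfix y (Finset.mem_erase.2 ⟨hy', hy⟩)
  have hinv : ∀ h : ↥H, ∀ b ∈ pentSys, restrPerm H (D0.erase p0) hS h • b ∈ pentSys := by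
    intro h b hb
    have hp : ((h : ↥M24) : Equiv.Perm GolayPt) • p0 = p0 := h.2.2
    have hh : ((h : ↥M24) : Equiv.Perm GolayPt) • D0 = D0 := h.2.1
    obtain ⟨h6, o, ho, he⟩ := hb
    rw [pentSys, Set.mem_setOf_eq, restr_map,
      show insert p0 (((h : ↥M24) : Equiv.Perm GolayPt) • b.map (Function.Embedding.subtype _)) =
        ((h : ↥M24) : Equiv.Perm GolayPt) • insert p0 (b.map (Function.Embedding.subtype _)) by
          rw [Finset.smul_finset_insert, hp], Set.mem_setOf_eq]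
    refine ⟨by rw [Finset.card_smul_finset, h6], _, smul_mem_octads (h : ↥M24).2 ho, ?_⟩
    rw [← he, smul_inter_perm, hh]
  have hcard : Nat.card ↥H = Nat.card (setSystemAut pentSys) := by
    rw [M24Simple.card_m11 D0_mem m11X_mem, (system_props (t := 4) g std11 pentSys_steiner hg).1]
    decide +kernel
  obtain ⟨e⟩ := equiv_restr H (D0.erase p0) hS (t := 4) pentSys_steiner hfaith hinv hcard
  haveI := M24Simple.m11_simple D0 D0_mem p0 m11X_mem
  exact ((((autCongr (t := 4) f hf hB steiner11).trans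
    (autCongr (t := 4) g hg pentSys_steiner steiner11).symm)).trans e.symm).isSimpleGroup

end CfsgLib.Spor.SmallSteiner
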