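import Cfsg.Agent.Spor.M24Simple
import Cfsg.Agent.Spor.SteinerUnique
import Cfsg.Agent.Spor.Octads
import Cfsg.Prelude.Def_Sporadic

/-!
Automorphisms of isomorphic families of sets; the group of an S(5,8,24).
-/

set_option autoImplicit false

namespace CfsgLib.Spor.M24Aut

open Cfsg MulAction
open scoped Pointwise

variable {α β : Type*} [DecidableEq α] [DecidableEq β]

theorem smul_image (e : α ≃ β) (σ : Equiv.Perm α) (b : Finset α) :
    e.permCongr σ • b.image e = (σ • b).image e := by
  rw [Finset.smul_finset_def, Finset.smul_finset_def, Finset.image_image, Finset.image_image]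
  refine Finset.image_congr fun x _ => ?_
  simp [Equiv.permCongr_apply]

theorem smul_family (e : α ≃ β) (σ : Equiv.Perm α) (B : Set (Finset α)) :
    e.permCongr σ • ((fun b => b.image e) '' B) = (fun b => b.image e) '' (σ • B) := by
  rw [← Set.image_smul, ← Set.image_smul, Set.image_image, Set.image_image]
  simp only [smul_image]

theorem mem_aut_iff (e : α ≃ β) (σ : Equiv.Perm α) (B : Set (Finset α)) :
    σ ∈ setSystemAut B ↔ e.permCongr σ ∈ setSystemAut ((fun b => b.image e) '' B) := by
  rw [mem_stabilizer_iff, mem_stabilizer_iff, smul_family]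
  exact ⟨fun h => by rw [h], fun h => (Finset.image_injective e.injective).image_injective h⟩

theorem map_aut (e : α ≃ β) (B : Set (Finset α)) :
    (setSystemAut B).map e.permCongrHom.toMonoidHom = setSystemAut ((fun b => b.image e) '' B) := by
  ext τ
  obtain ⟨σ, rfl⟩ := e.permCongrHom.surjective τ
  rw [Subgroup.mem_map_equiv, MulEquiv.symm_apply_apply]
  exact mem_aut_iff e σ B

/-- the automorphism group moves along a bijection -/
noncomputable def autEquiv (e : α ≃ β) (B : Set (Finset α)) :
    setSystemAut B ≃* setSystemAut ((fun b => b.image e) '' B) :=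
  (e.permCongrHom.subgroupMap (setSystemAut B)).trans (MulEquiv.subgroupCongr (map_aut e B))

theorem steiner_isM24 {α : Type*} [Fintype α] [DecidableEq α] (hα : Fintype.card α = 24)
    {B : Set (Finset α)} (hB : IsSteinerSystem 5 8 B) :
    IsM24 (setSystemAut B) ∧ IsMultiplyPretransitive (setSystemAut B) α 5 := by
  obtain ⟨e, he⟩ := SteinerUnique.iso_octads hB hα
  have hmap : ∀ σ, σ ∈ setSystemAut B ↔ e.permCongr σ ∈ M24 := fun σ => by
    rw [mem_aut_iff e σ B, he, ← M24_eq_aut_octads]
  let eq : setSystemAut B ≃* M24 :=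
    (autEquiv e B).trans (MulEquiv.subgroupCongr (by rw [he, ← M24_eq_aut_octads]))
  haveI := M24Simple.m24_simple
  refine ⟨⟨eq.isSimpleGroup, by rw [Nat.card_congr eq.toEquiv, card_M24]⟩, ?_⟩
  refine ⟨fun x y => ?_⟩
  obtain ⟨g, hg⟩ := M24Simple.m24_move le_rfl (fun i => e (x i)) (fun i => e (y i))
    (e.injective.comp x.injective) (e.injective.comp y.injective)
  refine ⟨⟨e.symm.permCongr (g : Equiv.Perm GolayPt), (hmap _).2 ?_⟩, ?_⟩
  · rw [show e.permCongr (e.symm.permCongr (g : Equiv.Perm GolayPt)) = g from Equiv.ext fun z => by simp]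
    exact g.2
  · refine DFunLike.ext _ _ fun i => ?_
    show e.symm.permCongr (g : Equiv.Perm GolayPt) (x i) = y i
    rw [Equiv.permCongr_apply, Equiv.symm_symm]
    exact e.injective (by rw [Equiv.apply_symm_apply]; exact hg i)

end CfsgLib.Spor.M24Aut
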