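import Cfsg.Agent.Spor.GolayUnique
import Cfsg.Agent.Spor.M24Aut

/-!
The systems S(4,7,23) and S(3,6,22) are derived from the S(5,8,24).
-/

set_option autoImplicit false

namespace CfsgLib.Spor.SteinerDerived

open Cfsg Finset MulAction CfsgLib.Spor.SteinerCount
open scoped symmDiff Pointwise
open CfsgLib.Spor.GolayUnique (ind ind_sup ind_symmDiff)

section General

variable {γ : Type*} [Fintype γ] [DecidableEq γ]

/-- scalar product of binary words -/
def dot : (γ → ZMod 2) →ₗ[ZMod 2] (γ → ZMod 2) →ₗ[ZMod 2] ZMod 2 :=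
  LinearMap.mk₂ (ZMod 2) (fun v w => ∑ a, v a * w a)
    (fun u v w => by simp [add_mul, Finset.sum_add_distrib])
    (fun c v w => by simp [Finset.mul_sum, mul_assoc])
    (fun u v w => by simp [mul_add, Finset.sum_add_distrib])
    (fun c v w => by simp [Finset.mul_sum, mul_left_comm])

theorem dot_comm (v w : γ → ZMod 2) : dot v w = dot w v :=
  Finset.sum_congr rfl fun _ _ => mul_comm _ _

theorem dot_ind (e : Finset γ) (v : γ → ZMod 2) : dot (ind e) v = ((e ∩ support₂ v).card : ZMod 2) := by
  rw [← GolayUnique.sup_ind (e ∩ support₂ v), GolayUnique.weight_parity]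
  refine Finset.sum_congr rfl fun a _ => ?_
  show ind e a * v a = ind (e ∩ support₂ v) a
  simp only [ind, mem_inter, GolayUnique.mem_sup]
  generalize v a = x
  revert x
  by_cases h : a ∈ e <;> simp [h] <;> decide

theorem dot_self (v : γ → ZMod 2) : dot v v = ((support₂ v).card : ZMod 2) :=
  (GolayUnique.weight_parity' v).symm

theorem dot_one (v : γ → ZMod 2) : dot 1 v = ((support₂ v).card : ZMod 2) := by
  rw [GolayUnique.weight_parity]
  exact Finset.sum_congr rfl fun a _ => one_mul _

theorem dot_injective : Function.Injective (dot : (γ → ZMod 2) →ₗ[ZMod 2] _) := by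
  intro v w h
  funext a
  have := LinearMap.congr_fun h (Pi.single a 1)
  simpa [dot, Pi.single_apply] using this

theorem dot_surjective : Function.Surjective (dot : (γ → ZMod 2) →ₗ[ZMod 2] _) :=
  (LinearMap.injective_iff_surjective_of_finrank_eq_finrank (Subspace.dual_finrank_eq).symm).1 dot_injective

/-- orthogonal words -/
def perp (C : Submodule (ZMod 2) (γ → ZMod 2)) : Submodule (ZMod 2) (γ → ZMod 2) :=
  C.dualAnnihilator.comap dot

theorem mem_perp {C : Submodule (ZMod 2) (γ → ZMod 2)} {v : γ → ZMod 2} :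
    v ∈ perp C ↔ ∀ c ∈ C, dot v c = 0 := by
  rw [perp, Submodule.mem_comap, Submodule.mem_dualAnnihilator]

theorem finrank_perp (C : Submodule (ZMod 2) (γ → ZMod 2)) :
    Module.finrank (ZMod 2) C + Module.finrank (ZMod 2) (perp C) = Fintype.card γ := by
  let L : (γ → ZMod 2) ≃ₗ[ZMod 2] Module.Dual (ZMod 2) (γ → ZMod 2) :=
    LinearEquiv.ofBijective dot ⟨dot_injective, dot_surjective⟩
  have h := Subspace.finrank_add_finrank_dualAnnihilator_eq C
  have e : Module.finrank (ZMod 2) (perp C) = Module.finrank (ZMod 2) C.dualAnnihilator :=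
    (L.submoduleMap (perp C)).finrank_eq.trans
      (congrArg (fun S : Submodule (ZMod 2) (Module.Dual (ZMod 2) (γ → ZMod 2)) => Module.finrank (ZMod 2) S)
        (Submodule.map_comap_eq_of_surjective dot_surjective _))
  rw [e, h, Module.finrank_fintype_fun_eq_card]

theorem mem_perp_span {S : Set (γ → ZMod 2)} {v : γ → ZMod 2} :
    v ∈ perp (Submodule.span (ZMod 2) S) ↔ ∀ s ∈ S, dot s v = 0 := by
  rw [mem_perp]
  refine ⟨fun h s hs => (dot_comm s v).trans (h s (Submodule.subset_span hs)), fun h c hc => ?_⟩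
  induction hc using Submodule.span_induction with
  | mem x hx => rw [dot_comm]; exact h x hx
  | zero => simp
  | add x y _ _ hx hy => simp [hx, hy]
  | smul a x _ hx => simp [hx]

theorem span_le_perp {S : Set (γ → ZMod 2)} (h : ∀ s ∈ S, ∀ t ∈ S, dot s t = 0) :
    Submodule.span (ZMod 2) S ≤ perp (Submodule.span (ZMod 2) S) :=
  Submodule.span_le.2 fun t ht => mem_perp_span.2 fun s hs => h s hs t ht

/-- an even code with minimum weight eight has dimension at most twelve -/
theorem card_quot_ge (hcard : Fintype.card γ = 24) {D : Submodule (ZMod 2) (γ → ZMod 2)}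
    (hev : ∀ w ∈ D, 2 ∣ (support₂ w).card) (hmin : ∀ w ∈ D, w ≠ 0 → 8 ≤ (support₂ w).card) :
    4096 ≤ Nat.card ((γ → ZMod 2) ⧸ D) := by
  classical
  obtain ⟨a⟩ : Nonempty γ := Fintype.card_pos_iff.1 (by rw [hcard]; norm_num)
  set T := GolayUnique.layer γ 1 ∪ GolayUnique.layer γ 3
  have hT : T.card = 2048 := by
    rw [card_union_of_disjoint, GolayUnique.layer, GolayUnique.layer, card_powersetCard, card_powersetCard,
      card_univ, hcard]
    · decide
    · rw [Finset.disjoint_left]
      simp only [GolayUnique.layer, mem_powersetCard]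
      rintro t ⟨-, e⟩ ⟨-, e'⟩
      omega
  have hcls : ∀ t ∈ T, t.card = 1 ∨ t.card = 3 := by
    intro t ht
    simp only [T, GolayUnique.layer, mem_union, mem_powersetCard] at ht
    rcases ht with ⟨-, e⟩ | ⟨-, e⟩ <;> omega
  have hshort : ∀ s t : Finset γ, GolayUnique.cls D s = GolayUnique.cls D t → (s ∆ t).card < 8 → s = t := by
    intro s t he hlt
    rw [GolayUnique.cls_eq_iff] at he
    by_contra hne
    have := hmin _ he (fun e => hne (symmDiff_eq_bot.1 (by rw [← GolayUnique.sup_ind (s ∆ t), e, GolayUnique.sup_zero]; rfl)))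
    rw [GolayUnique.sup_ind] at this
    omega
  let f : Finset γ ⊕ Finset γ → (γ → ZMod 2) ⧸ D :=
    Sum.elim (GolayUnique.cls D) (fun t => GolayUnique.cls D (t ∆ {a}))
  have hf : Set.InjOn f ↑(T.disjSum T) := by
    rintro (s | s) hs (t | t) ht e
    · simp only [mem_coe, inl_mem_disjSum] at hs ht
      have h1 := GolayUnique.card_sd s t
      rw [hshort s t e (by rcases hcls s hs with e | e <;> rcases hcls t ht with e' | e' <;> omega)]
    · simp only [mem_coe, inl_mem_disjSum, inr_mem_disjSum] at hs ht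
      exfalso
      have e' : GolayUnique.cls D s = GolayUnique.cls D (t ∆ {a}) := e
      have h0 := hev _ (GolayUnique.cls_eq_iff.1 e')
      rw [GolayUnique.sup_ind] at h0
      have h1 := GolayUnique.card_sd s (t ∆ {a})
      have h2 := GolayUnique.card_sd t {a}
      rw [card_singleton] at h2
      rcases hcls s hs with e | e <;> rcases hcls t ht with e' | e' <;> omega
    · simp only [mem_coe, inl_mem_disjSum, inr_mem_disjSum] at hs ht
      exfalso
      have e' : GolayUnique.cls D (s ∆ {a}) = GolayUnique.cls D t := e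
      have h0 := hev _ (GolayUnique.cls_eq_iff.1 e')
      rw [GolayUnique.sup_ind] at h0
      have h1 := GolayUnique.card_sd (s ∆ {a}) t
      have h2 := GolayUnique.card_sd s {a}
      rw [card_singleton] at h2
      rcases hcls s hs with e | e <;> rcases hcls t ht with e' | e' <;> omega
    · simp only [mem_coe, inr_mem_disjSum] at hs ht
      have e' : GolayUnique.cls D (s ∆ {a}) = GolayUnique.cls D (t ∆ {a}) := e
      have h0 : GolayUnique.cls D s = GolayUnique.cls D t := by
        rw [GolayUnique.cls_eq_iff] at e' ⊢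
        rwa [show (s ∆ {a}) ∆ (t ∆ {a}) = s ∆ t by
          rw [symmDiff_symmDiff_symmDiff_comm, symmDiff_self, symmDiff_bot]] at e'
      have h1 := GolayUnique.card_sd s t
      rw [hshort s t h0 (by rcases hcls s hs with e | e <;> rcases hcls t ht with e' | e' <;> omega)]
  have h := Set.ncard_le_ncard (Set.subset_univ (f '' ↑(T.disjSum T))) (Set.toFinite _)
  rw [hf.ncard_image, Set.ncard_coe_finset, card_disjSum, hT, Set.ncard_univ] at h
  exact h

theorem finrank_le_of_quot {D : Submodule (ZMod 2) (γ → ZMod 2)} {k : ℕ}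
    (h : 2 ^ k ≤ Nat.card ((γ → ZMod 2) ⧸ D)) :
    k + Module.finrank (ZMod 2) D ≤ Fintype.card γ := by
  rw [Module.natCard_eq_pow_finrank (K := ZMod 2), Nat.card_zmod,
    Nat.pow_le_pow_iff_right (by norm_num : 1 < 2)] at h
  have h2 := Submodule.finrank_quotient_add_finrank D
  rw [Module.finrank_fintype_fun_eq_card] at h2
  omega

theorem mem_aut_of_maps {W : Set (Finset γ)} {σ : Equiv.Perm γ} (h : ∀ b ∈ W, σ • b ∈ W) :
    σ ∈ setSystemAut W := by
  rw [mem_stabilizer_iff]
  refine Set.eq_of_subset_of_ncard_le ?_ ?_ (Set.toFinite _)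
  · rintro _ ⟨b, hb, rfl⟩; exact h b hb
  · rw [← Set.image_smul, (MulAction.injective σ).injOn.ncard_image]

end General

theorem lift_mem {γ : Type*} [Fintype γ] [DecidableEq γ] {W : Set (Finset γ)} (e : γ ≃ GolayPt)
    (he : (fun b => b.image e) '' W = octads) {σ : Equiv.Perm γ} (h : ∀ b ∈ W, σ • b ∈ W) :
    e.permCongr σ ∈ M24 := by
  rw [M24_eq_aut_octads, ← he]
  exact (M24Aut.mem_aut_iff e σ W).1 (mem_aut_of_maps h)

theorem move_equiv {γ : Type*} [Fintype γ] [DecidableEq γ] {W : Set (Finset γ)} {k : ℕ} (hk : k ≤ 5)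
    (e : γ ≃ GolayPt) (he : (fun b => b.image e) '' W = octads) (x : Fin k → γ) (y : Fin k → GolayPt)
    (hx : Function.Injective x) (hy : Function.Injective y) :
    ∃ e' : γ ≃ GolayPt, (fun b => b.image e') '' W = octads ∧ ∀ i, e' (x i) = y i := by
  obtain ⟨g, hg⟩ := M24Simple.m24_move hk (fun i => e (x i)) y (e.injective.comp hx) hy
  have hgo : (g : Equiv.Perm GolayPt) • octads = octads :=
    (SetLike.ext_iff.1 M24_eq_aut_octads (g : Equiv.Perm GolayPt)).1 g.2
  refine ⟨e.trans (g : Equiv.Perm GolayPt), ?_, hg⟩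
  conv_rhs => rw [← hgo, ← he, ← Set.image_smul, Set.image_image]
  refine Set.image_congr fun b _ => ?_
  rw [Finset.smul_finset_def, Finset.image_image]
  rfl

section TwentyThree

variable {α : Type*} [Fintype α] [DecidableEq α] {B : Set (Finset α)}

/-- extended blocks -/
def ext1 (b : Finset α) : Finset (Option α) := insertNone b

theorem ext1_inter (b : Finset α) (v : Option α → ZMod 2) :
    (ext1 b ∩ support₂ v).card =
      (b ∩ support₂ (fun a => v (some a))).card + (if v none = 0 then 0 else 1) := by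
  by_cases h : v none = 0
  · rw [if_pos h, add_zero, ← card_map Function.Embedding.some (s := b ∩ _)]
    congr 1
    ext x
    cases x <;> simp [ext1, GolayUnique.mem_sup, h]
  · rw [if_neg h, ← card_insertNone]
    congr 1
    ext x
    cases x <;> simp [ext1, GolayUnique.mem_sup, h]

theorem card_sup1 (v : Option α → ZMod 2) : (support₂ v).card =
    (support₂ (fun a => v (some a))).card + (if v none = 0 then 0 else 1) := by
  have := ext1_inter univ v
  rwa [univ_inter, show ext1 (univ : Finset α) = univ from Finset.ext (fun x => by cases x <;> simp [ext1]),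
    univ_inter] at this

theorem seven_counts (hB : IsSteinerSystem 4 7 B) (hα : Fintype.card α = 23) (X : Finset α) :
    ((∀ b ∈ B, (b ∩ X).card % 2 = 0) → X.card = 2 ∨ X.card = 4 ∨ X.card = 6 → False) ∧
    ((∀ b ∈ B, (b ∩ X).card % 2 = 1) → X.card = 1 ∨ X.card = 3 ∨ X.card = 5 → False) := by
  constructor
  · intro hev hc
    have z : ∀ i, i % 2 = 1 → meet B X i = 0 := fun i hi => meet_eq_zero fun b hb e => by
      have := hev b hb; omega
    have e0 := count_meet hB X (j := 0) (lam := 253) (N := 7) (by norm_num) (by norm_num) (by rw [hα]; decide) (by omega)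
    have e1 := count_meet hB X (j := 1) (lam := 77) (N := 7) (by norm_num) (by norm_num) (by rw [hα]; decide) (by omega)
    have e2 := count_meet hB X (j := 2) (lam := 21) (N := 7) (by norm_num) (by norm_num) (by rw [hα]; decide) (by omega)
    have e3 := count_meet hB X (j := 3) (lam := 5) (N := 7) (by norm_num) (by norm_num) (by rw [hα]; decide) (by omega)
    have e4 := count_meet hB X (j := 4) (lam := 1) (N := 7) (by norm_num) (by norm_num) (by rw [hα]; decide) (by omega)
    rcases hc with hc | hc | hc <;>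
    · simp only [sum_range_succ, sum_range_zero, Nat.choose, hc, z 1 rfl, z 3 rfl, z 5 rfl] at e0 e1 e2 e3 e4
      omega
  · intro hev hc
    have z : ∀ i, i % 2 = 0 → meet B X i = 0 := fun i hi => meet_eq_zero fun b hb e => by
      have := hev b hb; omega
    have e0 := count_meet hB X (j := 0) (lam := 253) (N := 6) (by norm_num) (by norm_num) (by rw [hα]; decide) (by omega)
    have e1 := count_meet hB X (j := 1) (lam := 77) (N := 6) (by norm_num) (by norm_num) (by rw [hα]; decide) (by omega)
    have e2 := count_meet hB X (j := 2) (lam := 21) (N := 6) (by norm_num) (by norm_num) (by rw [hα]; decide) (by omega)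
    have e3 := count_meet hB X (j := 3) (lam := 5) (N := 6) (by norm_num) (by norm_num) (by rw [hα]; decide) (by omega)
    have e4 := count_meet hB X (j := 4) (lam := 1) (N := 6) (by norm_num) (by norm_num) (by rw [hα]; decide) (by omega)
    rcases hc with hc | hc | hc <;>
    · simp only [sum_range_succ, sum_range_zero, Nat.choose, hc, z 0 rfl, z 2 rfl, z 4 rfl] at e0 e1 e2 e3 e4
      omega

/-- the code spanned by the extended blocks -/
def code1 (B : Set (Finset α)) : Submodule (ZMod 2) (Option α → ZMod 2) :=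
  Submodule.span (ZMod 2) ((fun b => ind (ext1 b)) '' B)

theorem mem_perp_code1 {v : Option α → ZMod 2} : v ∈ perp (code1 B) ↔
    ∀ b ∈ B, ((b ∩ support₂ (fun a => v (some a))).card + (if v none = 0 then 0 else 1)) % 2 = 0 := by
  simp only [code1, mem_perp_span, Set.forall_mem_image, dot_ind, ext1_inter, ZMod.natCast_eq_zero_iff,
    Nat.dvd_iff_mod_eq_zero]

theorem code1_golay (hB : IsSteinerSystem 4 7 B) (hα : Fintype.card α = 23) :
    GolayUnique.IsGolayLike (code1 B) ∧ perp (code1 B) = code1 B := by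
  classical
  have hcard : Fintype.card (Option α) = 24 := by rw [Fintype.card_option, hα]
  have hone : (1 : Option α → ZMod 2) ∈ code1 B := by
    have : (1 : Option α → ZMod 2) = ∑ b ∈ blocks B, ind (ext1 b) := by
      funext x
      rw [Finset.sum_apply]
      cases x with
      | none =>
        simp only [Pi.one_apply, ind, ext1, Finset.none_mem_insertNone, if_true, Finset.sum_const, nsmul_eq_mul, mul_one]
        have h := count_above hB (s := (∅ : Finset α)) (by simp)
        simp only [card_empty, Nat.sub_zero, empty_subset, filter_true, hα] at h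
        rw [show (7 : ℕ).choose 4 = 35 by decide, show (23 : ℕ).choose 4 = 8855 by decide] at h
        rw [show (blocks B).card = 253 by omega]
        decide
      | some a =>
        simp only [Pi.one_apply, ind, ext1, Finset.some_mem_insertNone, Finset.sum_boole]
        have h := count_above hB (s := ({a} : Finset α)) (by simp)
        simp only [card_singleton, singleton_subset_iff, hα] at h
        rw [show (7 - 1 : ℕ).choose (4 - 1) = 20 by decide, show (23 - 1 : ℕ).choose (4 - 1) = 1540 by decide] at h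
        rw [show ((blocks B).filter (a ∈ ·)).card = 77 by omega]
        decide
    rw [this]
    exact Submodule.sum_mem _ fun b hb => Submodule.subset_span ⟨b, mem_blocks.1 hb, rfl⟩
  have hev : ∀ w ∈ perp (code1 B), 2 ∣ (support₂ w).card := fun w hw => by
    rw [← ZMod.natCast_eq_zero_iff, ← dot_one, dot_comm]
    exact mem_perp.1 hw 1 hone
  have hmin : ∀ w ∈ perp (code1 B), w ≠ 0 → 8 ≤ (support₂ w).card := by
    intro w hw hw0
    have h2 := hev w hw
    have hc := card_sup1 w
    have hne : (support₂ w).card ≠ 0 := fun e => hw0 (by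
      rw [← ind_sup w, Finset.card_eq_zero.1 e]; funext a; simp [ind])
    rw [mem_perp_code1] at hw
    by_contra hlt
    by_cases h : w none = 0
    · simp only [if_pos h, add_zero] at hw hc
      exact (seven_counts hB hα _).1 hw (by omega)
    · simp only [if_neg h] at hw hc
      have hodd : ∀ b ∈ B, (b ∩ support₂ (fun a => w (some a))).card % 2 = 1 := fun b hb => by
        have := hw b hb; omega
      exact (seven_counts hB hα _).2 hodd (by omega)
  have hle : code1 B ≤ perp (code1 B) := by
    refine span_le_perp ?_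
    rintro _ ⟨b, hb, rfl⟩ _ ⟨c, hc, rfl⟩
    rw [dot_ind, GolayUnique.sup_ind, ZMod.natCast_eq_zero_iff]
    have he : (ext1 b ∩ ext1 c).card = (b ∩ c).card + 1 := by
      rw [← card_insertNone]
      congr 1
      ext x
      cases x <;> simp [ext1]
    rw [he]
    by_cases hbc : b = c
    · rw [hbc, inter_self, hB.1 c hc]; norm_num
    obtain ⟨h0, h2⟩ := meet_seven hB hα hc
    have h4 : (b ∩ c).card < 4 := by
      by_contra h
      exact hbc (eq_of_five hB hb hc (by omega))
    have hp := meet_pos (X := c) hb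
    rcases (by omega : (b ∩ c).card = 0 ∨ (b ∩ c).card = 1 ∨ (b ∩ c).card = 2 ∨ (b ∩ c).card = 3) with e | e | e | e
    · rw [e, h0] at hp; exact absurd hp (lt_irrefl 0)
    · rw [e]
    · rw [e, h2] at hp; exact absurd hp (lt_irrefl 0)
    · rw [e]; norm_num
  have hq := finrank_le_of_quot (k := 12) (card_quot_ge hcard hev hmin)
  have hf := finrank_perp (code1 B)
  have hm := Submodule.finrank_mono hle
  rw [hcard] at hq hf
  exact ⟨⟨hcard, by omega, fun w hw => hev w (hle hw), fun w hw => hmin w (hle hw)⟩,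
    (Submodule.eq_of_le_of_finrank_eq hle (by omega)).symm⟩

/-- a system S(4,7,23) sits in the S(5,8,24) -/
theorem exists_embed23 (hB : IsSteinerSystem 4 7 B) (hα : Fintype.card α = 23) :
    ∃ ι : α ↪ GolayPt, (∀ x, x ≠ none → ∃ a, ι a = x) ∧ (∀ a, ι a ≠ none) ∧
      (∀ b, b ∈ B ↔ insert none (b.map ι) ∈ octads) ∧
      ∀ σ ∈ setSystemAut B, ∃ g : M24, ∀ a, g • ι a = ι (σ a) := by
  classical
  obtain ⟨hG, hperp⟩ := code1_golay hB hα
  set W := wordsOfWeight (code1 B : Set (Option α → ZMod 2)) 8
  have hst := GolayUnique.steiner hG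
  obtain ⟨e₀, he₀⟩ := SteinerUnique.iso_octads hst hG.card_pts
  obtain ⟨e, he, hen⟩ := move_equiv (k := 1) (by norm_num) e₀ he₀ (fun _ => none) (fun _ => none)
    (fun a b _ => Subsingleton.elim a b) (fun a b _ => Subsingleton.elim a b)
  have hen' : e none = none := hen 0
  have hext : ∀ b ∈ B, ext1 b ∈ W := fun b hb => GolayUnique.mem_words.2
    ⟨Submodule.subset_span ⟨b, hb, rfl⟩, by rw [ext1, card_insertNone, hB.1 b hb]⟩
  have hblock : ∀ b : Finset α, b ∈ B ↔ ext1 b ∈ W := by
    refine fun b => ⟨hext b, fun hb => ?_⟩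
    have h8 : (ext1 b).card = 8 := (GolayUnique.mem_words.1 hb).2
    rw [ext1, card_insertNone] at h8
    obtain ⟨T, hT, hT4⟩ := exists_subset_card_eq (s := b) (n := 4) (by omega)
    obtain ⟨c, ⟨hc, hTc⟩, -⟩ := hB.2 T hT4
    obtain ⟨w, -, hw⟩ := hst.2 (ext1 T) (by rw [ext1, card_insertNone, hT4])
    have h1 := hw (ext1 b) ⟨hb, insertNone.monotone hT⟩
    have h2 := hw (ext1 c) ⟨hext c hc, insertNone.monotone hTc⟩
    exact insertNone.injective (h2.trans h1.symm) ▸ hc
  let ι : α ↪ GolayPt := Function.Embedding.some.trans e.toEmbedding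
  refine ⟨ι, fun x hx => ?_, fun a h => ?_, fun b => ?_, fun σ hσ => ?_⟩
  · obtain ⟨y, rfl⟩ := e.surjective x
    cases y with
    | none => exact absurd hen' hx
    | some a => exact ⟨a, rfl⟩
  · exact Option.some_ne_none a (e.injective (h.trans hen'.symm))
  · have hi : insert none (b.map ι) = (ext1 b).image e := by
      rw [← hen']
      ext x
      obtain ⟨y, rfl⟩ := e.surjective x
      cases y <;> simp [ι, ext1]
    rw [hblock, hi, ← he]
    exact ⟨fun h => ⟨_, h, rfl⟩, fun ⟨c, hc, hce⟩ => Finset.image_injective e.injective hce ▸ hc⟩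
  · have hmaps : ∀ w ∈ W, σ.optionCongr • w ∈ W := by
      intro w hw
      obtain ⟨hwC, hw8⟩ := GolayUnique.mem_words.1 hw
      refine GolayUnique.mem_words.2 ⟨?_, by rw [card_smul_finset, hw8]⟩
      rw [← hperp] at hwC ⊢
      rw [mem_perp_code1] at hwC ⊢
      intro b hb
      have hσb : σ⁻¹ • b ∈ B := by
        have h := inv_mem hσ
        rw [mem_stabilizer_iff] at h
        exact h ▸ Set.smul_mem_smul_set hb
      have h := hwC _ hσb
      have o1 : σ.optionCongr.symm none = none := (Equiv.symm_apply_eq _).2 (by simp)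
      have o2 : ∀ x, σ.optionCongr.symm (some x) = some (σ.symm x) := fun x =>
        (Equiv.symm_apply_eq _).2 (by simp)
      have e1 : (b ∩ support₂ (fun a => ind (σ.optionCongr • w) (some a))).card =
          (σ⁻¹ • b ∩ support₂ (fun a => ind w (some a))).card := by
        rw [← card_smul_finset σ (σ⁻¹ • b ∩ _), smul_finset_inter, smul_inv_smul]
        congr 2
        ext x
        simp [← inv_smul_mem_iff, GolayUnique.mem_sup, ind, Equiv.Perm.inv_def, o1, o2]
      have e2 : ind (σ.optionCongr • w) none = ind w none := by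
        simp [ind, ← inv_smul_mem_iff, Equiv.Perm.inv_def, o1, o2]
      rw [e1, e2]
      exact h
    refine ⟨⟨e.permCongr σ.optionCongr, lift_mem e he hmaps⟩, fun a => ?_⟩
    show e.permCongr σ.optionCongr (e (some a)) = e (some (σ a))
    rw [Equiv.permCongr_apply, Equiv.symm_apply_apply]
    rfl

end TwentyThree

/-- two embedded systems are isomorphic -/
theorem iso_of_embed {α β : Type*} [DecidableEq β] {B : Set (Finset α)} {B' : Set (Finset β)}
    (P : Finset GolayPt → Prop) (ι : α ↪ GolayPt) (κ : β ↪ GolayPt) (hr : Set.range ι = Set.range κ)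
    (hb : ∀ b, b ∈ B ↔ P (b.map ι)) (hb' : ∀ b, b ∈ B' ↔ P (b.map κ)) : SetSystemIso B B' := by
  let e : α ≃ β := (Equiv.ofInjective ι ι.injective).trans
    ((Equiv.setCongr hr).trans (Equiv.ofInjective κ κ.injective).symm)
  have he : ∀ a, κ (e a) = ι a := fun a => Equiv.apply_ofInjective_symm κ.injective _
  have hm : ∀ b : Finset α, (b.image e).map κ = b.map ι := by
    intro b
    rw [Finset.map_eq_image, Finset.map_eq_image, Finset.image_image]
    exact Finset.image_congr fun a _ => he a
  refine ⟨e, Set.Subset.antisymm ?_ fun c hc => ?_⟩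
  · rintro _ ⟨b, hb1, rfl⟩
    rw [hb', hm, ← hb]; exact hb1
  · have hc' : (c.map e.symm.toEmbedding).image e = c := by
      ext x
      simp only [Finset.mem_image, Finset.mem_map_equiv, Equiv.symm_symm]
      exact ⟨fun ⟨a, h, ea⟩ => ea ▸ h, fun h => ⟨e.symm x, by simpa using h, e.apply_symm_apply x⟩⟩
    refine ⟨c.map e.symm.toEmbedding, ?_, hc'⟩
    rw [hb, ← hm, hc']
    exact (hb' c).1 hc

theorem iso23 {α β : Type*} [Fintype α] [DecidableEq α] [Fintype β] [DecidableEq β]
    (hα : Fintype.card α = 23) (hβ : Fintype.card β = 23) {B : Set (Finset α)} {B' : Set (Finset β)}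
    (hB : IsSteinerSystem 4 7 B) (hB' : IsSteinerSystem 4 7 B') : SetSystemIso B B' := by
  obtain ⟨ι, h1, h2, h3, -⟩ := exists_embed23 hB hα
  obtain ⟨κ, k1, k2, k3, -⟩ := exists_embed23 hB' hβ
  refine iso_of_embed (fun s => insert none s ∈ octads) ι κ (Set.ext fun x => ?_) h3 k3
  constructor
  · rintro ⟨a, rfl⟩; exact k1 _ (h2 a)
  · rintro ⟨a, rfl⟩; exact h1 _ (k2 a)

theorem smul_map_embed {α : Type*} [DecidableEq α] {ι : α ↪ GolayPt} {g : Equiv.Perm GolayPt}
    {σ : Equiv.Perm α} (h : ∀ a, g • ι a = ι (σ a)) (b : Finset α) : (σ • b).map ι = g • b.map ι := by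
  rw [Finset.map_eq_image, Finset.map_eq_image, Finset.smul_finset_def, Finset.smul_finset_def,
    Finset.image_image, Finset.image_image]
  exact Finset.image_congr fun a _ => (h a).symm

theorem smul_octad_iff {g : Equiv.Perm GolayPt} (hg : g ∈ M24) {s : Finset GolayPt} :
    g • s ∈ octads ↔ s ∈ octads :=
  ⟨fun h => by simpa using smul_mem_octads (inv_mem hg) h, smul_mem_octads hg⟩

theorem aut23 {α : Type*} [Fintype α] [DecidableEq α] (hα : Fintype.card α = 23)
    {B : Set (Finset α)} (hB : IsSteinerSystem 4 7 B) :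
    IsM23 (setSystemAut B) ∧ IsMultiplyPretransitive (setSystemAut B) α 4 := by
  obtain ⟨ι, h1, h2, h3, h4⟩ := exists_embed23 hB hα
  choose G hG using h4
  have hfix : ∀ (σ : setSystemAut B), G σ σ.2 • (none : GolayPt) = none := by
    intro σ
    by_contra hne
    obtain ⟨a, ha⟩ := h1 _ hne
    have h := hG σ σ.2 ((σ : Equiv.Perm α).symm a)
    rw [Equiv.apply_symm_apply, ha] at h
    exact h2 _ (smul_left_cancel _ h)
  have huniq : ∀ g g' : M24, (∀ a, g • ι a = g' • ι a) → g • (none : GolayPt) = none →
      g' • (none : GolayPt) = none → g = g' := by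
    intro g g' h hn hn'
    refine Subtype.ext (Equiv.ext fun x => ?_)
    by_cases hx : x = none
    · subst hx; exact hn.trans hn'.symm
    obtain ⟨a, rfl⟩ := h1 x hx
    exact h a
  let f : setSystemAut B →* stabilizer M24 (none : GolayPt) :=
    MonoidHom.mk' (fun σ => ⟨G σ σ.2, hfix σ⟩) fun σ τ => Subtype.ext (huniq _ _ (fun a => by
      show G _ (σ * τ).2 • ι a = (G σ σ.2 * G τ τ.2) • ι a
      rw [mul_smul, hG, hG, hG]
      rfl) (hfix _) (by show (G σ σ.2 * G τ τ.2) • none = none; rw [mul_smul, hfix, hfix]))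
  have hinj : Function.Injective f := fun σ τ h => Subtype.ext (Equiv.ext fun a => ι.injective (by
    rw [← hG σ σ.2 a, ← hG τ τ.2 a, show G σ σ.2 = G τ τ.2 from congrArg Subtype.val h]))
  have hpre : ∀ g : M24, g • (none : GolayPt) = none → ∃ σ : setSystemAut B, ∀ a, g • ι a = ι ((σ : Equiv.Perm α) a) := by
    intro g hg
    have hne : ∀ a, ∃ a', ι a' = g • ι a := fun a => h1 _ fun h => h2 a (smul_left_cancel g (h.trans hg.symm))
    choose p hp using hne
    have hpi : Function.Injective p := fun a b h => ι.injective (smul_left_cancel g (by rw [← hp, ← hp, h]))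
    let σ : Equiv.Perm α := Equiv.ofBijective p (Finite.injective_iff_bijective.1 hpi)
    refine ⟨⟨σ, mem_aut_of_maps fun b hb => ?_⟩, fun a => (hp a).symm⟩
    rw [h3] at hb ⊢
    rw [smul_map_embed (g := (g : Equiv.Perm GolayPt)) (σ := σ) (fun a => (hp a).symm),
      ← show (g : Equiv.Perm GolayPt) • (none : GolayPt) = none from hg, ← Finset.smul_finset_insert]
    exact smul_mem_octads g.2 hb
  have hsurj : Function.Surjective f := fun g => by
    obtain ⟨σ, hσ⟩ := hpre g.1 g.2
    exact ⟨σ, Subtype.ext (huniq _ _ (fun a => by rw [hσ a]; exact hG σ σ.2 a) (hfix σ) g.2)⟩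
  let eq := MulEquiv.ofBijective f ⟨hinj, hsurj⟩
  haveI := M24Simple.m23_simple (none : GolayPt)
  refine ⟨⟨eq.isSimpleGroup, by rw [Nat.card_congr eq.toEquiv, card_stab_point]⟩, ⟨fun x y => ?_⟩⟩
  obtain ⟨g, hg⟩ := M24Simple.m24_move le_rfl (Fin.cons none fun i => ι (x i)) (Fin.cons none fun i => ι (y i))
    (Fin.cons_injective_iff.2 ⟨fun ⟨i, hi⟩ => h2 _ hi, ι.injective.comp x.injective⟩)
    (Fin.cons_injective_iff.2 ⟨fun ⟨i, hi⟩ => h2 _ hi, ι.injective.comp y.injective⟩)
  obtain ⟨σ, hσ⟩ := hpre g (hg 0)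
  refine ⟨σ, DFunLike.ext _ _ fun i => ι.injective ?_⟩
  show ι ((σ : Equiv.Perm α) (x i)) = ι (y i)
  rw [← hσ]
  simpa using hg i.succ

end CfsgLib.Spor.SteinerDerived
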