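import Cfsg.Agent.Spor.SteinerDerived

/-!
A system S(3,6,22) sits in the S(5,8,24).
-/

set_option autoImplicit false

namespace CfsgLib.Spor.SteinerDerived22

open Cfsg Finset MulAction CfsgLib.Spor.SteinerCount CfsgLib.Spor.SteinerDerived
open scoped symmDiff Pointwise
open CfsgLib.Spor.GolayUnique (ind ind_sup ind_symmDiff)

variable {α : Type*} [Fintype α] [DecidableEq α] {B : Set (Finset α)}

theorem six_counts (hB : IsSteinerSystem 3 6 B) (hα : Fintype.card α = 22) (X : Finset α) :
    ((∀ b ∈ B, (b ∩ X).card % 2 = 0) →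
      (X.card = 2 ∨ X.card = 4 → False) ∧ (X.card = 6 → X ∈ B)) ∧
    ((∀ b ∈ B, (b ∩ X).card % 2 = 1) → X.card = 1 ∨ X.card = 3 ∨ X.card = 5 → False) := by
  constructor
  · intro hev
    have z : ∀ i, i % 2 = 1 → meet B X i = 0 := fun i hi => meet_eq_zero fun b hb e => by
      have := hev b hb; omega
    constructor
    · intro hc
      have e1 := count_meet hB X (j := 1) (lam := 21) (N := 5) (by norm_num) (by norm_num) (by rw [hα]; decide) (by omega)
      have e2 := count_meet hB X (j := 2) (lam := 5) (N := 5) (by norm_num) (by norm_num) (by rw [hα]; decide) (by omega)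
      have e3 := count_meet hB X (j := 3) (lam := 1) (N := 5) (by norm_num) (by norm_num) (by rw [hα]; decide) (by omega)
      rcases hc with hc | hc <;>
      · simp only [sum_range_succ, sum_range_zero, Nat.choose, hc, z 1 rfl, z 3 rfl] at e1 e2 e3
        omega
    · intro hc
      have e1 := count_meet hB X (j := 1) (lam := 21) (N := 7) (by norm_num) (by norm_num) (by rw [hα]; decide) (by omega)
      have e2 := count_meet hB X (j := 2) (lam := 5) (N := 7) (by norm_num) (by norm_num) (by rw [hα]; decide) (by omega)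
      have e3 := count_meet hB X (j := 3) (lam := 1) (N := 7) (by norm_num) (by norm_num) (by rw [hα]; decide) (by omega)
      simp only [sum_range_succ, sum_range_zero, Nat.choose, hc, z 1 rfl, z 3 rfl, z 5 rfl] at e1 e2 e3
      have h6 : meet B X 6 = 1 := by omega
      obtain ⟨b, hb⟩ := card_eq_one.1 h6
      obtain ⟨hbB, hbS⟩ := mem_filter.1 (show b ∈ (blocks B).filter fun b => (b ∩ X).card = 6 from hb ▸ mem_singleton_self b)
      have h1 : b ∩ X = X := eq_of_subset_of_card_le inter_subset_right (by rw [hbS, hc])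
      have h2 : X = b := eq_of_subset_of_card_le (h1 ▸ inter_subset_left) (by rw [hB.1 b (mem_blocks.1 hbB), hc])
      exact h2 ▸ mem_blocks.1 hbB
  · intro hev hc
    have z : ∀ i, i % 2 = 0 → meet B X i = 0 := fun i hi => meet_eq_zero fun b hb e => by
      have := hev b hb; omega
    have e0 := count_meet hB X (j := 0) (lam := 77) (N := 6) (by norm_num) (by norm_num) (by rw [hα]; decide) (by omega)
    have e1 := count_meet hB X (j := 1) (lam := 21) (N := 6) (by norm_num) (by norm_num) (by rw [hα]; decide) (by omega)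
    have e2 := count_meet hB X (j := 2) (lam := 5) (N := 6) (by norm_num) (by norm_num) (by rw [hα]; decide) (by omega)
    have e3 := count_meet hB X (j := 3) (lam := 1) (N := 6) (by norm_num) (by norm_num) (by rw [hα]; decide) (by omega)
    rcases hc with hc | hc | hc <;>
    · simp only [sum_range_succ, sum_range_zero, Nat.choose, hc, z 0 rfl, z 2 rfl, z 4 rfl] at e0 e1 e2 e3
      omega

/-- the code spanned by the blocks -/
def code (B : Set (Finset α)) : Submodule (ZMod 2) (α → ZMod 2) :=
  Submodule.span (ZMod 2) (ind '' B)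

theorem mem_perp_code {v : α → ZMod 2} : v ∈ perp (code B) ↔ ∀ b ∈ B, dot (ind b) v = 0 := by
  rw [code, mem_perp_span, Set.forall_mem_image]

theorem dot_ind_eq_zero {b : Finset α} {v : α → ZMod 2} :
    dot (ind b) v = 0 ↔ (b ∩ support₂ v).card % 2 = 0 := by
  rw [dot_ind, ZMod.natCast_eq_zero_iff, Nat.dvd_iff_mod_eq_zero]

theorem dot_ind_eq_one {b : Finset α} {v : α → ZMod 2} :
    dot (ind b) v = 1 ↔ (b ∩ support₂ v).card % 2 = 1 := by
  rw [dot_ind, ← Nat.cast_one, ZMod.natCast_eq_natCast_iff']

theorem one_mem (hB : IsSteinerSystem 3 6 B) (hα : Fintype.card α = 22) : (1 : α → ZMod 2) ∈ code B := by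
  have : (1 : α → ZMod 2) = ∑ b ∈ blocks B, ind b := by
    funext a
    rw [Finset.sum_apply]
    simp only [Pi.one_apply, ind, Finset.sum_boole]
    have h := count_above hB (s := ({a} : Finset α)) (by simp)
    simp only [card_singleton, singleton_subset_iff, hα] at h
    rw [show (6 - 1 : ℕ).choose (3 - 1) = 10 by decide, show (22 - 1 : ℕ).choose (3 - 1) = 210 by decide] at h
    rw [show ((blocks B).filter (a ∈ ·)).card = 21 by omega]
    decide
  rw [this]
  exact Submodule.sum_mem _ fun b hb => Submodule.subset_span ⟨b, mem_blocks.1 hb, rfl⟩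

theorem inter_six (hB : IsSteinerSystem 3 6 B) (hα : Fintype.card α = 22) {b c : Finset α} (hb : b ∈ B)
    (hc : c ∈ B) : (b ∩ c).card % 2 = 0 := by
  by_cases hbc : b = c
  · rw [hbc, inter_self, hB.1 c hc]
  have h1 := meet_six hB hα hc
  have h4 : (b ∩ c).card < 3 := by
    by_contra h
    exact hbc (eq_of_five hB hb hc (by omega))
  have hp := meet_pos (X := c) hb
  rcases (by omega : (b ∩ c).card = 0 ∨ (b ∩ c).card = 1 ∨ (b ∩ c).card = 2) with e | e | e
  · rw [e]
  · rw [e, h1] at hp; exact absurd hp (lt_irrefl 0)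
  · rw [e]

theorem even_perp (hB : IsSteinerSystem 3 6 B) (hα : Fintype.card α = 22) {v : α → ZMod 2}
    (hv : v ∈ perp (code B)) : 2 ∣ (support₂ v).card := by
  rw [← ZMod.natCast_eq_zero_iff, ← dot_one, dot_comm]
  exact mem_perp.1 hv 1 (one_mem hB hα)

theorem small_perp (hB : IsSteinerSystem 3 6 B) (hα : Fintype.card α = 22) {v : α → ZMod 2}
    (hv : v ∈ perp (code B)) (hv0 : v ≠ 0) :
    6 ≤ (support₂ v).card ∧ ((support₂ v).card = 6 → support₂ v ∈ B) := by
  have h2 := even_perp hB hα hv
  have hne : (support₂ v).card ≠ 0 := fun e => hv0 (by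
    rw [← ind_sup v, Finset.card_eq_zero.1 e]; funext a; simp [ind])
  rw [mem_perp_code] at hv
  obtain ⟨h4, h6⟩ := (six_counts hB hα (support₂ v)).1 (fun b hb => dot_ind_eq_zero.1 (hv b hb))
  refine ⟨?_, h6⟩
  by_contra hlt
  exact h4 (by omega)

theorem code_self_dual (hB : IsSteinerSystem 3 6 B) (hα : Fintype.card α = 22) :
    perp (code B) = code B ∧ Module.finrank (ZMod 2) (code B) = 11 := by
  classical
  have hle : code B ≤ perp (code B) := by
    refine span_le_perp ?_
    rintro _ ⟨b, hb, rfl⟩ _ ⟨c, hc, rfl⟩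
    rw [dot_ind_eq_zero, GolayUnique.sup_ind]
    exact inter_six hB hα hb hc
  set D := perp (code B) with hD
  have hshort : ∀ s t : Finset α, GolayUnique.cls D s = GolayUnique.cls D t → s ≠ t →
      6 ≤ (s ∆ t).card ∧ ((s ∆ t).card = 6 → s ∆ t ∈ B) ∧ (s ∆ t).card % 2 = 0 := by
    intro s t he hne
    rw [GolayUnique.cls_eq_iff] at he
    have h0 : ind (s ∆ t) ≠ 0 := fun e => hne (symmDiff_eq_bot.1 (by
      rw [← GolayUnique.sup_ind (s ∆ t), e, GolayUnique.sup_zero]; rfl))
    have h1 := small_perp hB hα he h0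
    have h2 := even_perp hB hα he
    rw [GolayUnique.sup_ind] at h1 h2
    exact ⟨h1.1, h1.2, by omega⟩
  have hpar : ∀ s t : Finset α, GolayUnique.cls D s = GolayUnique.cls D t → s.card % 2 = t.card % 2 := by
    intro s t he
    by_cases hne : s = t
    · rw [hne]
    have := (hshort s t he hne).2.2
    have := GolayUnique.card_sd s t
    omega
  set L1 := GolayUnique.layer α 1
  set L3 := GolayUnique.layer α 3
  have hL1 : ∀ t ∈ L1, t.card = 1 := fun t ht => (mem_powersetCard.1 ht).2
  have hL3 : ∀ t ∈ L3, t.card = 3 := fun t ht => (mem_powersetCard.1 ht).2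
  have hI1 : (L1.image (GolayUnique.cls D)).card = 22 := by
    rw [card_image_of_injOn]
    · simp [L1, GolayUnique.layer, hα]
    · intro s hs t ht e
      by_contra hne
      have := (hshort s t e hne).1
      have := GolayUnique.card_sd s t
      have := hL1 s hs
      have := hL1 t ht
      omega
  have hI3 : 770 ≤ (L3.image (GolayUnique.cls D)).card := by
    have h := card_le_mul_card_image L3 2 (f := GolayUnique.cls D) fun q _ => by
      set F := L3.filter fun t => GolayUnique.cls D t = q
      rcases F.eq_empty_or_nonempty with hF | ⟨T, hT⟩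
      · rw [hF]; simp
      have h1 : (F.erase T).card ≤ 1 := by
        refine card_le_one.2 fun U hU V hV => ?_
        obtain ⟨hUT, hUF⟩ := mem_erase.1 hU
        obtain ⟨hVT, hVF⟩ := mem_erase.1 hV
        obtain ⟨hT3, hTq⟩ := mem_filter.1 hT
        have key : ∀ U ∈ F, U ≠ T → Disjoint T U ∧ T ∆ U ∈ B := by
          intro U hUF hUT
          obtain ⟨hU3, hUq⟩ := mem_filter.1 hUF
          obtain ⟨ha, hb, -⟩ := hshort T U (hTq.trans hUq.symm) (Ne.symm hUT)
          have hc := GolayUnique.card_sd T U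
          have := hL3 T hT3
          have := hL3 U hU3
          exact ⟨disjoint_iff_inter_eq_empty.2 (card_eq_zero.1 (by omega)), hb (by omega)⟩
        obtain ⟨hdU, hbU⟩ := key U hUF hUT
        obtain ⟨hdV, hbV⟩ := key V hVF hVT
        have hsub : ∀ U : Finset α, Disjoint T U → T ⊆ T ∆ U := fun U hd x hx =>
          mem_symmDiff.2 (Or.inl ⟨hx, disjoint_left.1 hd hx⟩)
        have he := eq_of_five hB hbU hbV (by
          rw [← hL3 T hT3]
          exact card_le_card (subset_inter (hsub U hdU) (hsub V hdV)))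
        exact symmDiff_right_injective T he
      have h2 := card_erase_add_one hT
      omega
    have hc3 : L3.card = 1540 := by
      simp only [L3, GolayUnique.layer, card_powersetCard, card_univ, hα]
      decide
    omega
  set A := L1.image (GolayUnique.cls D) ∪ L3.image (GolayUnique.cls D)
  have hA : 792 ≤ A.card := by
    rw [card_union_of_disjoint]
    · omega
    · rw [disjoint_left]
      simp only [mem_image]
      rintro q ⟨s, hs, rfl⟩ ⟨t, ht, e⟩
      have hne : t ≠ s := fun h => by
        have := hL1 s hs; have := hL3 t ht; rw [h] at this; omega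
      have := (hshort t s e hne).1
      have := GolayUnique.card_sd t s
      have := hL1 s hs
      have := hL3 t ht
      omega
  have hAodd : ∀ q ∈ A, ∃ t : Finset α, GolayUnique.cls D t = q ∧ t.card % 2 = 1 := by
    intro q hq
    simp only [A, mem_union, mem_image] at hq
    rcases hq with ⟨t, ht, e⟩ | ⟨t, ht, e⟩
    · exact ⟨t, e, by rw [hL1 t ht]⟩
    · exact ⟨t, e, by rw [hL3 t ht]⟩
  obtain ⟨a⟩ : Nonempty α := Fintype.card_pos_iff.1 (by rw [hα]; norm_num)
  haveI : Fintype ((α → ZMod 2) ⧸ D) := Fintype.ofFinite _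
  have hdis : Disjoint A (A.image (· + GolayUnique.cls D {a})) := by
    rw [disjoint_left]
    intro q hq hq'
    obtain ⟨r, hr, rfl⟩ := mem_image.1 hq'
    obtain ⟨s, hs, hs1⟩ := hAodd _ hq
    obtain ⟨t, rfl, ht1⟩ := hAodd _ hr
    have e : GolayUnique.cls D s = GolayUnique.cls D (t ∆ {a}) := by
      rw [hs]; simp [GolayUnique.cls, ind_symmDiff]
    have := hpar _ _ e
    have := GolayUnique.card_sd t {a}
    rw [card_singleton] at this
    omega
  have hcard := card_le_univ (A ∪ A.image (· + GolayUnique.cls D {a}))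
  rw [card_union_of_disjoint hdis, card_image_of_injective _ (add_left_injective _),
    ← Nat.card_eq_fintype_card, Module.natCard_eq_pow_finrank (K := ZMod 2), Nat.card_zmod] at hcard
  have hk : 11 ≤ Module.finrank (ZMod 2) ((α → ZMod 2) ⧸ D) := by
    by_contra hlt
    have h2 : 2 ^ Module.finrank (ZMod 2) ((α → ZMod 2) ⧸ D) ≤ 2 ^ 10 :=
      Nat.pow_le_pow_right (by norm_num) (by omega)
    omega
  have h2 := Submodule.finrank_quotient_add_finrank D
  rw [Module.finrank_fintype_fun_eq_card, hα] at h2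
  have h3 := finrank_perp (code B)
  have hm := Submodule.finrank_mono hle
  rw [hα, ← hD] at h3
  exact ⟨(Submodule.eq_of_le_of_finrank_eq hle (by omega)).symm, by omega⟩

/-- a word on 24 points from a word on 22 points and the two new values -/
def w22 (v : α → ZMod 2) (c₁ c₂ : ZMod 2) : Option (Option α) → ZMod 2 :=
  fun x => x.elim c₁ fun y => y.elim c₂ v

/-- extended blocks -/
def ext2 (b : Finset α) : Finset (Option (Option α)) := insertNone (insertNone b)

theorem ind_ext2 (b : Finset α) : ind (ext2 b) = w22 (ind b) 1 1 := by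
  funext x
  rcases x with _ | _ | a <;> simp [ind, ext2, w22]

theorem card_w22 (v : α → ZMod 2) (c₁ c₂ : ZMod 2) : (support₂ (w22 v c₁ c₂)).card =
    (support₂ v).card + (if c₂ = 0 then 0 else 1) + (if c₁ = 0 then 0 else 1) := by
  rw [card_sup1, card_sup1]
  rfl

/-- two linear conditions -/
theorem exists_functional (hB : IsSteinerSystem 3 6 B) (hα : Fintype.card α = 22) :
    ∃ u : α → ZMod 2, ∀ b ∈ B, dot (ind b) u = 1 := by
  obtain ⟨hperp, -⟩ := code_self_dual hB hα
  have hev : ∀ v ∈ code B, 2 ∣ (support₂ v).card := fun v hv => even_perp hB hα (hperp.symm ▸ hv)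
  have hdot : ∀ v ∈ code B, ∀ w ∈ code B, 2 ∣ (support₂ v ∩ support₂ w).card := by
    intro v hv w hw
    have h := mem_perp.1 (hperp.symm ▸ hw : w ∈ perp (code B)) v hv
    rw [← ind_sup v, dot_comm, dot_ind, ZMod.natCast_eq_zero_iff] at h
    exact h
  let f : code B →+ ZMod 2 := AddMonoidHom.mk' (fun v => (((support₂ (v : α → ZMod 2)).card / 2 : ℕ) : ZMod 2))
    fun v w => by
      show (((support₂ ((v : α → ZMod 2) + (w : α → ZMod 2))).card / 2 : ℕ) : ZMod 2) = _
      rw [GolayUnique.sup_add, ← Nat.cast_add, ZMod.natCast_eq_natCast_iff']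
      have h1 := GolayUnique.card_sd (support₂ (v : α → ZMod 2)) (support₂ (w : α → ZMod 2))
      have h2 := hdot _ v.2 _ w.2
      have h3 := hev _ v.2
      have h4 := hev _ w.2
      omega
  obtain ⟨F, hF⟩ := LinearMap.exists_extend (f.toZModLinearMap 2)
  obtain ⟨u, rfl⟩ := dot_surjective F
  refine ⟨u, fun b hb => ?_⟩
  have := LinearMap.congr_fun hF ⟨ind b, Submodule.subset_span ⟨b, hb, rfl⟩⟩
  rw [dot_comm]
  refine this.trans ?_
  show (((support₂ (ind b)).card / 2 : ℕ) : ZMod 2) = 1
  rw [GolayUnique.sup_ind, hB.1 b hb]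
  decide

/-- the two points left out -/
def q0 : GolayPt := some 0

theorem swap_not_mem : Equiv.swap (none : GolayPt) q0 ∉ M24 := by
  intro h
  have key : octadList.any (fun m => decide (none ∈ ofMask m ∧ q0 ∉ ofMask m ∧ m < 2 ^ 24)) = true := by
    decide +kernel
  obtain ⟨m, hm, hm'⟩ := List.any_eq_true.1 key
  obtain ⟨h1, h2, h3⟩ := of_decide_eq_true hm'
  have ho := (mem_octads_iff h3).2 hm
  have ho' := smul_mem_octads h ho
  have he := octad_ext ho ho' (by
    have hsub : (ofMask m).erase none ⊆ ofMask m ∩ Equiv.swap (none : GolayPt) q0 • ofMask m := by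
      intro x hx
      obtain ⟨hxn, hxm⟩ := mem_erase.1 hx
      refine mem_inter.2 ⟨hxm, ?_⟩
      rw [← inv_smul_mem_iff, Equiv.swap_inv, Equiv.Perm.smul_def,
        Equiv.swap_apply_of_ne_of_ne hxn (fun e => h2 (by rw [← e]; exact hxm))]
      exact hxm
    have := card_le_card hsub
    rw [card_erase_of_mem h1, ho.2] at this
    omega)
  refine h2 ?_
  rw [he, ← inv_smul_mem_iff, Equiv.swap_inv, Equiv.Perm.smul_def, Equiv.swap_apply_right]
  exact h1

/-- a system S(3,6,22) sits in the S(5,8,24) -/
theorem exists_embed22 (hB : IsSteinerSystem 3 6 B) (hα : Fintype.card α = 22) :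
    ∃ ι : α ↪ GolayPt, (∀ x, x ≠ none → x ≠ q0 → ∃ a, ι a = x) ∧ (∀ a, ι a ≠ none ∧ ι a ≠ q0) ∧
      (∀ b, b ∈ B ↔ insert none (insert q0 (b.map ι)) ∈ octads) ∧
      ∀ σ ∈ setSystemAut B, ∃ g : M24, ∀ a, g • ι a = ι (σ a) := by
  classical
  obtain ⟨hperp, hdim⟩ := code_self_dual hB hα
  obtain ⟨u, hu⟩ := exists_functional hB hα
  set P := code B with hP
  have hodd : ∀ x : α → ZMod 2, (∀ b ∈ B, dot (ind b) x = 1) →
      x - u ∈ P ∧ 7 ≤ (support₂ x).card ∧ (support₂ x).card % 2 = 1 := by
    intro x hx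
    have hd : x - u ∈ P := by
      rw [← hperp, mem_perp_code]
      intro b hb
      rw [map_sub, hx b hb, hu b hb, sub_self]
    have h1 : (support₂ x).card % 2 = 1 := by
      have e : dot 1 x = 1 := by
        rw [show (1 : α → ZMod 2) = ∑ b ∈ blocks B, ind b from ?_, map_sum, LinearMap.sum_apply,
          sum_congr rfl (fun b hb => hx b (mem_blocks.1 hb)), sum_const, nsmul_eq_mul, mul_one]
        · have h := count_above hB (s := (∅ : Finset α)) (by simp)
          simp only [card_empty, Nat.sub_zero, empty_subset, filter_true, hα] at h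
          rw [show (6 : ℕ).choose 3 = 20 by decide, show (22 : ℕ).choose 3 = 1540 by decide] at h
          rw [show (blocks B).card = 77 by omega]
          decide
        · funext a
          rw [Finset.sum_apply]
          simp only [Pi.one_apply, ind, Finset.sum_boole]
          have h := count_above hB (s := ({a} : Finset α)) (by simp)
          simp only [card_singleton, singleton_subset_iff, hα] at h
          rw [show (6 - 1 : ℕ).choose (3 - 1) = 10 by decide, show (22 - 1 : ℕ).choose (3 - 1) = 210 by decide] at h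
          rw [show ((blocks B).filter (a ∈ ·)).card = 21 by omega]
          decide
      rw [dot_one, ← Nat.cast_one, ZMod.natCast_eq_natCast_iff'] at e
      omega
    refine ⟨hd, ?_, h1⟩
    by_contra hlt
    exact (six_counts hB hα (support₂ x)).2 (fun b hb => dot_ind_eq_one.1 (hx b hb)) (by omega)
  set φ := dot u
  have hφb : ∀ b ∈ B, φ (ind b) = 1 := fun b hb => (dot_comm _ _).trans (hu b hb)
  let L : P × ZMod 2 →ₗ[ZMod 2] (Option (Option α) → ZMod 2) :=
    { toFun := fun z => w22 ((z.1 : α → ZMod 2) + z.2 • u) (φ (z.1 : α → ZMod 2) + z.2) (φ (z.1 : α → ZMod 2))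
      map_add' := fun z z' => by
        funext x
        rcases x with _ | _ | a <;> simp [w22, add_smul, map_add] <;> ring
      map_smul' := fun c z => by
        funext x
        rcases x with _ | _ | a <;> simp [w22, mul_add, mul_assoc] }
  have hL : ∀ z, L z = w22 ((z.1 : α → ZMod 2) + z.2 • u) (φ (z.1 : α → ZMod 2) + z.2) (φ (z.1 : α → ZMod 2)) :=
    fun _ => rfl
  have hkey : ∀ z : P × ZMod 2, (z = 0 ∨ 8 ≤ (support₂ (L z)).card) ∧ 2 ∣ (support₂ (L z)).card := by
    rintro ⟨⟨v, hv⟩, c⟩
    have hvD : v ∈ perp (code B) := hperp.symm ▸ hv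
    rw [hL, card_w22]
    dsimp only
    rcases (by revert c; decide : c = 0 ∨ c = 1) with rfl | rfl
    · simp only [zero_smul, add_zero]
      by_cases hv0 : v = 0
      · subst hv0; simp [GolayUnique.sup_zero]
      obtain ⟨h6, hb⟩ := small_perp hB hα hvD hv0
      have h2 := even_perp hB hα hvD
      refine ⟨Or.inr ?_, by split_ifs <;> omega⟩
      by_cases he : (support₂ v).card = 6
      · have := hφb _ (hb he)
        rw [ind_sup] at this
        simp [this, he]
      · split_ifs <;> omega
    · have hx := hodd (v + (1 : ZMod 2) • u) fun b hb => by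
        rw [map_add, map_smul, one_smul, hu b hb, mem_perp_code.1 hvD b hb, zero_add]
      simp only [one_smul] at hx
      rcases (show ∀ t : ZMod 2, t = 0 ∨ t = 1 by decide) (φ v) with e | e <;>
      · refine ⟨Or.inr ?_, ?_⟩ <;> rw [e] <;> simp [show (1 : ZMod 2) + 1 = 0 from rfl] <;> omega
  have hinj : Function.Injective L := by
    refine (injective_iff_map_eq_zero _).2 fun z hz => ?_
    rcases (hkey z).1 with h | h
    · exact h
    · rw [hz, GolayUnique.sup_zero] at h; simp at h
  set C := LinearMap.range L with hC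
  have hG : GolayUnique.IsGolayLike C := by
    refine ⟨by rw [Fintype.card_option, Fintype.card_option, hα], ?_, ?_, ?_⟩
    · rw [hC, LinearMap.finrank_range_of_inj hinj, Module.finrank_prod, hdim, Module.finrank_self]
    · rintro _ ⟨z, rfl⟩; exact (hkey z).2
    · rintro _ ⟨z, rfl⟩ h0
      exact (hkey z).1.resolve_left fun e => h0 (by rw [e, map_zero])
  set W := wordsOfWeight (C : Set (Option (Option α) → ZMod 2)) 8
  have hst := GolayUnique.steiner hG
  obtain ⟨e₀, he₀⟩ := SteinerUnique.iso_octads hst hG.card_pts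
  obtain ⟨e, he, hen⟩ := move_equiv (k := 2) (by norm_num) e₀ he₀ ![none, some none] ![none, q0]
    (by intro i j; fin_cases i <;> fin_cases j <;> simp)
    (by intro i j; fin_cases i <;> fin_cases j <;> simp [q0])
  have hn1 : e none = none := hen 0
  have hn2 : e (some none) = q0 := hen 1
  have hext : ∀ b ∈ B, ext2 b ∈ W := fun b hb => GolayUnique.mem_words.2
    ⟨⟨(⟨ind b, Submodule.subset_span ⟨b, hb, rfl⟩⟩, 0), by
      rw [hL, ind_ext2]; simp [hφb b hb]⟩, by rw [ext2, card_insertNone, card_insertNone, hB.1 b hb]⟩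
  have hblock : ∀ b : Finset α, b ∈ B ↔ ext2 b ∈ W := by
    refine fun b => ⟨hext b, fun hb => ?_⟩
    have h8 : (ext2 b).card = 8 := (GolayUnique.mem_words.1 hb).2
    rw [ext2, card_insertNone, card_insertNone] at h8
    obtain ⟨T, hT, hT3⟩ := exists_subset_card_eq (s := b) (n := 3) (by omega)
    obtain ⟨c, ⟨hc, hTc⟩, -⟩ := hB.2 T hT3
    obtain ⟨w, -, hw⟩ := hst.2 (ext2 T) (by rw [ext2, card_insertNone, card_insertNone, hT3])
    have h1 := hw (ext2 b) ⟨hb, insertNone.monotone (insertNone.monotone hT)⟩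
    have h2 := hw (ext2 c) ⟨hext c hc, insertNone.monotone (insertNone.monotone hTc)⟩
    exact insertNone.injective (insertNone.injective (h2.trans h1.symm)) ▸ hc
  let ι : α ↪ GolayPt := (Function.Embedding.some.trans Function.Embedding.some).trans e.toEmbedding
  refine ⟨ι, fun x hx hx' => ?_, fun a => ⟨fun h => ?_, fun h => ?_⟩, fun b => ?_, fun σ hσ => ?_⟩
  · obtain ⟨y, rfl⟩ := e.surjective x
    rcases y with _ | _ | a
    · exact absurd hn1 hx
    · exact absurd hn2 hx'
    · exact ⟨a, rfl⟩
  · exact Option.some_ne_none _ (e.injective (h.trans hn1.symm))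
  · exact Option.some_ne_none a (Option.some_injective _ (e.injective (h.trans hn2.symm)))
  · have hi : insert none (insert q0 (b.map ι)) = (ext2 b).image e := by
      rw [← hn1, ← hn2]
      ext x
      obtain ⟨y, rfl⟩ := e.surjective x
      rcases y with _ | _ | a <;> simp [ι, ext2]
    rw [hblock, hi, ← he]
    exact ⟨fun h => ⟨_, h, rfl⟩, fun ⟨c, hc, hce⟩ => Finset.image_injective e.injective hce ▸ hc⟩
  · have hσ' := inv_mem hσ
    rw [mem_stabilizer_iff] at hσ'
    -- the permuted words
    set T : (α → ZMod 2) →ₗ[ZMod 2] (α → ZMod 2) := LinearMap.funLeft (ZMod 2) (ZMod 2) ⇑σ.symm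
    have hTind : ∀ b : Finset α, T (ind b) = ind (σ • b) := fun b => by
      funext a
      show ind b (σ.symm a) = ind (σ • b) a
      simp [ind, ← inv_smul_mem_iff, Equiv.Perm.inv_def]
    have hTP : ∀ v ∈ P, T v ∈ P ∧ φ (T v) = φ v := by
      intro v hv
      induction hv using Submodule.span_induction with
      | mem x hx =>
        obtain ⟨b, hb, rfl⟩ := hx
        have hb' : σ • b ∈ B := (mem_stabilizer_iff.1 hσ) ▸ Set.smul_mem_smul_set hb
        rw [hTind]
        exact ⟨Submodule.subset_span ⟨_, hb', rfl⟩, (hφb _ hb').trans (hφb _ hb).symm⟩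
      | zero => simp
      | add x y _ _ hx hy => exact ⟨by rw [map_add]; exact add_mem hx.1 hy.1, by simp [map_add, hx.2, hy.2]⟩
      | smul a x _ hx => exact ⟨by rw [map_smul]; exact P.smul_mem a hx.1, by simp [map_smul, hx.2]⟩
    have hu' : T u - u ∈ P := by
      refine (hodd (T u) fun b hb => ?_).1
      have hb' : σ⁻¹ • b ∈ B := hσ' ▸ Set.smul_mem_smul_set hb
      rw [← hu _ hb']
      refine Fintype.sum_equiv σ.symm _ _ fun a => ?_
      show ind b a * u (σ.symm a) = ind (σ⁻¹ • b) (σ.symm a) * u (σ.symm a)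
      simp [ind, Finset.mem_inv_smul_finset_iff, Equiv.Perm.smul_def]
    set τ₀ : Equiv.Perm (Option (Option α)) := σ.optionCongr.optionCongr
    set τ : Equiv.Perm (Option (Option α)) :=
      if φ (T u - u) = 0 then τ₀ else Equiv.swap none (some none) * τ₀ with hτ
    have o1 : τ₀.symm none = none := (Equiv.symm_apply_eq _).2 (by simp [τ₀])
    have o2 : τ₀.symm (some none) = some none := (Equiv.symm_apply_eq _).2 (by simp [τ₀])
    have o3 : ∀ a, τ₀.symm (some (some a)) = some (some (σ.symm a)) := fun a =>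
      (Equiv.symm_apply_eq _).2 (by simp [τ₀])
    have hτsome : ∀ a, τ (some (some a)) = some (some (σ a)) := by
      intro a
      simp only [hτ, τ₀]
      split_ifs
      · simp
      · simp [Equiv.swap_apply_of_ne_of_ne]
    have hmapC : ∀ w ∈ C, (fun x => w (τ.symm x)) ∈ C := by
      rintro _ ⟨⟨⟨v, hv⟩, c⟩, rfl⟩
      refine ⟨(⟨T v + c • (T u - u), add_mem (hTP v hv).1 (P.smul_mem c hu')⟩, c), ?_⟩
      rw [hL, hL]
      funext x
      have hsome : ∀ a, τ.symm (some (some a)) = some (some (σ.symm a)) := fun a =>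
        (Equiv.symm_apply_eq _).2 (by rw [hτsome, Equiv.apply_symm_apply])
      rcases x with _ | _ | a
      · by_cases he : φ (T u - u) = 0
        · rw [show τ = τ₀ from if_pos he, o1]
          simp [w22, map_add, (hTP v hv).2, he]
        · have he1 : φ (T u - u) = 1 := ((show ∀ t : ZMod 2, t = 0 ∨ t = 1 by decide) _).resolve_left he
          rw [show τ = Equiv.swap none (some none) * τ₀ from if_neg he,
            show (Equiv.swap none (some none) * τ₀ : Equiv.Perm (Option (Option α))).symm none = τ₀.symm (some none) by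
              simp [Equiv.Perm.mul_def], o2]
          simp [w22, map_add, (hTP v hv).2, he1, add_assoc, CharTwo.add_self_eq_zero]
      · by_cases he : φ (T u - u) = 0
        · rw [show τ = τ₀ from if_pos he, o2]
          simp [w22, map_add, (hTP v hv).2, he]
        · have he1 : φ (T u - u) = 1 := ((show ∀ t : ZMod 2, t = 0 ∨ t = 1 by decide) _).resolve_left he
          rw [show τ = Equiv.swap none (some none) * τ₀ from if_neg he,
            show (Equiv.swap none (some none) * τ₀ : Equiv.Perm (Option (Option α))).symm (some none) = τ₀.symm none by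
              simp [Equiv.Perm.mul_def], o1]
          simp [w22, map_add, (hTP v hv).2, he1]
      · rw [hsome]
        show (T v + c • (T u - u) + c • u) a = (v + c • u) (σ.symm a)
        simp [T, smul_sub]
        ring
    have hmaps : ∀ w ∈ W, τ • w ∈ W := by
      intro w hw
      obtain ⟨hwC, hw8⟩ := GolayUnique.mem_words.1 hw
      refine GolayUnique.mem_words.2 ⟨?_, by rw [card_smul_finset, hw8]⟩
      have := hmapC _ hwC
      rwa [show (fun x => ind w (τ.symm x)) = ind (τ • w) from funext fun x => by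
        simp [ind, ← inv_smul_mem_iff, Equiv.Perm.inv_def]] at this
    refine ⟨⟨e.permCongr τ, lift_mem e he hmaps⟩, fun a => ?_⟩
    show e.permCongr τ (e (some (some a))) = e (some (some (σ a)))
    rw [Equiv.permCongr_apply, Equiv.symm_apply_apply, hτsome]

theorem iso22 {α β : Type*} [Fintype α] [DecidableEq α] [Fintype β] [DecidableEq β]
    (hα : Fintype.card α = 22) (hβ : Fintype.card β = 22) {B : Set (Finset α)} {B' : Set (Finset β)}
    (hB : IsSteinerSystem 3 6 B) (hB' : IsSteinerSystem 3 6 B') : SetSystemIso B B' := by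
  obtain ⟨ι, h1, h2, h3, -⟩ := exists_embed22 hB hα
  obtain ⟨κ, k1, k2, k3, -⟩ := exists_embed22 hB' hβ
  refine iso_of_embed (fun s => insert none (insert q0 s) ∈ octads) ι κ (Set.ext fun x => ?_) h3 k3
  constructor
  · rintro ⟨a, rfl⟩; exact k1 _ (h2 a).1 (h2 a).2
  · rintro ⟨a, rfl⟩; exact h1 _ (k2 a).1 (k2 a).2

theorem eq_of_agree {ι : α ↪ GolayPt} (h1 : ∀ x, x ≠ none → x ≠ q0 → ∃ a, ι a = x) {g g' : M24}
    (h : ∀ a, g • ι a = g' • ι a) : g = g' := by
  have hk : ∀ x, x ≠ none → x ≠ q0 → ((g'⁻¹ * g : M24) : Equiv.Perm GolayPt) x = x := by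
    intro x hx hx'
    obtain ⟨a, rfl⟩ := h1 x hx hx'
    show (g'⁻¹ * g) • ι a = ι a
    rw [mul_smul, h a, inv_smul_smul]
  set π := ((g'⁻¹ * g : M24) : Equiv.Perm GolayPt)
  have hsupp : ∀ x, x = none ∨ x = q0 → π x = none ∨ π x = q0 := by
    intro x hx
    by_contra hne
    push Not at hne
    have := π.injective (hk (π x) hne.1 hne.2)
    rcases hx with hx | hx <;> rw [this] at hne
    · exact hne.1 hx
    · exact hne.2 hx
  have : π = 1 ∨ π = Equiv.swap none q0 := by
    have hn : (none : GolayPt) ≠ q0 := by simp [q0]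
    rcases hsupp none (Or.inl rfl) with e | e
    · left
      refine Equiv.ext fun x => ?_
      by_cases hx : x = none
      · rw [hx, e]; rfl
      by_cases hx' : x = q0
      · subst hx'
        rcases hsupp q0 (Or.inr rfl) with e' | e'
        · exact absurd (π.injective (e.trans e'.symm)) hn
        · exact e'
      exact hk x hx hx'
    · right
      refine Equiv.ext fun x => ?_
      by_cases hx : x = none
      · rw [hx, e, Equiv.swap_apply_left]
      by_cases hx' : x = q0
      · subst hx'
        rw [Equiv.swap_apply_right]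
        rcases hsupp q0 (Or.inr rfl) with e' | e'
        · exact e'
        · exact absurd (π.injective (e.trans e'.symm)) hn
      rw [hk x hx hx', Equiv.swap_apply_of_ne_of_ne hx hx']
  rcases this with e | e
  · exact (inv_mul_eq_one.1 (Subtype.ext e : g'⁻¹ * g = 1)).symm
  · exact absurd (e ▸ (g'⁻¹ * g).2) swap_not_mem

theorem aut22 (hα : Fintype.card α = 22) (hB : IsSteinerSystem 3 6 B) :
    Nat.card (setSystemAut B) = 887040 ∧ IsMultiplyPretransitive (setSystemAut B) α 3 ∧
      ∃ H : Subgroup (setSystemAut B), H.index = 2 ∧ IsM22 H := by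
  obtain ⟨ι, h1, h2, h3, h4⟩ := exists_embed22 hB hα
  choose G hG using h4
  let f : setSystemAut B →* M24 := MonoidHom.mk' (fun σ => G σ σ.2) fun σ τ => eq_of_agree h1 fun a => by
    show G _ (σ * τ).2 • ι a = (G σ σ.2 * G τ τ.2) • ι a
    rw [mul_smul, hG, hG, hG]
    rfl
  have hf : ∀ σ : setSystemAut B, ∀ a, f σ • ι a = ι ((σ : Equiv.Perm α) a) := fun σ a => hG σ σ.2 a
  have hinj : Function.Injective f := fun σ τ h => Subtype.ext (Equiv.ext fun a => ι.injective (by
    rw [← hf σ a, ← hf τ a, h]))
  have hpair : ∀ σ : setSystemAut B, ∀ x, x = none ∨ x = q0 → f σ • x = none ∨ f σ • x = q0 := by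
    intro σ x hx
    by_contra hne
    push Not at hne
    obtain ⟨a, ha⟩ := h1 _ hne.1 hne.2
    have h := hf σ ((σ : Equiv.Perm α).symm a)
    rw [Equiv.apply_symm_apply, ha] at h
    have h5 := smul_left_cancel _ h
    rcases hx with rfl | rfl
    · exact (h2 _).1 h5
    · exact (h2 _).2 h5
  have hrange : ∀ g : M24, (g • (none : GolayPt) = none ∧ g • q0 = q0) ∨
      (g • (none : GolayPt) = q0 ∧ g • q0 = none) → ∃ σ : setSystemAut B, f σ = g := by
    intro g hg
    have hne : ∀ a, ∃ a', ι a' = g • ι a := by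
      intro a
      refine h1 _ (fun h => ?_) (fun h => ?_)
      · rcases hg with ⟨e, -⟩ | ⟨-, e⟩
        · exact (h2 a).1 (smul_left_cancel g (h.trans e.symm))
        · exact (h2 a).2 (smul_left_cancel g (h.trans e.symm))
      · rcases hg with ⟨-, e⟩ | ⟨e, -⟩
        · exact (h2 a).2 (smul_left_cancel g (h.trans e.symm))
        · exact (h2 a).1 (smul_left_cancel g (h.trans e.symm))
    choose p hp using hne
    have hpi : Function.Injective p := fun a b h => ι.injective (smul_left_cancel g (by rw [← hp, ← hp, h]))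
    let σ : Equiv.Perm α := Equiv.ofBijective p (Finite.injective_iff_bijective.1 hpi)
    refine ⟨⟨σ, mem_aut_of_maps fun b hb => ?_⟩, eq_of_agree h1 fun a => (hf _ a).trans (hp a)⟩
    rw [h3] at hb ⊢
    rw [smul_map_embed (g := (g : Equiv.Perm GolayPt)) (σ := σ) (fun a => (hp a).symm)]
    have hs : insert none (insert q0 ((g : Equiv.Perm GolayPt) • b.map ι)) =
        (g : Equiv.Perm GolayPt) • insert none (insert q0 (b.map ι)) := by
      rw [Finset.smul_finset_insert, Finset.smul_finset_insert]
      rcases hg with ⟨e, e'⟩ | ⟨e, e'⟩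
      · rw [show (g : Equiv.Perm GolayPt) • (none : GolayPt) = none from e,
          show (g : Equiv.Perm GolayPt) • q0 = q0 from e']
      · rw [show (g : Equiv.Perm GolayPt) • (none : GolayPt) = q0 from e,
          show (g : Equiv.Perm GolayPt) • q0 = none from e', Finset.insert_comm]
    rw [hs]
    exact smul_mem_octads g.2 hb
  have hn : (none : GolayPt) ≠ q0 := by simp [q0]
  set K := stabilizer M24 (none : GolayPt) ⊓ stabilizer M24 q0
  set H := K.comap f
  have hK : K ≤ f.range := fun g hg => hrange g (Or.inl ⟨hg.1, hg.2⟩)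
  let r : H →* K := MonoidHom.mk' (fun x => ⟨f x.1, x.2⟩) fun a b => Subtype.ext (map_mul f a.1 b.1)
  have hr : Function.Bijective r := by
    refine ⟨fun x y h => Subtype.ext (hinj (congrArg Subtype.val h)), fun g => ?_⟩
    obtain ⟨σ, hσ⟩ := hK g.2
    exact ⟨⟨σ, show f σ ∈ K by rw [hσ]; exact g.2⟩, Subtype.ext hσ⟩
  let eq := MulEquiv.ofBijective r hr
  haveI := M24Simple.m22_simple none q0 hn
  have hHcard : Nat.card H = 443520 := by rw [Nat.card_congr eq.toEquiv, card_stab_two hn]
  have hindex : H.index = 2 := by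
    obtain ⟨g₀, hg₀⟩ := M24Simple.m24_move (by norm_num : 2 ≤ 5) ![none, q0] ![q0, none]
      (by intro i j; fin_cases i <;> fin_cases j <;> simp [hn, hn.symm])
      (by intro i j; fin_cases i <;> fin_cases j <;> simp [hn, hn.symm])
    obtain ⟨σ₀, hσ₀⟩ := hrange g₀ (Or.inr ⟨hg₀ 0, hg₀ 1⟩)
    have hmem : ∀ σ : setSystemAut B, σ ∈ H ↔ f σ • (none : GolayPt) = none := by
      intro σ
      refine ⟨fun h => h.1, fun h => ⟨h, ?_⟩⟩
      rcases hpair σ q0 (Or.inr rfl) with e | e
      · exact absurd (smul_left_cancel _ (h.trans e.symm)) hn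
      · exact e
    refine Subgroup.index_eq_two_iff.2 ⟨σ₀, fun σ => ?_⟩
    rw [hmem, hmem, map_mul, mul_smul, hσ₀, show g₀ • (none : GolayPt) = q0 from hg₀ 0]
    rcases hpair σ none (Or.inl rfl) with e | e <;> rcases hpair σ q0 (Or.inr rfl) with e' | e'
    · exact absurd (smul_left_cancel _ (e.trans e'.symm)) hn
    · simp [e, e', hn, hn.symm]
    · simp [e, e', hn, hn.symm]
    · exact absurd (smul_left_cancel _ (e.trans e'.symm)) hn
  refine ⟨?_, ⟨fun x y => ?_⟩, H, hindex, ⟨eq.isSimpleGroup, hHcard⟩⟩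
  · rw [← H.index_mul_card, hindex, hHcard]
  obtain ⟨g, hg⟩ := M24Simple.m24_move (k := 5) le_rfl (Fin.cons none (Fin.cons q0 fun i => ι (x i)))
    (Fin.cons none (Fin.cons q0 fun i => ι (y i)))
    (Fin.cons_injective_iff.2 ⟨by
      rintro ⟨i, hi⟩
      refine Fin.cases (fun h => ?_) (fun j h => ?_) i hi
      · exact hn.symm (by simpa using h)
      · exact (h2 (x j)).1 (by simpa using h), Fin.cons_injective_iff.2
        ⟨fun ⟨i, hi⟩ => (h2 _).2 hi, ι.injective.comp x.injective⟩⟩)
    (Fin.cons_injective_iff.2 ⟨by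
      rintro ⟨i, hi⟩
      refine Fin.cases (fun h => ?_) (fun j h => ?_) i hi
      · exact hn.symm (by simpa using h)
      · exact (h2 (y j)).1 (by simpa using h), Fin.cons_injective_iff.2
        ⟨fun ⟨i, hi⟩ => (h2 _).2 hi, ι.injective.comp y.injective⟩⟩)
  obtain ⟨σ, hσ⟩ := hrange g (Or.inl ⟨hg 0, by simpa using hg 1⟩)
  refine ⟨σ, DFunLike.ext _ _ fun i => ι.injective ?_⟩
  show ι ((σ : Equiv.Perm α) (x i)) = ι (y i)
  rw [← hf, hσ]
  simpa using hg i.succ.succ

end CfsgLib.Spor.SteinerDerived22
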