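import Mathlib

/-!
Degrees of sharply multiply transitive groups, by counting involutions.
-/

set_option autoImplicit false
set_option linter.unusedSectionVars false

namespace CfsgLib.Spor.SharpJordan

open MulAction Equiv

universe u v

variable {G : Type u} [Group G] {X : Type v} [MulAction G X]

/-- sharply `k`-transitive -/
def Sharp (G : Type u) [Group G] (X : Type v) [MulAction G X] (k : ℕ) : Prop :=
  (∀ x y : Fin k → X, Function.Injective x → Function.Injective y → ∃ g : G, ∀ i, g • x i = y i) ∧
  ∀ (g : G) (x : Fin k → X), Function.Injective x → (∀ i, g • x i = x i) → g = 1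

theorem Sharp.point {k : ℕ} (h : Sharp G X (k + 1)) (a : X) :
    Sharp (stabilizer G a) (SubMulAction.ofStabilizer G a) k := by
  have inj : ∀ x : Fin k → SubMulAction.ofStabilizer G a, Function.Injective x →
      Function.Injective (Fin.cons a (fun i => (x i : X)) : Fin (k + 1) → X) := fun x hx =>
    Fin.cons_injective_iff.2 ⟨by
      rintro ⟨i, hi⟩
      exact (SubMulAction.mem_ofStabilizer_iff G a).1 (x i).2 hi, Subtype.val_injective.comp hx⟩
  refine ⟨fun x y hx hy => ?_, fun g x hx hg => ?_⟩
  · obtain ⟨g, hg⟩ := h.1 _ _ (inj x hx) (inj y hy)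
    refine ⟨⟨g, ?_⟩, fun i => Subtype.ext ?_⟩
    · simpa using hg 0
    · simpa using hg i.succ
  · refine Subtype.ext (h.2 g.1 _ (inj x hx) (Fin.cases ?_ fun i => ?_))
    · show g.1 • (Fin.cons a (fun i => (x i : X)) : Fin (k + 1) → X) 0 = _
      rw [Fin.cons_zero]; exact g.2
    · show g.1 • (Fin.cons a (fun i => (x i : X)) : Fin (k + 1) → X) i.succ = _
      rw [Fin.cons_succ]; exact congrArg Subtype.val (hg i)

theorem sharp_of_hyps {α : Type v} [Fintype α] [DecidableEq α] (H : Subgroup (Equiv.Perm α)) (k : ℕ)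
    [IsMultiplyPretransitive H α k] (hs : ∀ x : Fin k ↪ α, stabilizer H x = ⊥) : Sharp H α k := by
  refine ⟨fun x y hx hy => ?_, fun g x hx hg => ?_⟩
  · obtain ⟨g, hg⟩ := exists_smul_eq H (⟨x, hx⟩ : Fin k ↪ α) ⟨y, hy⟩
    exact ⟨g, fun i => DFunLike.congr_fun hg i⟩
  · have : g ∈ stabilizer H (⟨x, hx⟩ : Fin k ↪ α) := mem_stabilizer_iff.2 (DFunLike.ext _ _ hg)
    rw [hs, Subgroup.mem_bot] at this
    exact this

section count

variable [Fintype X] [DecidableEq X]

/-- tuples on which `g` acts by `π` -/
def pats {k : ℕ} (g : G) (π : Fin k → Fin k) : Finset (Fin k → X) :=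
  Finset.univ.filter fun x => Function.Injective x ∧ ∀ i, g • x i = x (π i)

/-- one more transposition -/
def extPat {k : ℕ} (π : Fin k → Fin k) : Fin (k + 2) → Fin (k + 2) :=
  Fin.snoc (Fin.snoc (fun i => (π i).castSucc.castSucc) (Fin.last (k + 1))) (Fin.last k).castSucc

theorem pats_id (g : G) (a : ℕ) :
    (pats (X := X) g (id : Fin a → Fin a)).card =
      ((Finset.univ.filter fun x : X => g • x = x).card).descFactorial a := by
  rw [← Fintype.card_coe (Finset.univ.filter fun x : X => g • x = x), ← Fintype.card_fin a,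
    ← Fintype.card_embedding_eq, ← Fintype.card_coe, Fintype.card_fin]
  refine Fintype.card_congr
    { toFun := fun x => ⟨fun i => ⟨x.1 i, by simpa using (Finset.mem_filter.1 x.2).2.2 i⟩,
        fun i j h => (Finset.mem_filter.1 x.2).2.1 (congrArg Subtype.val h)⟩
      invFun := fun e => ⟨fun i => (e i).1, Finset.mem_filter.2 ⟨Finset.mem_univ _,
        fun i j h => e.injective (Subtype.ext h), fun i => (Finset.mem_filter.1 (e i).2).2⟩⟩
      left_inv := fun x => rfl
      right_inv := fun e => rfl }

theorem pats_ext (g : G) (hg : g * g = 1) {k : ℕ} (π : Fin k → Fin k) :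
    (pats (X := X) g (extPat π)).card = (pats (X := X) g π).card *
      ((Finset.univ.filter fun x : X => g • x ≠ x).card - (Finset.univ.filter fun i => π i ≠ i).card) := by
  classical
  let M := Finset.univ.filter fun x : X => g • x ≠ x
  have gg : ∀ x : X, g • g • x = x := fun x => by rw [smul_smul, hg, one_smul]
  have hc : ∀ x ∈ pats (X := X) g π, (M \ Finset.univ.image x).card =
      M.card - (Finset.univ.filter fun i => π i ≠ i).card := by
    intro x hx
    obtain ⟨hi, hp⟩ := (Finset.mem_filter.1 hx).2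
    rw [Finset.card_sdiff]
    congr 1
    rw [← Finset.card_image_of_injective (Finset.univ.filter fun i => π i ≠ i) hi]
    congr 1
    ext r
    simp only [Finset.mem_inter, Finset.mem_image, Finset.mem_filter, Finset.mem_univ, true_and, M]
    constructor
    · rintro ⟨⟨i, rfl⟩, h⟩
      exact ⟨i, fun e => h (by rw [hp, e]), rfl⟩
    · rintro ⟨i, h, rfl⟩
      exact ⟨⟨i, rfl⟩, fun e => h (hi (by rw [← hp, e]))⟩
  show _ = (pats (X := X) g π).card * (M.card - _)
  rw [← smul_eq_mul, ← Finset.sum_const, ← Finset.sum_congr rfl hc, ← Finset.card_sigma]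
  refine Finset.card_bij' (fun x _ => ⟨fun i => x i.castSucc.castSucc, x (Fin.last k).castSucc⟩)
    (fun s _ => Fin.snoc (Fin.snoc s.1 s.2) (g • s.2)) ?_ ?_ ?_ ?_
  · intro x hx
    obtain ⟨hi, hp⟩ := (Finset.mem_filter.1 hx).2
    have hlast : g • x (Fin.last k).castSucc = x (Fin.last (k + 1)) := by
      rw [hp]; simp [extPat]
    refine Finset.mem_sigma.2 ⟨Finset.mem_filter.2 ⟨Finset.mem_univ _,
      hi.comp (Fin.castSucc_injective _ |>.comp (Fin.castSucc_injective _)), fun i => ?_⟩, ?_⟩
    · show g • x i.castSucc.castSucc = x (π i).castSucc.castSucc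
      rw [hp]; simp [extPat]
    · refine Finset.mem_sdiff.2 ⟨Finset.mem_filter.2 ⟨Finset.mem_univ _, fun e => ?_⟩, fun h => ?_⟩
      · exact absurd (hi (hlast.symm.trans e)) (Fin.castSucc_lt_last _).ne'
      · obtain ⟨i, -, e⟩ := Finset.mem_image.1 h
        exact absurd (hi e) (fun e' => (Fin.castSucc_lt_last i).ne (Fin.castSucc_injective _ e'))
  · rintro ⟨x, r⟩ hs
    obtain ⟨hx, hr⟩ := Finset.mem_sigma.1 hs
    obtain ⟨hi, hp⟩ := (Finset.mem_filter.1 hx).2
    obtain ⟨hrM, hrx⟩ := Finset.mem_sdiff.1 hr
    have hgr : g • r ≠ r := (Finset.mem_filter.1 hrM).2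
    refine Finset.mem_filter.2 ⟨Finset.mem_univ _, ?_, ?_⟩
    · refine Fin.snoc_injective_iff.2 ⟨Fin.snoc_injective_iff.2 ⟨hi, fun ⟨i, e⟩ => hrx (Finset.mem_image.2 ⟨i, Finset.mem_univ _, e⟩)⟩, ?_⟩
      rintro ⟨i, e⟩
      revert e
      refine Fin.lastCases ?_ (fun j => ?_) i
      · simp only [Fin.snoc_last]; exact fun e => hgr e.symm
      · simp only [Fin.snoc_castSucc]
        intro e
        apply hrx
        refine Finset.mem_image.2 ⟨π j, Finset.mem_univ _, ?_⟩
        show x (π j) = r
        exact (hp j).symm.trans ((congrArg (g • ·) e).trans (gg r))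
    · intro i
      refine Fin.lastCases ?_ (fun j => ?_) i
      · simp [extPat, gg]
      · refine Fin.lastCases ?_ (fun l => ?_) j
        · simp [extPat]
        · simpa [extPat] using hp l
  · intro x hx
    obtain ⟨hi, hp⟩ := (Finset.mem_filter.1 hx).2
    funext i
    refine Fin.lastCases ?_ (fun j => ?_) i
    · simp only [Fin.snoc_last]
      rw [hp]; simp [extPat]
    · refine Fin.lastCases ?_ (fun l => ?_) j <;> simp
  · rintro ⟨x, r⟩ _
    simp

variable [Fintype G] [DecidableEq G]

/-- the involutions -/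
def invs (G : Type u) [Group G] [Fintype G] [DecidableEq G] : Finset G :=
  Finset.univ.filter fun g => g * g = 1 ∧ g ≠ 1

theorem count_eq {k : ℕ} (h : Sharp G X k) (π : Fin k → Fin k) (h2 : ∀ i, π (π i) = i) (h1 : ∃ i, π i ≠ i) :
    ∑ g ∈ invs G, (pats (X := X) g π).card = (Fintype.card X).descFactorial k := by
  classical
  rw [show (Fintype.card X).descFactorial k = (Finset.univ.filter fun x : Fin k → X => Function.Injective x).card by
    rw [← Fintype.card_subtype, Fintype.card_congr (Equiv.subtypeInjectiveEquivEmbedding (Fin k) X),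
      Fintype.card_embedding_eq, Fintype.card_fin]]
  rw [← Finset.card_biUnion]
  · congr 1
    ext x
    simp only [Finset.mem_biUnion, pats, invs, Finset.mem_filter, Finset.mem_univ, true_and]
    constructor
    · rintro ⟨g, -, hx, -⟩; exact hx
    · intro hx
      have hπ : Function.Injective π := fun i j e => by rw [← h2 i, e, h2]
      obtain ⟨g, hg⟩ := h.1 x (x ∘ π) hx (hx.comp hπ)
      refine ⟨g, ⟨h.2 _ x hx fun i => ?_, fun e => ?_⟩, hx, hg⟩
      · rw [mul_smul, hg, Function.comp_apply, hg, Function.comp_apply, h2]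
      · obtain ⟨i, hi⟩ := h1
        have := hg i
        rw [e, one_smul] at this
        exact hi (hx this).symm
  · intro g _ g' _ hne
    rw [Function.onFun, Finset.disjoint_left]
    intro x hx hx'
    obtain ⟨hi, hp⟩ := (Finset.mem_filter.1 hx).2
    obtain ⟨-, hp'⟩ := (Finset.mem_filter.1 hx').2
    refine hne (inv_mul_eq_one.1 (h.2 (g⁻¹ * g') x hi fun i => ?_))
    rw [mul_smul, hp', ← hp, inv_smul_smul]

/-- number of fixed points -/
def fixC (g : G) : ℕ := (Finset.univ.filter fun x : X => g • x = x).card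

theorem fix_facts {k : ℕ} (h : Sharp G X k) {g : G} (hg : g ∈ invs G) :
    fixC (X := X) g < k ∧ Even (Fintype.card X - fixC (X := X) g) ∧
      (Finset.univ.filter fun x : X => g • x ≠ x).card = Fintype.card X - fixC (X := X) g ∧
        fixC (X := X) g ≤ Fintype.card X := by
  classical
  obtain ⟨hg2, hg1⟩ := (Finset.mem_filter.1 hg).2
  have hsum := Finset.card_filter_add_card_filter_not (s := Finset.univ) (p := fun x : X => g • x = x)
  rw [Finset.card_univ] at hsum
  refine ⟨?_, ?_, by simp only [fixC, ne_eq]; omega, Finset.card_le_univ _⟩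
  · by_contra hle
    push Not at hle
    obtain ⟨e⟩ := Function.Embedding.nonempty_of_card_le (α := Fin k) (β := {x : X // g • x = x}) (by
      rw [Fintype.card_fin, Fintype.card_subtype]; exact hle)
    exact hg1 (h.2 g (fun i => (e i).1) (Subtype.val_injective.comp e.injective) fun i => (e i).2)
  · let σ : Equiv.Perm X := MulAction.toPerm g
    have hs : σ.support = Finset.univ.filter fun x : X => g • x ≠ x := by ext x; simp [σ, Equiv.Perm.mem_support]
    have h2 : σ ^ 2 = 1 := Equiv.ext fun x => by simp [σ, pow_two, smul_smul, hg2]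
    have hd : 2 ∣ σ.support.card := by
      rw [← σ.sum_cycleType]
      refine Multiset.dvd_sum fun n hn => ?_
      have h3 : n ∣ 2 := (Equiv.Perm.dvd_of_mem_cycleType hn).trans (orderOf_dvd_of_pow_eq_one h2)
      have := Equiv.Perm.two_le_of_mem_cycleType hn
      have := Nat.le_of_dvd (by norm_num) h3
      rw [show n = 2 by omega]
    rw [hs] at hd
    rw [even_iff_two_dvd]
    simp only [fixC, ne_eq] at *
    omega

theorem sum_two {k : ℕ} (S : Finset G) (c : G → ℕ) (f : G → ℕ) (a b : ℕ) (F : ℕ → ℕ) (hab : a ≠ b)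
    (hS : ∀ g ∈ S, f g = a ∨ f g = b) (hc : ∀ g ∈ S, c g = F (f g)) (N : ℕ) (hN : ∑ g ∈ S, c g = N) :
    (S.filter fun g => f g = a).card * F a + (S.filter fun g => f g = b).card * F b = N + 0 * k := by
  classical
  rw [← hN, zero_mul, add_zero, ← Finset.sum_filter_add_sum_filter_not S (fun g => f g = a)]
  congr 1
  · rw [← smul_eq_mul, ← Finset.sum_const]
    exact Finset.sum_congr rfl fun g hg => by rw [Finset.mem_filter] at hg; rw [hc g hg.1, hg.2]
  · have e : (S.filter fun g => ¬ f g = a) = S.filter fun g => f g = b := by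
      refine Finset.filter_congr fun g hg => ?_
      rcases hS g hg with h | h <;> simp [h, hab, hab.symm]
    rw [e, ← smul_eq_mul, ← Finset.sum_const]
    exact Finset.sum_congr rfl fun g hg => by rw [Finset.mem_filter] at hg; rw [hc g hg.1, hg.2]

theorem one_point_dvd {k : ℕ} (h : Sharp G X (k + 1)) (hn : k + 1 ≤ Fintype.card X) :
    Fintype.card X ∣ ((invs G).filter fun g => fixC (X := X) g = 1).card := by
  classical
  let S := (invs G).filter fun g => fixC (X := X) g = 1
  let c : X → ℕ := fun x => (S.filter fun g => g • x = x).card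
  have hsum : ∑ x, c x = S.card := by
    simp only [c, Finset.card_filter]
    rw [Finset.sum_comm, Finset.card_eq_sum_ones]
    refine Finset.sum_congr rfl fun g hg => ?_
    rw [← Finset.card_filter]
    exact (Finset.mem_filter.1 hg).2
  have hconst : ∀ x y, c x = c y := by
    intro x y
    obtain ⟨t, ht⟩ : ∃ t : G, t • x = y := by
      obtain ⟨e⟩ := Function.Embedding.nonempty_of_card_le (α := Fin (k + 1)) (β := X) (by rwa [Fintype.card_fin])
      obtain ⟨t, ht⟩ := h.1 (fun i => Equiv.swap (e 0) x (e i)) (fun i => Equiv.swap (e 0) y (e i))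
        ((Equiv.injective _).comp e.injective) ((Equiv.injective _).comp e.injective)
      exact ⟨t, by simpa using ht 0⟩
    have key : ∀ (s : G) (z : X) (g : G), g ∈ S.filter (fun g => g • z = z) →
        s * g * s⁻¹ ∈ S.filter (fun g => g • (s • z) = s • z) := by
      intro s z g hg
      obtain ⟨hgS, gz⟩ := Finset.mem_filter.1 hg
      obtain ⟨hgI, gf⟩ := Finset.mem_filter.1 hgS
      obtain ⟨-, g2, g1⟩ := Finset.mem_filter.1 hgI
      refine Finset.mem_filter.2 ⟨Finset.mem_filter.2 ⟨Finset.mem_filter.2 ⟨Finset.mem_univ _, ?_, fun e => g1 ?_⟩, ?_⟩, ?_⟩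
      · calc s * g * s⁻¹ * (s * g * s⁻¹) = s * (g * g) * s⁻¹ := by group
          _ = 1 := by rw [g2]; group
      · rw [show g = s⁻¹ * (s * g * s⁻¹) * s by group, e]; group
      · rw [← gf]
        show (Finset.univ.filter _).card = (Finset.univ.filter _).card
        refine Finset.card_bij' (fun w _ => s⁻¹ • w) (fun w _ => s • w) ?_ ?_ (fun w _ => smul_inv_smul s w) (fun w _ => inv_smul_smul s w)
        · intro w hw
          rw [Finset.mem_filter] at hw ⊢
          refine ⟨Finset.mem_univ _, ?_⟩
          have := congrArg (s⁻¹ • ·) hw.2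
          simpa [mul_smul] using this
        · intro w hw
          rw [Finset.mem_filter] at hw ⊢
          exact ⟨Finset.mem_univ _, by simp [mul_smul, hw.2]⟩
      · simp [mul_smul, gz]
    refine Finset.card_bij' (fun g _ => t * g * t⁻¹) (fun g _ => t⁻¹ * g * t) (fun g hg => ht ▸ key t x g hg) ?_ ?_ ?_
    · intro g hg
      have := key t⁻¹ y g hg
      rwa [inv_inv, ← ht, inv_smul_smul] at this
    · intro g _; group
    · intro g _; group
  obtain ⟨x0⟩ : Nonempty X := Fintype.card_pos_iff.1 (by omega)
  exact ⟨c x0, by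
    show S.card = _
    rw [← hsum, Finset.sum_congr rfl fun x _ => hconst x x0, Finset.sum_const, Finset.card_univ, smul_eq_mul]⟩

end count

theorem four [Finite G] [Finite X] (h : Sharp G X 4) (h4 : 4 ≤ Nat.card X) :
    Nat.card X = 4 ∨ Nat.card X = 5 ∨ Nat.card X = 6 ∨ Nat.card X = 11 := by
  classical
  haveI := Fintype.ofFinite G
  haveI := Fintype.ofFinite X
  rw [Nat.card_eq_fintype_card] at h4 ⊢
  set n := Fintype.card X with hn
  have p21 : ∀ g ∈ invs G, (pats (X := X) g (extPat (id : Fin 2 → Fin 2))).card =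
      (fixC (X := X) g).descFactorial 2 * (n - fixC (X := X) g) := fun g hg => by
    rw [pats_ext g (Finset.mem_filter.1 hg).2.1, pats_id, (fix_facts h hg).2.2.1]
    simp [fixC, hn]
  have p22 : ∀ g ∈ invs G, (pats (X := X) g (extPat (extPat (id : Fin 0 → Fin 0)))).card =
      (n - fixC (X := X) g) * (n - fixC (X := X) g - 2) := fun g hg => by
    rw [pats_ext g (Finset.mem_filter.1 hg).2.1, pats_ext g (Finset.mem_filter.1 hg).2.1, pats_id,
      (fix_facts h hg).2.2.1, show (Finset.univ.filter fun i => (id : Fin 0 → Fin 0) i ≠ i).card = 0 from by decide,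
      show (Finset.univ.filter fun i => extPat (id : Fin 0 → Fin 0) i ≠ i).card = 2 from by decide]
    simp [fixC, hn]
  have e21 := count_eq h (extPat (id : Fin 2 → Fin 2)) (by decide) (by decide)
  have e22 := count_eq h (extPat (extPat (id : Fin 0 → Fin 0))) (by decide) (by decide)
  rw [← hn] at e21 e22
  clear_value n
  have hD : n.descFactorial 4 = n * (n - 1) * (n - 2) * (n - 3) := by
    simp only [Nat.descFactorial_succ, Nat.descFactorial_zero, Nat.sub_zero]
    ring
  have hpos : 0 < n.descFactorial 4 := Nat.descFactorial_pos.2 h4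
  rcases Nat.even_or_odd n with ⟨m, hm⟩ | ⟨m, hm⟩
  · have hcl : ∀ g ∈ invs G, fixC (X := X) g = 2 ∨ fixC (X := X) g = 0 := fun g hg => by
      obtain ⟨a1, ⟨r, a2⟩, -, a4⟩ := fix_facts h hg
      omega
    have E1 := sum_two (k := 0) (invs G) _ _ 2 0 (fun f => f.descFactorial 2 * (n - f)) (by norm_num) hcl p21 _ e21
    have E2 := sum_two (k := 0) (invs G) _ _ 2 0 (fun f => (n - f) * (n - f - 2)) (by norm_num) hcl p22 _ e22
    simp only [Nat.descFactorial_succ, Nat.descFactorial_zero, Nat.sub_zero, Nat.zero_sub, mul_zero, zero_mul,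
      add_zero, mul_one] at E1 E2
    set A := ((invs G).filter fun g => fixC (X := X) g = 2).card
    set B := ((invs G).filter fun g => fixC (X := X) g = 0).card
    rw [hD] at hpos
    obtain ⟨j, rfl⟩ : ∃ j, n = j + 4 := ⟨n - 4, by omega⟩
    simp only [show j + 4 - 2 = j + 2 by omega, show j + 2 - 2 = j by omega, show j + 4 - 1 = j + 3 by omega,
      show j + 4 - 3 = j + 1 by omega, show (2 : ℕ) - 1 = 1 by norm_num] at E1 E2
    have hA : 0 < A * (j + 2) := by
      rcases Nat.eq_zero_or_pos (A * (j + 2)) with z | z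
      · have hR : 0 < (j + 1) * ((j + 2) * ((j + 3) * (j + 4))) := by positivity
        rw [← E1, show A * (1 * 2 * (j + 2)) = 2 * (A * (j + 2)) by ring, z] at hR
        omega
      · exact z
    have : j ≤ 2 := by
      by_contra hj
      push Not at hj
      nlinarith [Nat.mul_le_mul_left (A * (j + 2)) hj]
    omega
  · have hcl : ∀ g ∈ invs G, fixC (X := X) g = 3 ∨ fixC (X := X) g = 1 := fun g hg => by
      obtain ⟨a1, ⟨r, a2⟩, -, a4⟩ := fix_facts h hg
      omega
    have E1 := sum_two (k := 0) (invs G) _ _ 3 1 (fun f => f.descFactorial 2 * (n - f)) (by norm_num) hcl p21 _ e21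
    have E2 := sum_two (k := 0) (invs G) _ _ 3 1 (fun f => (n - f) * (n - f - 2)) (by norm_num) hcl p22 _ e22
    have hdvd := one_point_dvd h (hn ▸ h4)
    set A := ((invs G).filter fun g => fixC (X := X) g = 3).card
    set B := ((invs G).filter fun g => fixC (X := X) g = 1).card
    obtain ⟨j, rfl⟩ : ∃ j, n = j + 5 := ⟨n - 5, by omega⟩
    simp only [Nat.descFactorial_succ, Nat.descFactorial_zero, Nat.sub_zero, Nat.sub_self, mul_zero, zero_mul,
      add_zero, mul_one, show (3 : ℕ) - 1 = 2 by norm_num, show j + 5 - 3 = j + 2 by omega, show j + 2 - 2 = j by omega,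
      show j + 5 - 1 = j + 4 by omega, show j + 4 - 2 = j + 2 by omega, show j + 5 - 2 = j + 3 by omega] at E1 E2
    rw [← hn] at hdvd
    have hA : 0 < A * (j + 2) := by nlinarith [Nat.mul_pos (Nat.mul_pos (Nat.mul_pos (show 0 < j + 5 by omega) (show 0 < j + 4 by omega)) (show 0 < j + 3 by omega)) (show 0 < j + 2 by omega)]
    have : j ≤ 6 := by
      by_contra hj
      push Not at hj
      nlinarith [Nat.mul_le_mul_left (A * (j + 2)) hj]
    interval_cases j <;> omega

theorem five [Finite G] [Finite X] (h : Sharp G X 5) (h5 : 5 ≤ Nat.card X) :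
    Nat.card X = 5 ∨ Nat.card X = 6 ∨ Nat.card X = 7 ∨ Nat.card X = 12 := by
  obtain ⟨a⟩ : Nonempty X := (Nat.card_pos_iff.1 (by omega : 0 < Nat.card X)).1
  have e := SubMulAction.nat_card_ofStabilizer_add_one_eq (G := G) a
  rcases four (h.point a) (by omega) with r | r | r | r <;> omega

theorem six [Finite G] [Finite X] (h : Sharp G X 6) (h6 : 6 ≤ Nat.card X) :
    Nat.card X = 6 ∨ Nat.card X = 7 ∨ Nat.card X = 8 := by
  classical
  obtain ⟨a⟩ : Nonempty X := (Nat.card_pos_iff.1 (by omega : 0 < Nat.card X)).1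
  have e := SubMulAction.nat_card_ofStabilizer_add_one_eq (G := G) a
  have h13 : Nat.card X ≠ 13 := by
    intro h13
    haveI := Fintype.ofFinite G
    haveI := Fintype.ofFinite X
    rw [Nat.card_eq_fintype_card] at h13
    have cnt : ∀ (π : Fin 6 → Fin 6) (F : ℕ → ℕ), (∀ i, π (π i) = i) → (∃ i, π i ≠ i) →
        (∀ g ∈ invs G, (pats (X := X) g π).card = F (fixC (X := X) g)) →
        ((invs G).filter fun g => fixC (X := X) g = 5).card * F 5 +
          (((invs G).filter fun g => fixC (X := X) g = 3).card * F 3 +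
            ((invs G).filter fun g => fixC (X := X) g = 1).card * F 1) = 1235520 := by
      intro π F h2 h1 hF
      have e := count_eq h π h2 h1
      rw [h13, show Nat.descFactorial 13 6 = 1235520 from rfl] at e
      rw [← e]
      have hterm : ∀ g ∈ invs G, (pats (X := X) g π).card =
          (if fixC (X := X) g = 5 then F 5 else 0) + ((if fixC (X := X) g = 3 then F 3 else 0) +
            (if fixC (X := X) g = 1 then F 1 else 0)) := fun g hg => by
        rw [hF g hg]
        obtain ⟨a1, ⟨r, a2⟩, -, a4⟩ := fix_facts h hg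
        have : fixC (X := X) g = 5 ∨ fixC (X := X) g = 3 ∨ fixC (X := X) g = 1 := by omega
        rcases this with q | q | q <;> simp [q]
      rw [Finset.sum_congr rfl hterm, Finset.sum_add_distrib, Finset.sum_add_distrib,
        ← Finset.sum_filter, ← Finset.sum_filter, ← Finset.sum_filter, Finset.sum_const, Finset.sum_const,
        Finset.sum_const, smul_eq_mul, smul_eq_mul, smul_eq_mul]
    have E1 := cnt (extPat (id : Fin 4 → Fin 4)) (fun f => f.descFactorial 4 * (13 - f)) (by decide) (by decide)
      fun g hg => by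
        rw [pats_ext g (Finset.mem_filter.1 hg).2.1, pats_id, (fix_facts h hg).2.2.1, h13]
        simp [fixC]
    have E2 := cnt (extPat (extPat (id : Fin 2 → Fin 2))) (fun f => f.descFactorial 2 * (13 - f) * (13 - f - 2))
      (by decide) (by decide) fun g hg => by
        rw [pats_ext g (Finset.mem_filter.1 hg).2.1, pats_ext g (Finset.mem_filter.1 hg).2.1, pats_id,
          (fix_facts h hg).2.2.1, show (Finset.univ.filter fun i => (id : Fin 2 → Fin 2) i ≠ i).card = 0 from by decide,
          show (Finset.univ.filter fun i => extPat (id : Fin 2 → Fin 2) i ≠ i).card = 2 from by decide, h13]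
        simp [fixC]
    have E3 := cnt (extPat (extPat (extPat (id : Fin 0 → Fin 0)))) (fun f => (13 - f) * (13 - f - 2) * (13 - f - 4))
      (by decide) (by decide) fun g hg => by
        rw [pats_ext g (Finset.mem_filter.1 hg).2.1, pats_ext g (Finset.mem_filter.1 hg).2.1,
          pats_ext g (Finset.mem_filter.1 hg).2.1, pats_id, (fix_facts h hg).2.2.1,
          show (Finset.univ.filter fun i => (id : Fin 0 → Fin 0) i ≠ i).card = 0 from by decide,
          show (Finset.univ.filter fun i => extPat (id : Fin 0 → Fin 0) i ≠ i).card = 2 from by decide,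
          show (Finset.univ.filter fun i => extPat (extPat (id : Fin 0 → Fin 0)) i ≠ i).card = 4 from by decide, h13]
        simp [fixC]
    norm_num [Nat.descFactorial] at E1 E2 E3
    omega
  rcases five (h.point a) (by omega) with r | r | r | r <;> omega

theorem large (j : ℕ) : ∀ {G : Type u} [Group G] {X : Type v} [MulAction G X] [Finite G] [Finite X],
    Sharp G X (j + 6) → j + 6 ≤ Nat.card X →
      Nat.card X = j + 6 ∨ Nat.card X = j + 7 ∨ Nat.card X = j + 8 := by
  induction j with
  | zero => intro G _ X _ _ _ h hn; exact six h hn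
  | succ j ih =>
    intro G _ X _ _ _ h hn
    obtain ⟨a⟩ : Nonempty X := (Nat.card_pos_iff.1 (by omega : 0 < Nat.card X)).1
    have e := SubMulAction.nat_card_ofStabilizer_add_one_eq (G := G) a
    have hs : Sharp (stabilizer G a) (SubMulAction.ofStabilizer G a) (j + 6) :=
      Sharp.point (k := j + 6) (by convert h using 2) a
    rcases ih hs (by omega) with r | r | r <;> omega

end CfsgLib.Spor.SharpJordan
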