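import Cfsg.Agent.Spor.SimpleCriteria
import Mathlib

/-!
Sharply four and five fold transitive groups of degree 11 and 12.
-/

set_option autoImplicit false

namespace CfsgLib.Spor.SharpFour

open MulAction

variable {G X : Type*} [Group G] [MulAction G X]

/-- the order of a sharply multiply transitive group -/
theorem card_sharp [Finite G] [Finite X] (k : ℕ) [IsMultiplyPretransitive G X k] (hk : k ≤ Nat.card X)
    (hfree : ∀ x : Fin k ↪ X, stabilizer G x = ⊥) : Nat.card G = (Nat.card X).descFactorial k := by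
  classical
  haveI : Fintype X := Fintype.ofFinite X
  obtain ⟨x⟩ : Nonempty (Fin k ↪ X) := Function.Embedding.nonempty_of_card_le (by
    rw [Fintype.card_fin, ← Nat.card_eq_fintype_card]; exact hk)
  have h := (stabilizer G x).index_mul_card
  rw [index_stabilizer_of_transitive, hfree x, Subgroup.card_bot, mul_one] at h
  rw [← h, Nat.card_eq_fintype_card (α := Fin k ↪ X), Fintype.card_embedding_eq, Fintype.card_fin,
    Nat.card_eq_fintype_card (α := X)]

theorem faithful_sharp (k : ℕ) [Finite X] (hk : k ≤ Nat.card X)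
    (hfree : ∀ x : Fin k ↪ X, stabilizer G x = ⊥) : FaithfulSMul G X := by
  classical
  haveI : Fintype X := Fintype.ofFinite X
  obtain ⟨x⟩ : Nonempty (Fin k ↪ X) := Function.Embedding.nonempty_of_card_le (by
    rw [Fintype.card_fin, ← Nat.card_eq_fintype_card]; exact hk)
  refine ⟨fun {a b} e => ?_⟩
  have h : b⁻¹ * a ∈ stabilizer G x := mem_stabilizer_iff.2 (DFunLike.ext _ _ fun i => by
    show (b⁻¹ * a) • x i = x i
    rw [mul_smul, e, inv_smul_smul])
  rw [hfree x, Subgroup.mem_bot] at h
  exact (inv_mul_eq_one.1 h).symm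

theorem two_of_multiply [Finite X] (k : ℕ) [IsMultiplyPretransitive G X k] (h2 : 2 ≤ k) (hk : k ≤ Nat.card X) :
    ∀ x y x' y' : X, x ≠ y → x' ≠ y' → ∃ g : G, g • x = x' ∧ g • y = y' := by
  intro x y x' y' h h'
  haveI : IsMultiplyPretransitive G X 2 := isMultiplyPretransitive_of_le h2 hk
  have hinj : ∀ a b : X, a ≠ b → Function.Injective ![a, b] := fun a b hab i j => by
    fin_cases i <;> fin_cases j <;> simp [hab, hab.symm]
  obtain ⟨g, hg⟩ := exists_smul_eq G (⟨![x, y], hinj x y h⟩ : Fin 2 ↪ X) ⟨![x', y'], hinj x' y' h'⟩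
  exact ⟨g, DFunLike.congr_fun hg 0, DFunLike.congr_fun hg 1⟩

/-- degree eleven -/
theorem eleven [Finite G] [Finite X] [IsMultiplyPretransitive G X 4] (hX : Nat.card X = 11)
    (hfree : ∀ x : Fin 4 ↪ X, stabilizer G x = ⊥) : IsSimpleGroup G ∧ Nat.card G = 7920 := by
  haveI : Fact (Nat.Prime 11) := ⟨by norm_num⟩
  haveI := faithful_sharp (G := G) 4 (by omega) hfree
  have hcard : Nat.card G = 7920 := by
    rw [card_sharp 4 (by omega) hfree, hX]; rfl
  have h2 := two_of_multiply (G := G) (X := X) 4 (by norm_num) (by omega)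
  refine ⟨SimpleCriteria.simple_of_prime_cycles (X := X) (p := 11) (q := 5) (m := 1) (by norm_num)
    (fun N hN hb => SimpleCriteria.normal_transitive h2 hN hb) (by rw [hX]) one_pos (by rw [hcard]; norm_num)
    (by rw [hcard]; norm_num) ?_ (by rw [hcard]; norm_num) ?_, hcard⟩
  · intro x hdiv
    have h := (stabilizer G x).index_mul_card
    haveI : IsPretransitive G X := ⟨fun a b => by
      by_cases hab : a = b
      · exact ⟨1, by rw [one_smul, hab]⟩
      · obtain ⟨g, e, -⟩ := h2 a b b a hab (Ne.symm hab); exact ⟨g, e⟩⟩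
    rw [index_stabilizer_of_transitive, hX, hcard] at h
    have : Nat.card (stabilizer G x) = 720 := by omega
    rw [this] at hdiv
    norm_num at hdiv
  · intro d hd hdn hmod
    rw [hcard] at hdn hmod
    have hd' : d ∣ 10 := by simpa using hd
    have hle := Nat.le_of_dvd (by norm_num) hd'
    interval_cases d <;> simp_all

/-- degree twelve -/
theorem twelve [Finite G] [Finite X] [IsMultiplyPretransitive G X 5] (hX : Nat.card X = 12)
    (hfree : ∀ x : Fin 5 ↪ X, stabilizer G x = ⊥) : IsSimpleGroup G ∧ Nat.card G = 95040 := by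
  haveI := faithful_sharp (G := G) 5 (by omega) hfree
  have h2 := two_of_multiply (G := G) (X := X) 5 (by norm_num) (by omega)
  haveI : IsPretransitive G X := ⟨fun a b => by
    by_cases hab : a = b
    · exact ⟨1, by rw [one_smul, hab]⟩
    · obtain ⟨g, e, -⟩ := h2 a b b a hab (Ne.symm hab); exact ⟨g, e⟩⟩
  obtain ⟨x0⟩ : Nonempty X := (Nat.card_pos_iff.1 (by omega : 0 < Nat.card X)).1
  haveI : IsMultiplyPretransitive (stabilizer G x0) (SubMulAction.ofStabilizer G x0) 4 :=
    (SubMulAction.ofStabilizer.isMultiplyPretransitive (a := x0)).1 inferInstance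
  have hY : Nat.card (SubMulAction.ofStabilizer G x0) = 11 := by
    classical
    haveI : Fintype X := Fintype.ofFinite X
    rw [Nat.card_congr (show SubMulAction.ofStabilizer G x0 ≃ {x : X // x ≠ x0} from Equiv.refl _),
      Nat.card_eq_fintype_card, Fintype.card_subtype_compl, Fintype.card_subtype_eq, ← Nat.card_eq_fintype_card, hX]
  obtain ⟨hs, -⟩ := eleven (G := stabilizer G x0) (X := SubMulAction.ofStabilizer G x0) hY fun x => by
    refine (Subgroup.eq_bot_iff_forall _).2 fun g hg => Subtype.ext ?_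
    have h : (g : G) ∈ stabilizer G (SubMulAction.ofStabilizer.snoc x) := mem_stabilizer_iff.2 (DFunLike.ext _ _ fun i => by
      show (g : G) • SubMulAction.ofStabilizer.snoc x i = SubMulAction.ofStabilizer.snoc x i
      rcases Fin.eq_castSucc_or_eq_last i with ⟨j, rfl⟩ | rfl
      · rw [SubMulAction.ofStabilizer.snoc_castSucc]
        exact congrArg Subtype.val (DFunLike.congr_fun (mem_stabilizer_iff.1 hg) j)
      · rw [SubMulAction.ofStabilizer.snoc_last]
        exact g.2)
    rw [hfree, Subgroup.mem_bot] at h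
    exact h
  refine ⟨SimpleCriteria.simple_of_two_transitive h2 x0 hs ?_ (by omega), ?_⟩
  · rw [hX, isPrimePow_nat_iff_bounded]
    decide
  · rw [card_sharp 5 (by omega) hfree, hX]; rfl

end CfsgLib.Spor.SharpFour
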