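import Cfsg.Agent.Spor.SteinerDerived22
import Mathlib.Combinatorics.SimpleGraph.StronglyRegular

/-!
The two graphs of a system S(3,6,22).
-/

set_option autoImplicit false

namespace CfsgLib.Spor.SRG22

open Cfsg Finset CfsgLib.Spor.SteinerCount CfsgLib.Spor.SteinerDerived22

variable {α : Type*} [Fintype α] [DecidableEq α] {B : Set (Finset α)}

theorem small (hB : IsSteinerSystem 3 6 B) (hα : Fintype.card α = 22) {b c : Finset α} (hb : b ∈ B)
    (hc : c ∈ B) (hne : b ≠ c) : (b ∩ c).card = 0 ∨ (b ∩ c).card = 2 := by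
  have h := inter_six hB hα hb hc
  have h4 : (b ∩ c).card < 3 := by
    by_contra h4
    exact hne (eq_of_five hB hb hc (by omega))
  omega

theorem counts (hB : IsSteinerSystem 3 6 B) (hα : Fintype.card α = 22) (X : Finset α) {N : ℕ}
    (hN : X.card < N) :
    (∑ i ∈ range N, meet B X i * i.choose 0 = X.card.choose 0 * 77) ∧
    (∑ i ∈ range N, meet B X i * i.choose 1 = X.card.choose 1 * 21) ∧
    (∑ i ∈ range N, meet B X i * i.choose 2 = X.card.choose 2 * 5) ∧
    ∑ i ∈ range N, meet B X i * i.choose 3 = X.card.choose 3 * 1 :=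
  ⟨count_meet hB X (by norm_num) (by norm_num) (by rw [hα]; decide) hN,
    count_meet hB X (by norm_num) (by norm_num) (by rw [hα]; decide) hN,
    count_meet hB X (by norm_num) (by norm_num) (by rw [hα]; decide) hN,
    count_meet hB X (by norm_num) (by norm_num) (by rw [hα]; decide) hN⟩

theorem block_meets (hB : IsSteinerSystem 3 6 B) (hα : Fintype.card α = 22) {b : Finset α} (hb : b ∈ B) :
    meet B b 0 = 16 ∧ meet B b 1 = 0 ∧ meet B b 2 = 60 := by
  have h := meet_six hB hα hb
  obtain ⟨e0, e1, -, -⟩ := counts hB hα b (N := 7) (by rw [hB.1 b hb]; norm_num)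
  simp only [sum_range_succ, sum_range_zero, Nat.choose, hB.1 b hb, meet_self hB (by norm_num) hb,
    meet_high hB hb (i := 3) (by norm_num) (by norm_num), meet_high hB hb (i := 4) (by norm_num) (by norm_num),
    meet_high hB hb (i := 5) (by norm_num) (by norm_num), h] at e0 e1
  omega

theorem union_meets (hB : IsSteinerSystem 3 6 B) (hα : Fintype.card α = 22) {b c : Finset α} (hb : b ∈ B)
    (hc : c ∈ B) (hne : b ≠ c) :
    meet B (b ∪ c) 0 = if (b ∩ c).card = 0 then 0 else 4 := by
  classical
  have hcard : (b ∪ c).card + (b ∩ c).card = 12 := by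
    rw [card_union_add_card_inter, hB.1 b hb, hB.1 c hc]
  have hkey : ∀ d ∈ B, d ≠ b → d ≠ c → (d ∩ (b ∪ c)).card = (d ∩ b).card + (d ∩ c).card - (d ∩ (b ∩ c)).card ∧
      ((d ∩ b).card = 0 ∨ (d ∩ b).card = 2) ∧ ((d ∩ c).card = 0 ∨ (d ∩ c).card = 2) ∧
      (d ∩ (b ∩ c)).card ≤ (d ∩ b).card ∧ (d ∩ (b ∩ c)).card ≤ (d ∩ c).card ∧
      (d ∩ (b ∩ c)).card ≤ (b ∩ c).card := by
    intro d hd h1 h2
    refine ⟨?_, small hB hα hd hb h1, small hB hα hd hc h2, card_le_card ?_, card_le_card ?_,
      card_le_card inter_subset_right⟩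
    · have e : d ∩ (b ∩ c) = (d ∩ b) ∩ (d ∩ c) := by ext x; simp; tauto
      rw [inter_union_distrib_left, e, ← card_union_add_card_inter]
      omega
    · intro x; simp; tauto
    · intro x; simp; tauto
  have hbU : b ∩ (b ∪ c) = b := inter_eq_left.2 subset_union_left
  have hcU : c ∩ (b ∪ c) = c := inter_eq_left.2 subset_union_right
  have h6 : meet B (b ∪ c) 6 = 2 := by
    rw [meet, show (blocks B).filter (fun d => (d ∩ (b ∪ c)).card = 6) = {b, c} from ?_, card_pair hne]
    ext d
    simp only [mem_filter, mem_blocks, mem_insert, mem_singleton]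
    constructor
    · rintro ⟨hd, h⟩
      by_contra hh
      push_neg at hh
      obtain ⟨g1, g2, g3, -⟩ := hkey d hd hh.1 hh.2
      omega
    · rintro (rfl | rfl)
      · exact ⟨hb, by rw [hbU, hB.1 _ hb]⟩
      · exact ⟨hc, by rw [hcU, hB.1 _ hc]⟩
  have hz : ∀ i, i ≠ 6 → (i = 1 ∨ 5 ≤ i ∨ ((b ∩ c).card = 0 ∧ i = 3)) → meet B (b ∪ c) i = 0 := by
    intro i hi6 hi
    refine meet_eq_zero fun d hd e => ?_
    by_cases h1 : d = b
    · subst h1; rw [hbU, hB.1 d hd] at e; omega
    by_cases h2 : d = c
    · subst h2; rw [hcU, hB.1 d hd] at e; omega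
    obtain ⟨g1, g2, g3, g4, g5, g6⟩ := hkey d hd h1 h2
    omega
  rcases small hB hα hb hc hne with h | h
  · obtain ⟨e0, e1, e2, -⟩ := counts hB hα (b ∪ c) (N := 13) (by omega)
    rw [show (b ∪ c).card = 12 by omega] at e0 e1 e2
    simp only [sum_range_succ, sum_range_zero, Nat.choose, h6, hz 1 (by norm_num) (by norm_num),
      hz 3 (by norm_num) (by omega), hz 5 (by norm_num) (by norm_num), hz 7 (by norm_num) (by norm_num),
      hz 8 (by norm_num) (by norm_num), hz 9 (by norm_num) (by norm_num), hz 10 (by norm_num) (by norm_num),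
      hz 11 (by norm_num) (by norm_num), hz 12 (by norm_num) (by norm_num)] at e0 e1 e2
    rw [if_pos h]
    omega
  · obtain ⟨e0, e1, e2, e3⟩ := counts hB hα (b ∪ c) (N := 11) (by omega)
    rw [show (b ∪ c).card = 10 by omega] at e0 e1 e2 e3
    simp only [sum_range_succ, sum_range_zero, Nat.choose, h6, hz 1 (by norm_num) (by norm_num),
      hz 5 (by norm_num) (by norm_num), hz 7 (by norm_num) (by norm_num), hz 8 (by norm_num) (by norm_num),
      hz 9 (by norm_num) (by norm_num), hz 10 (by norm_num) (by norm_num)] at e0 e1 e2 e3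
    rw [if_neg (by omega)]
    omega

theorem through (hB : IsSteinerSystem 3 6 B) (hα : Fintype.card α = 22) (a : α) :
    ((blocks B).filter fun d => a ∈ d).card = 21 ∧
    (∀ a', a ≠ a' → ((blocks B).filter fun d => a ∈ d ∧ a' ∈ d).card = 5) ∧
    ∀ b ∈ B, a ∉ b → ((blocks B).filter fun d => a ∈ d ∧ Disjoint d b).card = 6 := by
  classical
  have h2 : ∀ a', a ≠ a' → ((blocks B).filter fun d => a ∈ d ∧ a' ∈ d).card = 5 := by
    intro a' h
    have h5 := count_above hB (s := {a, a'}) (by rw [card_pair h]; norm_num)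
    simp only [card_pair h, hα, insert_subset_iff, singleton_subset_iff] at h5
    norm_num [Nat.choose] at h5
    omega
  have h1 : ((blocks B).filter fun d => a ∈ d).card = 21 := by
    have h5 := count_above hB (s := {a}) (by rw [card_singleton]; norm_num)
    simp only [card_singleton, hα, singleton_subset_iff] at h5
    norm_num [Nat.choose] at h5
    omega
  refine ⟨h1, h2, fun b hb ha => ?_⟩
  have h3 := sum_card_bipartiteAbove_eq_sum_card_bipartiteBelow
    (s := (blocks B).filter fun d => a ∈ d) (t := b) (fun d x => x ∈ d)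
  simp only [bipartiteAbove, bipartiteBelow] at h3
  have hr : ∀ x ∈ b, (((blocks B).filter fun d => a ∈ d).filter fun d => x ∈ d).card = 5 := fun x hx => by
    rw [filter_filter]
    exact h2 x fun e => ha (e ▸ hx)
  rw [sum_congr rfl hr, sum_const, hB.1 b hb, smul_eq_mul] at h3
  have hv : ∀ d ∈ (blocks B).filter (fun d => a ∈ d),
      (b.filter fun x => x ∈ d).card = if Disjoint d b then 0 else 2 := by
    intro d hd
    obtain ⟨hd1, hd2⟩ := mem_filter.1 hd
    have e : (b.filter fun x => x ∈ d) = d ∩ b := by ext x; simp [and_comm]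
    rw [e]
    rcases small hB hα (mem_blocks.1 hd1) hb (fun g => ha (g ▸ hd2)) with g | g
    · rw [g, if_pos (disjoint_iff_inter_eq_empty.2 (card_eq_zero.1 g))]
    · rw [g, if_neg fun hh => by rw [disjoint_iff_inter_eq_empty.1 hh, card_empty] at g; omega]
  rw [sum_congr rfl hv, sum_ite, sum_const_zero, sum_const, smul_eq_mul, zero_add, filter_filter] at h3
  have h4 := card_filter_add_card_filter_not (s := (blocks B).filter fun d => a ∈ d) (fun d => Disjoint d b)
  rw [filter_filter, filter_filter, h1] at h4
  omega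

theorem count_blocks (hB : IsSteinerSystem 3 6 B) (hα : Fintype.card α = 22) : (blocks B).card = 77 := by
  have h5 := count_above hB (s := (∅ : Finset α)) (by simp)
  simp only [card_empty, hα, empty_subset, filter_true] at h5
  norm_num [Nat.choose] at h5
  omega

theorem card_sub [Fintype B] (p : Finset α → Prop) [DecidablePred p] :
    (univ.filter fun d : B => p d.1).card = ((blocks B).filter p).card := by
  refine card_bij (fun d _ => d.1) (fun d hd => ?_) (fun d _ d' _ e => Subtype.ext e) fun d hd => ?_
  · simp only [mem_filter, mem_univ, true_and] at hd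
    exact mem_filter.2 ⟨mem_blocks.2 d.2, hd⟩
  · obtain ⟨h1, h2⟩ := mem_filter.1 hd
    exact ⟨⟨d, mem_blocks.1 h1⟩, by simpa using h2, rfl⟩

theorem block_adj {b c : B} : (blockGraph B).Adj b c ↔ b ≠ c ∧ Disjoint b.1 c.1 := by
  simp only [blockGraph, SimpleGraph.fromRel_adj, disjoint_comm (a := (c : Finset α)), or_self]

theorem srg77 [Fintype B] [DecidableRel (blockGraph B).Adj] (hB : IsSteinerSystem 3 6 B)
    (hα : Fintype.card α = 22) : (blockGraph B).IsSRGWith 77 16 0 4 := by
  classical
  have hdis : ∀ b : B, ∀ d : Finset α, d ∈ B → ((d ∩ b.1).card = 0 ↔ b.1 ≠ d ∧ Disjoint b.1 d) := by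
    intro b d hd
    rw [card_eq_zero, ← disjoint_iff_inter_eq_empty, disjoint_comm]
    refine ⟨fun h => ⟨fun e => ?_, h⟩, fun h => h.2⟩
    rw [← e, disjoint_self, bot_eq_empty] at h
    have := hB.1 b.1 b.2
    rw [h] at this
    simp at this
  have hcn : ∀ b c : B, b ≠ c →
      Fintype.card ((blockGraph B).commonNeighbors b c) = if (b.1 ∩ c.1).card = 0 then 0 else 4 := by
    intro b c hne
    rw [← union_meets hB hα b.2 c.2 (fun e => hne (Subtype.ext e)), meet, ← card_sub, ← Set.toFinset_card]
    refine congrArg Finset.card (ext fun d => ?_)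
    simp only [Set.mem_toFinset, SimpleGraph.mem_commonNeighbors, block_adj, mem_filter, mem_univ, true_and,
      inter_union_distrib_left]
    rw [card_eq_zero, union_eq_empty, ← card_eq_zero, ← card_eq_zero, hdis b d.1 d.2, hdis c d.1 d.2]
    simp only [Ne, Subtype.ext_iff]
  refine ⟨?_, fun b => ?_, fun b c h => ?_, fun b c hne h => ?_⟩
  · rw [← count_blocks hB hα, ← card_univ]
    exact (by simpa using card_sub (B := B) fun _ => True)
  · rw [← SimpleGraph.card_neighborSet_eq_degree, ← (block_meets hB hα b.2).1, meet, ← card_sub,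
      ← Set.toFinset_card]
    refine congrArg Finset.card (ext fun d => ?_)
    simp only [Set.mem_toFinset, SimpleGraph.mem_neighborSet, block_adj, mem_filter, mem_univ, true_and]
    rw [hdis b d.1 d.2]
    simp only [Ne, Subtype.ext_iff]
  · obtain ⟨hne, hd⟩ := block_adj.1 h
    rw [hcn b c hne, if_pos]
    rw [disjoint_iff_inter_eq_empty.1 hd, card_empty]
  · rw [hcn b c hne, if_neg fun g => h (block_adj.2 ⟨hne, disjoint_iff_inter_eq_empty.2 (card_eq_zero.1 g)⟩)]

theorem split_card [Fintype B] (p : Option (α ⊕ B) → Prop) [DecidablePred p] :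
    (univ.filter p).card = (if p none then 1 else 0) + (univ.filter fun a => p (some (Sum.inl a))).card +
      (univ.filter fun b : B => p (some (Sum.inr b))).card := by
  classical
  simp only [card_filter, Fintype.sum_option, Fintype.sum_sum_type]
  rw [add_assoc]

theorem pb_none_pt (a : α) : (pointBlockGraph B).Adj none (some (Sum.inl a)) := by
  simp [pointBlockGraph, SimpleGraph.fromRel_adj, pointBlockRel]

theorem pb_none_blk (b : B) : ¬(pointBlockGraph B).Adj none (some (Sum.inr b)) := by
  simp [pointBlockGraph, SimpleGraph.fromRel_adj, pointBlockRel]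

theorem pb_pt_pt (a a' : α) : ¬(pointBlockGraph B).Adj (some (Sum.inl a)) (some (Sum.inl a')) := by
  simp [pointBlockGraph, SimpleGraph.fromRel_adj, pointBlockRel]

theorem pb_pt_blk (a : α) (b : B) :
    (pointBlockGraph B).Adj (some (Sum.inl a)) (some (Sum.inr b)) ↔ a ∈ b.1 := by
  simp [pointBlockGraph, SimpleGraph.fromRel_adj, pointBlockRel]

theorem pb_blk_blk (b c : B) :
    (pointBlockGraph B).Adj (some (Sum.inr b)) (some (Sum.inr c)) ↔ b ≠ c ∧ Disjoint b.1 c.1 := by
  simp [pointBlockGraph, SimpleGraph.fromRel_adj, pointBlockRel, disjoint_comm (a := (c : Finset α))]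

theorem srg100 [Fintype B] [DecidableRel (pointBlockGraph B).Adj] (hB : IsSteinerSystem 3 6 B)
    (hα : Fintype.card α = 22) : (pointBlockGraph B).IsSRGWith 100 22 0 6 := by
  classical
  let G := pointBlockGraph B
  have hdis : ∀ b d : B, (b ≠ d ∧ Disjoint b.1 d.1) ↔ (d.1 ∩ b.1).card = 0 := by
    intro b d
    rw [card_eq_zero, ← disjoint_iff_inter_eq_empty, disjoint_comm]
    refine ⟨fun h => h.2, fun h => ⟨fun e => ?_, h⟩⟩
    rw [e, disjoint_self, bot_eq_empty] at h
    have := hB.1 d.1 d.2
    rw [h] at this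
    simp at this
  have hpb : ∀ (a : α) (b : B), G.Adj (some (Sum.inr b)) (some (Sum.inl a)) ↔ a ∈ b.1 :=
    fun a b => (G.adj_comm _ _).trans (pb_pt_blk a b)
  have hpn : ∀ a : α, G.Adj (some (Sum.inl a)) none := fun a => (pb_none_pt a).symm
  have hbn : ∀ b : B, ¬G.Adj (some (Sum.inr b)) none := fun b h => pb_none_blk b h.symm
  have c77 : Fintype.card B = 77 := by
    rw [← count_blocks hB hα, ← card_univ]
    exact (by simpa using card_sub (B := B) fun _ => True)
  refine ⟨?_, fun v => ?_, fun v w h => ?_, fun v w hne h => ?_⟩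
  · rw [Fintype.card_option, Fintype.card_sum, hα, c77]
  · rw [← SimpleGraph.card_neighborSet_eq_degree, ← Set.toFinset_card]
    rw [show Set.toFinset ((pointBlockGraph B).neighborSet v) = univ.filter (G.Adj v) from
      ext fun u => by simp [G], split_card]
    rcases v with _ | a | b
    · simp only [pb_none_pt, pb_none_blk, G.irrefl, if_false, filter_true, filter_false, card_empty,
        card_univ, hα, add_zero, zero_add, G]
    · simp only [hpn a, pb_pt_pt, pb_pt_blk, if_true, filter_false, card_empty, add_zero, G]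
      rw [card_sub (fun d => a ∈ d), (through hB hα a).1]
    · simp only [hbn b, hpb, pb_blk_blk, hdis, if_false, zero_add, G]
      rw [filter_univ_mem, hB.1 _ b.2, card_sub (fun d => (d ∩ b.1).card = 0)]
      show 6 + meet B b.1 0 = 22
      rw [(block_meets hB hα b.2).1]
  all_goals rw [← Set.toFinset_card,
    show Set.toFinset ((pointBlockGraph B).commonNeighbors v w) = univ.filter (fun u => G.Adj v u ∧ G.Adj w u) from
      ext fun u => by simp [G, SimpleGraph.mem_commonNeighbors], split_card]
  · rcases v with _ | a | b <;> rcases w with _ | a' | b'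
    · exact absurd h G.irrefl
    · simp [G, pb_none_pt, pb_none_blk, pb_pt_pt]
    · exact absurd h (pb_none_blk b')
    · simp [G, pb_none_pt, pb_none_blk, pb_pt_pt]
    · exact absurd h (pb_pt_pt a a')
    · have ha := (pb_pt_blk a b').1 h
      simp only [G, pb_pt_pt, pb_pt_blk, hbn b', hpb, pb_blk_blk, and_false, false_and, if_false, filter_false,
        card_empty, zero_add]
      rw [card_eq_zero, filter_eq_empty_iff]
      exact fun d _ g => disjoint_left.1 g.2.2 ha g.1
    · exact absurd h (hbn b)
    · have ha := (hpb a' b).1 h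
      simp only [G, pb_pt_pt, pb_pt_blk, hbn b, hpb, pb_blk_blk, and_false, false_and, if_false, filter_false,
        card_empty, zero_add]
      rw [card_eq_zero, filter_eq_empty_iff]
      exact fun d _ g => disjoint_left.1 g.1.2 ha g.2
    · obtain ⟨hne, hd⟩ := (pb_blk_blk b b').1 h
      simp only [G, hbn b, hpb, pb_blk_blk, false_and, if_false, zero_add, hdis, ← mem_inter]
      rw [filter_univ_mem, disjoint_iff_inter_eq_empty.1 hd, card_empty, zero_add,
        card_sub (fun d => (d ∩ b.1).card = 0 ∧ (d ∩ b'.1).card = 0)]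
      have := union_meets hB hα b.2 b'.2 (fun e => hne (Subtype.ext e))
      rw [if_pos (by rw [disjoint_iff_inter_eq_empty.1 hd, card_empty]), meet] at this
      simp only [inter_union_distrib_left, card_eq_zero, union_eq_empty] at this ⊢
      exact this
  · rcases v with _ | a | b <;> rcases w with _ | a' | b'
    · exact absurd rfl hne
    · exact absurd (pb_none_pt a') h
    · simp only [G, pb_none_pt, pb_none_blk, hbn b', hpb, true_and, false_and, G.irrefl, if_false,
        filter_false, card_empty, zero_add, add_zero]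
      rw [filter_univ_mem, hB.1 _ b'.2]
    · exact absurd (hpn a) h
    · have hne' : a ≠ a' := fun e => hne (by rw [e])
      simp only [G, hpn, pb_pt_pt, pb_pt_blk, and_self, if_true, filter_false, card_empty, add_zero]
      rw [card_sub (fun d => a ∈ d ∧ a' ∈ d), (through hB hα a).2.1 a' hne']
    · have ha : a ∉ b'.1 := fun g => h ((pb_pt_blk a b').2 g)
      simp only [G, hbn b', pb_pt_pt, pb_pt_blk, pb_blk_blk, and_false, false_and, if_false, filter_false,
        card_empty, zero_add, hdis]
      rw [card_sub (fun d => a ∈ d ∧ (d ∩ b'.1).card = 0)]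
      simp only [card_eq_zero, ← disjoint_iff_inter_eq_empty]
      exact (through hB hα a).2.2 _ b'.2 ha
    · simp only [G, pb_none_pt, pb_none_blk, hbn b, hpb, and_true, and_false, G.irrefl, if_false,
        filter_false, card_empty, zero_add, add_zero]
      rw [filter_univ_mem, hB.1 _ b.2]
    · have ha : a' ∉ b.1 := fun g => h ((hpb a' b).2 g)
      simp only [G, hbn b, pb_pt_pt, pb_pt_blk, pb_blk_blk, and_false, false_and, if_false, filter_false,
        card_empty, zero_add, hdis]
      rw [card_sub (fun d => (d ∩ b.1).card = 0 ∧ a' ∈ d)]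
      simp only [card_eq_zero, ← disjoint_iff_inter_eq_empty, and_comm (b := a' ∈ _)]
      exact (through hB hα a').2.2 _ b.2 ha
    · have hne' : b ≠ b' := fun e => hne (by rw [e])
      have hd : ¬(b.1 ∩ b'.1).card = 0 := fun g =>
        h ((pb_blk_blk b b').2 ⟨hne', disjoint_iff_inter_eq_empty.2 (card_eq_zero.1 g)⟩)
      simp only [G, hbn b, hpb, pb_blk_blk, false_and, if_false, zero_add, hdis, ← mem_inter]
      rw [filter_univ_mem, card_sub (fun d => (d ∩ b.1).card = 0 ∧ (d ∩ b'.1).card = 0)]
      have := union_meets hB hα b.2 b'.2 (fun e => hne' (Subtype.ext e))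
      rw [if_neg hd, meet] at this
      have h2 := small hB hα b.2 b'.2 fun e => hne' (Subtype.ext e)
      simp only [inter_union_distrib_left, card_eq_zero, union_eq_empty] at this
      simp only [card_eq_zero]
      rw [this]
      omega

end CfsgLib.Spor.SRG22
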