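import Cfsg.Agent.Spor.LeechStab
import Cfsg.Agent.Spor.SteinerDerived22
import Cfsg.Agent.Spor.SRG22

/-!
The graph on 100 vertices of a system S(3,6,22) inside the lattice, its automorphisms, and a fixed
point free involution.
-/

set_option autoImplicit false

namespace CfsgLib.Spor.LeechHS

open Cfsg MulAction CfsgLib.Spor CfsgLib.Spor.LeechFacts CfsgLib.Spor.LeechCount CfsgLib.Spor.LeechModTwo
  CfsgLib.Spor.LeechCross CfsgLib.Spor.LeechOrbits CfsgLib.Spor.LeechPairs CfsgLib.Spor.LeechCensus
  CfsgLib.Spor.LeechIso CfsgLib.Spor.LeechCo3 CfsgLib.Spor.LeechCo3Count CfsgLib.Spor.LeechStab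
  CfsgLib.Spor.SteinerDerived22
open scoped Pointwise

/-! ### the hundred vectors -/

/-- the group of the standard configuration -/
noncomputable abbrev hsG : Subgroup Co0 := stabilizer Co0 fiveL ⊓ stabilizer Co0 Spor.leechU'

/-- the hundred vectors -/
def hundred : Set leechLattice := {x | x.1 ∈ two 32 Spor.vecU' five 0 24}

theorem ncard_hundred : hundred.ncard = 100 :=
  (sub_count hundred _ (fun _ => Iff.rfl) fun _ hy => (mem_two.1 hy).1.1).trans hs_std

theorem mem_hundred {x : leechLattice} :
    x ∈ hundred ↔ sqNorm x.1 = 32 ∧ dotInt Spor.leechU'.1 x.1 = 0 ∧ dotInt fiveL.1 x.1 = 24 := by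
  show x.1 ∈ two 32 Spor.vecU' five 0 24 ↔ _
  rw [mem_two, fiveL_val]
  exact ⟨fun h => ⟨h.1.2, h.2.1, h.2.2⟩, fun h => ⟨⟨x.2, h.1⟩, h.2.1, h.2.2⟩⟩

theorem hundred_smul {g : Co0} (hg : g ∈ hsG) {x : leechLattice} (hx : x ∈ hundred) : g • x ∈ hundred := by
  obtain ⟨g1, g2⟩ := hg
  rw [mem_hundred] at hx ⊢
  refine ⟨(smul_norm g x).trans hx.1, ?_, ?_⟩
  · have h := smul_dot g Spor.leechU' x
    rw [mem_stabilizer_iff.1 g2] at h
    exact h.trans hx.2.1
  · have h := smul_dot g fiveL x
    rw [mem_stabilizer_iff.1 g1] at h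
    exact h.trans hx.2.2

theorem norm_base : sqNorm Spor.leechU.1 = 32 := by
  show sqNorm Spor.vecU = 32
  decide +kernel

theorem U_mem : Spor.leechU ∈ hundred := by
  rw [mem_hundred, fiveL_val]
  refine ⟨norm_base, ?_, ?_⟩
  · show dotInt Spor.vecU' Spor.vecU = 0; decide +kernel
  · show dotInt five Spor.vecU = 24; decide +kernel

theorem U_add : Spor.leechU + Spor.leechU' = eightL none := by
  refine Subtype.ext ?_
  show Spor.vecU + Spor.vecU' = _
  rw [eightL_val]
  decide +kernel

theorem hsG_card : Nat.card hsG = 44352000 := by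
  refine card_hs norm_fiveL ?_ ?_
  · show sqNorm Spor.vecU' = 32; decide +kernel
  · rw [fiveL_val]; show dotInt five Spor.vecU' = 16; decide +kernel

theorem hsG_inf : hsG ⊓ stabilizer Co0 Spor.leechU = LeechStab.twoStab.map permHom := by
  apply le_antisymm
  · intro g hg
    obtain ⟨⟨g1, g2⟩, g3⟩ := hg
    have h8 : g • eightL none = eightL none := by
      rw [← U_add, smul_add', mem_stabilizer_iff.1 g2, mem_stabilizer_iff.1 g3]
    obtain ⟨σ, hσ, rfl⟩ := perm_of_fix h8 fiveL
      (Or.inl fun l => by rw [fiveL_val]; unfold five; split <;> norm_num) (mem_stabilizer_iff.1 g1)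
    refine ⟨σ, ⟨hσ, ?_⟩, rfl⟩
    have h := permHom_fix.1 (mem_stabilizer_iff.1 g2) (some 0)
    have h' : Spor.vecU' ((σ : Equiv.Perm GolayPt) (some 0)) = Spor.vecU' (some 0) := h
    rw [show Spor.vecU' (some 0) = -4 from rfl] at h'
    show (σ : Equiv.Perm GolayPt) (some 0) = some 0
    generalize (σ : Equiv.Perm GolayPt) (some 0) = y at h'
    simp only [Spor.vecU'] at h'
    split at h'
    · omega
    · split at h'
      · assumption
      · omega
  · rintro _ ⟨σ, hσ, rfl⟩
    obtain ⟨h1, h2⟩ := two_fix (v := Spor.leechU')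
      (fun l a b => by show Spor.vecU' l = 0; simp [Spor.vecU', a, b]) σ hσ
    obtain ⟨-, h3⟩ := two_fix (v := Spor.leechU)
      (fun l a b => by show Spor.vecU l = 0; simp [Spor.vecU, a, b]) σ hσ
    exact ⟨⟨h1, h2⟩, h3⟩

theorem hsG_transitive {x : leechLattice} (hx : x ∈ hundred) : ∃ g ∈ hsG, g • Spor.leechU = x := by
  haveI := finite_co0
  have hfin : hundred.Finite := Set.finite_of_ncard_pos (by rw [ncard_hundred]; norm_num)
  have hsub : orbit hsG Spor.leechU ⊆ hundred := by
    rintro _ ⟨g, rfl⟩; exact hundred_smul g.2 U_mem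
  have h := Nat.card_congr (orbitProdStabilizerEquivGroup hsG Spor.leechU)
  have e : Nat.card ↥(stabilizer hsG Spor.leechU) = Nat.card ↥(hsG ⊓ stabilizer Co0 Spor.leechU) :=
    Nat.card_congr
      { toFun := fun g => ⟨g.1.1, g.1.2, g.2⟩
        invFun := fun g => ⟨⟨g.1, g.2.1⟩, g.2.2⟩
        left_inv := fun g => rfl
        right_inv := fun g => rfl }
  rw [Nat.card_prod, e, hsG_inf, Subgroup.card_map_of_injective permHom_injective, card_m22, hsG_card,
    Nat.card_coe_set_eq] at h
  have h100 : (orbit hsG Spor.leechU).ncard = 100 :=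
    Nat.eq_of_mul_eq_mul_right (by norm_num : 0 < 443520) (h.trans (by norm_num))
  have heq : orbit hsG Spor.leechU = hundred :=
    Set.eq_of_subset_of_ncard_le hsub (by rw [h100, ncard_hundred]) hfin
  rw [← heq] at hx
  obtain ⟨g, hg⟩ := hx
  exact ⟨g.1, g.2, hg⟩

/-! ### the vertices -/

theorem vecU_eq : Spor.vecU = pairVec none (some 0) := by decide +kernel

/-- `(1, ..., 1, -3)` with `-3` at the point -/
noncomputable def oddAt (p : GolayPt) : leechLattice :=
  fiveL - eightL none + lpair none p - eightL p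

theorem oddAt_val (p : GolayPt) : (oddAt p).1 = oddOne p := by
  funext l
  show (fiveL.1 - (eightL none).1 + pairVec none p - (eightL p).1) l = oddOne p l
  rw [fiveL_val, eightL_val, eightL_val]
  simp only [Pi.add_apply, Pi.sub_apply, pairVec, oddOne, five, Pi.single_apply]
  split_ifs <;> simp_all <;> omega

theorem octTwo_mem {o : Finset GolayPt} (ho : o ∈ octads) : octTwo o ∈ leechLattice := by
  obtain ⟨hc, h8⟩ := mem_octads.1 ho
  have e : octTwo o = fun l => 2 * (if l ∈ o then 1 else 0) := funext fun l => by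
    simp only [octTwo]; split <;> norm_num
  rw [e]
  refine two_mul_mem ?_ ?_
  · rw [show oddSupp (fun l => if l ∈ o then (1 : ℤ) else 0) = o from by
      ext l; rw [mem_oddSupp]; split <;> simp_all]
    exact hc
  · simp [h8]

theorem dot_U (y : GolayPt → ℤ) : dotInt Spor.vecU y = 4 * y none + 4 * y (some 0) :=
  dot_two (i := none) (j := some 0) y (by simp) (fun l h1 h2 => by simp [Spor.vecU, h1, h2]) |>.trans (by
    rw [show Spor.vecU none = 4 from rfl, show Spor.vecU (some 0) = 4 from rfl])

theorem sum_octTwo {o : Finset GolayPt} (h8 : o.card = 8) : ∑ l, octTwo o l = 16 := by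
  simp [octTwo, h8]

theorem sum_oddOne (p : GolayPt) : ∑ l, oddOne p l = 20 := by
  rw [Finset.sum_congr rfl fun l _ => show oddOne p l = 1 - (if l = p then 4 else 0) by
    unfold oddOne; split <;> norm_num, Finset.sum_sub_distrib, Finset.sum_ite_eq', if_pos (Finset.mem_univ _)]
  simp

theorem dot_oddOne (p : GolayPt) (y : GolayPt → ℤ) : dotInt (oddOne p) y = (∑ l, y l) - 4 * y p := by
  rw [dotInt, Finset.sum_congr rfl fun l _ => show oddOne p l * y l = y l - (if l = p then 4 * y l else 0) by
    unfold oddOne; split <;> ring, Finset.sum_sub_distrib, Finset.sum_ite_eq', if_pos (Finset.mem_univ _)]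

theorem dot_octTwo (o o' : Finset GolayPt) : dotInt (octTwo o) (octTwo o') = 4 * ((o ∩ o').card : ℤ) := by
  rw [dotInt, Finset.sum_congr rfl fun l _ => show octTwo o l * octTwo o' l = if l ∈ o ∩ o' then 4 else 0 by
    simp only [octTwo, Finset.mem_inter]; split_ifs <;> simp_all, Finset.sum_ite_mem, Finset.univ_inter,
    Finset.sum_const, nsmul_eq_mul, mul_comm]

/-! ### the graph in the lattice -/

section Model

variable {α : Type*} [Fintype α] [DecidableEq α] {B : Set (Finset α)}

theorem ext2_inter (ι : α ↪ GolayPt) (h2 : ∀ a, ι a ≠ none ∧ ι a ≠ q0) (b c : Finset α) :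
    ((insert none (insert q0 (b.map ι))) ∩ (insert none (insert q0 (c.map ι)))).card = (b ∩ c).card + 2 := by
  have e : (insert none (insert q0 (b.map ι))) ∩ (insert none (insert q0 (c.map ι))) =
      insert none (insert q0 ((b ∩ c).map ι)) := by
    rw [Finset.map_inter]
    ext x
    simp only [Finset.mem_inter, Finset.mem_insert]
    tauto
  rw [e, Finset.card_insert_of_notMem, Finset.card_insert_of_notMem, Finset.card_map]
  · simp only [Finset.mem_map, not_exists, not_and]
    exact fun a _ => (h2 a).2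
  · simp only [Finset.mem_insert, Finset.mem_map, not_or, not_exists, not_and]
    exact ⟨by simp [q0], fun a _ => (h2 a).1⟩

variable (ι : α ↪ GolayPt) (h3 : ∀ b, b ∈ B → insert none (insert q0 (b.map ι)) ∈ octads)

/-- the vector of a vertex -/
noncomputable def phi : Option (α ⊕ B) → leechLattice
  | none => Spor.leechU
  | some (Sum.inl a) => oddAt (ι a)
  | some (Sum.inr b) => ⟨octTwo (insert none (insert q0 (b.1.map ι))), octTwo_mem (h3 b.1 b.2)⟩

theorem phi_dots (hα : Fintype.card α = 22) (hB : IsSteinerSystem 3 6 B)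
    (h2 : ∀ a, ι a ≠ none ∧ ι a ≠ q0) (x y : Option (α ⊕ B)) :
    ((pointBlockGraph B).Adj x y → dotInt (phi ι h3 x).1 (phi ι h3 y).1 = 8) ∧
    (x ≠ y → ¬(pointBlockGraph B).Adj x y → dotInt (phi ι h3 x).1 (phi ι h3 y).1 = 16) := by
  classical
  have hq : q0 = (some 0 : GolayPt) := rfl
  have hUo : ∀ a, dotInt Spor.vecU (oddOne (ι a)) = 8 := fun a => by
    rw [dot_U]
    simp only [oddOne, if_neg (Ne.symm (h2 a).1), if_neg (Ne.symm (hq ▸ (h2 a).2))]
    norm_num
  have hUb : ∀ b : B, dotInt Spor.vecU (octTwo (insert none (insert q0 (b.1.map ι)))) = 16 := fun b => by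
    rw [dot_U]
    simp [octTwo, hq]
  have hab : ∀ (a : α) (b : B), dotInt (oddOne (ι a)) (octTwo (insert none (insert q0 (b.1.map ι)))) =
      if a ∈ b.1 then 8 else 16 := fun a b => by
    rw [dot_oddOne, sum_octTwo (mem_octads.1 (h3 b.1 b.2)).2]
    simp only [octTwo, Finset.mem_insert, (h2 a).1, (h2 a).2, false_or, Finset.mem_map']
    split <;> norm_num
  match x, y with
  | none, none => exact ⟨fun h => absurd h (SimpleGraph.irrefl _), fun h => absurd rfl h⟩
  | none, some (Sum.inl a) =>
    refine ⟨fun _ => ?_, fun _ h => absurd (SRG22.pb_none_pt a) h⟩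
    show dotInt Spor.vecU (oddAt (ι a)).1 = 8
    rw [oddAt_val, hUo]
  | none, some (Sum.inr b) => exact ⟨fun h => absurd h (SRG22.pb_none_blk b), fun _ _ => hUb b⟩
  | some (Sum.inl a), none =>
    refine ⟨fun _ => ?_, fun _ h => absurd (SRG22.pb_none_pt a).symm h⟩
    show dotInt (oddAt (ι a)).1 Spor.vecU = 8
    rw [dot_comm', oddAt_val, hUo]
  | some (Sum.inr b), none =>
    exact ⟨fun h => absurd h.symm (SRG22.pb_none_blk b), fun _ _ => (dot_comm' _ _).trans (hUb b)⟩
  | some (Sum.inl a), some (Sum.inl a') =>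
    refine ⟨fun h => absurd h (SRG22.pb_pt_pt a a'), fun h _ => ?_⟩
    show dotInt (oddAt (ι a)).1 (oddAt (ι a')).1 = 16
    have hne : ι a ≠ ι a' := fun e => h (by rw [ι.injective e])
    rw [oddAt_val, oddAt_val, dot_oddOne, sum_oddOne, oddOne, if_neg hne]
    norm_num
  | some (Sum.inl a), some (Sum.inr b) =>
    show ((pointBlockGraph B).Adj _ _ → dotInt (oddAt (ι a)).1 _ = 8) ∧
      (_ → ¬(pointBlockGraph B).Adj _ _ → dotInt (oddAt (ι a)).1 _ = 16)
    rw [SRG22.pb_pt_blk, oddAt_val]
    exact ⟨fun h => (hab a b).trans (if_pos h), fun _ h => (hab a b).trans (if_neg h)⟩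
  | some (Sum.inr b), some (Sum.inl a) =>
    show ((pointBlockGraph B).Adj _ _ → dotInt _ (oddAt (ι a)).1 = 8) ∧
      (_ → ¬(pointBlockGraph B).Adj _ _ → dotInt _ (oddAt (ι a)).1 = 16)
    rw [SimpleGraph.adj_comm, SRG22.pb_pt_blk, oddAt_val, dot_comm']
    exact ⟨fun h => (hab a b).trans (if_pos h), fun _ h => (hab a b).trans (if_neg h)⟩
  | some (Sum.inr b), some (Sum.inr c) =>
    show (_ → dotInt (octTwo _) (octTwo _) = 8) ∧ (_ → _ → dotInt (octTwo _) (octTwo _) = 16)
    rw [SRG22.pb_blk_blk, dot_octTwo, ext2_inter ι h2]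
    refine ⟨fun h => ?_, fun h h' => ?_⟩
    · rw [Finset.disjoint_iff_inter_eq_empty.1 h.2]
      simp
    · have hne : b ≠ c := fun e => h (by rw [e])
      rcases SRG22.small hB hα b.2 c.2 (fun e => hne (Subtype.ext e)) with e | e
      · exact absurd ⟨hne, Finset.disjoint_iff_inter_eq_empty.2 (Finset.card_eq_zero.1 e)⟩ h'
      · rw [e]; norm_num

theorem phi_mem (h2 : ∀ a, ι a ≠ none ∧ ι a ≠ q0) (x : Option (α ⊕ B)) : phi ι h3 x ∈ hundred := by
  classical
  have hq : q0 = (some 0 : GolayPt) := rfl
  rw [mem_hundred, fiveL_val, show (Spor.leechU' : leechLattice).1 = minusU from rfl, dot_minusU, dot_five]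
  match x with
  | none =>
    show sqNorm Spor.vecU = 32 ∧ 4 * (Spor.vecU none - Spor.vecU (some 0)) = 0 ∧
      4 * Spor.vecU none + ∑ i, Spor.vecU i = 24
    decide +kernel
  | some (Sum.inl a) =>
    show sqNorm (oddAt (ι a)).1 = 32 ∧ 4 * ((oddAt (ι a)).1 none - (oddAt (ι a)).1 (some 0)) = 0 ∧
      4 * (oddAt (ι a)).1 none + ∑ i, (oddAt (ι a)).1 i = 24
    rw [oddAt_val, sum_oddOne, ← dot_self, dot_oddOne, sum_oddOne]
    simp only [oddOne, if_neg (Ne.symm (h2 a).1), if_neg (Ne.symm (hq ▸ (h2 a).2))]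
    norm_num
  | some (Sum.inr b) =>
    show sqNorm (octTwo _) = 32 ∧ 4 * (octTwo _ none - octTwo _ (some 0)) = 0 ∧
      4 * octTwo _ none + ∑ i, octTwo _ i = 24
    have h8 := (mem_octads.1 (h3 b.1 b.2)).2
    rw [sum_octTwo h8, ← dot_self, dot_octTwo, Finset.inter_self, h8]
    simp [octTwo, hq]

theorem phi_injective (hα : Fintype.card α = 22) (hB : IsSteinerSystem 3 6 B)
    (h2 : ∀ a, ι a ≠ none ∧ ι a ≠ q0) : Function.Injective (phi ι h3) := by
  intro x y h
  by_contra hne
  obtain ⟨h8, h16⟩ := phi_dots ι h3 hα hB h2 x y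
  rw [h, dot_self, (mem_hundred.1 (phi_mem ι h3 h2 y)).1] at h8 h16
  by_cases hA : (pointBlockGraph B).Adj x y
  · exact absurd (h8 hA) (by norm_num)
  · exact absurd (h16 hne hA) (by norm_num)

theorem phi_adj (hα : Fintype.card α = 22) (hB : IsSteinerSystem 3 6 B)
    (h2 : ∀ a, ι a ≠ none ∧ ι a ≠ q0) (x y : Option (α ⊕ B)) :
    (pointBlockGraph B).Adj x y ↔ dotInt (phi ι h3 x).1 (phi ι h3 y).1 = 8 := by
  obtain ⟨h8, h16⟩ := phi_dots ι h3 hα hB h2 x y
  refine ⟨h8, fun h => ?_⟩
  by_contra hA
  by_cases hne : x = y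
  · subst hne
    rw [dot_self, (mem_hundred.1 (phi_mem ι h3 h2 x)).1] at h
    norm_num at h
  · rw [h16 hne hA] at h
    norm_num at h

end Model

/-! ### automorphisms -/

theorem card_vertices {α : Type*} [Fintype α] [DecidableEq α] {B : Set (Finset α)}
    (hα : Fintype.card α = 22) (hB : IsSteinerSystem 3 6 B) : Nat.card (Option (α ⊕ B)) = 100 := by
  classical
  haveI : Finite B := Set.toFinite B |>.to_subtype
  have hn : Nat.card B = 77 := by
    rw [Nat.card_coe_set_eq, ← SRG22.count_blocks hB hα, SteinerCount.blocks, Set.ncard_eq_toFinset_card _ (Set.toFinite B)]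
  rw [Finite.card_option, Nat.card_sum, Nat.card_eq_fintype_card, hα, hn]

theorem exists_action {α : Type*} [Fintype α] [DecidableEq α] {B : Set (Finset α)}
    (hα : Fintype.card α = 22) (hB : IsSteinerSystem 3 6 B) :
    ∃ ψ : hsG →* (pointBlockGraph B ≃g pointBlockGraph B), Function.Injective ψ ∧
      ∀ x, ∃ g, ψ g none = x := by
  classical
  haveI : Finite B := Set.toFinite B |>.to_subtype
  obtain ⟨ι, h1, h2, h3, -⟩ := exists_embed22 hB hα
  have h3' : ∀ b, b ∈ B → insert none (insert q0 (b.map ι)) ∈ octads := fun b hb => (h3 b).1 hb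
  let f : Option (α ⊕ B) → hundred := fun x => ⟨phi ι h3' x, phi_mem ι h3' h2 x⟩
  haveI : Finite hundred := (Set.finite_of_ncard_pos (by rw [ncard_hundred]; norm_num)).to_subtype
  have hbij : Function.Bijective f := by
    rw [Nat.bijective_iff_injective_and_card]
    refine ⟨fun x y h => phi_injective ι h3' hα hB h2 (congrArg Subtype.val h), ?_⟩
    rw [card_vertices hα hB, Nat.card_coe_set_eq, ncard_hundred]
  let e := Equiv.ofBijective f hbij
  let act : hsG → Equiv.Perm (Option (α ⊕ B)) := fun g => e.trans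
    ({ toFun := fun v => ⟨g.1 • v.1, hundred_smul g.2 v.2⟩
       invFun := fun v => ⟨g.1⁻¹ • v.1, hundred_smul (inv_mem g.2) v.2⟩
       left_inv := fun v => Subtype.ext (inv_smul_smul _ _)
       right_inv := fun v => Subtype.ext (smul_inv_smul _ _) } : hundred ≃ hundred) |>.trans e.symm
  have hact : ∀ g x, phi ι h3' (act g x) = g.1 • phi ι h3' x := fun g x => by
    have := congrArg Subtype.val (e.apply_symm_apply ⟨g.1 • (e x).1, hundred_smul g.2 (e x).2⟩)
    exact this
  have hinjφ := phi_injective ι h3' hα hB h2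
  have hrel : ∀ g x y, (pointBlockGraph B).Adj (act g x) (act g y) ↔ (pointBlockGraph B).Adj x y := fun g x y => by
    rw [phi_adj ι h3' hα hB h2, phi_adj ι h3' hα hB h2, hact, hact, smul_dot]
  let ψ : hsG →* (pointBlockGraph B ≃g pointBlockGraph B) :=
    MonoidHom.mk' (fun g => { toEquiv := act g, map_rel_iff' := fun {x y} => hrel g x y })
      fun g h => RelIso.ext fun x => hinjφ (by
        show phi ι h3' (act (g * h) x) = phi ι h3' (act g (act h x))
        rw [hact, hact, hact, ← mul_smul]
        rfl)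
  have hψ : ∀ g x, phi ι h3' (ψ g x) = g.1 • phi ι h3' x := hact
  have htr : ∀ x, ∃ g, ψ g none = x := by
    intro x
    obtain ⟨g, hg, e'⟩ := hsG_transitive (phi_mem ι h3' h2 x)
    exact ⟨⟨g, hg⟩, hinjφ (by rw [hψ]; exact e')⟩
  refine ⟨ψ, ?_, htr⟩
  haveI : IsSimpleGroup hsG := hs_simple
  rw [← MonoidHom.ker_eq_bot_iff]
  rcases IsSimpleGroup.eq_bot_or_eq_top_of_normal ψ.ker inferInstance with h | h
  · exact h
  · exfalso
    haveI : Nonempty α := Fintype.card_pos_iff.1 (by omega)
    obtain ⟨g, hg⟩ := htr (some (Sum.inl (Classical.arbitrary α)))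
    have : ψ g = 1 := MonoidHom.mem_ker.1 (h ▸ Subgroup.mem_top g)
    rw [this] at hg
    exact Option.some_ne_none _ (hg.symm.trans rfl)

theorem exists_hs {α : Type*} [Fintype α] (hα : Fintype.card α = 22) {B : Set (Finset α)}
    (hB : IsSteinerSystem 3 6 B) :
    ∃ H : Subgroup (pointBlockGraph B ≃g pointBlockGraph B), IsHS H := by
  classical
  obtain ⟨ψ, hψ, -⟩ := exists_action hα hB
  haveI : IsSimpleGroup hsG := hs_simple
  refine ⟨ψ.range, (MonoidHom.ofInjective hψ).symm.isSimpleGroup, ?_⟩
  rw [Nat.card_congr (MonoidHom.ofInjective hψ).symm.toEquiv, hsG_card]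

theorem card_aut {α : Type*} [Fintype α] [DecidableEq α] (hα : Fintype.card α = 22) {B : Set (Finset α)}
    (hB : IsSteinerSystem 3 6 B) :
    Nat.card (pointBlockGraph B ≃g pointBlockGraph B) = 88704000 := by
  classical
  haveI : Finite B := Set.toFinite B |>.to_subtype
  haveI : Finite (pointBlockGraph B ≃g pointBlockGraph B) :=
    Finite.of_injective (fun g => (g.toEquiv : Equiv.Perm (Option (α ⊕ B))))
      fun g h e => RelIso.ext fun x => Equiv.congr_fun e x
  obtain ⟨ψ, -, htr⟩ := exists_action hα hB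
  letI : MulAction (pointBlockGraph B ≃g pointBlockGraph B) (Option (α ⊕ B)) :=
    { smul := fun g x => g x
      one_smul := fun _ => rfl
      mul_smul := fun _ _ _ => rfl }
  have hsm : ∀ (g : pointBlockGraph B ≃g pointBlockGraph B) x, g • x = g x := fun _ _ => rfl
  have horb : orbit (pointBlockGraph B ≃g pointBlockGraph B) (none : Option (α ⊕ B)) = Set.univ :=
    Set.eq_univ_of_forall fun x => by obtain ⟨g, hg⟩ := htr x; exact ⟨ψ g, hg⟩
  have hmem : ∀ (σ : setSystemAut B) (b : Finset α), (σ : Equiv.Perm α) • b ∈ B ↔ b ∈ B := fun σ b => by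
    have h := Set.smul_mem_smul_set_iff (a := (σ : Equiv.Perm α)) (x := b) (s := B)
    rwa [mem_stabilizer_iff.1 σ.2] at h
  let blk : setSystemAut B → Equiv.Perm B := fun σ =>
    (MulAction.toPerm (σ : Equiv.Perm α)).subtypeEquiv fun b => (hmem σ b).symm
  have hblk : ∀ σ b, (blk σ b).1 = (σ : Equiv.Perm α) • b.1 := fun σ b => rfl
  let lift : setSystemAut B → (pointBlockGraph B ≃g pointBlockGraph B) := fun σ =>
    { toEquiv := Equiv.optionCongr (Equiv.sumCongr (σ : Equiv.Perm α) (blk σ))
      map_rel_iff' := fun {x y} => by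
        match x, y with
        | none, none => simp
        | none, some (Sum.inl a) => simp [SRG22.pb_none_pt]
        | none, some (Sum.inr b) => simp [SRG22.pb_none_blk]
        | some (Sum.inl a), none => simp [SimpleGraph.adj_comm _ (some _) none, SRG22.pb_none_pt]
        | some (Sum.inr b), none => simp [SimpleGraph.adj_comm _ (some _) none, SRG22.pb_none_blk]
        | some (Sum.inl a), some (Sum.inl a') => simp [SRG22.pb_pt_pt]
        | some (Sum.inl a), some (Sum.inr b) =>
          simp only [Equiv.optionCongr_apply, Option.map_some, Equiv.sumCongr_apply, Sum.map_inl, Sum.map_inr,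
            SRG22.pb_pt_blk, hblk]
          exact Finset.smul_mem_smul_finset_iff _
        | some (Sum.inr b), some (Sum.inl a) =>
          rw [SimpleGraph.adj_comm, SimpleGraph.adj_comm _ (some (Sum.inr b))]
          simp only [Equiv.optionCongr_apply, Option.map_some, Equiv.sumCongr_apply, Sum.map_inl, Sum.map_inr,
            SRG22.pb_pt_blk, hblk]
          exact Finset.smul_mem_smul_finset_iff _
        | some (Sum.inr b), some (Sum.inr c) =>
          simp only [Equiv.optionCongr_apply, Option.map_some, Equiv.sumCongr_apply, Sum.map_inr,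
            SRG22.pb_blk_blk, hblk, ne_eq, EmbeddingLike.apply_eq_iff_eq]
          rw [Finset.disjoint_iff_inter_eq_empty, Finset.disjoint_iff_inter_eq_empty, ← Finset.smul_finset_inter,
            Finset.smul_finset_eq_empty] }
  have hfix : ∀ σ, lift σ none = none := fun σ => rfl
  have hlinj : Function.Injective lift := fun σ τ h => Subtype.ext (Equiv.ext fun a => by
    have := congrArg (fun g : pointBlockGraph B ≃g pointBlockGraph B => g (some (Sum.inl a))) h
    exact Sum.inl_injective (Option.some_injective _ this))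
  have hlsur : ∀ g : pointBlockGraph B ≃g pointBlockGraph B, g none = none → ∃ σ, lift σ = g := by
    intro g hg
    have hp : ∀ a, ∃ a', g (some (Sum.inl a)) = some (Sum.inl a') := by
      intro a
      have h := g.map_rel_iff.2 (SRG22.pb_none_pt (B := B) a)
      rw [hg] at h
      match hga : g (some (Sum.inl a)) with
      | none => rw [hga] at h; exact absurd h (SimpleGraph.irrefl _)
      | some (Sum.inl a') => exact ⟨a', rfl⟩
      | some (Sum.inr b) => rw [hga] at h; exact absurd h (SRG22.pb_none_blk b)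
    have hb : ∀ b : B, ∃ b', g (some (Sum.inr b)) = some (Sum.inr b') := by
      intro b
      match hgb : g (some (Sum.inr b)) with
      | none => exact absurd (g.injective (hgb.trans hg.symm)) (Option.some_ne_none _)
      | some (Sum.inl a') =>
        exfalso
        have h : ¬(pointBlockGraph B).Adj (g none) (g (some (Sum.inr b))) :=
          fun hA => SRG22.pb_none_blk b (g.map_rel_iff.1 hA)
        rw [hg, hgb] at h
        exact h (SRG22.pb_none_pt a')
      | some (Sum.inr b') => exact ⟨b', rfl⟩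
    choose s hs using hp
    choose t ht using hb
    have hsinj : Function.Injective s := fun a a' h =>
      Sum.inl_injective (Option.some_injective _ (g.injective (by rw [hs, hs, h])))
    let π : Equiv.Perm α := Equiv.ofBijective s (Finite.injective_iff_bijective.1 hsinj)
    have hπ : ∀ b : B, π • b.1 = (t b).1 := fun b => by
      ext a'
      obtain ⟨a, rfl⟩ := π.surjective a'
      rw [show π a ∈ π • b.1 ↔ a ∈ b.1 from Finset.smul_mem_smul_finset_iff (b := a) π, ← SRG22.pb_pt_blk,
        ← g.map_rel_iff, hs, ht, SRG22.pb_pt_blk]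
      rfl
    refine ⟨⟨π, SteinerDerived.mem_aut_of_maps fun b hb => by rw [hπ ⟨b, hb⟩]; exact (t ⟨b, hb⟩).2⟩, ?_⟩
    refine RelIso.ext fun x => ?_
    match x with
    | none => exact hg.symm
    | some (Sum.inl a) => exact (hs a).symm
    | some (Sum.inr b) =>
      rw [ht b]
      show some (Sum.inr _) = _
      exact congrArg (fun z => some (Sum.inr z)) (Subtype.ext (hπ b))
  let F : setSystemAut B → stabilizer (pointBlockGraph B ≃g pointBlockGraph B) (none : Option (α ⊕ B)) :=
    fun σ => ⟨lift σ, hfix σ⟩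
  have hF : Function.Bijective F := ⟨fun σ τ h => hlinj (congrArg Subtype.val h), fun g => by
    obtain ⟨σ, hσ⟩ := hlsur g.1 g.2
    exact ⟨σ, Subtype.ext hσ⟩⟩
  have h := Nat.card_congr (orbitProdStabilizerEquivGroup (pointBlockGraph B ≃g pointBlockGraph B) (none : Option (α ⊕ B)))
  rw [Nat.card_prod, Nat.card_congr (Equiv.ofBijective F hF).symm, (aut22 hα hB).1, horb,
    Nat.card_coe_set_eq, Set.ncard_univ, card_vertices hα hB] at h
  rw [← h]

/-! ### the fixed point free involution -/

theorem exists_fpf (v w : leechLattice) (hv : sqNorm v.1 = 48) (hw : sqNorm w.1 = 48)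
    (hvw : dotInt v.1 w.1 = -32) :
    ∃ g : Co0, g • v = v ∧ g • w = w ∧ orderOf g = 2 ∧
      ∀ x : leechLattice, sqNorm x.1 = 32 → dotInt v.1 x.1 = 24 → dotInt w.1 x.1 = -24 → g • x ≠ x := by
  classical
  obtain ⟨m, hm, hmn, hm0, hm12⟩ : ∃ m ∈ wordList,
      (none : GolayPt) ∈ ofMask m ∧ (some 0 : GolayPt) ∈ ofMask m ∧ pop m = 12 := by decide +kernel
  have hin := List.all_eq_true.1 wordList_check m hm
  have hlt := inCode_lt hin
  obtain ⟨D, rfl⟩ : ∃ D, D = ofMask m := ⟨_, rfl⟩
  have hD : ofMask m ∈ Code := (ofMask_mem_Code hlt).2 hin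
  have hD12 : (ofMask m).card = 12 := by rw [card_ofMask]; exact hm12
  set D := ofMask m with hDdef
  have hC : symmDiff D Finset.univ ∈ Code := symmDiff_mem_code hD univ_mem_code
  set C := symmDiff D Finset.univ with hCdef
  have hCmem : ∀ l, l ∈ C ↔ l ∉ D := fun l => by simp [hCdef, Finset.mem_symmDiff]
  have e0 : octTwo D = fun l => 2 * (if l ∈ D then 1 else 0) := funext fun l => by
    simp only [octTwo]; split <;> norm_num
  have hu0 : octTwo D ∈ leechLattice := by
    rw [e0]
    refine two_mul_mem ?_ ?_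
    · rw [show oddSupp (fun l => if l ∈ D then (1 : ℤ) else 0) = D from by
        ext l; rw [mem_oddSupp]; split <;> simp_all]
      exact hD
    · simp [hD12]
  set u0 : leechLattice := ⟨octTwo D, hu0⟩ with hu0def
  have hnu : sqNorm u0.1 = 48 := by
    rw [← dot_self]
    show dotInt (octTwo D) (octTwo D) = 48
    rw [dot_octTwo, Finset.inter_self, hD12]
    norm_num
  have hnd : sqNorm Spor.leechU.1 = 32 := norm_base
  have hud : dotInt u0.1 Spor.leechU.1 = 16 := by
    rw [dot_comm']
    show dotInt Spor.vecU (octTwo D) = 16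
    rw [dot_U]
    simp [octTwo, hmn, hm0]
  set k0 := co0Sign C hC with hk0
  have hk : ∀ x : leechLattice, k0 • x = x ↔ ∀ l, l ∉ D → x.1 l = 0 := by
    intro x
    constructor
    · intro h l hl
      have h1 := congrArg (fun y : leechLattice => y.1 l) h
      simp only [hk0, co0Sign_apply, if_pos ((hCmem l).2 hl)] at h1
      omega
    · intro h
      refine Subtype.ext (funext fun l => ?_)
      rw [hk0, co0Sign_apply]
      by_cases hl : l ∈ D
      · rw [if_neg (fun e => (hCmem l).1 e hl)]
      · rw [h l hl]; simp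
  have hku : k0 • u0 = u0 := (hk _).2 fun l hl => by
    show octTwo D l = 0
    simp [octTwo, hl]
  have hkU : k0 • Spor.leechU = Spor.leechU := (hk _).2 fun l hl => by
    show Spor.vecU l = 0
    have h1 : l ≠ none := fun e => hl (e ▸ hmn)
    have h2 : l ≠ some 0 := fun e => hl (e ▸ hm0)
    simp [Spor.vecU, h1, h2]
  obtain ⟨hn, hd⟩ := plus_facts hv hw hvw
  obtain ⟨g, g1, g2⟩ := pairs_transitive v (v + w) u0 Spor.leechU hv hn hnu hnd hd hud
  obtain ⟨l0, hl0⟩ : ∃ l, l ∉ D := by
    by_contra hall
    push Not at hall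
    have : D = Finset.univ := Finset.eq_univ_of_forall hall
    rw [this] at hD12
    simp at hD12
  refine ⟨g⁻¹ * k0 * g, ?_, ?_, ?_, fun x hx h24 h24' hfx => ?_⟩
  · rw [mul_smul, mul_smul, g1, hku, ← g1, inv_smul_smul]
  · have e1 : (g⁻¹ * k0 * g) • (v + w) = v + w := by
      rw [mul_smul, mul_smul, g2, hkU, ← g2, inv_smul_smul]
    have e2 : (g⁻¹ * k0 * g) • v = v := by rw [mul_smul, mul_smul, g1, hku, ← g1, inv_smul_smul]
    rw [smul_add', e2] at e1
    exact add_left_cancel e1
  · refine orderOf_eq_prime ?_ fun h => ?_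
    · have hk2 : k0 * k0 = 1 := ext_eight fun i => Subtype.ext (funext fun l => by
        rw [mul_smul, hk0, co0Sign_apply, co0Sign_apply, one_smul]
        split <;> simp)
      rw [sq, show g⁻¹ * k0 * g * (g⁻¹ * k0 * g) = g⁻¹ * (k0 * k0) * g by group, hk2]
      group
    · have h1 : k0 = 1 := by
        calc k0 = g * (g⁻¹ * k0 * g) * g⁻¹ := by group
          _ = 1 := by rw [h]; group
      have h2 := (hk (eightL l0)).1 (by rw [h1, one_smul]) l0 hl0
      simp [eightL_val] at h2
  · have hy : k0 • (g • x) = g • x := by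
      have := congrArg (g • ·) hfx
      simp only [mul_smul, smul_inv_smul] at this
      exact this
    have hyn : sqNorm (g • x).1 = 32 := (smul_norm g x).trans hx
    have hyu : dotInt u0.1 (g • x).1 = 24 := by rw [← g1, smul_dot]; exact h24
    have hz := (hk _).1 hy
    have hsum : dotInt u0.1 (g • x).1 = 2 * ∑ l ∈ D, (g • x).1 l := by
      show dotInt (octTwo D) (g • x).1 = _
      rw [dotInt, Finset.sum_congr rfl fun l _ => show octTwo D l * (g • x).1 l =
        if l ∈ D then 2 * (g • x).1 l else 0 by simp only [octTwo]; split <;> ring,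
        Finset.sum_ite_mem, Finset.univ_inter, Finset.mul_sum]
    rcases shapes32 (g • x).2 hyn with ⟨i, j, hij, hi, hj, hz'⟩ | ⟨o, ho, h1, -⟩ | ⟨i, hi, h1⟩
    · have e : ∑ l ∈ D, (g • x).1 l ≤ 8 := by
        rw [← Finset.sum_filter_ne_zero]
        refine le_trans (Finset.sum_le_sum (g := fun _ => (4 : ℤ)) fun l hl => ?_) ?_
        · by_cases a : l = i
          · subst a; omega
          by_cases b : l = j
          · subst b; omega
          rw [hz' l a b]; norm_num
        · have hc : (D.filter fun l => (g • x).1 l ≠ 0).card ≤ 2 := by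
            refine (Finset.card_le_card (t := {i, j}) fun l hl => ?_).trans Finset.card_le_two
            simp only [Finset.mem_filter] at hl
            simp only [Finset.mem_insert, Finset.mem_singleton]
            by_contra hn'
            push Not at hn'
            exact hl.2 (hz' l hn'.1 hn'.2)
          simp only [Finset.sum_const, nsmul_eq_mul]
          push_cast
          omega
      omega
    · obtain ⟨hoc, ho8⟩ := mem_octads.1 ho
      have hsub : o ⊆ D := fun l hl => by
        by_contra hl'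
        have := hz l hl'
        rcases h1 l hl with e | e <;> omega
      have hc := card_cases (symmDiff_mem_code hoc hD)
      have hcard : (symmDiff o D).card = 4 := by
        rw [show symmDiff o D = D \ o from by
          ext l; simp only [Finset.mem_symmDiff, Finset.mem_sdiff]
          exact ⟨fun h => h.elim (fun a => absurd (hsub a.1) a.2) id, Or.inr⟩,
          Finset.card_sdiff_of_subset hsub]
        omega
      omega
    · have := hz l0 hl0
      by_cases a : l0 = i
      · subst a; omega
      · rcases h1 l0 a with e | e <;> omega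

end CfsgLib.Spor.LeechHS
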