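import Mathlib

/-!
Rank-one decomposition for transvection classes.
-/

set_option autoImplicit false

namespace CfsgLib.Spor.TransvectionClass

open Matrix

variable {ι F : Type*} [Fintype ι] [DecidableEq ι] [Field F]

/-- A rank-one matrix difference moves vectors along one line. -/
theorem exists_line {A : Matrix ι ι F} (h : (A - 1).rank = 1) :
    ∃ w : ι → F, w ≠ 0 ∧ ∀ x, ∃ c : F, A *ᵥ x = x + c • w := by
  rw [Matrix.rank, finrank_eq_one_iff'] at h
  obtain ⟨⟨w, hw⟩, hw0, hspan⟩ := h
  refine ⟨w, fun e => hw0 (Subtype.ext e), fun x => ?_⟩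
  obtain ⟨c, hc⟩ := hspan ⟨(A - 1) *ᵥ x, ⟨x, rfl⟩⟩
  refine ⟨c, ?_⟩
  have e : c • w = (A - 1) *ᵥ x := congrArg Subtype.val hc
  rw [e, Matrix.sub_mulVec, Matrix.one_mulVec, add_sub_cancel]

/-- A matrix moving vectors along one line, and some vector, has rank-one difference. -/
theorem rank_eq_one {A : Matrix ι ι F} {w : ι → F} (h : ∀ x, ∃ c : F, A *ᵥ x = x + c • w)
    (hne : ∃ x, A *ᵥ x ≠ x) : (A - 1).rank = 1 := by
  obtain ⟨x, hx⟩ := hne
  rw [Matrix.rank]
  refine le_antisymm ((Submodule.finrank_mono (t := F ∙ w) ?_).trans ?_) ?_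
  · rintro _ ⟨y, rfl⟩
    obtain ⟨c, hc⟩ := h y
    refine Submodule.mem_span_singleton.2 ⟨c, ?_⟩
    rw [Matrix.mulVecLin_apply, Matrix.sub_mulVec, Matrix.one_mulVec, hc, add_sub_cancel_left]
  · by_cases hw : w = 0
    · rw [hw, Submodule.span_zero_singleton, finrank_bot]; exact Nat.zero_le 1
    · rw [finrank_span_singleton hw]
  · rw [Nat.one_le_iff_ne_zero, Ne, Submodule.finrank_eq_zero]
    intro e
    have : (A - 1).mulVecLin x ∈ LinearMap.range (A - 1).mulVecLin := ⟨x, rfl⟩
    rw [e, Submodule.mem_bot, Matrix.mulVecLin_apply, Matrix.sub_mulVec, Matrix.one_mulVec, sub_eq_zero] at this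
    exact hx this

/-- two involutions either commuting or satisfying a braid relation -/
theorem braid {G : Type*} [Group G] {a b : G} (ha : a * a = 1) (hb : b * b = 1)
    (h : a * b = b * a ∨ a * b * a = b * a * b) : (a * b) ^ 2 = 1 ∨ (a * b) ^ 3 = 1 := by
  rcases h with h | h
  · left
    rw [pow_two]
    calc a * b * (a * b) = (a * a) * (b * b) := by rw [mul_assoc, ← mul_assoc b a b, ← h]; group
      _ = 1 := by rw [ha, hb, one_mul]
  · right
    rw [pow_succ, pow_two]
    calc a * b * (a * b) * (a * b) = (a * b * a) * (b * a * b) := by group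
      _ = (b * a * b) * (b * a * b) := by rw [h]
      _ = b * a * (b * b) * a * b := by group
      _ = b * (a * a) * b := by rw [hb]; group
      _ = 1 := by rw [ha, mul_one, hb]

end CfsgLib.Spor.TransvectionClass
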