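import Mathlib

/-!
The order of the centraliser of a transvection in SL(5, 2).
-/

set_option autoImplicit false

namespace CfsgLib.Spor.TransvectionCentraliser

open Matrix

/-- the matrices commuting with the transvection, from their free entries -/
def build (e : ZMod 2) (r c : Fin 3 → ZMod 2) (B : Matrix (Fin 3) (Fin 3) (ZMod 2)) :
    Matrix (Fin 5) (Fin 5) (ZMod 2) :=
  !![1, e, r 0, r 1, r 2;
     0, 1, 0, 0, 0;
     0, c 0, B 0 0, B 0 1, B 0 2;
     0, c 1, B 1 0, B 1 1, B 1 2;
     0, c 2, B 2 0, B 2 1, B 2 2]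

theorem det_build (e : ZMod 2) (r c : Fin 3 → ZMod 2) (B : Matrix (Fin 3) (Fin 3) (ZMod 2)) :
    (build e r c B).det = B.det := by
  rw [Matrix.det_succ_column_zero, Finset.sum_eq_single (0 : Fin 5) (fun i _ hi => ?_)
    (fun h => absurd (Finset.mem_univ _) h), Matrix.det_succ_row_zero,
    Finset.sum_eq_single (0 : Fin 4) (fun j _ hj => ?_) (fun h => absurd (Finset.mem_univ _) h)]
  · have h00 : build e r c B 0 0 = 1 := rfl
    have h11 : ((build e r c B).submatrix (Fin.succAbove 0) Fin.succ) 0 0 = 1 := rfl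
    rw [h00, h11]
    simp only [Fin.val_zero, pow_zero, one_mul]
    refine congrArg Matrix.det ?_
    ext i j
    fin_cases i <;> fin_cases j <;> rfl
  · have : ((build e r c B).submatrix (Fin.succAbove 0) Fin.succ) 0 j = 0 := by
      fin_cases j <;> first | rfl | exact absurd rfl hj
    rw [this]; ring
  · have : build e r c B i 0 = 0 := by fin_cases i <;> first | rfl | exact absurd rfl hi
    rw [this]; ring

theorem card_sl3 : Nat.card {B : Matrix (Fin 3) (Fin 3) (ZMod 2) // B.det = 1} = 168 := by
  rw [Nat.card_eq_fintype_card]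
  decide +kernel

theorem bit {a : ZMod 2} (h : a ≠ 0) : a = 1 := by revert h; revert a; decide

theorem card_centraliser (s : Matrix.SpecialLinearGroup (Fin 5) (ZMod 2))
    (hs : (s : Matrix (Fin 5) (Fin 5) (ZMod 2)) = Matrix.transvection 0 1 1) :
    Nat.card (Subgroup.centralizer ({s} : Set (Matrix.SpecialLinearGroup (Fin 5) (ZMod 2)))) = 21504 := by
  classical
  let T := ZMod 2 × (Fin 3 → ZMod 2) × (Fin 3 → ZMod 2) × {B : Matrix (Fin 3) (Fin 3) (ZMod 2) // B.det = 1}
  have hcomm : ∀ (e : ZMod 2) (r c : Fin 3 → ZMod 2) (B : Matrix (Fin 3) (Fin 3) (ZMod 2)),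
      build e r c B * transvection 0 1 1 = transvection 0 1 1 * build e r c B := by
    intro e r c B
    ext i j
    by_cases hi : i = 0 <;> by_cases hj : j = 1
    · subst hi; subst hj
      rw [mul_transvection_apply_same, transvection_mul_apply_same]
      simp [build]
    · subst hi
      rw [mul_transvection_apply_of_ne _ _ _ _ hj, transvection_mul_apply_same]
      fin_cases j <;> first | exact absurd rfl hj | simp [build]
    · subst hj
      rw [mul_transvection_apply_same, transvection_mul_apply_of_ne _ _ _ _ hi]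
      fin_cases i <;> first | exact absurd rfl hi | simp [build]
    · rw [mul_transvection_apply_of_ne _ _ _ _ hj, transvection_mul_apply_of_ne _ _ _ _ hi]
  let f : T → Subgroup.centralizer ({s} : Set (Matrix.SpecialLinearGroup (Fin 5) (ZMod 2))) := fun t =>
    ⟨(⟨build t.1 t.2.1 t.2.2.1 t.2.2.2.1, by rw [det_build]; exact t.2.2.2.2⟩ :
        Matrix.SpecialLinearGroup (Fin 5) (ZMod 2)),
      Subgroup.mem_centralizer_singleton_iff.2 (Subtype.ext (by
        show build t.1 t.2.1 t.2.2.1 t.2.2.2.1 * s.1 = s.1 * build t.1 t.2.1 t.2.2.1 t.2.2.2.1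
        rw [hs]
        exact hcomm _ _ _ _))⟩
  have hinj : Function.Injective f := by
    rintro ⟨e, r, c, B, hB⟩ ⟨e', r', c', B', hB'⟩ h
    have hm : build e r c B = build e' r' c' B' := congrArg (fun u => (u.1.1)) h
    have hget : ∀ i j, build e r c B i j = build e' r' c' B' i j := fun i j => by rw [hm]
    refine Prod.ext (hget 0 1) (Prod.ext ?_ (Prod.ext ?_ (Subtype.ext ?_)))
    · funext j
      fin_cases j
      exacts [hget 0 2, hget 0 3, hget 0 4]
    · funext i
      fin_cases i
      exacts [hget 2 1, hget 3 1, hget 4 1]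
    · ext i j
      fin_cases i <;> fin_cases j
      exacts [hget 2 2, hget 2 3, hget 2 4, hget 3 2, hget 3 3, hget 3 4, hget 4 2, hget 4 3, hget 4 4]
  have hsur : Function.Surjective f := by
    rintro ⟨g, hg⟩
    obtain ⟨M, hMdef⟩ : ∃ M : Matrix (Fin 5) (Fin 5) (ZMod 2), M = g.1 := ⟨_, rfl⟩
    have hM : M.det = 1 := by rw [hMdef]; exact g.2
    have h : M * transvection 0 1 1 = transvection 0 1 1 * M := by
      have h' : g.1 * s.1 = s.1 * g.1 := congrArg (fun u : Matrix.SpecialLinearGroup (Fin 5) (ZMod 2) => u.1) (Subgroup.mem_centralizer_singleton_iff.1 hg)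
      rwa [hs, ← hMdef] at h'
    have hij : ∀ i j : Fin 5, (M * transvection (0 : Fin 5) 1 (1 : ZMod 2)) i j = (transvection (0 : Fin 5) 1 (1 : ZMod 2) * M) i j := fun i j => by rw [h]
    have hcol : ∀ i, i ≠ 0 → M i 0 = 0 := fun i hi => by
      have := hij i 1
      rw [mul_transvection_apply_same, transvection_mul_apply_of_ne _ _ _ _ hi, one_mul] at this
      exact add_eq_left.1 this
    have hrow : ∀ j, j ≠ 1 → M 1 j = 0 := fun j hj => by
      have := hij 0 j
      rw [mul_transvection_apply_of_ne _ _ _ _ hj, transvection_mul_apply_same, one_mul] at this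
      exact left_eq_add.1 this
    have heq : M 0 0 = M 1 1 := by
      have := hij 0 1
      rw [mul_transvection_apply_same, transvection_mul_apply_same, one_mul, one_mul] at this
      exact add_left_cancel this
    have h00 : M 0 0 = 1 := bit fun h0 => by
      have : M.det = 0 := Matrix.det_eq_zero_of_column_eq_zero 0 fun i => by
        by_cases hi : i = 0
        · rw [hi, h0]
        · exact hcol i hi
      rw [hM] at this
      exact one_ne_zero this
    have hMb : M = build (M 0 1) ![M 0 2, M 0 3, M 0 4] ![M 2 1, M 3 1, M 4 1]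
        !![M 2 2, M 2 3, M 2 4; M 3 2, M 3 3, M 3 4; M 4 2, M 4 3, M 4 4] := by
      ext i j
      fin_cases i <;> fin_cases j <;>
        first
          | rfl
          | exact h00
          | exact heq.symm.trans h00
          | exact hcol _ (by decide)
          | exact hrow _ (by decide)
    refine ⟨(M 0 1, ![M 0 2, M 0 3, M 0 4], ![M 2 1, M 3 1, M 4 1],
      ⟨!![M 2 2, M 2 3, M 2 4; M 3 2, M 3 3, M 3 4; M 4 2, M 4 3, M 4 4], ?_⟩), ?_⟩
    · rw [← det_build (M 0 1) ![M 0 2, M 0 3, M 0 4] ![M 2 1, M 3 1, M 4 1], ← hMb, hM]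
    · exact Subtype.ext (Subtype.ext (hMb.symm.trans hMdef))
  rw [← Nat.card_congr (Equiv.ofBijective f ⟨hinj, hsur⟩)]
  rw [Nat.card_prod, Nat.card_prod, Nat.card_prod, Nat.card_fun, Nat.card_fin, Nat.card_zmod, card_sl3]
  norm_num

end CfsgLib.Spor.TransvectionCentraliser
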