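import Mathlib
import Cfsg.Prelude.Def_SporadicB

/-!
A non-split double cover of the alternating group of degree eight inside sixteen-dimensional matrices.
-/

set_option autoImplicit false
set_option linter.unusedSectionVars false

namespace CfsgLib.Spor.DoubleCoverEight

open Matrix Equiv

/-- the scalars -/
abbrev K := ZMod 7

instance : Fact (Nat.Prime 7) := ⟨by norm_num⟩

/-- parity of four bits -/
def par (n : ℕ) : Bool := ((n.testBit 0 ^^ n.testBit 1) ^^ n.testBit 2) ^^ n.testBit 3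

/-- sign of a parity -/
def sgn (a : Bool) : K := if a then -1 else 1

/-- a monomial matrix -/
def mon (a b : Fin 16) : Matrix (Fin 16) (Fin 16) K := fun r c =>
  if r = c ^^^ a then sgn (par (b &&& c).val) else 0

theorem fin_facts : ∀ a b c : Fin 16, ((a ^^^ b) ^^^ c = a ^^^ (b ^^^ c)) ∧
    (par (a &&& (b ^^^ c)).val = (par (a &&& b).val ^^ par (a &&& c).val)) ∧
    (par ((a ^^^ b) &&& c).val = (par (a &&& c).val ^^ par (b &&& c).val)) ∧
    (a ^^^ b = b ^^^ a) := by decide +kernel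

theorem sgn_xor (p q : Bool) : sgn (p ^^ q) = sgn p * sgn q := by cases p <;> cases q <;> decide

theorem mon_mul (a b a' b' : Fin 16) :
    mon a b * mon a' b' = sgn (par (b &&& a').val) • mon (a ^^^ a') (b ^^^ b') := by
  ext r c
  rw [Matrix.mul_apply, Finset.sum_eq_single (c ^^^ a'), Matrix.smul_apply, smul_eq_mul]
  · simp only [mon, if_true]
    rw [(fin_facts c a' a).1, (fin_facts a' a a).2.2.2, (fin_facts b c a').2.1, (fin_facts b b' c).2.2.1, sgn_xor, sgn_xor]
    split_ifs <;> ring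
  · intro x _ hx
    simp [mon, hx]
  · simp

/-- first coordinates -/
def ga (i : Fin 8) : Fin 16 := ![0, 1, 3, 5, 7, 9, 11, 13] i

/-- second coordinates -/
def gb (i : Fin 8) : Fin 16 := ![1, 0, 3, 7, 13, 15, 9, 11] i

/-- the eight anticommuting matrices -/
def gam (i : Fin 8) : Matrix (Fin 16) (Fin 16) K := mon (ga i) (gb i)

theorem gam_table : ∀ i j : Fin 8, (i = j → ga i ^^^ ga j = 0 ∧ gb i ^^^ gb j = 0 ∧ par (gb i &&& ga j).val = false) ∧
    (i ≠ j → ga i ^^^ ga j = ga j ^^^ ga i ∧ gb i ^^^ gb j = gb j ^^^ gb i ∧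
      sgn (par (gb i &&& ga j).val) + sgn (par (gb j &&& ga i).val) = 0) := by decide +kernel

theorem mon_zero : mon 0 0 = 1 := by decide +kernel

theorem gam_sq (i : Fin 8) : gam i * gam i = 1 := by
  obtain ⟨h1, h2, h3⟩ := (gam_table i i).1 rfl
  rw [gam, mon_mul, h1, h2, h3, mon_zero]
  simp [sgn]

theorem gam_anti {i j : Fin 8} (h : i ≠ j) : gam j * gam i = -(gam i * gam j) := by
  obtain ⟨h1, h2, h3⟩ := (gam_table i j).2 h
  rw [gam, gam, mon_mul, mon_mul, h1, h2, ← neg_smul, eq_neg_of_add_eq_zero_right h3]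

theorem gam_symm : ∀ i : Fin 8, ∀ r : Fin 16, ∀ c : Fin 16,
    (if r = c ^^^ ga i then sgn (par (gb i &&& c).val) else (0 : K)) =
      (if c = r ^^^ ga i then sgn (par (gb i &&& r).val) else (0 : K)) := by decide +kernel

theorem gam_transpose (i : Fin 8) : (gam i)ᵀ = gam i := by
  ext r c
  exact gam_symm i c r

/-- supporting lists for the eight unit strings -/
def unitLists : List (List (Fin 8) × Fin 16 × Fin 16) :=
  [([0], 0, 1), ([0, 1, 3, 5, 7], 0, 2), ([0, 1, 2, 5, 6], 0, 4), ([0, 1, 2, 3, 4], 0, 8),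
   ([1], 1, 0), ([2, 3, 5, 7], 2, 0), ([0, 1, 2, 6, 7], 4, 0), ([4, 5, 6, 7], 8, 0)]

/-- the string of a product -/
def strOf (l : List (Fin 8)) : Fin 16 × Fin 16 := l.foldl (fun s i => (s.1 ^^^ ga i, s.2 ^^^ gb i)) (0, 0)

theorem unit_check : ∀ p ∈ unitLists, strOf p.1 = p.2 := by decide +kernel

theorem commute_str (M : Matrix (Fin 16) (Fin 16) K) (h : ∀ i, M * gam i = gam i * M) (l : List (Fin 8)) :
    M * mon (strOf l).1 (strOf l).2 = mon (strOf l).1 (strOf l).2 * M := by
  induction l using List.reverseRecOn with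
  | nil => show M * mon 0 0 = mon 0 0 * M; rw [mon_zero, mul_one, one_mul]
  | append_singleton l i ih =>
    have e : strOf (l ++ [i]) = ((strOf l).1 ^^^ ga i, (strOf l).2 ^^^ gb i) := by
      simp [strOf, List.foldl_append]
    obtain ⟨s, hs0, hs⟩ : ∃ s : K, s ≠ 0 ∧ mon (strOf l).1 (strOf l).2 * gam i = s • mon (strOf (l ++ [i])).1 (strOf (l ++ [i])).2 :=
      ⟨sgn (par ((strOf l).2 &&& ga i).val), by cases par ((strOf l).2 &&& ga i).val <;> decide, by rw [gam, mon_mul, e]⟩
    have h2 : M * (mon (strOf l).1 (strOf l).2 * gam i) = (mon (strOf l).1 (strOf l).2 * gam i) * M := by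
      rw [← mul_assoc, ih, mul_assoc, h i, ← mul_assoc]
    rw [hs, Matrix.mul_smul, Matrix.smul_mul] at h2
    exact smul_right_injective _ hs0 h2

theorem scalar_checks : (∀ r c : Fin 16, r ≠ c → ∃ b ∈ ([1, 2, 4, 8] : List (Fin 16)), par (b &&& r).val ≠ par (b &&& c).val) ∧
    (∀ r : Fin 16, r ≠ 0 → ∃ a ∈ ([1, 2, 4, 8] : List (Fin 16)), r ^^^ a < r) ∧
    (∀ r : Fin 16, r ^^^ 0 = r) ∧ ∀ b c : Fin 16, par ((0 : Fin 16) &&& c).val = false ∧ (c ^^^ b) ^^^ b = c := by
  decide +kernel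

theorem scalar_of_commute (M : Matrix (Fin 16) (Fin 16) K) (h : ∀ i, M * gam i = gam i * M) :
    M = M 0 0 • (1 : Matrix (Fin 16) (Fin 16) K) := by
  obtain ⟨sep, down, xz, cx⟩ := scalar_checks
  have hu : ∀ p ∈ unitLists, M * mon p.2.1 p.2.2 = mon p.2.1 p.2.2 * M := fun p hp => by
    have := commute_str M h p.1
    rwa [unit_check p hp] at this
  have hmul : ∀ (a b r c : Fin 16), (mon a b * M) r c = sgn (par (b &&& (r ^^^ a)).val) * M (r ^^^ a) c := by
    intro a b r c
    rw [Matrix.mul_apply, Finset.sum_eq_single (r ^^^ a)]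
    · simp [mon, (cx a r).2]
    · intro x _ hx
      have : r ≠ x ^^^ a := fun e => hx (by rw [e, (cx a x).2])
      simp [mon, this]
    · simp
  have hmul' : ∀ (a b r c : Fin 16), (M * mon a b) r c = M r (c ^^^ a) * sgn (par (b &&& c).val) := by
    intro a b r c
    rw [Matrix.mul_apply, Finset.sum_eq_single (c ^^^ a)]
    · simp [mon]
    · intro x _ hx; simp [mon, hx]
    · simp
  have hdiag : ∀ r c, r ≠ c → M r c = 0 := by
    intro r c hrc
    obtain ⟨b, hb, hne⟩ := sep r c hrc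
    have hp : ∃ p ∈ unitLists, p.2 = (0, b) := by
      fin_cases hb
      exacts [⟨_, List.mem_cons_self .., rfl⟩, ⟨([0, 1, 3, 5, 7], 0, 2), by decide, rfl⟩,
        ⟨([0, 1, 2, 5, 6], 0, 4), by decide, rfl⟩, ⟨([0, 1, 2, 3, 4], 0, 8), by decide, rfl⟩]
    obtain ⟨p, hp, e⟩ := hp
    have h1 := congrFun (congrFun (hu p hp) r) c
    rw [e, hmul, hmul', xz, xz] at h1
    by_contra h0
    rw [mul_comm] at h1
    have := mul_right_cancel₀ h0 h1
    revert this
    revert hne
    cases par (b &&& r).val <;> cases par (b &&& c).val <;> decide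
  have hconst : ∀ r, M r r = M 0 0 := by
    intro r
    induction r using WellFoundedLT.induction with
    | ind r ih =>
      by_cases hr : r = 0
      · rw [hr]
      obtain ⟨a, ha, hlt⟩ := down r hr
      have hp : ∃ p ∈ unitLists, p.2 = (a, 0) := by
        fin_cases ha
        exacts [⟨([1], 1, 0), by decide, rfl⟩, ⟨([2, 3, 5, 7], 2, 0), by decide, rfl⟩,
          ⟨([0, 1, 2, 6, 7], 4, 0), by decide, rfl⟩, ⟨([4, 5, 6, 7], 8, 0), by decide, rfl⟩]
      obtain ⟨p, hp, e⟩ := hp
      have h1 := congrFun (congrFun (hu p hp) r) (r ^^^ a)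
      rw [e, hmul, hmul', (cx a r).2, (cx 0 (r ^^^ a)).1] at h1
      rw [← ih _ hlt]
      simpa [sgn] using h1
  ext r c
  by_cases e : r = c
  · subst e; simp [hconst r]
  · simp [hdiag r c e, Matrix.one_apply_ne e]

/-- difference of two generators -/
def du (i j : Fin 8) : Matrix (Fin 16) (Fin 16) K := gam i - gam j

theorem du_sq {i j : Fin 8} (h : i ≠ j) : du i j * du i j = (2 : K) • 1 := by
  rw [du, sub_mul, mul_sub, mul_sub, gam_sq, gam_sq, gam_anti h, two_smul]
  abel

theorem du_gam {i j : Fin 8} (h : i ≠ j) (l : Fin 8) : du i j * gam l = -(gam (swap i j l) * du i j) := by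
  by_cases h1 : l = i
  · subst h1
    rw [swap_apply_left, du, sub_mul, mul_sub, gam_sq, gam_sq, gam_anti h]
    abel
  by_cases h2 : l = j
  · subst h2
    rw [swap_apply_right, du, sub_mul, mul_sub, gam_sq, gam_sq]
    abel
  rw [swap_apply_of_ne_of_ne h1 h2, du, sub_mul, mul_sub, gam_anti (fun e : i = l => h1 e.symm),
    gam_anti (fun e : j = l => h2 e.symm)]
  abel

/-- lifting condition -/
def Lift (e : K) (σ : Equiv.Perm (Fin 8)) (M : Matrix (Fin 16) (Fin 16) K) : Prop :=
  (∀ l, M * gam l = e • (gam (σ l) * M)) ∧ Mᵀ * M = 1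

theorem lift_mul {e e' : K} {σ τ : Equiv.Perm (Fin 8)} {M N : Matrix (Fin 16) (Fin 16) K}
    (h : Lift e σ M) (h' : Lift e' τ N) : Lift (e * e') (σ * τ) (M * N) := by
  refine ⟨fun l => ?_, ?_⟩
  · rw [mul_assoc, h'.1, Matrix.mul_smul, ← mul_assoc, h.1, Matrix.smul_mul, smul_smul, mul_comm e' e,
      Equiv.Perm.mul_apply, mul_assoc]
  · rw [Matrix.transpose_mul, mul_assoc, ← mul_assoc Mᵀ, h.2, one_mul, h'.2]

theorem lift_swap {i j : Fin 8} (h : i ≠ j) : Lift (-1) (swap i j) ((5 : K) • du i j) := by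
  refine ⟨fun l => ?_, ?_⟩
  · rw [Matrix.smul_mul, du_gam h, Matrix.mul_smul, neg_one_smul, smul_neg]
  · rw [Matrix.transpose_smul, show (du i j)ᵀ = du i j by rw [du, Matrix.transpose_sub, gam_transpose, gam_transpose],
      Matrix.smul_mul, Matrix.mul_smul, du_sq h, smul_smul, smul_smul, show (5 * 5 * 2 : K) = 1 from by decide, one_smul]

theorem exists_lift (σ : Equiv.Perm (Fin 8)) : ∃ M, Lift ((Equiv.Perm.sign σ : ℤ) : K) σ M := by
  induction σ using Equiv.Perm.swap_induction_on with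
  | one => exact ⟨1, fun l => by simp, by simp⟩
  | swap_mul f x y hxy ih =>
    obtain ⟨M, hM⟩ := ih
    refine ⟨(5 : K) • du x y * M, ?_⟩
    have := lift_mul (lift_swap hxy) hM
    rw [map_mul, Equiv.Perm.sign_swap hxy]
    simpa using this

/-- the cover -/
def H : Subgroup (alternatingGroup (Fin 8) × GL (Fin 16) K) where
  carrier := {p | Lift 1 p.1.1 p.2.1}
  mul_mem' {p q} hp hq := by
    have := lift_mul hp hq
    rw [one_mul] at this
    exact this
  one_mem' := ⟨fun l => by simp, by simp⟩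
  inv_mem' {p} hp := by
    have hinv : (p.2⁻¹ : GL (Fin 16) K).1 * p.2.1 = 1 := by rw [← Units.val_mul, inv_mul_cancel, Units.val_one]
    have hinv' : p.2.1 * (p.2⁻¹ : GL (Fin 16) K).1 = 1 := by rw [← Units.val_mul, mul_inv_cancel, Units.val_one]
    refine ⟨fun l => ?_, ?_⟩
    · show (p.2⁻¹ : GL (Fin 16) K).1 * gam l = (1 : K) • (gam ((p.1.1)⁻¹ l) * (p.2⁻¹ : GL (Fin 16) K).1)
      have h := hp.1 ((p.1.1)⁻¹ l)
      rw [one_smul, show p.1.1 ((p.1.1)⁻¹ l) = l by simp] at h
      rw [one_smul]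
      calc (p.2⁻¹ : GL (Fin 16) K).1 * gam l
          = (p.2⁻¹ : GL (Fin 16) K).1 * gam l * (p.2.1 * (p.2⁻¹ : GL (Fin 16) K).1) := by rw [hinv', mul_one]
        _ = (p.2⁻¹ : GL (Fin 16) K).1 * (gam l * p.2.1) * (p.2⁻¹ : GL (Fin 16) K).1 := by simp only [mul_assoc]
        _ = gam ((p.1.1)⁻¹ l) * (p.2⁻¹ : GL (Fin 16) K).1 := by rw [← h, ← mul_assoc (p.2⁻¹ : GL (Fin 16) K).1, hinv, one_mul]
    · show ((p.2⁻¹ : GL (Fin 16) K).1)ᵀ * (p.2⁻¹ : GL (Fin 16) K).1 = 1
      have e : (p.2⁻¹ : GL (Fin 16) K).1 = (p.2.1)ᵀ :=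
        calc (p.2⁻¹ : GL (Fin 16) K).1 = (p.2.1)ᵀ * p.2.1 * (p.2⁻¹ : GL (Fin 16) K).1 := by rw [hp.2, one_mul]
          _ = (p.2.1)ᵀ := by rw [mul_assoc, hinv', mul_one]
      rw [e, Matrix.transpose_transpose, ← e, hinv']

/-- the projection -/
def proj : H →* alternatingGroup (Fin 8) := (MonoidHom.fst _ _).comp H.subtype

theorem proj_surj : Function.Surjective proj := fun σ => by
  obtain ⟨M, hM⟩ := exists_lift σ.1
  rw [Equiv.Perm.mem_alternatingGroup.1 σ.2] at hM
  let u : GL (Fin 16) K := ⟨M, Mᵀ, mul_eq_one_comm.1 hM.2, hM.2⟩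
  exact ⟨⟨(σ, u), by show Lift 1 σ.1 M; simpa using hM⟩, rfl⟩

/-- minus one -/
def negOne : H := ⟨(1, -1), ⟨fun l => by simp, by simp⟩⟩

theorem ker_cases {g : H} (hg : proj g = 1) : g = 1 ∨ g = negOne := by
  have h1 : g.1.1 = 1 := hg
  have hc : ∀ i, g.1.2.1 * gam i = gam i * g.1.2.1 := fun i => by
    have := g.2.1 i
    rw [h1] at this
    simpa using this
  have hs := scalar_of_commute _ hc
  have h2 := g.2.2
  rw [hs] at h2
  simp only [Matrix.transpose_smul, Matrix.transpose_one, Matrix.smul_mul, Matrix.mul_smul, mul_one, smul_smul] at h2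
  have h3 : g.1.2.1 0 0 * g.1.2.1 0 0 = 1 := by simpa using congrFun (congrFun h2 0) 0
  rcases mul_self_eq_one_iff.1 h3 with e | e <;> rw [e] at hs
  · exact Or.inl (Subtype.ext (Prod.ext h1 (Units.ext (by simpa using hs))))
  · exact Or.inr (Subtype.ext (Prod.ext h1 (Units.ext (by simpa [negOne] using hs))))

theorem negOne_ne : negOne ≠ 1 := by
  intro e
  have := congrArg (fun g : H => g.1.2.1 0 0) e
  simp [negOne] at this
  exact absurd this (by decide)

theorem center_eq : Subgroup.center H = proj.ker := by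
  ext g
  constructor
  · intro hg
    have hc : proj g ∈ Subgroup.center (alternatingGroup (Fin 8)) := by
      rw [Subgroup.mem_center_iff] at hg ⊢
      intro y
      obtain ⟨x, rfl⟩ := proj_surj y
      rw [← map_mul, hg, map_mul]
    rw [alternatingGroup.center_eq_bot (by simp)] at hc
    exact hc
  · intro hg
    rw [Subgroup.mem_center_iff]
    intro y
    rcases ker_cases hg with rfl | rfl
    · simp
    · refine Subtype.ext (Prod.ext (by simp [negOne]) (Units.ext ?_))
      simp [negOne]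

/-- the lift of a double transposition -/
theorem two_swaps {i j k l : Fin 8} (hij : i ≠ j) (hkl : k ≠ l) :
    Lift 1 (swap i j * swap k l) ((5 : K) • du i j * ((5 : K) • du k l)) := by
  have := lift_mul (lift_swap hij) (lift_swap hkl)
  simpa using this

theorem du_comm {i j k l : Fin 8} (h1 : i ≠ k) (h2 : i ≠ l) (h3 : j ≠ k) (h4 : j ≠ l) :
    du k l * du i j = -(du i j * du k l) := by
  simp only [du, sub_mul, mul_sub, gam_anti h1, gam_anti h2, gam_anti h3, gam_anti h4]
  abel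

theorem sq_two {i j k l : Fin 8} (h0 : i ≠ j) (h0' : k ≠ l) (h1 : i ≠ k) (h2 : i ≠ l) (h3 : j ≠ k) (h4 : j ≠ l) :
    ((5 : K) • du i j * ((5 : K) • du k l)) * ((5 : K) • du i j * ((5 : K) • du k l)) = -1 := by
  have e : du i j * du k l * (du i j * du k l) = -(du i j * du i j * (du k l * du k l)) :=
    calc du i j * du k l * (du i j * du k l) = du i j * (du k l * du i j) * du k l := by simp only [mul_assoc]
      _ = -(du i j * du i j * (du k l * du k l)) := by
        rw [du_comm h1 h2 h3 h4, mul_neg, neg_mul]; simp only [mul_assoc]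
  simp only [Matrix.smul_mul, Matrix.mul_smul, smul_smul]
  rw [e, du_sq h0, du_sq h0']
  simp only [Matrix.smul_mul, Matrix.mul_smul, smul_smul, smul_neg, mul_one]
  rw [show (5 * 5 * (5 * 5) * (2 * 2) : K) = 1 from by decide, one_smul]

theorem main : ∃ (G : Type) (_ : Group G) (_ : Finite G), Cfsg.IsNonsplitDoubleCover G (alternatingGroup (Fin 8)) ∧
    ∃ x y : G, x ≠ y ∧ orderOf x = 2 ∧ orderOf y = 2 := by
  classical
  refine ⟨H, inferInstance, inferInstance, ⟨?_, ?_, ?_⟩, ?_⟩
  · rw [center_eq, Nat.card_eq_two_iff]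
    refine ⟨1, ⟨negOne, rfl⟩, fun e => negOne_ne (congrArg Subtype.val e).symm, Set.eq_univ_of_forall fun g => ?_⟩
    rcases ker_cases g.2 with e | e
    · exact Or.inl (Subtype.ext e)
    · exact Or.inr (Subtype.ext e)
  · exact ⟨(QuotientGroup.quotientMulEquivOfEq center_eq).trans (QuotientGroup.quotientKerEquivOfSurjective proj proj_surj)⟩
  · intro L hL
    rw [center_eq] at hL
    let s : Equiv.Perm (Fin 8) := swap 0 1 * swap 2 3
    have hsA : s ∈ alternatingGroup (Fin 8) := Equiv.Perm.mem_alternatingGroup.2 (by decide +kernel)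
    obtain ⟨g, hg⟩ := proj_surj ⟨s, hsA⟩
    obtain ⟨⟨⟨c, hc⟩, ⟨b, hb⟩⟩, hcb⟩ := hL.2 g
    have hpb : proj b = ⟨s, hsA⟩ := by
      rw [← hg, ← hcb, map_mul, show proj c = 1 from hc, one_mul]
    have hbb : b * b = 1 := by
      have h1 : proj (b * b) = 1 := by
        rw [map_mul, hpb]
        exact Subtype.ext (show ((swap 0 1 * swap 2 3) * (swap 0 1 * swap 2 3) : Equiv.Perm (Fin 8)) = 1 by decide +kernel)
      have : b * b ∈ proj.ker ⊓ L := ⟨h1, mul_mem hb hb⟩
      rw [hL.disjoint.eq_bot] at this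
      exact this
    obtain ⟨M, hMd⟩ : ∃ M, M = (5 : K) • du 0 1 * ((5 : K) • du 2 3) := ⟨_, rfl⟩
    have hM := two_swaps (i := 0) (j := 1) (k := 2) (l := 3) (by decide) (by decide)
    rw [← hMd] at hM
    let m : H := ⟨(⟨s, hsA⟩, ⟨M, Mᵀ, mul_eq_one_comm.1 hM.2, hM.2⟩), hM⟩
    have hm : m * m = negOne := by
      refine Subtype.ext (Prod.ext (Subtype.ext
        (show ((swap 0 1 * swap 2 3) * (swap 0 1 * swap 2 3) : Equiv.Perm (Fin 8)) = 1 by decide +kernel)) (Units.ext ?_))
      show M * M = -1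
      rw [hMd]
      exact sq_two (by decide) (by decide) (by decide) (by decide) (by decide) (by decide)
    have h2 : proj (m⁻¹ * b) = 1 := by rw [map_mul, map_inv, hpb]; exact inv_mul_cancel _
    rcases ker_cases h2 with e | e
    · rw [inv_mul_eq_one] at e
      rw [← e, hm] at hbb
      exact negOne_ne hbb
    · rw [inv_mul_eq_iff_eq_mul] at e
      have hz : negOne * m = m * negOne := by
        have : negOne ∈ Subgroup.center H := center_eq ▸ (rfl : proj negOne = 1)
        exact (Subgroup.mem_center_iff.1 this m).symm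
      rw [e, ← mul_assoc, mul_assoc m negOne, hz, ← mul_assoc, hm, mul_assoc] at hbb
      have hn : negOne * negOne = 1 := Subtype.ext (Prod.ext (by simp [negOne]) (Units.ext (by simp [negOne])))
      rw [hn, mul_one] at hbb
      exact negOne_ne hbb
  · obtain ⟨A, hAd⟩ : ∃ A, A = (5 : K) • du 0 1 * ((5 : K) • du 2 3) := ⟨_, rfl⟩
    obtain ⟨B, hBd⟩ : ∃ B, B = (5 : K) • du 4 5 * ((5 : K) • du 6 7) := ⟨_, rfl⟩
    have hA := two_swaps (i := 0) (j := 1) (k := 2) (l := 3) (by decide) (by decide)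
    have hB := two_swaps (i := 4) (j := 5) (k := 6) (l := 7) (by decide) (by decide)
    rw [← hAd] at hA
    rw [← hBd] at hB
    let a : H := ⟨(⟨_, Equiv.Perm.mem_alternatingGroup.2 (by decide +kernel)⟩, ⟨A, Aᵀ, mul_eq_one_comm.1 hA.2, hA.2⟩), hA⟩
    let b : H := ⟨(⟨_, Equiv.Perm.mem_alternatingGroup.2 (by decide +kernel)⟩, ⟨B, Bᵀ, mul_eq_one_comm.1 hB.2, hB.2⟩), hB⟩
    have hab : Commute A B := by
      have hc : ∀ {i j k l p q : Fin 8}, i ≠ p → i ≠ q → j ≠ p → j ≠ q → k ≠ p → k ≠ q → l ≠ p → l ≠ q →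
          Commute (du i j * du k l) (du p q) := by
        intro i j k l p q a1 a2 a3 a4 a5 a6 a7 a8
        show du i j * du k l * du p q = du p q * (du i j * du k l)
        rw [← mul_assoc (du p q), du_comm a1 a2 a3 a4, neg_mul, mul_assoc (du i j) (du p q), du_comm a5 a6 a7 a8,
          mul_neg, neg_neg, mul_assoc]
      rw [hAd, hBd]
      simp only [Matrix.smul_mul, Matrix.mul_smul, smul_smul]
      refine ((Commute.mul_right ?_ ?_).smul_left _).smul_right _ <;> apply hc <;> decide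
    let w : H := a * b
    have hw : w * w = 1 := by
      refine Subtype.ext (Prod.ext (Subtype.ext (show ((swap 0 1 * swap 2 3 * (swap 4 5 * swap 6 7)) *
        (swap 0 1 * swap 2 3 * (swap 4 5 * swap 6 7)) : Equiv.Perm (Fin 8)) = 1 by decide +kernel)) (Units.ext ?_))
      show A * B * (A * B) = 1
      rw [mul_assoc A B, ← mul_assoc B A B, ← hab.eq, mul_assoc A B B, ← mul_assoc A A, hAd, hBd,
        sq_two (i := 0) (j := 1) (k := 2) (l := 3) (by decide) (by decide) (by decide) (by decide) (by decide) (by decide),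
        sq_two (i := 4) (j := 5) (k := 6) (l := 7) (by decide) (by decide) (by decide) (by decide) (by decide) (by decide)]
      simp
    have hw1 : w ≠ 1 := fun e => by
      have := congrArg (fun g : H => ((g.1.1 : alternatingGroup (Fin 8)) : Equiv.Perm (Fin 8)) 0) e
      revert this
      show ((swap 0 1 * swap 2 3) * (swap 4 5 * swap 6 7) : Equiv.Perm (Fin 8)) 0 = 0 → False
      decide
    refine ⟨w, negOne, fun e => ?_, orderOf_eq_prime (by rw [pow_two]; exact hw) hw1,
      orderOf_eq_prime (by rw [pow_two]; exact Subtype.ext (Prod.ext (by simp [negOne]) (Units.ext (by simp [negOne])))) negOne_ne⟩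
    have := congrArg (fun g : H => ((g.1.1 : alternatingGroup (Fin 8)) : Equiv.Perm (Fin 8)) 0) e
    revert this
    show ((swap 0 1 * swap 2 3) * (swap 4 5 * swap 6 7) : Equiv.Perm (Fin 8)) 0 = 0 → False
    decide

end CfsgLib.Spor.DoubleCoverEight
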