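import Cfsg.Agent.Spor.SextetData
import Cfsg.Agent.Spor.Kinds

/-!
The orbit and stabiliser of the base object (Sextet) under the automorphism group of the code.
-/

set_option autoImplicit false

namespace CfsgLib.Spor

open Cfsg
open scoped Pointwise

theorem sext_orbOK : famK.orbOK (chainTop m24Chain) sextX sextToks = true := by decide +kernel

theorem sext_stabOK : famK.stabOK sextX sextStab = true := by decide +kernel

theorem sext_mem : (chainTop sextStab).all (fun g => inM24 g.P) = true := by decide +kernel

theorem sext_sizes : sextToks.length + 1 = 1771 ∧ chainSize sextStab = 138240 := by decide +kernel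

theorem sext_le : gtGroup (chainTop sextStab) ≤ M24 :=
  gtGroup_le fun g hg => mkPerm_mem_M24 (List.all_eq_true.1 sext_mem g hg)

theorem sext_exact :
    M24 ⊓ MulAction.stabilizer (Equiv.Perm GolayPt) (famK.dec sextX) = gtGroup (chainTop sextStab) ∧
      Nat.card (gtGroup (chainTop sextStab)) = 138240 ∧
      MulAction.orbit M24 (famK.dec sextX) =
        {y | y ∈ (famK.orb (chainTop m24Chain) sextX sextToks).map famK.dec} := by
  have h := Kind.exact (K := famK) sext_orbOK sext_stabOK gtGroup_m24_le sext_le
    (by rw [card_M24, sext_sizes.1, sext_sizes.2])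
  exact ⟨h.1, h.2.1.trans sext_sizes.2, h.2.2.1⟩

theorem sext_orbit_ncard : (MulAction.orbit M24 (famK.dec sextX)).ncard = 1771 := by
  obtain ⟨hnd, hcard, -⟩ := Kind.orb_facts famK sext_orbOK
  rw [sext_exact.2.2, ← List.coe_toFinset, Set.ncard_coe_finset, hcard]
  exact sext_sizes.1

end CfsgLib.Spor
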