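import Cfsg.Agent.Spor.M24Base
import Cfsg.Agent.Spor.SextetOrbit

/-!
Sextets: uniqueness through a tetrad and transitivity.
-/

set_option autoImplicit false

namespace CfsgLib.Spor

open Cfsg
open scoped Pointwise

/-- the base sextet -/
def S0 : Finset (Finset GolayPt) := famDec sextX

theorem S0_check :
    ((sextX.map fun m => m % 2 ^ 24).Nodup ∧ sextX.length = 6) ∧
      (sextX.all fun m => pop m == 4 && sextX.all fun m' =>
        m == m' || octadList.contains (m ||| m')) = true := by decide +kernel

theorem S0_mem : S0 ∈ sextets := by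
  obtain ⟨⟨hn, hl⟩, h⟩ := S0_check
  have hn' : (sextX.map ofMask).Nodup := by
    refine List.Nodup.map_on ?_ (List.Nodup.of_map _ hn)
    intro x hx y hy he
    exact List.inj_on_of_nodup_map hn hx hy (mask_mod_eq he)
  refine ⟨?_, ?_, ?_⟩
  · rw [S0, famDec, List.toFinset_card_of_nodup hn', List.length_map, hl]
  · intro t ht
    simp only [S0, famDec, List.mem_toFinset, List.mem_map] at ht
    obtain ⟨m, hm, rfl⟩ := ht
    have := List.all_eq_true.1 h m hm
    simp only [Bool.and_eq_true, beq_iff_eq] at this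
    rw [card_ofMask, this.1]
  · intro t ht u hu hne
    simp only [S0, famDec, List.mem_toFinset, List.mem_map] at ht hu
    obtain ⟨m, hm, rfl⟩ := ht
    obtain ⟨m', hm', rfl⟩ := hu
    have := List.all_eq_true.1 h m hm
    simp only [Bool.and_eq_true, List.all_eq_true, Bool.or_eq_true, beq_iff_eq,
      List.contains_iff_mem] at this
    rcases this.2 m' hm' with rfl | h'
    · exact absurd rfl hne
    · rw [← ofMask_or]
      exact (mem_octads_iff (by simpa using List.all_eq_true.1 octadList_lt _ h')).2 h'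

theorem sextet_unique {S : Finset (Finset GolayPt)} (hS : S ∈ sextets)
    (ht : ofMask (sextX.headD 0) ∈ S) : S = S0 := by
  obtain ⟨h1, h2, h3⟩ := hS
  refine Finset.eq_of_subset_of_card_le ?_ (by rw [h1, S0_mem.1])
  intro u hu
  by_cases he : ofMask (sextX.headD 0) = u
  · have : sextX.headD 0 ∈ sextX := by decide +kernel
    rw [← he]
    simp only [S0, famDec, List.mem_toFinset, List.mem_map]
    exact ⟨_, this, rfl⟩
  have ho := h3 _ ht u hu he
  have hc : (ofMask (sextX.headD 0) ∪ u).card = 8 := ho.2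
  have hd : Disjoint (ofMask (sextX.headD 0)) u := by
    rw [Finset.disjoint_iff_inter_eq_empty, ← Finset.card_eq_zero]
    have := Finset.card_union_add_card_inter (ofMask (sextX.headD 0)) u
    rw [hc, h2 _ ht, h2 u hu] at this
    omega
  have key : octadList.all (fun o => sextX.headD 0 &&& o != sextX.headD 0 ||
      sextX.contains (o ^^^ sextX.headD 0)) = true := by decide +kernel
  have hm := (mem_octads_iff (maskOf_lt _)).1
    (show ofMask (maskOf (ofMask (sextX.headD 0) ∪ u)) ∈ octads by rwa [ofMask_maskOf])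
  have h := List.all_eq_true.1 key _ hm
  simp only [Bool.or_eq_true, bne_iff_ne, ne_eq, List.contains_iff_mem] at h
  rcases h with h | h
  · exact absurd ((ofMask_subset_iff (show sextX.headD 0 < 2 ^ 24 by decide +kernel)).1
      (by rw [ofMask_maskOf]; exact Finset.subset_union_left)) h
  · simp only [S0, famDec, List.mem_toFinset, List.mem_map]
    refine ⟨_, h, ?_⟩
    rw [ofMask_xor, ofMask_maskOf]
    ext p
    simp only [Finset.mem_symmDiff, Finset.mem_union]
    constructor
    · rintro (⟨hp | hp, hn⟩ | ⟨hp, hn⟩)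
      · exact absurd hp hn
      · exact hp
      · exact absurd (Or.inl hp) hn
    · intro hp
      exact Or.inl ⟨Or.inr hp, fun hq => Finset.disjoint_left.1 hd hq hp⟩

theorem sextets_eq_orbit : sextets = MulAction.orbit M24 S0 := by
  apply Set.Subset.antisymm
  · intro S hS
    obtain ⟨t, ht⟩ := Finset.card_pos.1 (by rw [hS.1]; norm_num : 0 < S.card)
    have h4 : (ofMask (sextX.headD 0)).card = 4 := (card_ofMask _).trans (by decide +kernel)
    obtain ⟨g, hg, hgt⟩ := exists_smul_finset (s := t) (t := ofMask (sextX.headD 0))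
      (by rw [hS.2.1 t ht]; norm_num) (by rw [hS.2.1 t ht, h4])
    have := sextet_unique (smul_mem_sextets hg hS) (hgt ▸ Finset.smul_mem_smul_finset ht)
    refine ⟨⟨g⁻¹, inv_mem hg⟩, ?_⟩
    show g⁻¹ • S0 = S
    rw [← this, inv_smul_smul]
  · rintro _ ⟨g, rfl⟩; exact smul_mem_sextets g.2 S0_mem

theorem ncard_sextets : sextets.ncard = 1771 := by rw [sextets_eq_orbit]; exact sext_orbit_ncard

theorem existsUnique_sextet {t : Finset GolayPt} (ht : t.card = 4) :
    ∃! S, S ∈ sextets ∧ t ∈ S := by
  have h4 : (ofMask (sextX.headD 0)).card = 4 := (card_ofMask _).trans (by decide +kernel)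
  obtain ⟨g, hg, hgt⟩ := exists_smul_finset (s := t) (t := ofMask (sextX.headD 0))
    (by rw [ht]; norm_num) (by rw [ht, h4])
  have hin : ofMask (sextX.headD 0) ∈ S0 := by
    simp only [S0, famDec, List.mem_toFinset, List.mem_map]
    exact ⟨_, (by decide +kernel), rfl⟩
  refine ⟨g⁻¹ • S0, ⟨smul_mem_sextets (inv_mem hg) S0_mem, ?_⟩, ?_⟩
  · have h := Finset.smul_mem_smul_finset (a := g⁻¹) hin
    rwa [← hgt, inv_smul_smul] at h
  · rintro S ⟨hS, hm⟩
    rw [← sextet_unique (smul_mem_sextets hg hS) (hgt ▸ Finset.smul_mem_smul_finset hm),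
      inv_smul_smul]

theorem sextets_transitive {S S' : Finset (Finset GolayPt)} (hS : S ∈ sextets)
    (hS' : S' ∈ sextets) : ∃ g : M24, g • S = S' := by
  rw [sextets_eq_orbit] at hS hS'
  exact exists_smul_of_orbit hS hS'

theorem sextet_std {S : Finset (Finset GolayPt)} (hS : S ∈ sextets) : ∃ g ∈ M24, g • S0 = S := by
  obtain ⟨g, hg⟩ := sextets_transitive S0_mem hS
  exact ⟨g, g.2, hg⟩

theorem stab_S0_eq :
    M24 ⊓ MulAction.stabilizer (Equiv.Perm GolayPt) S0 = gtGroup (chainTop sextStab) :=
  sext_exact.1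

theorem card_stab_S0 : Nat.card (gtGroup (chainTop sextStab)) = 138240 := sext_exact.2.1

end CfsgLib.Spor
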