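import Cfsg.Agent.Spor.SubExact

/-!
Suborbit facts at an arbitrary object from the facts at the base object; maximality.
-/

set_option autoImplicit false

namespace CfsgLib.Spor

open Cfsg
open scoped Pointwise

variable {X Y : Type} [MulAction (Equiv.Perm GolayPt) X] [MulAction (Equiv.Perm GolayPt) Y]

theorem orbit_stab_base {y : Y} {gs : List GT}
    (hst : M24 ⊓ MulAction.stabilizer (Equiv.Perm GolayPt) y = gtGroup gs) (z : X) :
    MulAction.orbit (MulAction.stabilizer M24 y) z = MulAction.orbit (gtGroup gs) z := by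
  rw [orbit_stab_subtype, hst]

theorem smul_union3 (σ : Equiv.Perm GolayPt) (A B C : Set X) :
    σ • (A ∪ B ∪ C) = σ • A ∪ σ • B ∪ σ • C := by
  simp only [Set.smul_set_union]

theorem coatom_base {α : Type} {K : Kind α X} (T : Total K) {y : X} {gs : List GT}
    (hT : T.carrier = MulAction.orbit M24 y)
    (hst : M24 ⊓ MulAction.stabilizer (Equiv.Perm GolayPt) y = gtGroup gs)
    (zs : List X) (ns : List ℕ) {n : ℕ} (hn : T.carrier.ncard = n) (h1n : n ≠ 1)
    (hzs : ∀ z ∈ zs, z ∈ T.carrier)
    (hns : zs.map (fun z => (MulAction.orbit (gtGroup gs) z).ncard) = ns)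
    (hnd : (1 :: ns).Nodup) (ht : primTest n ns = true) :
    IsCoatom (MulAction.stabilizer M24 y) := by
  refine isCoatom_of_sizes y zs ns (hT ▸ hn) h1n (fun z hz => hT ▸ hzs z hz) ?_ hnd ht
  rw [← hns]
  exact List.map_congr_left fun z _ => by rw [orbit_stab_base hst]

end CfsgLib.Spor
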