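import Cfsg.Agent.Spor.M24Octads
import Cfsg.Agent.Spor.TrioOrbit

/-!
Trios: transitivity and number.
-/

set_option autoImplicit false

namespace CfsgLib.Spor

open Cfsg
open scoped Pointwise

/-- the base trio -/
def T0 : Finset (Finset GolayPt) := famDec trioX

/-- orbit tree of the base trio under the stabiliser of the base octad -/
def trioAtOctToks : List ℕ := [0, 2, 19, 20, 33, 1, 19, 34, 0, 36, 2, 19, 38, 4]

theorem trioAtOct_check :
    famK.orbOK (chainTop octStab) trioX trioAtOctToks = true ∧ trioAtOctToks.length + 1 = 15 ∧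
      (octadList.all fun a => a &&& octX != 0 ||
        (famK.orb (chainTop octStab) trioX trioAtOctToks).any fun l =>
          l.contains a && l.contains octX && l.contains (FULL ^^^ octX ^^^ a)) = true ∧
      octX &&& trioX.getD 1 0 = 0 ∧ trioX = [octX, trioX.getD 1 0, trioX.getD 2 0] := by
  decide +kernel

theorem T0_check :
    ((trioX.map fun m => m % 2 ^ 24).Nodup ∧ trioX.length = 3) ∧
      (trioX.all fun m => octadList.contains m && trioX.all fun m' =>
        m == m' || m &&& m' == 0) = true := by decide +kernel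

theorem T0_mem : T0 ∈ trios := by
  obtain ⟨⟨hn, hl⟩, h⟩ := T0_check
  have hn' : (trioX.map ofMask).Nodup := by
    refine List.Nodup.map_on ?_ (List.Nodup.of_map _ hn)
    intro x hx y hy he
    exact List.inj_on_of_nodup_map hn hx hy (mask_mod_eq he)
  simp only [List.all_eq_true, Bool.and_eq_true, Bool.or_eq_true, beq_iff_eq,
    List.contains_iff_mem] at h
  refine ⟨?_, ?_, ?_⟩
  · rw [T0, famDec, List.toFinset_card_of_nodup hn', List.length_map, hl]
  · intro t ht
    simp only [T0, famDec, List.mem_toFinset, List.mem_map] at ht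
    obtain ⟨m, hm, rfl⟩ := ht
    exact (mem_octads_iff (by simpa using List.all_eq_true.1 octadList_lt _ (h m hm).1)).2 (h m hm).1
  · intro t ht u hu hne
    simp only [T0, famDec, List.mem_toFinset, List.mem_map] at ht hu
    obtain ⟨m, hm, rfl⟩ := ht
    obtain ⟨m', hm', rfl⟩ := hu
    rcases (h m hm).2 m' hm' with rfl | h'
    · exact absurd rfl hne
    · rw [Finset.disjoint_iff_inter_eq_empty, ← ofMask_and, h', ofMask_zero]

theorem compl_union_octad {T : Finset (Finset GolayPt)} (hT : T ∈ trios) {a b c : Finset GolayPt}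
    (ha : a ∈ T) (hb : b ∈ T) (hc : c ∈ T) (hab : a ≠ b) (hac : a ≠ c) (hbc : b ≠ c) :
    c = (a ∪ b)ᶜ := by
  obtain ⟨-, h2, h3⟩ := hT
  refine Finset.eq_of_subset_of_card_le ?_ ?_
  · intro p hp
    rw [Finset.mem_compl, Finset.mem_union]
    rintro (h | h)
    · exact Finset.disjoint_left.1 (h3 a ha c hc hac) h hp
    · exact Finset.disjoint_left.1 (h3 b hb c hc hbc) h hp
  · rw [Finset.card_compl, Finset.card_union_of_disjoint (h3 a ha b hb hab), (h2 a ha).2,
      (h2 b hb).2, (h2 c hc).2]
    simp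

theorem trio_mem_orbit_octStab {T : Finset (Finset GolayPt)} (hT : T ∈ trios) (h0 : O0 ∈ T) :
    T ∈ MulAction.orbit (gtGroup (chainTop octStab)) T0 := by
  obtain ⟨hok, -, hall, -, -⟩ := trioAtOct_check
  obtain ⟨h1, h2, h3⟩ := id hT
  have hpos : 0 < (T.erase O0).card := by rw [Finset.card_erase_of_mem h0, h1]; norm_num
  obtain ⟨a, ha⟩ := Finset.card_pos.1 hpos
  obtain ⟨hne, haT⟩ := Finset.mem_erase.1 ha
  have hm := (mem_octads_iff (maskOf_lt a)).1 (by rw [ofMask_maskOf]; exact h2 a haT)
  have h := List.all_eq_true.1 hall _ hm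
  simp only [Bool.or_eq_true, bne_iff_ne, ne_eq, List.any_eq_true, Bool.and_eq_true,
    List.contains_iff_mem] at h
  rcases h with h | ⟨l, hl, ⟨hla, hlo⟩, hlc⟩
  · exfalso
    apply h
    refine (ofMask_eq_ofMask (lt_of_le_of_lt Nat.and_le_left (maskOf_lt a)) (by norm_num)).1 ?_
    rw [ofMask_and, ofMask_maskOf, ofMask_zero, ← Finset.disjoint_iff_inter_eq_empty]
    exact h3 a haT O0 h0 hne
  · have hE : T = famDec l := by
      refine Finset.eq_of_subset_of_card_le ?_ ?_
      · intro u hu
        simp only [famDec, List.mem_toFinset, List.mem_map]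
        by_cases e1 : u = O0
        · exact ⟨_, hlo, e1.symm⟩
        by_cases e2 : u = a
        · exact ⟨_, hla, by rw [ofMask_maskOf, e2]⟩
        refine ⟨_, hlc, ?_⟩
        rw [compl_union_octad hT h0 haT hu hne.symm (Ne.symm e1) (Ne.symm e2), Nat.xor_assoc,
          ofMask_compl, ofMask_xor, ofMask_maskOf]
        rw [Disjoint.symmDiff_eq_sup (show Disjoint (ofMask octX) a from h3 O0 h0 a haT hne.symm)]
        rfl
      · have hlen : l.length = 3 :=
          treeList_forall _ _ _ (fun b : List ℕ => b.length = 3) T0_check.1.2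
            (by
              intro f hf b hb
              obtain ⟨g, -, rfl⟩ := List.mem_map.1 hf
              simpa [famK] using hb) l hl
        rw [h1, famDec]
        exact (List.toFinset_card_le _).trans (by rw [List.length_map, hlen])
    rw [hE]
    simp only [Kind.orbOK, Bool.and_eq_true, List.all_eq_true] at hok
    exact mem_orbit_treeList famDec famK.im (fun g hg c => famDec_smul g (hok.1 g hg) c) trioX
      trioAtOctToks l hl

theorem trios_eq_orbit : trios = MulAction.orbit M24 T0 := by
  apply Set.Subset.antisymm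
  · intro T hT
    obtain ⟨a, ha⟩ := Finset.card_pos.1 (by rw [hT.1]; norm_num : 0 < T.card)
    obtain ⟨g, hg, hga⟩ := octad_std (hT.2.1 a ha)
    have hmem : O0 ∈ g⁻¹ • T := by
      have := Finset.smul_mem_smul_finset (a := g⁻¹) ha
      rwa [← hga, inv_smul_smul] at this
    obtain ⟨k, hk⟩ := trio_mem_orbit_octStab (smul_mem_trios (inv_mem hg) hT) hmem
    refine ⟨⟨g * k, mul_mem hg (oct_le k.2)⟩, ?_⟩
    show (g * (k : Equiv.Perm GolayPt)) • T0 = T
    rw [mul_smul, show (k : Equiv.Perm GolayPt) • T0 = g⁻¹ • T from hk, smul_inv_smul]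
  · rintro _ ⟨g, rfl⟩; exact smul_mem_trios g.2 T0_mem

theorem ncard_trios : trios.ncard = 3795 := by rw [trios_eq_orbit]; exact trio_orbit_ncard

theorem trios_transitive {T T' : Finset (Finset GolayPt)} (hT : T ∈ trios) (hT' : T' ∈ trios) :
    ∃ g : M24, g • T = T' := by
  rw [trios_eq_orbit] at hT hT'
  exact exists_smul_of_orbit hT hT'

theorem trio_std {T : Finset (Finset GolayPt)} (hT : T ∈ trios) : ∃ g ∈ M24, g • T0 = T := by
  obtain ⟨g, hg⟩ := trios_transitive T0_mem hT
  exact ⟨g, g.2, hg⟩

theorem union_compl_mem_octads {o o' : Finset GolayPt} (ho : o ∈ octads) (ho' : o' ∈ octads)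
    (hd : Disjoint o o') : (o ∪ o')ᶜ ∈ octads := by
  refine ⟨compl_mem_code ?_, ?_⟩
  · have h := symmDiff_mem_code ho.1 ho'.1
    rwa [Disjoint.symmDiff_eq_sup hd] at h
  · rw [Finset.card_compl, Finset.card_union_of_disjoint hd, ho.2, ho'.2]
    simp

theorem stab_T0_eq :
    M24 ⊓ MulAction.stabilizer (Equiv.Perm GolayPt) T0 = gtGroup (chainTop trioStab) :=
  trio_exact.1

theorem card_stab_T0 : Nat.card (gtGroup (chainTop trioStab)) = 64512 := trio_exact.2.1

end CfsgLib.Spor
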