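import Cfsg.Agent.Spor.FlagFacts

/-!
Every flag is the image of a standard one.
-/

set_option autoImplicit false

namespace CfsgLib.Spor

open Cfsg
open scoped Pointwise

theorem extend_flag {X Y : Type} [MulAction (Equiv.Perm GolayPt) X] [MulAction (Equiv.Perm GolayPt) Y]
    {y₀ : Y} {gs : List GT}
    (hst : M24 ⊓ MulAction.stabilizer (Equiv.Perm GolayPt) y₀ = gtGroup gs) {C : Set X} {z : X}
    (hC : C = MulAction.orbit (gtGroup gs) z) {σ : Equiv.Perm GolayPt} (hσ : σ ∈ M24) {x : X}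
    (hx : σ⁻¹ • x ∈ C) : ∃ τ ∈ M24, τ • y₀ = σ • y₀ ∧ τ • z = x := by
  rw [hC] at hx
  obtain ⟨g, hg⟩ := hx
  have hgM : (g : Equiv.Perm GolayPt) ∈ M24 ⊓ MulAction.stabilizer (Equiv.Perm GolayPt) y₀ :=
    hst.symm ▸ g.2
  refine ⟨σ * g, mul_mem hσ hgM.1, ?_, ?_⟩
  · rw [mul_smul, MulAction.mem_stabilizer_iff.1 hgM.2]
  · rw [mul_smul, show (g : Equiv.Perm GolayPt) • z = σ⁻¹ • x from hg, smul_inv_smul]

theorem singleton_cover {X : Type} {G : Type} [Group G] [MulAction G X] {C : Set X} {z : X}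
    (h : C = {y | ∃ w ∈ [z], y ∈ MulAction.orbit G w}) : C = MulAction.orbit G z := by
  rw [h]; ext y; simp

theorem octin_orbit : (O0 : Set GolayPt) =
    MulAction.orbit (gtGroup (chainTop octStab)) (pt octinX) := by
  refine (Set.eq_of_subset_of_ncard_le ?_ ?_ (Set.toFinite _)).symm
  · rintro _ ⟨g, rfl⟩
    have hg : (g : Equiv.Perm GolayPt) ∈ M24 ⊓ MulAction.stabilizer (Equiv.Perm GolayPt) O0 :=
      stab_O0_eq.symm ▸ g.2
    show (g : Equiv.Perm GolayPt) (pt octinX) ∈ O0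
    rw [← MulAction.mem_stabilizer_iff.1 hg.2]
    exact mem_smul_iff.2 (by decide +kernel)
  · rw [Set.ncard_coe_finset, O0_mem.2]; exact octin_exact.2.2.ge

theorem octout_orbit : {p : GolayPt | p ∉ O0} =
    MulAction.orbit (gtGroup (chainTop octStab)) (pt octoutX) := by
  refine (Set.eq_of_subset_of_ncard_le ?_ ?_ (Set.toFinite _)).symm
  · rintro _ ⟨g, rfl⟩
    have hg : (g : Equiv.Perm GolayPt) ∈ M24 ⊓ MulAction.stabilizer (Equiv.Perm GolayPt) O0 :=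
      stab_O0_eq.symm ▸ g.2
    show (g : Equiv.Perm GolayPt) (pt octoutX) ∉ O0
    rw [← MulAction.mem_stabilizer_iff.1 hg.2]
    intro h
    exact absurd (mem_smul_iff.1 h) (by decide +kernel)
  · have e : {p : GolayPt | p ∉ O0} = ↑(O0ᶜ) := by ext p; simp
    rw [e, Set.ncard_coe_finset, Finset.card_compl, O0_mem.2]
    exact octout_exact.2.2.ge

theorem octin_flag {o : Finset GolayPt} (ho : o ∈ octads) {x : GolayPt} (hx : x ∈ o) :
    ∃ σ ∈ M24, σ • O0 = o ∧ σ (pt octinX) = x := by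
  obtain ⟨σ, hσ, rfl⟩ := octad_std ho
  have hx' : σ⁻¹ x ∈ O0 := by rw [← mem_smul_iff (σ := σ)]; simpa using hx
  exact extend_flag stab_O0_eq octin_orbit hσ (show σ⁻¹ • x ∈ (O0 : Set GolayPt) from hx')

theorem octout_flag {o : Finset GolayPt} (ho : o ∈ octads) {x : GolayPt} (hx : x ∉ o) :
    ∃ σ ∈ M24, σ • O0 = o ∧ σ (pt octoutX) = x := by
  obtain ⟨σ, hσ, rfl⟩ := octad_std ho
  have hx' : σ⁻¹ x ∉ O0 := by rw [← mem_smul_iff (σ := σ)]; simpa using hx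
  exact extend_flag stab_O0_eq octout_orbit hσ (show σ⁻¹ • x ∈ {p : GolayPt | p ∉ O0} from hx')

theorem two_flag {p q : GolayPt} (hpq : p ≠ q) :
    ∃ σ ∈ M24, σ (pt oneX) = p ∧ σ (pt twoX) = q := by
  haveI := m24_five_transitive
  have hpre : MulAction.IsPretransitive M24 (Fin 2 ↪ GolayPt) :=
    MulAction.isMultiplyPretransitive_of_le (n := 5) (by norm_num) (by simp)
  have h1 : Function.Injective ![pt oneX, pt twoX] := by decide +kernel
  have h2 : Function.Injective ![p, q] := by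
    intro i j; fin_cases i <;> fin_cases j <;> simp [hpq, hpq.symm]
  obtain ⟨g, hg⟩ := hpre.exists_smul_eq ⟨_, h1⟩ ⟨_, h2⟩
  exact ⟨g, g.2, DFunLike.congr_fun hg 0, DFunLike.congr_fun hg 1⟩

theorem fpq_flag {p q : GolayPt} (hpq : p ≠ q) {o : Finset GolayPt} (ho : o ∈ octads) (hp : p ∈ o)
    (hq : q ∈ o) : ∃ σ ∈ M24, σ (pt oneX) = p ∧ σ (pt twoX) = q ∧ σ • maskK.dec fpq0X = o := by
  obtain ⟨σ, hσ, rfl, rfl⟩ := two_flag hpq
  obtain ⟨τ, hτ, h1, h2⟩ := extend_flag fpq_st (singleton_cover fpq_cover) hσ (x := o)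
    ⟨smul_mem_octads (inv_mem hσ) ho, by rw [← mem_smul_iff (σ := σ), smul_inv_smul]; exact hp,
      by rw [← mem_smul_iff (σ := σ), smul_inv_smul]; exact hq⟩
  obtain ⟨e1, e2⟩ := Prod.mk.inj h1
  exact ⟨τ, hτ, e1, e2, h2⟩

theorem fpnq_flag {p q : GolayPt} (hpq : p ≠ q) {o : Finset GolayPt} (ho : o ∈ octads) (hp : p ∈ o)
    (hq : q ∉ o) : ∃ σ ∈ M24, σ (pt oneX) = p ∧ σ (pt twoX) = q ∧ σ • maskK.dec fpnq0X = o := by
  obtain ⟨σ, hσ, rfl, rfl⟩ := two_flag hpq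
  obtain ⟨τ, hτ, h1, h2⟩ := extend_flag fpnq_st (singleton_cover fpnq_cover) hσ (x := o)
    ⟨smul_mem_octads (inv_mem hσ) ho, by rw [← mem_smul_iff (σ := σ), smul_inv_smul]; exact hp,
      by rw [← mem_smul_iff (σ := σ), smul_inv_smul]; exact hq⟩
  obtain ⟨e1, e2⟩ := Prod.mk.inj h1
  exact ⟨τ, hτ, e1, e2, h2⟩

theorem fpair_flag {p q : GolayPt} (hpq : p ≠ q) {s : Finset GolayPt} (hs : s.card = 2) (hp : p ∉ s)
    (hq : q ∉ s) : ∃ σ ∈ M24, σ (pt oneX) = p ∧ σ (pt twoX) = q ∧ σ • maskK.dec fpair0X = s := by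
  obtain ⟨σ, hσ, rfl, rfl⟩ := two_flag hpq
  obtain ⟨τ, hτ, h1, h2⟩ := extend_flag fpair_st (singleton_cover fpair_cover) hσ (x := s)
    ⟨(card_smul_perm _ _).trans hs, by rw [← mem_smul_iff (σ := σ), smul_inv_smul]; exact hp,
      by rw [← mem_smul_iff (σ := σ), smul_inv_smul]; exact hq⟩
  obtain ⟨e1, e2⟩ := Prod.mk.inj h1
  exact ⟨τ, hτ, e1, e2, h2⟩

end CfsgLib.Spor
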