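import Cfsg.Agent.Spor.DodPairData
import Cfsg.Agent.Spor.Kinds

/-!
The orbit and stabiliser of the base object (DodPair) under the automorphism group of the code.
-/

set_option autoImplicit false

namespace CfsgLib.Spor

open Cfsg
open scoped Pointwise

theorem dp_orbOK : famK.orbOK (chainTop m24Chain) dpX dpToks = true := by decide +kernel

theorem dp_stabOK : famK.stabOK dpX dpStab = true := by decide +kernel

theorem dp_mem : (chainTop dpStab).all (fun g => inM24 g.P) = true := by decide +kernel

theorem dp_sizes0 : dpToks.length + 1 = 1288 ∧ chainSize dpStab = 190080 := by decide +kernel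

theorem dp_le : gtGroup (chainTop dpStab) ≤ M24 :=
  gtGroup_le fun g hg => mkPerm_mem_M24 (List.all_eq_true.1 dp_mem g hg)

theorem dp_exact :
    M24 ⊓ MulAction.stabilizer (Equiv.Perm GolayPt) (famK.dec dpX) = gtGroup (chainTop dpStab) ∧
      Nat.card (gtGroup (chainTop dpStab)) = 190080 ∧
      MulAction.orbit M24 (famK.dec dpX) =
        {y | y ∈ (famK.orb (chainTop m24Chain) dpX dpToks).map famK.dec} := by
  have h := Kind.exact (K := famK) dp_orbOK dp_stabOK gtGroup_m24_le dp_le
    (by rw [card_M24, dp_sizes0.1, dp_sizes0.2])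
  exact ⟨h.1, h.2.1.trans dp_sizes0.2, h.2.2.1⟩

theorem dp_orbit_ncard : (MulAction.orbit M24 (famK.dec dpX)).ncard = 1288 := by
  obtain ⟨hnd, hcard, -⟩ := Kind.orb_facts famK dp_orbOK
  rw [dp_exact.2.2, ← List.coe_toFinset, Set.ncard_coe_finset, hcard]
  exact dp_sizes0.1

end CfsgLib.Spor
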