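import Cfsg.Agent.Spor.PairData
import Cfsg.Agent.Spor.Kinds

/-!
The orbit and stabiliser of the base object (Pair) under the automorphism group of the code.
-/

set_option autoImplicit false

namespace CfsgLib.Spor

open Cfsg
open scoped Pointwise

theorem pair_orbOK : maskK.orbOK (chainTop m24Chain) pairX pairToks = true := by decide +kernel

theorem pair_stabOK : maskK.stabOK pairX pairStab = true := by decide +kernel

theorem pair_mem : (chainTop pairStab).all (fun g => inM24 g.P) = true := by decide +kernel

theorem pair_sizes0 : pairToks.length + 1 = 276 ∧ chainSize pairStab = 887040 := by decide +kernel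

theorem pair_le : gtGroup (chainTop pairStab) ≤ M24 :=
  gtGroup_le fun g hg => mkPerm_mem_M24 (List.all_eq_true.1 pair_mem g hg)

theorem pair_exact :
    M24 ⊓ MulAction.stabilizer (Equiv.Perm GolayPt) (maskK.dec pairX) = gtGroup (chainTop pairStab) ∧
      Nat.card (gtGroup (chainTop pairStab)) = 887040 ∧
      MulAction.orbit M24 (maskK.dec pairX) =
        {y | y ∈ (maskK.orb (chainTop m24Chain) pairX pairToks).map maskK.dec} := by
  have h := Kind.exact (K := maskK) pair_orbOK pair_stabOK gtGroup_m24_le pair_le
    (by rw [card_M24, pair_sizes0.1, pair_sizes0.2])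
  exact ⟨h.1, h.2.1.trans pair_sizes0.2, h.2.2.1⟩

theorem pair_orbit_ncard : (MulAction.orbit M24 (maskK.dec pairX)).ncard = 276 := by
  obtain ⟨hnd, hcard, -⟩ := Kind.orb_facts maskK pair_orbOK
  rw [pair_exact.2.2, ← List.coe_toFinset, Set.ncard_coe_finset, hcard]
  exact pair_sizes0.1

end CfsgLib.Spor
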