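import Cfsg.Agent.Spor.TripleData
import Cfsg.Agent.Spor.Kinds

/-!
The orbit and stabiliser of the base object (Triple) under the automorphism group of the code.
-/

set_option autoImplicit false

namespace CfsgLib.Spor

open Cfsg
open scoped Pointwise

theorem tri_orbOK : maskK.orbOK (chainTop m24Chain) triX triToks = true := by decide +kernel

theorem tri_stabOK : maskK.stabOK triX triStab = true := by decide +kernel

theorem tri_mem : (chainTop triStab).all (fun g => inM24 g.P) = true := by decide +kernel

theorem tri_sizes0 : triToks.length + 1 = 2024 ∧ chainSize triStab = 120960 := by decide +kernel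

theorem tri_le : gtGroup (chainTop triStab) ≤ M24 :=
  gtGroup_le fun g hg => mkPerm_mem_M24 (List.all_eq_true.1 tri_mem g hg)

theorem tri_exact :
    M24 ⊓ MulAction.stabilizer (Equiv.Perm GolayPt) (maskK.dec triX) = gtGroup (chainTop triStab) ∧
      Nat.card (gtGroup (chainTop triStab)) = 120960 ∧
      MulAction.orbit M24 (maskK.dec triX) =
        {y | y ∈ (maskK.orb (chainTop m24Chain) triX triToks).map maskK.dec} := by
  have h := Kind.exact (K := maskK) tri_orbOK tri_stabOK gtGroup_m24_le tri_le
    (by rw [card_M24, tri_sizes0.1, tri_sizes0.2])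
  exact ⟨h.1, h.2.1.trans tri_sizes0.2, h.2.2.1⟩

theorem tri_orbit_ncard : (MulAction.orbit M24 (maskK.dec triX)).ncard = 2024 := by
  obtain ⟨hnd, hcard, -⟩ := Kind.orb_facts maskK tri_orbOK
  rw [tri_exact.2.2, ← List.coe_toFinset, Set.ncard_coe_finset, hcard]
  exact tri_sizes0.1

end CfsgLib.Spor
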