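import Cfsg.Agent.Spor.SubExact
import Cfsg.Agent.Spor.PairOrbit
import Cfsg.Agent.Spor.TripleOrbit
import Cfsg.Agent.Spor.DodPairOrbit

/-!
Pairs, triples and complementary pairs of dodecads as totals.
-/

set_option autoImplicit false

namespace CfsgLib.Spor

open Cfsg
open scoped Pointwise

/-- two-element sets -/
def pairs : Set (Finset GolayPt) := {s | s.card = 2}

/-- three-element sets -/
def triples : Set (Finset GolayPt) := {s | s.card = 3}

/-- complementary pairs of dodecads -/
def dodPairs : Set (Finset (Finset GolayPt)) := (fun d => {d, dᶜ}) '' dodecads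

/-- pairs as a total -/
def pairT : Total maskK := maskTotal pairs fun g _ _ hx => (card_smul_perm g _).trans hx

/-- triples as a total -/
def triT : Total maskK := maskTotal triples fun g _ _ hx => (card_smul_perm g _).trans hx

/-- a code of a pair -/
def pairVal (m : ℕ) : Bool := pop m == 2

/-- a code of a triple -/
def triVal (m : ℕ) : Bool := pop m == 3

/-- a code of a complementary pair of dodecads -/
def dpVal : List ℕ → Bool
  | [a, b] => dodVal a && Nat.beq b (FULL ^^^ a)
  | _ => false

theorem mem_of_pairVal {m : ℕ} (h : pairVal m = true) : maskK.dec m ∈ pairs :=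
  (card_ofMask m).trans (beq_iff_eq.1 h)

theorem mem_of_triVal {m : ℕ} (h : triVal m = true) : maskK.dec m ∈ triples :=
  (card_ofMask m).trans (beq_iff_eq.1 h)

theorem famDec_pair (a : ℕ) : famDec [a, FULL ^^^ a] = {ofMask a, (ofMask a)ᶜ} := by
  ext s; simp [famDec, ofMask_compl]

theorem mem_of_dpVal {l : List ℕ} (h : dpVal l = true) : famK.dec l ∈ dodPairs := by
  match l, h with
  | [a, b], h =>
    simp only [dpVal, Bool.and_eq_true] at h
    have hb : b = FULL ^^^ a := Nat.eq_of_beq_eq_true h.2
    subst hb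
    exact ⟨ofMask a, mem_of_dodVal h.1, (famDec_pair a).symm⟩

theorem smul_mem_dodPairs {σ : Equiv.Perm GolayPt} (hσ : σ ∈ M24) {P : Finset (Finset GolayPt)}
    (hP : P ∈ dodPairs) : σ • P ∈ dodPairs := by
  obtain ⟨d, hd, rfl⟩ := hP
  refine ⟨σ • d, smul_mem_dodecads hσ hd, ?_⟩
  show ({σ • d, (σ • d)ᶜ} : Finset (Finset GolayPt)) = σ • {d, dᶜ}
  rw [← smul_compl_perm, Finset.smul_finset_insert, Finset.smul_finset_singleton]

theorem pairs_eq_orbit : pairs = MulAction.orbit M24 (maskK.dec pairX) := by
  refine Set.Subset.antisymm ?_ ?_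
  · intro s hs
    have h2 : (maskK.dec pairX).card = 2 := (card_ofMask _).trans (by decide +kernel)
    obtain ⟨g, hg, he⟩ := exists_smul_finset (s := maskK.dec pairX) (t := s) (by rw [h2]; norm_num)
      (h2.trans hs.symm)
    exact ⟨⟨g, hg⟩, he⟩
  · rintro _ ⟨g, rfl⟩
    exact (card_smul_perm _ _).trans ((card_ofMask _).trans (by decide +kernel))

theorem triples_eq_orbit : triples = MulAction.orbit M24 (maskK.dec triX) := by
  refine Set.Subset.antisymm ?_ ?_
  · intro s hs
    have h2 : (maskK.dec triX).card = 3 := (card_ofMask _).trans (by decide +kernel)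
    obtain ⟨g, hg, he⟩ := exists_smul_finset (s := maskK.dec triX) (t := s) (by rw [h2]; norm_num)
      (h2.trans hs.symm)
    exact ⟨⟨g, hg⟩, he⟩
  · rintro _ ⟨g, rfl⟩
    exact (card_smul_perm _ _).trans ((card_ofMask _).trans (by decide +kernel))

theorem dodPairs_eq_orbit : dodPairs = MulAction.orbit M24 (famK.dec dpX) := by
  have hX : famK.dec dpX = {D0, D0ᶜ} := by
    rw [show dpX = [dodX, FULL ^^^ dodX] from by decide +kernel]
    exact famDec_pair dodX
  refine Set.Subset.antisymm ?_ ?_
  · rintro _ ⟨d, hd, rfl⟩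
    obtain ⟨g, hg, rfl⟩ := dodecad_std hd
    refine ⟨⟨g, hg⟩, ?_⟩
    show g • famK.dec dpX = ({g • D0, (g • D0)ᶜ} : Finset (Finset GolayPt))
    rw [hX, ← smul_compl_perm, Finset.smul_finset_insert, Finset.smul_finset_singleton]
  · rintro _ ⟨g, rfl⟩
    exact smul_mem_dodPairs g.2 (hX ▸ ⟨D0, D0_mem, rfl⟩)

theorem ncard_pairs : pairs.ncard = 276 := pairs_eq_orbit ▸ pair_orbit_ncard

theorem ncard_triples : triples.ncard = 2024 := triples_eq_orbit ▸ tri_orbit_ncard

theorem ncard_dodPairs : dodPairs.ncard = 1288 := dodPairs_eq_orbit ▸ dp_orbit_ncard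

/-- complementary pairs of dodecads as a total -/
def dpT : Total famK where
  carrier := dodPairs
  keyX := famKeyX
  inj := by
    have e : dodPairs = {y | y ∈ (famK.orb (chainTop m24Chain) dpX dpToks).map famK.dec} := by
      rw [dodPairs_eq_orbit]; exact dp_exact.2.2
    rw [e]; exact famKeyX_injOn dp_orbOK
  key_eq := famKey_spec
  smul_mem _ hg _ hx := smul_mem_dodPairs hg hx

end CfsgLib.Spor
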