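import Cfsg.Agent.Spor.LeechCount
import Cfsg.Prelude.Def_SporadicCombinatorics
import Mathlib.LinearAlgebra.Dimension.Constructions
import Mathlib.LinearAlgebra.FiniteDimensional.Basic

/-!
The classes of the lattice modulo twice the lattice and their short representatives.
-/

set_option autoImplicit false

namespace CfsgLib.Spor.LeechModTwo

open Cfsg CfsgLib.Spor CfsgLib.Spor.LeechFacts CfsgLib.Spor.LeechCount

theorem norm_add (u v : GolayPt → ℤ) : sqNorm (u + v) = sqNorm u + 2 * dotInt u v + sqNorm v := by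
  simp only [sqNorm, dotInt, Pi.add_apply, Finset.mul_sum, ← Finset.sum_add_distrib]
  exact Finset.sum_congr rfl fun i _ => by ring

theorem norm_sub (u v : GolayPt → ℤ) : sqNorm (u - v) = sqNorm u - 2 * dotInt u v + sqNorm v := by
  simp only [sqNorm, dotInt, Pi.sub_apply, Finset.mul_sum, ← Finset.sum_add_distrib,
    ← Finset.sum_sub_distrib]
  exact Finset.sum_congr rfl fun i _ => by ring

theorem norm_two (u : GolayPt → ℤ) : sqNorm (2 • u) = 4 * sqNorm u := by
  simp only [sqNorm, Pi.smul_apply, nsmul_eq_mul, Finset.mul_sum]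
  exact Finset.sum_congr rfl fun i _ => by push_cast; ring

/-- congruence modulo twice the lattice -/
def Cong (x y : GolayPt → ℤ) : Prop := ∃ z ∈ leechLattice, x - y = 2 • z

theorem short_congr {x y : GolayPt → ℤ} (hy : y ∈ leechLattice) (hxn : sqNorm x ≤ 64)
    (hyn : sqNorm y ≤ 64) (h : Cong x y) :
    y = x ∨ y = -x ∨ (sqNorm x = 64 ∧ sqNorm y = 64 ∧ dotInt x y = 0) := by
  obtain ⟨z, hz, he⟩ := h
  have hw : x + y = 2 • (z + y) := by rw [nsmul_add, ← he, two_nsmul]; abel
  by_cases h0 : z = 0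
  · exact Or.inl (sub_eq_zero.1 (by rw [he, h0, nsmul_zero])).symm
  by_cases h1 : z + y = 0
  · exact Or.inr (Or.inl (eq_neg_of_add_eq_zero_right (by rw [hw, h1, nsmul_zero])))
  have n0 := norm_min hz h0
  have n1 := norm_min (leechLattice.add_mem hz hy) h1
  have q1 := norm_sub x y
  have q2 := norm_add x y
  rw [he, norm_two] at q1
  rw [hw, norm_two] at q2
  exact Or.inr (Or.inr (by omega))

theorem orth_card_le {T : Finset (GolayPt → ℤ)} (h0 : ∀ v ∈ T, v ≠ 0)
    (horth : ∀ v ∈ T, ∀ w ∈ T, v ≠ w → dotInt v w = 0) : T.card ≤ 24 := by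
  have hli : LinearIndependent ℚ (fun v : T => fun i : GolayPt => ((v.1 i : ℤ) : ℚ)) := by
    rw [Fintype.linearIndependent_iff]
    intro c hc j
    have e : ∑ v : T, c v * ((dotInt v.1 j.1 : ℤ) : ℚ) = 0 := by
      have h1 : ∀ v : T, c v * ((dotInt v.1 j.1 : ℤ) : ℚ) =
          ∑ i, (c v * (v.1 i : ℚ)) * (j.1 i : ℚ) := fun v => by
        rw [dotInt, Int.cast_sum, Finset.mul_sum]
        exact Finset.sum_congr rfl fun i _ => by push_cast; ring
      rw [Finset.sum_congr rfl fun v _ => h1 v, Finset.sum_comm]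
      refine Finset.sum_eq_zero fun i _ => ?_
      have h2 := congrFun hc i
      simp only [Finset.sum_apply, Pi.smul_apply, smul_eq_mul, Pi.zero_apply] at h2
      rw [← Finset.sum_mul, h2, zero_mul]
    rw [Finset.sum_eq_single j (fun v _ hv => by
      rw [horth v.1 v.2 j.1 j.2 fun h => hv (Subtype.ext h)]; simp) (fun h => absurd (Finset.mem_univ j) h)] at e
    refine (mul_eq_zero.1 e).resolve_right (Int.cast_ne_zero.2 fun hd => h0 j.1 j.2 (funext fun i => ?_))
    have hall := (Finset.sum_eq_zero_iff_of_nonneg fun i _ => mul_self_nonneg (j.1 i)).1 hd i (Finset.mem_univ i)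
    exact mul_self_eq_zero.1 hall
  have h := hli.fintype_card_le_finrank
  rw [Fintype.card_coe, Module.finrank_fintype_fun_eq_card] at h
  exact h

/-- the doubled lattice as a subgroup of the lattice -/
def twoL : AddSubgroup leechLattice := (leechLattice.map dbl).addSubgroupOf leechLattice

theorem dbl_eq (v : GolayPt → ℤ) : dbl v = 2 • v := by
  funext i
  simp [dbl]

theorem mk_eq_iff (x y : leechLattice) :
    (QuotientAddGroup.mk x : leechLattice ⧸ twoL) = QuotientAddGroup.mk y ↔ Cong x.1 y.1 := by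
  rw [QuotientAddGroup.eq_iff_sub_mem, twoL, AddSubgroup.mem_addSubgroupOf, AddSubgroup.coe_sub,
    AddSubgroup.mem_map]
  exact exists_congr fun z => and_congr_right fun _ => by rw [dbl_eq, eq_comm]

theorem map_dbl_le : leechLattice.map dbl ≤ leechLattice := by
  rintro _ ⟨z, hz, rfl⟩
  rw [dbl_eq]
  exact leechLattice.nsmul_mem hz 2

theorem card_quot : Nat.card (leechLattice ⧸ twoL) = 2 ^ 24 := by
  rw [← AddSubgroup.index, twoL]
  have h := AddSubgroup.relIndex_mul_index map_dbl_le
  rw [AddSubgroup.index_map_of_injective _ dbl_inj, index_range_dbl, index_leech, AddSubgroup.relIndex,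
    mul_comm (2 ^ 36) (2 ^ 24)] at h
  exact Nat.eq_of_mul_eq_mul_right (by norm_num) h

/-- weight of a representative -/
def wt (n : ℤ) : ℕ := if n = 0 then 48 else if n = 64 then 1 else 24

/-- the short vectors -/
noncomputable def short : Finset (GolayPt → ℤ) := (finite_vecs 0).toFinset ∪ (finite_vecs 32).toFinset ∪
  (finite_vecs 48).toFinset ∪ (finite_vecs 64).toFinset

theorem mem_short {x : GolayPt → ℤ} : x ∈ short ↔ x ∈ leechLattice ∧ sqNorm x ≤ 64 := by
  simp only [short, Finset.mem_union, Set.Finite.mem_toFinset, Set.mem_setOf_eq]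
  constructor
  · rintro (((h | h) | h) | h) <;> exact ⟨h.1, by omega⟩
  · rintro ⟨hL, hn⟩
    have h16 := norm_dvd hL
    have h0 : 0 ≤ sqNorm x := Finset.sum_nonneg fun i _ => sq_nonneg _
    by_cases hx : x = 0
    · subst hx; exact Or.inl (Or.inl (Or.inl ⟨hL, by simp [sqNorm]⟩))
    · have := norm_min hL hx
      rcases (show sqNorm x = 32 ∨ sqNorm x = 48 ∨ sqNorm x = 64 by omega) with h | h | h
      · exact Or.inl (Or.inl (Or.inr ⟨hL, h⟩))
      · exact Or.inl (Or.inr ⟨hL, h⟩)
      · exact Or.inr ⟨hL, h⟩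

theorem wsum_vecs (N : ℤ) (c : ℕ) (hc : {x : GolayPt → ℤ | x ∈ leechLattice ∧ sqNorm x = N}.ncard = c) :
    ∑ x ∈ (finite_vecs N).toFinset, wt (sqNorm x) = c * wt N := by
  rw [Finset.sum_congr rfl fun x hx => by rw [((finite_vecs N).mem_toFinset.1 hx).2], Finset.sum_const,
    ← Set.ncard_eq_toFinset_card _ (finite_vecs N), hc, smul_eq_mul]

theorem count0 : {x : GolayPt → ℤ | x ∈ leechLattice ∧ sqNorm x = 0}.ncard = 1 := by
  rw [show {x : GolayPt → ℤ | x ∈ leechLattice ∧ sqNorm x = 0} = {0} from ?_, Set.ncard_singleton]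
  ext x
  simp only [Set.mem_setOf_eq, Set.mem_singleton_iff]
  constructor
  · rintro ⟨hL, hn⟩
    by_contra h
    have := norm_min hL h
    omega
  · rintro rfl
    exact ⟨leechLattice.zero_mem, by simp [sqNorm]⟩

theorem total : ∑ x ∈ short, wt (sqNorm x) = 48 * 2 ^ 24 := by
  have d : ∀ M N : ℤ, M ≠ N → Disjoint (finite_vecs M).toFinset (finite_vecs N).toFinset := by
    intro M N h
    rw [Finset.disjoint_left]
    intro x h1 h2
    rw [Set.Finite.mem_toFinset] at h1 h2
    exact h (h1.2.symm.trans h2.2)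
  rw [short, Finset.sum_union (by simp only [Finset.disjoint_union_left]; exact ⟨⟨d 0 64 (by norm_num), d 32 64 (by norm_num)⟩, d 48 64 (by norm_num)⟩),
    Finset.sum_union (by simp only [Finset.disjoint_union_left]; exact ⟨d 0 48 (by norm_num), d 32 48 (by norm_num)⟩),
    Finset.sum_union (d 0 32 (by norm_num)), wsum_vecs 0 1 count0, wsum_vecs 32 _ count32,
    wsum_vecs 48 _ count48, wsum_vecs 64 _ count64]
  norm_num [wt]

open Classical in
/-- the short members of a class -/
noncomputable def shortIn (c : leechLattice ⧸ twoL) : Finset (GolayPt → ℤ) :=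
  short.filter fun x => ∃ h : x ∈ leechLattice, (QuotientAddGroup.mk (⟨x, h⟩ : leechLattice) : leechLattice ⧸ twoL) = c

theorem class_le (c : leechLattice ⧸ twoL) : ∑ x ∈ shortIn c, wt (sqNorm x) ≤ 48 := by
  classical
  rcases (shortIn c).eq_empty_or_nonempty with h | ⟨x, hx⟩
  · simp [h]
  have hmem : ∀ y ∈ shortIn c, y ∈ leechLattice ∧ sqNorm y ≤ 64 ∧
      (y = x ∨ y = -x ∨ (sqNorm x = 64 ∧ sqNorm y = 64 ∧ dotInt x y = 0)) ∧
      ∀ y' ∈ shortIn c, y' = y ∨ y' = -y ∨ dotInt y y' = 0 := by
    intro y hy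
    have key : ∀ u ∈ shortIn c, ∀ v ∈ shortIn c, v = u ∨ v = -u ∨ (sqNorm u = 64 ∧ sqNorm v = 64 ∧ dotInt u v = 0) := by
      intro u hu v hv
      simp only [shortIn, Finset.mem_filter, mem_short] at hu hv
      obtain ⟨⟨-, hun⟩, hu', eu⟩ := hu
      obtain ⟨⟨hvL, hvn⟩, hv', ev⟩ := hv
      exact short_congr hvL hun hvn ((mk_eq_iff ⟨u, hu'⟩ ⟨v, hv'⟩).1 (eu.trans ev.symm))
    refine ⟨?_, ?_, key x hx y hy, fun y' hy' => ?_⟩
    · exact (mem_short.1 (Finset.mem_filter.1 hy).1).1
    · exact (mem_short.1 (Finset.mem_filter.1 hy).1).2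
    · rcases key y hy y' hy' with e | e | e
      · exact Or.inl e
      · exact Or.inr (Or.inl e)
      · exact Or.inr (Or.inr e.2.2)
  by_cases h64 : sqNorm x = 64
  · have hall : ∀ y ∈ shortIn c, sqNorm y = 64 := fun y hy => by
      rcases (hmem y hy).2.2.1 with rfl | rfl | h
      · exact h64
      · simpa [sqNorm] using h64
      · exact h.2.1
    rw [Finset.sum_congr rfl fun y hy => by rw [hall y hy], Finset.sum_const, smul_eq_mul,
      show wt 64 = 1 from rfl, mul_one]
    let f : (GolayPt → ℤ) → Finset (GolayPt → ℤ) := fun y => {y, -y}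
    have hb := Finset.card_le_mul_card_image (f := f) (shortIn c) 2 fun p hp => by
      obtain ⟨y, hy, rfl⟩ := Finset.mem_image.1 hp
      refine le_trans (Finset.card_le_card ?_) (Finset.card_le_two (a := y) (b := -y))
      intro u hu
      have e := (Finset.mem_filter.1 hu).2
      have : u ∈ f u := Finset.mem_insert_self _ _
      rwa [e] at this
    have hrep : ∀ p ∈ (shortIn c).image f, ∃ y ∈ shortIn c, f y = p := fun p hp => Finset.mem_image.1 hp
    choose! g hg using hrep
    have hgi : Set.InjOn g ↑((shortIn c).image f) := fun p hp q hq e => by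
      rw [← (hg p hp).2, ← (hg q hq).2, e]
    have h24 : ((shortIn c).image f).card ≤ 24 := by
      rw [← Finset.card_image_of_injOn hgi]
      refine orth_card_le (fun v hv h0 => ?_) fun v hv w hw hne => ?_
      · obtain ⟨p, hp, rfl⟩ := Finset.mem_image.1 hv
        have := hall _ (hg p hp).1
        rw [h0] at this
        simp [sqNorm] at this
      · obtain ⟨p, hp, rfl⟩ := Finset.mem_image.1 hv
        obtain ⟨q, hq, rfl⟩ := Finset.mem_image.1 hw
        rcases (hmem _ (hg p hp).1).2.2.2 _ (hg q hq).1 with e | e | e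
        · exact absurd e.symm hne
        · exfalso
          apply hne
          have : p = q := by
            rw [← (hg p hp).2, ← (hg q hq).2, e]
            simp [f, Finset.pair_comm]
          rw [this]
        · exact e
    omega
  · have hsub : shortIn c ⊆ {x, -x} := fun y hy => by
      rcases (hmem y hy).2.2.1 with e | e | e
      · simp [e]
      · simp [e]
      · exact absurd e.1 h64
    by_cases h0 : x = 0
    · subst h0
      refine le_trans (Finset.sum_le_sum_of_subset hsub) ?_
      simp [sqNorm, wt]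
    · refine le_trans (Finset.sum_le_sum_of_subset hsub) ?_
      have hne : x ∉ ({-x} : Finset (GolayPt → ℤ)) := by
        rw [Finset.mem_singleton]
        intro e
        exact h0 (funext fun i => by have := congrFun e i; simp only [Pi.neg_apply] at this; show x i = 0; omega)
      rw [Finset.sum_insert hne, Finset.sum_singleton,
        show sqNorm (-x) = sqNorm x by simp [sqNorm]]
      have : wt (sqNorm x) = 24 := by
        rw [wt, if_neg, if_neg h64]
        intro e
        have := norm_min (hmem x hx).1 h0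
        omega
      omega

theorem class_eq (c : leechLattice ⧸ twoL) : ∑ x ∈ shortIn c, wt (sqNorm x) = 48 := by
  classical
  haveI : Finite (leechLattice ⧸ twoL) := Nat.finite_of_card_ne_zero (by rw [card_quot]; norm_num)
  haveI := Fintype.ofFinite (leechLattice ⧸ twoL)
  have hsum : ∑ c : leechLattice ⧸ twoL, ∑ x ∈ shortIn c, wt (sqNorm x) = ∑ _c : leechLattice ⧸ twoL, 48 := by
    rw [Finset.sum_const, Finset.card_univ, ← Nat.card_eq_fintype_card, card_quot, smul_eq_mul, mul_comm,
      ← total]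
    let cls : (GolayPt → ℤ) → leechLattice ⧸ twoL := fun x =>
      if h : x ∈ leechLattice then QuotientAddGroup.mk (⟨x, h⟩ : leechLattice) else 0
    rw [← Finset.sum_fiberwise short cls]
    refine Finset.sum_congr rfl fun c _ => Finset.sum_congr ?_ fun _ _ => rfl
    ext x
    simp only [shortIn, Finset.mem_filter, cls]
    constructor
    · rintro ⟨h1, h2, h3⟩; exact ⟨h1, by rw [dif_pos h2]; exact h3⟩
    · rintro ⟨h1, h3⟩
      have h2 := (mem_short.1 h1).1
      rw [dif_pos h2] at h3
      exact ⟨h1, h2, h3⟩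
  exact (Finset.sum_eq_sum_iff_of_le fun c _ => class_le c).1 hsum c (Finset.mem_univ c)

theorem representatives {x : GolayPt → ℤ} (hx : x ∈ leechLattice) :
    ∃ y ∈ leechLattice, sqNorm y ≤ 64 ∧ ∃ z ∈ leechLattice, x - y = 2 • z := by
  obtain ⟨y, hy⟩ : (shortIn (QuotientAddGroup.mk (⟨x, hx⟩ : leechLattice))).Nonempty := by
    rw [Finset.nonempty_iff_ne_empty]
    intro h
    have := class_eq (QuotientAddGroup.mk (⟨x, hx⟩ : leechLattice))
    simp [h] at this
  simp only [shortIn, Finset.mem_filter, mem_short] at hy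
  obtain ⟨⟨hyL, hyn⟩, hy', e⟩ := hy
  exact ⟨y, hyL, hyn, (mk_eq_iff ⟨x, hx⟩ ⟨y, hy'⟩).1 e.symm⟩

theorem cross_card {x : GolayPt → ℤ} (hx : x ∈ leechLattice) (hxn : sqNorm x = 64) :
    (cross x).ncard = 48 := by
  classical
  set c : leechLattice ⧸ twoL := QuotientAddGroup.mk (⟨x, hx⟩ : leechLattice) with hc
  have hxin : x ∈ shortIn c := by
    simp only [shortIn, Finset.mem_filter, mem_short]
    exact ⟨⟨hx, hxn.le⟩, hx, rfl⟩
  have hall : ∀ y ∈ shortIn c, sqNorm y = 64 := fun y hy => by
    simp only [shortIn, Finset.mem_filter, mem_short] at hy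
    obtain ⟨⟨hyL, hyn⟩, hy', e⟩ := hy
    rcases short_congr hyL hxn.le hyn ((mk_eq_iff ⟨x, hx⟩ ⟨y, hy'⟩).1 e.symm) with rfl | rfl | h
    · exact hxn
    · simpa [sqNorm] using hxn
    · exact h.2.1
  have hset : cross x = ↑(shortIn c) := by
    ext y
    simp only [cross, Finset.mem_coe, Set.mem_setOf_eq]
    constructor
    · rintro ⟨hyL, hyn, hz⟩
      simp only [shortIn, Finset.mem_filter, mem_short]
      exact ⟨⟨hyL, le_of_eq (hyn.trans hxn)⟩, hyL, ((mk_eq_iff ⟨x, hx⟩ ⟨y, hyL⟩).2 hz).symm⟩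
    · intro hy
      have h64 := hall y hy
      simp only [shortIn, Finset.mem_filter, mem_short] at hy
      obtain ⟨⟨hyL, -⟩, hy', e⟩ := hy
      exact ⟨hyL, h64.trans hxn.symm, (mk_eq_iff ⟨x, hx⟩ ⟨y, hy'⟩).1 e.symm⟩
  have h := class_eq c
  rw [Finset.sum_congr rfl fun y hy => by rw [hall y hy], Finset.sum_const, smul_eq_mul,
    show wt 64 = 1 from rfl, mul_one] at h
  rw [hset, Set.ncard_coe_finset, h]

end CfsgLib.Spor.LeechModTwo
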