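import Cfsg.Agent.Spor.LeechPairs

/-!
The numbers of shortest vectors with given product with a fixed one, from the second and fourth
moments of the coordinates, and the number of decompositions of a vector of sum of squares 48.
-/

set_option autoImplicit false

namespace CfsgLib.Spor.LeechCensus

open Cfsg CfsgLib.Spor CfsgLib.Spor.LeechFacts CfsgLib.Spor.LeechCount CfsgLib.Spor.LeechModTwo
  CfsgLib.Spor.LeechFrame CfsgLib.Spor.LeechCross CfsgLib.Spor.LeechOrbits CfsgLib.Spor.LeechPairs
open scoped Pointwise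

/-- the shortest vectors -/
noncomputable def minSet : Finset (GolayPt → ℤ) := (finite_vecs 32).toFinset

theorem mem_minSet {w : GolayPt → ℤ} : w ∈ minSet ↔ w ∈ leechLattice ∧ sqNorm w = 32 := by
  simp [minSet]

theorem card_minSet : minSet.card = 196560 := by
  rw [minSet, ← Set.ncard_eq_toFinset_card _ (finite_vecs 32), count32]

theorem sum_perm {σ : Equiv.Perm GolayPt} (hσ : σ ∈ M24) (F : (GolayPt → ℤ) → ℤ) :
    ∑ w ∈ minSet, F (fun i => w (σ i)) = ∑ w ∈ minSet, F w := by
  have key : ∀ {τ : Equiv.Perm GolayPt}, τ ∈ M24 → ∀ w ∈ minSet, (fun i => w (τ i)) ∈ minSet := by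
    intro τ hτ w hw
    obtain ⟨h1, h2⟩ := mem_minSet.1 hw
    refine mem_minSet.2 ⟨?_, ?_⟩
    · have h := inLeech_permMap (inv_mem hτ) (mem_leechLattice.1 h1)
      have e : permMap τ⁻¹ w = fun i => w (τ i) := by
        funext i
        show w ((τ⁻¹)⁻¹ i) = w (τ i)
        rw [inv_inv]
      rw [← e]
      exact mem_leechLattice.2 h
    · rw [sqNorm, Equiv.sum_comp τ fun i => w i ^ 2]; exact h2
  refine Finset.sum_nbij' (fun w i => w (σ i)) (fun w i => w (σ⁻¹ i)) (key hσ) (key (inv_mem hσ))
    ?_ ?_ (fun w _ => rfl)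
  · intro w _; funext i; simp
  · intro w _; funext i; simp

theorem sum_sign {c : Finset GolayPt} (hc : c ∈ Code) (F : (GolayPt → ℤ) → ℤ) :
    ∑ w ∈ minSet, F (signMap c w) = ∑ w ∈ minSet, F w := by
  have hinv : ∀ w, signMap c (signMap c w) = w := fun w => by
    funext i
    show (if i ∈ c then -(if i ∈ c then -w i else w i) else (if i ∈ c then -w i else w i)) = w i
    split <;> simp
  have key : ∀ w ∈ minSet, signMap c w ∈ minSet := by
    intro w hw
    obtain ⟨h1, h2⟩ := mem_minSet.1 hw
    refine mem_minSet.2 ⟨mem_leechLattice.2 (inLeech_signMap hc (mem_leechLattice.1 h1)), ?_⟩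
    rw [← h2]
    exact Finset.sum_congr rfl fun i _ => by show (if i ∈ c then -w i else w i) ^ 2 = _; split <;> ring
  exact Finset.sum_nbij' (signMap c) (signMap c) key key (fun w _ => hinv w) (fun w _ => hinv w) (fun w _ => rfl)

theorem moment_eq (k : ℕ) (i j : GolayPt) : ∑ w ∈ minSet, w i ^ k = ∑ w ∈ minSet, w j ^ k := by
  obtain ⟨l, hl⟩ := exists_ne i
  obtain ⟨m, hm⟩ := exists_ne j
  obtain ⟨σ, hσ, h1, -⟩ := m24_map_pair (Ne.symm hl) (Ne.symm hm)
  rw [← h1]
  exact (sum_perm hσ fun w => w i ^ k).symm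

theorem mixed_eq {i j k l : GolayPt} (hij : i ≠ j) (hkl : k ≠ l) :
    ∑ w ∈ minSet, w i ^ 2 * w j ^ 2 = ∑ w ∈ minSet, w k ^ 2 * w l ^ 2 := by
  obtain ⟨σ, hσ, h1, h2⟩ := m24_map_pair hij hkl
  rw [← h1, ← h2]
  exact (sum_perm hσ fun w => w i ^ 2 * w j ^ 2).symm

theorem odd_vanish (a b : ℕ) (ha : a % 2 = 1) :
    ∑ w ∈ minSet, w none ^ a * w (some 0) ^ b = 0 := by
  obtain ⟨c, hc, h1, h2⟩ := pair_signs true false
  have h := sum_sign hc fun w => w none ^ a * w (some 0) ^ b
  have e : ∀ w : GolayPt → ℤ, signMap c w none ^ a * signMap c w (some 0) ^ b = -(w none ^ a * w (some 0) ^ b) := by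
    intro w
    show (if none ∈ c then -w none else w none) ^ a * (if some 0 ∈ c then -w (some 0) else w (some 0)) ^ b = _
    rw [if_pos (h1.2 rfl), if_neg (fun hh => absurd (h2.1 hh) (by decide)), Odd.neg_pow (Nat.odd_iff.2 ha)]
    ring
  rw [Finset.sum_congr rfl fun w _ => e w, Finset.sum_neg_distrib] at h
  omega

theorem odd_vanish' (a b : ℕ) (hb : b % 2 = 1) :
    ∑ w ∈ minSet, w none ^ a * w (some 0) ^ b = 0 := by
  obtain ⟨c, hc, h1, h2⟩ := pair_signs false true
  have h := sum_sign hc fun w => w none ^ a * w (some 0) ^ b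
  have e : ∀ w : GolayPt → ℤ, signMap c w none ^ a * signMap c w (some 0) ^ b = -(w none ^ a * w (some 0) ^ b) := by
    intro w
    show (if none ∈ c then -w none else w none) ^ a * (if some 0 ∈ c then -w (some 0) else w (some 0)) ^ b = _
    rw [if_pos (h2.2 rfl), if_neg (fun hh => absurd (h1.1 hh) (by decide)), Odd.neg_pow (Nat.odd_iff.2 hb)]
    ring
  rw [Finset.sum_congr rfl fun w _ => e w, Finset.sum_neg_distrib] at h
  omega

theorem count_four_shape : (minSet.filter fun w => ∀ i, (4 : ℤ) ∣ w i).card = 1104 := by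
  classical
  have e := fibre_count sqW 8 4 [] [0, 2, -2] (by decide) (by decide) (∅ : Finset GolayPt) (a := 8) (r := 0)
    le_rfl (by norm_num)
  rw [Finset.card_empty] at e
  rw [← FrameLattice.fibre_tables.1, ← e, ← Set.ncard_coe_finset]
  refine Eq.trans ?_ (Set.ncard_image_of_injective _ dbl_inj)
  congr 1
  ext x
  simp only [Finset.coe_filter, mem_minSet, Set.mem_setOf_eq, Set.mem_image]
  constructor
  · rintro ⟨⟨hx, hn⟩, h4⟩
    rcases leech_cases hx with ⟨y, rfl, -, hs⟩ | ho
    swap
    · exfalso; have := ho none; have := h4 none; omega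
    refine ⟨y, ⟨fun i => ?_, ?_, ?_⟩, rfl⟩
    · rw [if_neg (Finset.notMem_empty i)]
      have h2 : (2 : ℤ) ∣ y i := by
        have h : (4 : ℤ) ∣ 2 * y i := h4 i
        omega
      have hs8 : ∑ j, y j ^ 2 = 8 := by rw [norm_two_mul] at hn; omega
      have hle : y i ^ 2 ≤ 8 := le_of_le_of_eq
        (Finset.single_le_sum (f := fun j => y j ^ 2) (fun j _ => sq_nonneg _) (Finset.mem_univ i)) hs8
      obtain ⟨hl, hu⟩ := small_of_sq (b := 2) (by norm_num) (by omega : y i ^ 2 < (2 + 1) ^ 2)
      simp only [List.mem_cons, List.not_mem_nil, or_false]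
      omega
    · exact FrameLattice.sqW_sum y (n := 8) (hn.trans (by norm_num))
    · push_cast; omega
  · rintro ⟨y, ⟨h1, h2, h3⟩, rfl⟩
    have hev : ∀ i, (2 : ℤ) ∣ y i := fun i => by
      have := h1 i
      rw [if_neg (Finset.notMem_empty i)] at this
      simp only [List.mem_cons, List.not_mem_nil, or_false] at this
      omega
    refine ⟨⟨two_mul_mem ?_ (by push_cast at h3; omega), ?_⟩, fun i => ?_⟩
    · rw [show oddSupp y = ∅ from by ext i; simp [mem_oddSupp, hev i]]
      exact empty_mem_code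
    · show sqNorm (fun i => 2 * y i) = 32
      rw [norm_sqW, h2]; norm_num
    · have := hev i
      show (4 : ℤ) ∣ 2 * y i
      omega

theorem count_odd_shape : (minSet.filter fun w => ¬(2 : ℤ) ∣ w none).card = 98304 := by
  classical
  have h1 := ncard_odd (a := 1) (by norm_num) _ table_values.2.2.1
  norm_num at h1
  rw [← h1, ← Set.ncard_coe_finset]
  congr 1
  ext x
  simp only [Finset.coe_filter, mem_minSet, Set.mem_setOf_eq]
  tauto

theorem quartic_total : ∑ w ∈ minSet, ∑ i, w i ^ 4 = 23224320 := by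
  classical
  have e : ∀ w ∈ minSet, ∑ i, w i ^ 4 =
      128 + (if ∀ i, (4 : ℤ) ∣ w i then 384 else 0) + (if ¬(2 : ℤ) ∣ w none then -24 else 0) := by
    intro w hw
    obtain ⟨hx, hn⟩ := mem_minSet.1 hw
    rcases shapes32 hx hn with ⟨a, b, hab, ha, hb, h0⟩ | ⟨o, ho, h1, h2⟩ | ⟨a, ha, h1⟩
    · have hv : ∀ l, w l = 4 ∨ w l = -4 ∨ w l = 0 := fun l => by
        by_cases g1 : l = a
        · subst g1; omega
        by_cases g2 : l = b
        · subst g2; omega
        exact Or.inr (Or.inr (h0 l g1 g2))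
      rw [if_pos (fun i => by have := hv i; omega), if_neg (by have := hv none; omega),
        ← Finset.sum_subset (Finset.subset_univ {a, b}) fun l _ hl => by
          simp only [Finset.mem_insert, Finset.mem_singleton, not_or] at hl
          rw [h0 l hl.1 hl.2]; rfl, Finset.sum_pair hab]
      rcases ha with e | e <;> rcases hb with e' | e' <;> rw [e, e'] <;> norm_num
    · obtain ⟨l0, hl0⟩ := Finset.card_pos.1 (show 0 < o.card by rw [(mem_octads.1 ho).2]; norm_num)
      have hn4 : ¬∀ i, (4 : ℤ) ∣ w i := fun h => by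
        have := h l0
        have := h1 l0 hl0
        omega
      have hev : (2 : ℤ) ∣ w none := by
        by_cases g : none ∈ o
        · have := h1 none g; omega
        · rw [h2 none g]; exact dvd_zero _
      rw [if_neg hn4, if_neg (not_not.2 hev), ← Finset.sum_subset (Finset.subset_univ o) fun l _ hl => by
          rw [h2 l hl]; rfl, Finset.sum_congr rfl fun l hl => show w l ^ 4 = 16 by
          rcases h1 l hl with e | e <;> rw [e] <;> norm_num, Finset.sum_const, (mem_octads.1 ho).2]
      norm_num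
    · have hv : ∀ l, ¬(2 : ℤ) ∣ w l := fun l => by
        by_cases g : l = a
        · subst g; omega
        · have := h1 l g; omega
      rw [if_neg (fun h => hv none (dvd_trans (by norm_num) (h none))), if_pos (hv none),
        ← Finset.add_sum_erase _ _ (Finset.mem_univ a), Finset.sum_congr rfl fun l hl => show w l ^ 4 = 1 by
          rcases h1 l (Finset.ne_of_mem_erase hl) with e | e <;> rw [e] <;> norm_num,
        Finset.sum_const, Finset.card_erase_of_mem (Finset.mem_univ a), Finset.card_univ,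
        show Fintype.card GolayPt = 24 from rfl]
      rcases ha with e | e <;> rw [e] <;> norm_num
  rw [Finset.sum_congr rfl e, Finset.sum_add_distrib, Finset.sum_add_distrib, Finset.sum_const,
    ← Finset.sum_filter, ← Finset.sum_filter, Finset.sum_const, Finset.sum_const, card_minSet,
    count_four_shape, count_odd_shape]
  norm_num

theorem base_moments :
    (∑ w ∈ minSet, w none ^ 2 = 262080) ∧ (∑ w ∈ minSet, w none ^ 4 = 967680) ∧
    ∑ w ∈ minSet, w none ^ 2 * w (some 0) ^ 2 = 322560 := by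
  have h2 : ∑ w ∈ minSet, w none ^ 2 = 262080 := by
    have h : ∑ i : GolayPt, ∑ w ∈ minSet, w i ^ 2 = 32 * 196560 := by
      rw [Finset.sum_comm, Finset.sum_congr rfl fun (w : GolayPt → ℤ) hw => show (∑ i, w i ^ 2) = 32 from (mem_minSet.1 hw).2,
        Finset.sum_const, card_minSet]
      norm_num
    rw [Finset.sum_congr rfl fun i _ => moment_eq 2 i none, Finset.sum_const, Finset.card_univ,
      show Fintype.card GolayPt = 24 from rfl] at h
    norm_num at h
    linarith
  have h4 : ∑ w ∈ minSet, w none ^ 4 = 967680 := by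
    have h : ∑ i : GolayPt, ∑ w ∈ minSet, w i ^ 4 = 23224320 := by
      rw [Finset.sum_comm]; exact quartic_total
    rw [Finset.sum_congr rfl fun i _ => moment_eq 4 i none, Finset.sum_const, Finset.card_univ,
      show Fintype.card GolayPt = 24 from rfl] at h
    norm_num at h
    linarith
  have h22 : ∑ w ∈ minSet, w none ^ 2 * w (some 0) ^ 2 = 322560 := by
    have h : ∑ i : GolayPt, ∑ j : GolayPt, ∑ w ∈ minSet, w i ^ 2 * w j ^ 2 = 1024 * 196560 := by
      have e : ∀ w ∈ minSet, ∑ i : GolayPt, ∑ j : GolayPt, w i ^ 2 * w j ^ 2 = 1024 := fun w hw => by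
        rw [← Finset.sum_mul_sum, show (∑ i, w i ^ 2) = 32 from (mem_minSet.1 hw).2]
        norm_num
      rw [Finset.sum_congr rfl fun i _ => Finset.sum_comm, Finset.sum_comm, Finset.sum_congr rfl e,
        Finset.sum_const, card_minSet]
      norm_num
    have e : ∀ i : GolayPt, ∑ j : GolayPt, ∑ w ∈ minSet, w i ^ 2 * w j ^ 2 =
        967680 + 23 * ∑ w ∈ minSet, w none ^ 2 * w (some 0) ^ 2 := fun i => by
      rw [← Finset.add_sum_erase _ _ (Finset.mem_univ i), Finset.sum_congr rfl fun j hj =>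
        mixed_eq (Ne.symm (Finset.ne_of_mem_erase hj)) (show (none : GolayPt) ≠ some 0 by simp),
        Finset.sum_const, Finset.card_erase_of_mem (Finset.mem_univ i), Finset.card_univ,
        show Fintype.card GolayPt = 24 from rfl,
        Finset.sum_congr rfl fun w _ => show w i ^ 2 * w i ^ 2 = w i ^ 4 by ring, moment_eq 4 i none, h4]
      norm_num
    rw [Finset.sum_congr rfl fun i _ => e i, Finset.sum_const, Finset.card_univ,
      show Fintype.card GolayPt = 24 from rfl] at h
    norm_num at h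
    linarith
  exact ⟨h2, h4, h22⟩

theorem moments :
    (∑ w ∈ minSet, (w none + w (some 0)) ^ 2 = 524160) ∧
    ∑ w ∈ minSet, (w none + w (some 0)) ^ 4 = 3870720 := by
  obtain ⟨h2, h4, h22⟩ := base_moments
  have h2' := moment_eq 2 (some 0) none
  have h4' := moment_eq 4 (some 0) none
  constructor
  · rw [Finset.sum_congr rfl fun (w : GolayPt → ℤ) _ => show (w none + w (some 0)) ^ 2 =
      w none ^ 2 + 2 * (w none ^ 1 * w (some 0) ^ 1) + w (some 0) ^ 2 by ring,
      Finset.sum_add_distrib, Finset.sum_add_distrib, ← Finset.mul_sum, odd_vanish 1 1 rfl, h2', h2]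
    norm_num
  · rw [Finset.sum_congr rfl fun (w : GolayPt → ℤ) _ => show (w none + w (some 0)) ^ 4 =
      w none ^ 4 + 4 * (w none ^ 3 * w (some 0) ^ 1) + 6 * (w none ^ 2 * w (some 0) ^ 2) +
        4 * (w none ^ 1 * w (some 0) ^ 3) + w (some 0) ^ 4 by ring,
      Finset.sum_add_distrib, Finset.sum_add_distrib, Finset.sum_add_distrib, Finset.sum_add_distrib,
      ← Finset.mul_sum, ← Finset.mul_sum, ← Finset.mul_sum, odd_vanish 3 1 rfl, odd_vanish' 1 3 rfl,
      h22, h4', h4]
    norm_num

theorem census_base :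
    (minSet.filter fun w => w none + w (some 0) = -4).card = 4600 ∧
    (minSet.filter fun w => w none + w (some 0) = -2).card = 47104 ∧
    (minSet.filter fun w => w none + w (some 0) = 0).card = 93150 := by
  classical
  obtain ⟨m2, m4⟩ := moments
  let s : (GolayPt → ℤ) → ℤ := fun w => w none + w (some 0)
  have hrange : ∀ w ∈ minSet, s w ∈ ({-8, -4, -2, 0, 2, 4, 8} : Finset ℤ) := by
    intro w hw
    obtain ⟨hx, hn⟩ := mem_minSet.1 hw
    have h8 := leech_dot_dvd Spor.leechU.2 hx
    rw [show ((Spor.leechU : leechLattice) : GolayPt → ℤ) = Spor.vecU from rfl, dot_U] at h8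
    have q1 := LeechModTwo.norm_sub Spor.vecU w
    have q2 := LeechModTwo.norm_add Spor.vecU w
    rw [dot_U, norm_U, hn] at q1 q2
    have n1 : Spor.vecU - w = 0 ∨ 32 ≤ sqNorm (Spor.vecU - w) := by
      by_cases h : Spor.vecU - w = 0
      · exact Or.inl h
      · exact Or.inr (norm_min (leechLattice.sub_mem Spor.leechU.2 hx) h)
    have n2 : Spor.vecU + w = 0 ∨ 32 ≤ sqNorm (Spor.vecU + w) := by
      by_cases h : Spor.vecU + w = 0
      · exact Or.inl h
      · exact Or.inr (norm_min (leechLattice.add_mem Spor.leechU.2 hx) h)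
    simp only [Finset.mem_insert, Finset.mem_singleton, s]
    rcases n1 with h | h
    · rw [show w = Spor.vecU from (sub_eq_zero.1 h).symm]
      norm_num [Spor.vecU]
    rcases n2 with h' | h'
    · rw [show w = -Spor.vecU from eq_neg_of_add_eq_zero_right h']
      norm_num [Spor.vecU]
    omega
  have hneg : ∀ k : ℤ, (minSet.filter fun w => s w = -k).card = (minSet.filter fun w => s w = k).card := by
    intro k
    refine Finset.card_nbij' (fun w => -w) (fun w => -w) ?_ ?_ (fun w _ => neg_neg w) (fun w _ => neg_neg w)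
    all_goals
      intro w hw
      simp only [Finset.mem_coe, Finset.mem_filter, mem_minSet, s, Pi.neg_apply] at hw ⊢
      exact ⟨⟨leechLattice.neg_mem hw.1.1, (norm_neg' w).trans hw.1.2⟩, by omega⟩
  have h8 : (minSet.filter fun w => s w = 8).card = 1 := by
    rw [Finset.card_eq_one]
    refine ⟨Spor.vecU, Finset.eq_singleton_iff_unique_mem.2 ⟨?_, ?_⟩⟩
    · simp [mem_minSet, s, Spor.vecU, norm_U, show (fun p => if p = none ∨ p = some 0 then (4:ℤ) else 0) = Spor.vecU from rfl,
        show Spor.vecU ∈ leechLattice from Spor.leechU.2]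
    · intro w hw
      simp only [Finset.mem_filter, mem_minSet, s] at hw
      have q1 := LeechModTwo.norm_sub Spor.vecU w
      rw [dot_U, norm_U, hw.1.2, hw.2] at q1
      by_contra hne
      have := norm_min (leechLattice.sub_mem Spor.leechU.2 hw.1.1) (sub_ne_zero.2 (Ne.symm hne))
      rw [show ((Spor.leechU : leechLattice) : GolayPt → ℤ) = Spor.vecU from rfl] at this
      omega
  have key : ∀ f : ℤ → ℤ, ∑ w ∈ minSet, f (s w) =
      ∑ k ∈ ({-8, -4, -2, 0, 2, 4, 8} : Finset ℤ), ((minSet.filter fun w => s w = k).card : ℤ) * f k := by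
    intro f
    rw [← Finset.sum_fiberwise_of_maps_to hrange]
    refine Finset.sum_congr rfl fun k _ => ?_
    rw [Finset.sum_congr rfl fun w hw => by rw [(Finset.mem_filter.1 hw).2], Finset.sum_const, nsmul_eq_mul]
  have k0 := key fun _ => 1
  have k2 := key fun x => x ^ 2
  have k4 := key fun x => x ^ 4
  simp only [Finset.sum_const, card_minSet, nsmul_eq_mul, mul_one] at k0
  rw [show ∑ w ∈ minSet, (fun x => x ^ 2) (s w) = 524160 from m2] at k2
  rw [show ∑ w ∈ minSet, (fun x => x ^ 4) (s w) = 3870720 from m4] at k4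
  simp only [Finset.sum_insert, Finset.mem_insert, Finset.mem_singleton, Finset.sum_singleton,
    Int.reduceNeg, Int.reduceEq, or_self, not_false_iff] at k0 k2 k4
  norm_num [hneg, h8] at k0 k2 k4
  have a1 := hneg 4
  have a2 := hneg 2
  simp only [s] at *
  omega

theorem census (v : GolayPt → ℤ) (hv : v ∈ leechLattice) (hvn : sqNorm v = 32) :
    {w : GolayPt → ℤ | w ∈ leechLattice ∧ sqNorm w = 32 ∧ dotInt v w = -16}.ncard = 4600 ∧
    {w : GolayPt → ℤ | w ∈ leechLattice ∧ sqNorm w = 32 ∧ dotInt v w = -8}.ncard = 47104 ∧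
    {w : GolayPt → ℤ | w ∈ leechLattice ∧ sqNorm w = 32 ∧ dotInt v w = 0}.ncard = 93150 := by
  classical
  obtain ⟨g, hg⟩ := to_vecU (x := ⟨v, hv⟩) hvn
  have key : ∀ d : ℤ, {w : GolayPt → ℤ | w ∈ leechLattice ∧ sqNorm w = 32 ∧ dotInt v w = 4 * d}.ncard =
      (minSet.filter fun w => w none + w (some 0) = d).card := by
    intro d
    rw [← Set.ncard_coe_finset]
    refine Set.ncard_congr (fun w hw => ((g • (⟨w, hw.1⟩ : leechLattice) : leechLattice) : GolayPt → ℤ)) ?_ ?_ ?_
    · intro w hw
      simp only [Finset.coe_filter, Set.mem_setOf_eq, mem_minSet]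
      refine ⟨⟨(g • (⟨w, hw.1⟩ : leechLattice)).2, (smul_norm g _).trans hw.2.1⟩, ?_⟩
      have h := smul_dot g ⟨v, hv⟩ ⟨w, hw.1⟩
      rw [hg, show ((Spor.leechU : leechLattice) : GolayPt → ℤ) = Spor.vecU from rfl, dot_U] at h
      have h' : dotInt v w = 4 * d := hw.2.2
      simp only at h
      omega
    · intro a b ha hb e
      exact congrArg Subtype.val (MulAction.injective g (Subtype.ext e) :
        (⟨a, ha.1⟩ : leechLattice) = ⟨b, hb.1⟩)
    · intro b hb
      simp only [Finset.coe_filter, Set.mem_setOf_eq, mem_minSet] at hb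
      refine ⟨((g⁻¹ • (⟨b, hb.1.1⟩ : leechLattice) : leechLattice) : GolayPt → ℤ),
        ⟨(g⁻¹ • (⟨b, hb.1.1⟩ : leechLattice)).2, (smul_norm g⁻¹ _).trans hb.1.2, ?_⟩, ?_⟩
      · have h := smul_dot g ⟨v, hv⟩ (g⁻¹ • ⟨b, hb.1.1⟩)
        rw [hg, smul_inv_smul, show ((Spor.leechU : leechLattice) : GolayPt → ℤ) = Spor.vecU from rfl, dot_U] at h
        have h' : b none + b (some 0) = d := hb.2
        simp only at h ⊢
        omega
      · simp
  obtain ⟨h1, h2, h3⟩ := census_base
  refine ⟨?_, ?_, ?_⟩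
  · rw [← h1, ← key (-4)]; norm_num
  · rw [← h2, ← key (-2)]; norm_num
  · rw [← h3, ← key 0]; norm_num

/-- splittings of a vector of sum of squares 48 -/
def splits (u : leechLattice) : Set leechLattice :=
  {v | sqNorm (v : GolayPt → ℤ) = 32 ∧ sqNorm ((u - v) : GolayPt → ℤ) = 32}

theorem splits_smul (g : Co0) (u : leechLattice) : g • splits u = splits (g • u) := by
  ext x
  rw [Set.mem_smul_set_iff_inv_smul_mem]
  have e : sqNorm ((u : GolayPt → ℤ) - ((g⁻¹ • x : leechLattice) : GolayPt → ℤ)) =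
      sqNorm (((g • u : leechLattice) : GolayPt → ℤ) - (x : GolayPt → ℤ)) := by
    rw [← AddSubgroup.coe_sub, ← AddSubgroup.coe_sub, ← smul_norm g, smul_sub', smul_inv_smul]
  show (_ ∧ _) ↔ (_ ∧ _)
  rw [smul_norm, e]

theorem count_splits (u : leechLattice) (hu : sqNorm (u : GolayPt → ℤ) = 48) : (splits u).ncard = 552 := by
  classical
  let A : Set leechLattice := {v | sqNorm v.1 = 32}
  let P : Set (leechLattice × leechLattice) := {p | sqNorm p.1.1 = 48 ∧ p.2 ∈ splits p.1}
  have hAimg : Subtype.val '' A = {x : GolayPt → ℤ | x ∈ leechLattice ∧ sqNorm x = 32} := by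
    ext x
    constructor
    · rintro ⟨v, hv, rfl⟩; exact ⟨v.2, hv⟩
    · rintro ⟨hx, hn⟩; exact ⟨⟨x, hx⟩, hn, rfl⟩
  have hAf : A.Finite := Set.Finite.of_finite_image (hAimg ▸ finite_vecs 32) Subtype.val_injective.injOn
  have hA : hAf.toFinset.card = 196560 := by
    rw [← Set.ncard_eq_toFinset_card _ hAf, ← count32, ← hAimg,
      Set.ncard_image_of_injective _ Subtype.val_injective]
  let U : Set leechLattice := {v | sqNorm v.1 = 48}
  have hUimg : Subtype.val '' U = {x : GolayPt → ℤ | x ∈ leechLattice ∧ sqNorm x = 48} := by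
    ext x
    constructor
    · rintro ⟨v, hv, rfl⟩; exact ⟨v.2, hv⟩
    · rintro ⟨hx, hn⟩; exact ⟨⟨x, hx⟩, hn, rfl⟩
  have hUf : U.Finite := Set.Finite.of_finite_image (hUimg ▸ finite_vecs 48) Subtype.val_injective.injOn
  have hU : hUf.toFinset.card = 16773120 := by
    rw [← Set.ncard_eq_toFinset_card _ hUf, ← count48, ← hUimg,
      Set.ncard_image_of_injective _ Subtype.val_injective]
  let S : Finset (leechLattice × leechLattice) := (hAf.toFinset ×ˢ hAf.toFinset).filter fun p =>
    dotInt p.1.1 p.2.1 = -8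
  have hdot : ∀ a b : leechLattice, sqNorm a.1 = 32 → sqNorm b.1 = 32 →
      (sqNorm (a + b).1 = 48 ↔ dotInt a.1 b.1 = -8) := by
    intro a b ha hb
    rw [AddSubgroup.coe_add, LeechModTwo.norm_add, ha, hb]
    omega
  have hS1 : S.card = 196560 * 47104 := by
    rw [Finset.card_eq_sum_card_fiberwise (f := Prod.fst) (t := hAf.toFinset) fun p hp =>
      (Finset.mem_product.1 (Finset.mem_filter.1 hp).1).1, Finset.sum_congr rfl fun a ha => ?_,
      Finset.sum_const, hA, smul_eq_mul]
    rw [← (census a.1 a.2 (hAf.mem_toFinset.1 ha)).2.1, ← Set.ncard_coe_finset]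
    refine Set.ncard_congr (fun p _ => p.2.1) ?_ ?_ ?_
    · intro p hp
      simp only [S, Finset.coe_filter, Finset.mem_filter, Finset.mem_product, Set.Finite.mem_toFinset,
        Set.mem_setOf_eq] at hp
      obtain ⟨⟨⟨-, h2⟩, h3⟩, rfl⟩ := hp
      exact ⟨p.2.2, h2, h3⟩
    · intro p q hp hq e
      simp only [S, Finset.coe_filter, Finset.mem_filter, Set.mem_setOf_eq] at hp hq
      exact Prod.ext (hp.2.trans hq.2.symm) (Subtype.ext e)
    · intro b hb
      refine ⟨(a, ⟨b, hb.1⟩), ?_, rfl⟩
      simp only [S, Finset.coe_filter, Finset.mem_filter, Finset.mem_product, Set.Finite.mem_toFinset,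
        Set.mem_setOf_eq]
      exact ⟨⟨⟨hAf.mem_toFinset.1 ha, hb.2.1⟩, hb.2.2⟩, trivial⟩
  have hfin : ∀ x : leechLattice, (splits x).Finite := fun x => hAf.subset fun v hv => hv.1
  have hconst : ∀ x ∈ hUf.toFinset, (splits x).ncard = (splits u).ncard := by
    intro x hx
    obtain ⟨g, hg⟩ := transitive48 u x hu (hUf.mem_toFinset.1 hx)
    rw [← hg, ← splits_smul]
    exact Set.ncard_smul_set g (splits u)
  have hS2 : S.card = 16773120 * (splits u).ncard := by
    rw [Finset.card_eq_sum_card_fiberwise (f := fun p => p.1 + p.2) (t := hUf.toFinset) fun p hp => by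
      simp only [S, Finset.coe_filter, Finset.mem_product, Set.Finite.mem_toFinset, Set.mem_setOf_eq] at hp
      rw [Finset.mem_coe, Set.Finite.mem_toFinset]
      exact (hdot _ _ hp.1.1 hp.1.2).2 hp.2,
      Finset.sum_congr rfl (g := fun _ => (splits u).ncard) fun x hx => ?_,
      Finset.sum_const, hU, smul_eq_mul]
    rw [← hconst x hx, ← Set.ncard_coe_finset]
    refine Set.ncard_congr (fun p _ => p.1) ?_ ?_ ?_
    · intro p hp
      simp only [S, Finset.coe_filter, Finset.mem_filter, Finset.mem_product, Set.Finite.mem_toFinset,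
        Set.mem_setOf_eq] at hp
      obtain ⟨⟨⟨h1, h2⟩, -⟩, rfl⟩ := hp
      refine ⟨h1, ?_⟩
      rw [← AddSubgroup.coe_sub, add_sub_cancel_left]
      exact h2
    · intro p q hp hq e
      simp only [S, Finset.coe_filter, Finset.mem_filter, Set.mem_setOf_eq] at hp hq
      refine Prod.ext e ?_
      have := hp.2.trans hq.2.symm
      rw [e] at this
      exact add_left_cancel this
    · intro a ha
      refine ⟨(a, x - a), ?_, rfl⟩
      simp only [S, Finset.coe_filter, Finset.mem_filter, Finset.mem_product, Set.Finite.mem_toFinset,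
        Set.mem_setOf_eq]
      have hb : sqNorm (x - a).1 = 32 := by rw [AddSubgroup.coe_sub]; exact ha.2
      refine ⟨⟨⟨ha.1, hb⟩, (hdot a (x - a) ha.1 hb).1 ?_⟩, add_sub_cancel _ _⟩
      rw [add_sub_cancel]
      exact hUf.mem_toFinset.1 hx
  omega

end CfsgLib.Spor.LeechCensus
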