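import Cfsg.Agent.Spor.LeechOrbits
import Cfsg.Agent.Spor.FlagStd

/-!
Pairs of shortest vectors with a given product: all are equivalent under the isometry group.
-/

set_option autoImplicit false

namespace CfsgLib.Spor.LeechPairs

open Cfsg CfsgLib.Spor CfsgLib.Spor.LeechFacts CfsgLib.Spor.LeechCount CfsgLib.Spor.LeechModTwo
  CfsgLib.Spor.LeechFrame CfsgLib.Spor.LeechCross CfsgLib.Spor.LeechOrbits
open scoped Pointwise

theorem octad_four {o : Finset GolayPt} (ho : o ∈ octads) {t : Finset GolayPt} (ht : t ⊆ o)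
    (htc : t.card = 4) : ∃ o' ∈ octads, o ∩ o' = t := by
  obtain ⟨z, hz⟩ := Finset.card_pos.1 (show 0 < oᶜ.card by
    rw [Finset.card_compl, (mem_octads.1 ho).2]; decide)
  rw [Finset.mem_compl] at hz
  obtain ⟨o', ⟨ho', hs⟩, -⟩ := existsUnique_octad (s := insert z t) (by
    rw [Finset.card_insert_of_notMem (fun h => hz (ht h)), htc])
  refine ⟨o', ho', ?_⟩
  have hsub : t ⊆ o ∩ o' := Finset.subset_inter ht fun x hx => hs (Finset.mem_insert_of_mem hx)
  refine (Finset.eq_of_subset_of_card_le hsub ?_).symm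
  by_contra hgt
  have := octad_ext ho ho' (by omega)
  exact hz (this ▸ hs (Finset.mem_insert_self _ _))

theorem pair_on_octad {o : Finset GolayPt} (ho : o ∈ octads) {a b : GolayPt} (ha : a ∈ o) (hb : b ∈ o)
    (hab : a ≠ b) : ∃ c ∈ Code, c ∩ o = {a, b} := by
  classical
  obtain ⟨t, ht, htc⟩ := Finset.exists_subset_card_eq (s := (o.erase a).erase b) (n := 3) (by
    rw [Finset.card_erase_of_mem (Finset.mem_erase.2 ⟨Ne.symm hab, hb⟩), Finset.card_erase_of_mem ha,
      (mem_octads.1 ho).2]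
    norm_num)
  have hat : a ∉ t := fun h => (Finset.mem_erase.1 (Finset.mem_of_mem_erase (ht h))).1 rfl
  have hbt : b ∉ t := fun h => (Finset.mem_erase.1 (ht h)).1 rfl
  have hto : t ⊆ o := fun x hx => Finset.mem_of_mem_erase (Finset.mem_of_mem_erase (ht hx))
  obtain ⟨o1, ho1, e1⟩ := octad_four ho (Finset.insert_subset ha hto)
    (by rw [Finset.card_insert_of_notMem hat, htc])
  obtain ⟨o2, ho2, e2⟩ := octad_four ho (Finset.insert_subset hb hto)
    (by rw [Finset.card_insert_of_notMem hbt, htc])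
  refine ⟨symmDiff o1 o2, symmDiff_mem_code (mem_octads.1 ho1).1 (mem_octads.1 ho2).1, ?_⟩
  ext x
  have h1 := Finset.ext_iff.1 e1 x
  have h2 := Finset.ext_iff.1 e2 x
  simp only [Finset.mem_inter, Finset.mem_insert] at h1 h2
  simp only [Finset.mem_inter, Finset.mem_symmDiff, Finset.mem_insert, Finset.mem_singleton]
  constructor
  · rintro ⟨⟨g1, g2⟩ | ⟨g1, g2⟩, hx⟩
    · rcases h1.1 ⟨hx, g1⟩ with e | e
      · exact Or.inl e
      · exact absurd (h2.2 (Or.inr e)).2 g2
    · rcases h2.1 ⟨hx, g1⟩ with e | e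
      · exact Or.inr e
      · exact absurd (h1.2 (Or.inr e)).2 g2
  · rintro (rfl | rfl)
    · refine ⟨Or.inl ⟨(h1.2 (Or.inl rfl)).2, fun g => ?_⟩, ha⟩
      rcases h2.1 ⟨ha, g⟩ with e | e
      · exact hab e
      · exact hat e
    · refine ⟨Or.inr ⟨(h2.2 (Or.inl rfl)).2, fun g => ?_⟩, hb⟩
      rcases h1.1 ⟨hb, g⟩ with e | e
      · exact hab e.symm
      · exact hbt e

theorem even_on_octad {o : Finset GolayPt} (ho : o ∈ octads) : ∀ e : Finset GolayPt, e ⊆ o →
    Even e.card → ∃ c ∈ Code, c ∩ o = e := by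
  classical
  intro e
  induction e using Finset.strongInduction with
  | _ e ih =>
    intro he hev
    rcases e.eq_empty_or_nonempty with h | ⟨a, ha⟩
    · exact ⟨∅, empty_mem_code, by rw [h]; simp⟩
    obtain ⟨b, hb⟩ : (e.erase a).Nonempty := by
      rw [← Finset.card_pos, Finset.card_erase_of_mem ha]
      have := Finset.card_pos.2 ⟨a, ha⟩
      rw [Nat.even_iff] at hev
      omega
    obtain ⟨hba, hbe⟩ := Finset.mem_erase.1 hb
    set e' := (e.erase a).erase b with he'
    have hlt : e' ⊂ e := lt_of_le_of_lt (Finset.erase_subset _ _) (Finset.erase_ssubset ha)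
    have hsub : e' ⊆ o := fun x hx => he (Finset.mem_of_mem_erase (Finset.mem_of_mem_erase hx))
    have hev' : Even e'.card := by
      rw [he', Finset.card_erase_of_mem hb, Finset.card_erase_of_mem ha]
      rw [Nat.even_iff] at hev ⊢
      omega
    obtain ⟨c, hc, hce⟩ := ih e' hlt hsub hev'
    obtain ⟨d, hd, hde⟩ := pair_on_octad ho (he ha) (he hbe) (Ne.symm hba)
    refine ⟨symmDiff c d, symmDiff_mem_code hc hd, ?_⟩
    ext x
    have h1 := Finset.ext_iff.1 hce x
    have h2 := Finset.ext_iff.1 hde x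
    simp only [Finset.mem_inter, Finset.mem_insert, Finset.mem_singleton, he', Finset.mem_erase] at h1 h2
    simp only [Finset.mem_inter, Finset.mem_symmDiff]
    constructor
    · rintro ⟨⟨g1, -⟩ | ⟨g1, -⟩, hx⟩
      · exact (h1.1 ⟨g1, hx⟩).2.2
      · rcases h2.1 ⟨g1, hx⟩ with rfl | rfl
        · exact ha
        · exact hbe
    · intro hx
      refine ⟨?_, he hx⟩
      by_cases hxab : x = a ∨ x = b
      · refine Or.inr ⟨(h2.2 hxab).1, fun g => ?_⟩
        obtain ⟨g1, g2, -⟩ := h1.1 ⟨g, he hx⟩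
        tauto
      · refine Or.inl ⟨(h1.2 ⟨fun h => hxab (Or.inr h), fun h => hxab (Or.inl h), hx⟩).1, fun g => ?_⟩
        exact hxab (h2.1 ⟨g, he hx⟩)

theorem signs_octad {o : Finset GolayPt} (ho : o ∈ octads) {q : GolayPt} (hq : q ∉ o) (e : Finset GolayPt)
    (he : e ⊆ o) (hev : Even e.card) (b : Bool) :
    ∃ c ∈ Code, c ∩ o = e ∧ (q ∈ c ↔ b = true) := by
  obtain ⟨c, hc, hce⟩ := even_on_octad ho e he hev
  by_cases hb : q ∈ c ↔ b = true
  · exact ⟨c, hc, hce, hb⟩
  refine ⟨symmDiff c oᶜ, symmDiff_mem_code hc (compl_mem_code (mem_octads.1 ho).1), ?_, ?_⟩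
  · rw [← hce]
    ext x
    simp only [Finset.mem_inter, Finset.mem_symmDiff, Finset.mem_compl]
    tauto
  · simp only [Finset.mem_symmDiff, Finset.mem_compl]
    tauto

/-- the three shapes of a shortest vector -/
theorem shapes32 {x : GolayPt → ℤ} (hx : x ∈ leechLattice) (hn : sqNorm x = 32) :
    (∃ i j, i ≠ j ∧ (x i = 4 ∨ x i = -4) ∧ (x j = 4 ∨ x j = -4) ∧ ∀ l, l ≠ i → l ≠ j → x l = 0) ∨
    (∃ o ∈ octads, (∀ l ∈ o, x l = 2 ∨ x l = -2) ∧ ∀ l, l ∉ o → x l = 0) ∨
    ∃ i, (x i = 3 ∨ x i = -3) ∧ ∀ l, l ≠ i → x l = 1 ∨ x l = -1 := by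
  classical
  rcases leech_cases hx with ⟨y, rfl, hc, h4⟩ | ho
  · have hs : ∑ i, y i ^ 2 = 8 := by rw [norm_two_mul] at hn; omega
    obtain ⟨hlo, h0, hsum⟩ := pm_one (oddSupp y) rfl
    have hcomp : ∀ i, i ∉ oddSupp y → (2 : ℤ) ∣ y i := fun i hi => by
      by_contra h; exact hi (mem_oddSupp.2 h)
    have hd : (4 : ℤ) ∣ ∑ i ∈ (oddSupp y)ᶜ, y i ^ 2 := Finset.dvd_sum fun i hi => by
      obtain ⟨k, hk⟩ := hcomp i (Finset.mem_compl.1 hi)
      exact ⟨k ^ 2, by rw [hk]; ring⟩
    rcases (oddSupp y).eq_empty_or_nonempty with he | hne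
    · left
      have heven : ∀ i, (2 : ℤ) ∣ y i := fun i => hcomp i (by rw [he]; exact Finset.notMem_empty i)
      have hbd : ∀ i, y i = 0 ∨ y i = 2 ∨ y i = -2 := fun i => by
        have hle : y i ^ 2 ≤ 8 := le_of_le_of_eq
          (Finset.single_le_sum (f := fun j => y j ^ 2) (fun j _ => sq_nonneg _) (Finset.mem_univ i)) hs
        obtain ⟨hl, hu⟩ := small_of_sq (b := 2) (by norm_num) (by omega : y i ^ 2 < (2 + 1) ^ 2)
        have := heven i
        omega
      have h4T : ∀ i, y i ^ 2 = if y i ≠ 0 then 4 else 0 := fun i => by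
        rcases hbd i with e | e | e <;> simp [e]
      rw [Finset.sum_congr rfl fun i _ => h4T i, ← Finset.sum_filter, Finset.sum_const] at hs
      simp only [nsmul_eq_mul] at hs
      obtain ⟨i, j, hij, hT⟩ := Finset.card_eq_two.1 (show (Finset.univ.filter fun i => y i ≠ 0).card = 2 by omega)
      have hmem : ∀ l, y l ≠ 0 ↔ l = i ∨ l = j := fun l => by
        have := Finset.ext_iff.1 hT l
        simpa using this
      refine ⟨i, j, hij, ?_, ?_, fun l h1 h2 => ?_⟩
      · have := (hmem i).2 (Or.inl rfl)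
        have := hbd i
        show 2 * y i = 4 ∨ 2 * y i = -4
        omega
      · have := (hmem j).2 (Or.inr rfl)
        have := hbd j
        show 2 * y j = 4 ∨ 2 * y j = -4
        omega
      · have : y l = 0 := by
          by_contra h
          rcases (hmem l).1 h with e | e
          · exact h1 e
          · exact h2 e
        show 2 * y l = 0
        omega
    · right; left
      have h8 : (oddSupp y).card = 8 := by
        have := hne.card_pos
        rcases card_cases hc with h | h | h | h | h <;> omega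
      have hpm := pm_one_eq rfl (show ∑ i ∈ oddSupp y, y i ^ 2 = ((oddSupp y).card : ℤ) by omega)
      have hz : ∑ i ∈ (oddSupp y)ᶜ, y i ^ 2 = 0 := by omega
      refine ⟨oddSupp y, mem_octads.2 ⟨hc, h8⟩, fun l hl => ?_, fun l hl => ?_⟩
      · have := hpm l hl
        show 2 * y l = 2 ∨ 2 * y l = -2
        omega
      · have := pow_eq_zero_iff (n := 2) (by norm_num) |>.1
          ((Finset.sum_eq_zero_iff_of_nonneg fun i _ => sq_nonneg (y i)).1 hz l (Finset.mem_compl.2 hl))
        show 2 * y l = 0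
        omega
  · right; right
    have hv := odd_values ho hn (by norm_num)
    have hs : ∑ i, oddW (x i) = 1 := by
      have := norm_oddW hv
      rw [hn] at this
      omega
    obtain ⟨i, -, hi⟩ := Finset.exists_ne_zero_of_sum_ne_zero (s := Finset.univ) (f := fun i => oddW (x i))
      (by omega)
    refine ⟨i, ?_, fun l hl => ?_⟩
    · have := hs ▸ Finset.single_le_sum (f := fun j => oddW (x j)) (fun j _ => Nat.zero_le _) (Finset.mem_univ i)
      rcases oddW_cases (hv i) with g | g | g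
      · exact absurd g.1 hi
      · exact (abs_eq (by norm_num)).1 g.2
      · omega
    · have h := Finset.sum_le_sum_of_subset (f := fun m => oddW (x m)) (Finset.subset_univ {l, i})
      rw [Finset.sum_pair hl, hs] at h
      have hi' : 1 ≤ oddW (x i) := Nat.one_le_iff_ne_zero.2 hi
      rcases oddW_cases (hv l) with g | g | g
      · exact (abs_eq (by norm_num)).1 g.2
      all_goals omega

theorem four_shape {x : GolayPt → ℤ} (hx : x ∈ leechLattice) (hn : sqNorm x = 32) {i : GolayPt}
    (hi : x i = 4 ∨ x i = -4) :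
    ∃ j, j ≠ i ∧ (x j = 4 ∨ x j = -4) ∧ ∀ l, l ≠ i → l ≠ j → x l = 0 := by
  rcases shapes32 hx hn with ⟨a, b, hab, ha, hb, h0⟩ | ⟨o, -, h1, h2⟩ | ⟨a, ha, h1⟩
  · by_cases hia : i = a
    · subst hia; exact ⟨b, Ne.symm hab, hb, h0⟩
    · by_cases hib : i = b
      · subst hib; exact ⟨a, hab, ha, fun l g1 g2 => h0 l g2 g1⟩
      · have := h0 i hia hib; omega
  · by_cases hio : i ∈ o
    · have := h1 i hio; omega
    · have := h2 i hio; omega
  · by_cases hia : i = a
    · subst hia; omega
    · have := h1 i hia; omega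

theorem dot_two (w : GolayPt → ℤ) {x : GolayPt → ℤ} {i j : GolayPt} (hij : i ≠ j)
    (h0 : ∀ l, l ≠ i → l ≠ j → x l = 0) : dotInt x w = x i * w i + x j * w j := by
  rw [dotInt, ← Finset.sum_pair (f := fun l => x l * w l) hij]
  refine (Finset.sum_subset (Finset.subset_univ _) fun l _ hl => ?_).symm
  simp only [Finset.mem_insert, Finset.mem_singleton, not_or] at hl
  rw [h0 l hl.1 hl.2, zero_mul]

theorem norm_two_pts {p : GolayPt → ℤ} {j k : GolayPt} (hjk : j ≠ k) (hj : p j = 4 ∨ p j = -4)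
    (hk : p k = 4 ∨ p k = -4) (h0 : ∀ l, l ≠ j → l ≠ k → p l = 0) :
    p ∈ leechLattice ∧ sqNorm p = 32 := by
  refine ⟨mem_leechLattice.2 (inLeech_of_four (fun l => ?_) ?_), ?_⟩
  · by_cases h1 : l = j
    · subst h1; omega
    by_cases h2 : l = k
    · subst h2; omega
    rw [h0 l h1 h2]; exact dvd_zero _
  · have e : ∑ l, p l = p j + p k := by
      rw [← Finset.sum_pair (f := p) hjk]
      refine (Finset.sum_subset (Finset.subset_univ _) fun l _ hl => ?_).symm
      simp only [Finset.mem_insert, Finset.mem_singleton, not_or] at hl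
      exact h0 l hl.1 hl.2
    omega
  · rw [← dot_self, dot_two p hjk h0]
    rcases hj with e | e <;> rcases hk with e' | e' <;> rw [e, e'] <;> norm_num

theorem dot_U (w : GolayPt → ℤ) : dotInt Spor.vecU w = 4 * (w none + w (some 0)) := by
  rw [dot_two (i := none) (j := some 0) w (by simp) fun l h1 h2 => by simp [Spor.vecU, h1, h2]]
  simp [Spor.vecU]
  ring

theorem norm_U : sqNorm Spor.vecU = 32 := by decide +kernel

theorem dot_p_U {j k : GolayPt} (hj : j ≠ none ∧ j ≠ some 0) (hk : k ≠ none ∧ k ≠ some 0) (hjk : j ≠ k)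
    {p : GolayPt → ℤ} (h0 : ∀ l, l ≠ j → l ≠ k → p l = 0) : dotInt Spor.vecU p = 0 := by
  rw [dot_comm', dot_two _ hjk h0]
  simp [Spor.vecU, hj.1, hj.2, hk.1, hk.2]

/-- the vector `(4, -4)` on the base pair -/
def minusU : GolayPt → ℤ := fun l => if l = none then 4 else if l = some 0 then -4 else 0

theorem minusU_facts : minusU ∈ leechLattice ∧ sqNorm minusU = 32 ∧ dotInt Spor.vecU minusU = 0 := by
  obtain ⟨h1, h2⟩ := norm_two_pts (p := minusU) (j := none) (k := some 0) (by simp) (Or.inl rfl)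
    (Or.inr (by simp [minusU])) fun l g1 g2 => by simp [minusU, g1, g2]
  refine ⟨h1, h2, ?_⟩
  rw [dot_U]; simp [minusU]

theorem dot_minusU (w : GolayPt → ℤ) : dotInt minusU w = 4 * (w none - w (some 0)) := by
  rw [dot_two (i := none) (j := some 0) w (by simp) fun l h1 h2 => by simp [minusU, h1, h2]]
  simp [minusU]
  ring

theorem dot_neg_left (x y : GolayPt → ℤ) : dotInt (-x) y = -dotInt x y := by
  simp [dotInt]

theorem norm_neg' (x : GolayPt → ℤ) : sqNorm (-x) = sqNorm x := by simp [sqNorm]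

/-- a pair at base: existence of a long vector -/
theorem over16 {w : GolayPt → ℤ} (hw : w ∈ leechLattice) (hn : sqNorm w = 32)
    (hd : dotInt Spor.vecU w = 16) :
    ∃ p ∈ leechLattice, sqNorm p = 32 ∧ dotInt Spor.vecU p = 0 ∧ dotInt p w = 16 := by
  classical
  rw [dot_U] at hd
  obtain ⟨hm1, hm2, hm3⟩ := minusU_facts
  have hneg : dotInt Spor.vecU (-minusU) = 0 := by rw [dot_comm', dot_neg_left, dot_comm', hm3, neg_zero]
  rcases shapes32 hw hn with ⟨a, b, hab, ha, hb, h0⟩ | ⟨o, ho, h1, h2⟩ | ⟨a, ha, h1⟩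
  · have hv : ∀ l, w l = 4 ∨ w l = -4 ∨ w l = 0 := fun l => by
      by_cases g1 : l = a
      · subst g1; omega
      by_cases g2 : l = b
      · subst g2; omega
      exact Or.inr (Or.inr (h0 l g1 g2))
    have := hv none
    have := hv (some 0)
    by_cases g : w none = 4
    · exact ⟨minusU, hm1, hm2, hm3, by rw [dot_minusU]; omega⟩
    · exact ⟨-minusU, leechLattice.neg_mem hm1, (norm_neg' _).trans hm2, hneg,
        by rw [dot_neg_left, dot_minusU]; omega⟩
  · have hv : ∀ l, w l = 2 ∨ w l = -2 ∨ w l = 0 := fun l => by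
      by_cases g : l ∈ o
      · have := h1 l g; omega
      · exact Or.inr (Or.inr (h2 l g))
    have := hv none
    have := hv (some 0)
    have g1 : none ∈ o := by by_contra g; have := h2 _ g; omega
    have g2 : some 0 ∈ o := by by_contra g; have := h2 _ g; omega
    obtain ⟨t, ht, htc⟩ := Finset.exists_subset_card_eq (s := (o.erase none).erase (some 0)) (n := 2) (by
      rw [Finset.card_erase_of_mem (Finset.mem_erase.2 ⟨by simp, g2⟩), Finset.card_erase_of_mem g1,
        (mem_octads.1 ho).2]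
      norm_num)
    obtain ⟨j, k, hjk, rfl⟩ := Finset.card_eq_two.1 htc
    have hj := ht (Finset.mem_insert_self j {k})
    have hk := ht (Finset.mem_insert_of_mem (Finset.mem_singleton_self k))
    simp only [Finset.mem_erase] at hj hk
    let p : GolayPt → ℤ := fun l => if l = j ∨ l = k then 2 * w l else 0
    have h0 : ∀ l, l ≠ j → l ≠ k → p l = 0 := fun l a b => by simp [p, a, b]
    obtain ⟨hp, hpn⟩ := norm_two_pts (p := p) hjk
      (by have := h1 j hj.2.2; simp [p]; omega) (by have := h1 k hk.2.2; simp [p]; omega) h0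
    refine ⟨p, hp, hpn, dot_p_U ⟨hj.2.1, hj.1⟩ ⟨hk.2.1, hk.1⟩ hjk h0, ?_⟩
    rw [dot_two w hjk h0]
    simp only [p, true_or, or_true, if_true]
    rcases h1 j hj.2.2 with e | e <;> rcases h1 k hk.2.2 with e' | e' <;> rw [e, e'] <;> norm_num
  · have hv : ∀ l, w l = 1 ∨ w l = -1 ∨ w l = 3 ∨ w l = -3 := fun l => by
      by_cases g : l = a
      · subst g; omega
      · have := h1 l g; omega
    have hwo : ∀ l, ¬(2 : ℤ) ∣ w l := fun l => by have := hv l; omega
    have := hv none
    have := hv (some 0)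
    have haa : a = none ∨ a = some 0 := by
      by_contra g
      have := h1 none fun e => g (Or.inl e.symm)
      have := h1 (some 0) fun e => g (Or.inr e.symm)
      omega
    obtain ⟨t, hts, htc⟩ := Finset.exists_superset_card_eq (s := ({none, some 0} : Finset GolayPt)) (n := 5)
      (by simp) (by simp)
    obtain ⟨o, ⟨ho, hto⟩, -⟩ := existsUnique_octad htc
    have g1 : none ∈ o := hto (hts (by simp))
    have g2 : some 0 ∈ o := hto (hts (by simp))
    let e : GolayPt → ℤ := fun l => if l ∈ o then 1 else 0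
    have he : oddSupp e = o := by
      ext l; rw [mem_oddSupp]; by_cases h : l ∈ o <;> simp [e, h]
    have hem : (fun l => 2 * e l) ∈ leechLattice :=
      two_mul_mem (he.symm ▸ (mem_octads.1 ho).1) (by simp [e, (mem_octads.1 ho).2])
    have h8 : (8 : ℤ) ∣ 2 * ∑ l ∈ o, w l := by
      have h := leech_dot_dvd hw hem
      rw [dotInt, Finset.sum_congr rfl fun l _ => show w l * (2 * e l) = if l ∈ o then 2 * w l else 0 by
        simp only [e]; split <;> ring, Finset.sum_ite_mem, Finset.univ_inter, ← Finset.mul_sum] at h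
      exact h
    set R := (o.erase none).erase (some 0) with hR
    have hRc : R.card = 6 := by
      rw [hR, Finset.card_erase_of_mem (Finset.mem_erase.2 ⟨by simp, g2⟩), Finset.card_erase_of_mem g1,
        (mem_octads.1 ho).2]
    have split : ∀ F : GolayPt → ℤ, (∀ l, l ∉ o → F l = 0) →
        ∑ l, F l = F none + F (some 0) + ∑ l ∈ R, F l := by
      intro F hF
      rw [← Finset.sum_subset (Finset.subset_univ o) fun l _ hl => hF l hl,
        ← Finset.add_sum_erase o F g1, ← Finset.add_sum_erase (o.erase none) F (Finset.mem_erase.2 ⟨by simp, g2⟩),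
        add_assoc]
    have hR1 : ∀ l ∈ R, w l = 1 ∨ w l = -1 := fun l hl => by
      refine h1 l fun e => ?_
      simp only [hR, Finset.mem_erase] at hl
      rcases haa with g | g
      · exact hl.2.1 (e.trans g)
      · exact hl.1 (e.trans g)
    have hsum : ∑ l ∈ o, w l = w none + w (some 0) + ∑ l ∈ R, w l := by
      rw [hR, ← Finset.add_sum_erase o w g1,
        ← Finset.add_sum_erase (o.erase none) w (Finset.mem_erase.2 ⟨by simp, g2⟩), add_assoc]
    let s : ℤ := if w none = 3 then 1 else -1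
    let z : GolayPt → ℤ := fun l => if l = none then s else if l = some 0 then -s else if l ∈ o then w l else 0
    have hz1 : z none = s := if_pos rfl
    have hz2 : z (some 0) = -s := by simp [z]
    have hzR : ∀ l ∈ R, z l = w l := fun l hl => by
      simp only [hR, Finset.mem_erase] at hl
      simp [z, hl.1, hl.2.1, hl.2.2]
    have hzo : ∀ l, l ∉ o → z l = 0 := fun l hl => by
      simp [z, hl, show l ≠ none from fun e => hl (e ▸ g1), show l ≠ some 0 from fun e => hl (e ▸ g2)]
    have hs1 : s = 1 ∨ s = -1 := by simp only [s]; split <;> omega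
    have hzs : oddSupp z = o := by
      ext l
      rw [mem_oddSupp]
      by_cases hl : l ∈ o
      · simp only [hl, iff_true]
        by_cases g1' : l = none
        · subst g1'; rw [hz1]; omega
        by_cases g2' : l = some 0
        · subst g2'; rw [hz2]; omega
        rw [show z l = w l from by simp [z, g1', g2', hl]]
        exact hwo l
      · rw [hzo l hl]; simp [hl]
    have hR2 : ∑ l ∈ R, w l ^ 2 = 6 := by
      rw [Finset.sum_congr rfl fun l hl => show w l ^ 2 = 1 from sq_eq_one_iff.2 (hR1 l hl), Finset.sum_const, hRc]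
      norm_num
    refine ⟨fun l => 2 * z l, two_mul_mem (hzs.symm ▸ (mem_octads.1 ho).1) ?_, ?_, ?_, ?_⟩
    · rw [split z hzo, hz1, hz2, Finset.sum_congr rfl hzR]
      show (4 : ℤ) ∣ s + -s + ∑ l ∈ R, w l
      omega
    · rw [norm_two_mul, split (fun l => z l ^ 2) (fun l hl => by rw [hzo l hl]; ring), hz1, hz2,
        Finset.sum_congr rfl fun l hl => show z l ^ 2 = w l ^ 2 by rw [hzR l hl], hR2]
      rcases hs1 with g | g <;> rw [g] <;> norm_num
    · rw [dot_U, hz1, hz2]; ring
    · rw [dotInt, split (fun l => 2 * z l * w l) (fun l hl => by rw [hzo l hl]; ring), hz1, hz2,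
        Finset.sum_congr rfl fun l hl => show 2 * z l * w l = 2 * w l ^ 2 by rw [hzR l hl]; ring,
        ← Finset.mul_sum, hR2]
      simp only [s]
      split <;> omega

theorem over8 {w : GolayPt → ℤ} (hw : w ∈ leechLattice) (hn : sqNorm w = 32)
    (hd : dotInt Spor.vecU w = 8) :
    ∃ p ∈ leechLattice, sqNorm p = 32 ∧ dotInt Spor.vecU p = 0 ∧ dotInt p w = 8 := by
  classical
  rw [dot_U] at hd
  obtain ⟨hm1, hm2, hm3⟩ := minusU_facts
  have hneg : dotInt Spor.vecU (-minusU) = 0 := by rw [dot_comm', dot_neg_left, dot_comm', hm3, neg_zero]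
  rcases shapes32 hw hn with ⟨a, b, hab, ha, hb, h0⟩ | ⟨o, ho, h1, h2⟩ | ⟨a, ha, h1⟩
  · exfalso
    have hv : ∀ l, w l = 4 ∨ w l = -4 ∨ w l = 0 := fun l => by
      by_cases g1 : l = a
      · subst g1; omega
      by_cases g2 : l = b
      · subst g2; omega
      exact Or.inr (Or.inr (h0 l g1 g2))
    have := hv none
    have := hv (some 0)
    omega
  · have hv : ∀ l, w l = 2 ∨ w l = -2 ∨ w l = 0 := fun l => by
      by_cases g : l ∈ o
      · have := h1 l g; omega
      · exact Or.inr (Or.inr (h2 l g))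
    have := hv none
    have := hv (some 0)
    by_cases g : w none = 2
    · exact ⟨minusU, hm1, hm2, hm3, by rw [dot_minusU]; omega⟩
    · exact ⟨-minusU, leechLattice.neg_mem hm1, (norm_neg' _).trans hm2, hneg,
        by rw [dot_neg_left, dot_minusU]; omega⟩
  · obtain ⟨t, ht, htc⟩ := Finset.exists_subset_card_eq
      (s := (((Finset.univ : Finset GolayPt).erase none).erase (some 0)).erase a) (n := 2) (by
      have g1 := Finset.pred_card_le_card_erase
        (a := a) (s := ((Finset.univ : Finset GolayPt).erase none).erase (some 0))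
      rw [Finset.card_erase_of_mem (Finset.mem_erase.2 ⟨by simp, Finset.mem_univ _⟩),
        Finset.card_erase_of_mem (Finset.mem_univ _), Finset.card_univ,
        show Fintype.card GolayPt = 24 from rfl] at g1
      omega)
    obtain ⟨j, k, hjk, rfl⟩ := Finset.card_eq_two.1 htc
    have hj := ht (Finset.mem_insert_self j {k})
    have hk := ht (Finset.mem_insert_of_mem (Finset.mem_singleton_self k))
    simp only [Finset.mem_erase] at hj hk
    let p : GolayPt → ℤ := fun l => if l = j ∨ l = k then 4 * w l else 0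
    have h0 : ∀ l, l ≠ j → l ≠ k → p l = 0 := fun l a b => by simp [p, a, b]
    obtain ⟨hp, hpn⟩ := norm_two_pts (p := p) hjk
      (by have := h1 j hj.1; simp [p]; omega) (by have := h1 k hk.1; simp [p]; omega) h0
    refine ⟨p, hp, hpn, dot_p_U ⟨hj.2.2.1, hj.2.1⟩ ⟨hk.2.2.1, hk.2.1⟩ hjk h0, ?_⟩
    rw [dot_two w hjk h0]
    simp only [p, true_or, or_true, if_true]
    rcases h1 j hj.1 with e | e <;> rcases h1 k hk.1 with e' | e' <;> rw [e, e'] <;> norm_num

theorem to_frame {v w : leechLattice} {a : GolayPt → ℤ} (ha : a ∈ leechLattice) (han : sqNorm a = 64)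
    {d d' : ℤ} (hv : dotInt a v.1 = 8 * d) (hw : dotInt a w.1 = 8 * d') :
    ∃ (g : Co0) (i : GolayPt) (s : ℤ), (s = 1 ∨ s = -1) ∧
      ((g • v : leechLattice) : GolayPt → ℤ) i = s * d ∧ ((g • w : leechLattice) : GolayPt → ℤ) i = s * d' := by
  obtain ⟨g, hg⟩ := to_std ha han
  obtain ⟨i, t, ht, he⟩ := hg ⟨a, ha⟩ ⟨ha, rfl, cong_refl _⟩
  have h1 := smul_dot g v ⟨a, ha⟩
  have h2 := smul_dot g w ⟨a, ha⟩
  rw [he, dot_single, dot_comm' v.1] at h1
  rw [he, dot_single, dot_comm' w.1] at h2
  rw [hv] at h1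
  rw [hw] at h2
  rcases ht with rfl | rfl
  · exact ⟨g, i, 1, Or.inl rfl, by omega, by omega⟩
  · exact ⟨g, i, -1, Or.inr rfl, by omega, by omega⟩

theorem long_of {d : ℤ} (hd : ∀ {w : GolayPt → ℤ}, w ∈ leechLattice → sqNorm w = 32 →
      dotInt Spor.vecU w = d → ∃ p ∈ leechLattice, sqNorm p = 32 ∧ dotInt Spor.vecU p = 0 ∧ dotInt p w = d)
    (v w : leechLattice) (hv : sqNorm v.1 = 32) (hw : sqNorm w.1 = 32) (hvw : dotInt v.1 w.1 = d) :
    ∃ a ∈ leechLattice, sqNorm a = 64 ∧ dotInt a v.1 = 32 ∧ dotInt a w.1 = 2 * d := by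
  obtain ⟨g, hg⟩ := to_vecU hv
  have e : ∀ u : leechLattice, dotInt Spor.vecU ((g • u : leechLattice) : GolayPt → ℤ) = dotInt v.1 u.1 := fun u => by
    rw [← smul_dot g v u, hg]; rfl
  obtain ⟨p, hp, hpn, hUp, hpw⟩ := hd (g • w).2 ((smul_norm g w).trans hw) ((e w).trans hvw)
  set q := g⁻¹ • (⟨p, hp⟩ : leechLattice) with hq
  have hgq : g • q = ⟨p, hp⟩ := smul_inv_smul _ _
  refine ⟨v.1 + q.1, leechLattice.add_mem v.2 q.2, ?_, ?_, ?_⟩
  · have h1 : sqNorm q.1 = 32 := by rw [← smul_norm g q, hgq]; exact hpn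
    have h2 : dotInt v.1 q.1 = 0 := by rw [← e q, hgq]; exact hUp
    rw [LeechModTwo.norm_add, hv, h1, h2]; norm_num
  · have h2 : dotInt v.1 q.1 = 0 := by rw [← e q, hgq]; exact hUp
    rw [dot_add_left, dot_self, hv, dot_comm', h2]; norm_num
  · have h3 : dotInt q.1 w.1 = d := by rw [← smul_dot g q w, hgq]; exact hpw
    rw [dot_add_left, hvw, h3]; ring

theorem mono_smul_apply (σ : Equiv.Perm GolayPt) (hσ : σ ∈ M24) (c : Finset GolayPt) (hc : c ∈ Code)
    (v : leechLattice) (l : GolayPt) :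
    ((mono (⟨σ, hσ⟩, ⟨c, hc⟩) • v : leechLattice) : GolayPt → ℤ) (σ l) =
      if σ l ∈ c then -(v.1 l) else v.1 l := by
  rw [mono_apply, signedPerm, Equiv.symm_apply_apply]

theorem form16 (v w : leechLattice) (hv : sqNorm v.1 = 32) (hw : sqNorm w.1 = 32)
    (hd : dotInt v.1 w.1 = 16) :
    ∃ g : Co0, g • v = lpair none (some 0) ∧ g • w = lpair none (some 1) := by
  classical
  obtain ⟨a, ha, han, hav, haw⟩ := long_of (fun h1 h2 h3 => over16 h1 h2 h3) v w hv hw hd
  obtain ⟨g, i, s, hs, hxi, hyi⟩ := to_frame (d := 4) (d' := 4) ha han (by rw [hav]; norm_num)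
    (by rw [haw]; norm_num)
  set x := g • v with hx
  set y := g • w with hy
  have hxy : dotInt x.1 y.1 = 16 := (smul_dot g v w).trans hd
  obtain ⟨j, hji, hxj, hx0⟩ := four_shape x.2 ((smul_norm g v).trans hv) (i := i) (by omega)
  obtain ⟨k, hki, hyk, hy0⟩ := four_shape y.2 ((smul_norm g w).trans hw) (i := i) (by omega)
  rw [dot_two y.1 (Ne.symm hji) hx0, hxi, hyi] at hxy
  have hjk : j ≠ k := by
    rintro rfl
    rcases hs with rfl | rfl <;> rcases hxj with e | e <;> rcases hyk with e' | e' <;>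
      rw [e, e'] at hxy <;> norm_num at hxy
  obtain ⟨t, hts, htc⟩ := Finset.exists_superset_card_eq (s := ({i, j, k} : Finset GolayPt)) (n := 5)
    (le_trans Finset.card_le_three (by norm_num)) (by simp)
  obtain ⟨o, ⟨ho, hto⟩, -⟩ := existsUnique_octad htc
  have hio : i ∈ o := hto (hts (by simp))
  have hjo : j ∈ o := hto (hts (by simp))
  have hko : k ∈ o := hto (hts (by simp))
  obtain ⟨m, hm⟩ := Finset.card_pos.1 (show 0 < (o \ {i, j, k}).card by
    have h1 := Finset.le_card_sdiff ({i, j, k} : Finset GolayPt) o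
    have h2 : ({i, j, k} : Finset GolayPt).card ≤ 3 := Finset.card_le_three
    rw [(mem_octads.1 ho).2] at h1
    omega)
  simp only [Finset.mem_sdiff, Finset.mem_insert, Finset.mem_singleton, not_or] at hm
  let N : Finset GolayPt := ({i, j, k} : Finset GolayPt).filter fun l => x.1 l < 0 ∨ y.1 l < 0
  let N' := if Even N.card then N else insert m N
  have hNo : N ⊆ o := fun l hl => by
    have := (Finset.mem_filter.1 hl).1
    simp only [Finset.mem_insert, Finset.mem_singleton] at this
    rcases this with rfl | rfl | rfl <;> assumption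
  have hmN : m ∉ N := fun h => by
    have := (Finset.mem_filter.1 h).1
    simp only [Finset.mem_insert, Finset.mem_singleton] at this
    tauto
  have hN'o : N' ⊆ o := by
    simp only [N']; split
    · exact hNo
    · exact Finset.insert_subset hm.1 hNo
  have hN'e : Even N'.card := by
    simp only [N']; split
    · assumption
    · rw [Finset.card_insert_of_notMem hmN]; exact Nat.even_add_one.2 (by assumption)
  obtain ⟨c, hc, hce⟩ := even_on_octad ho N' hN'o hN'e
  have hcl : ∀ l, (l = i ∨ l = j ∨ l = k) → (l ∈ c ↔ (x.1 l < 0 ∨ y.1 l < 0)) := by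
    intro l hl
    have h1 := Finset.ext_iff.1 hce l
    have hlo : l ∈ o := by rcases hl with rfl | rfl | rfl <;> assumption
    have hlm : l ≠ m := by
      rintro rfl
      rcases hl with e | e | e
      · exact hm.2.1 e
      · exact hm.2.2.1 e
      · exact hm.2.2.2 e
    simp only [Finset.mem_inter, hlo, and_true] at h1
    rw [h1]
    have h2 : l ∈ N ↔ (x.1 l < 0 ∨ y.1 l < 0) := by
      simp only [N, Finset.mem_filter, Finset.mem_insert, Finset.mem_singleton]
      exact ⟨fun g => g.2, fun g => ⟨hl, g⟩⟩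
    simp only [N']; split
    · exact h2
    · rw [Finset.mem_insert]
      exact ⟨fun g => h2.1 (g.resolve_left hlm), fun g => Or.inr (h2.2 g)⟩
  obtain ⟨σ, hσ, ei, ej, ek⟩ := m24_map_triple (Ne.symm hji) (Ne.symm hki) hjk
    (show (none : GolayPt) ≠ some 0 by simp) (show (none : GolayPt) ≠ some 1 by simp)
    (show (some 0 : GolayPt) ≠ some 1 by decide)
  have hσc : σ • c ∈ Code := smul_mem_code hσ hc
  have hmem : ∀ l, σ l ∈ σ • c ↔ l ∈ c := fun l => Finset.smul_mem_smul_finset_iff σ
  refine ⟨mono (⟨σ, hσ⟩, ⟨_, hσc⟩) * g, ?_, ?_⟩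
  all_goals
    rw [mul_smul]
    apply Subtype.ext
    funext l'
    obtain ⟨l, rfl⟩ := σ.surjective l'
  · rw [← hx, mono_smul_apply]
    simp only [hmem, lpair, pairVec, Pi.add_apply, Pi.single_apply]
    by_cases h1 : l = i
    · subst h1
      simp only [hcl l (Or.inl rfl), ei, if_true, show ¬((none : GolayPt) = some 0) by simp, if_false]
      split <;> omega
    by_cases h2 : l = j
    · subst h2
      have := hy0 l h1 hjk
      simp only [hcl l (Or.inr (Or.inl rfl)), ej, if_true, show ¬((some 0 : GolayPt) = none) by simp, if_false]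
      split <;> omega
    rw [hx0 l h1 h2, if_neg (show ¬(σ l = none) from fun e => h1 (σ.injective (e.trans ei.symm))),
      if_neg (show ¬(σ l = some 0) from fun e => h2 (σ.injective (e.trans ej.symm)))]
    simp
  · rw [← hy, mono_smul_apply]
    simp only [hmem, lpair, pairVec, Pi.add_apply, Pi.single_apply]
    by_cases h1 : l = i
    · subst h1
      simp only [hcl l (Or.inl rfl), ei, if_true, show ¬((none : GolayPt) = some 1) by simp, if_false]
      split <;> omega
    by_cases h2 : l = k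
    · subst h2
      have := hx0 l h1 (Ne.symm hjk)
      simp only [hcl l (Or.inr (Or.inr rfl)), ek, if_true, show ¬((some 1 : GolayPt) = none) by simp, if_false]
      split <;> omega
    rw [hy0 l h1 h2, if_neg (show ¬(σ l = none) from fun e => h1 (σ.injective (e.trans ei.symm))),
      if_neg (show ¬(σ l = some 1) from fun e => h2 (σ.injective (e.trans ek.symm)))]
    simp

theorem form0 (v w : leechLattice) (hv : sqNorm v.1 = 32) (hw : sqNorm w.1 = 32)
    (hd : dotInt v.1 w.1 = 0) :
    ∃ g : Co0, g • v = Spor.leechU ∧ g • w = Spor.leechU' := by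
  classical
  have han : sqNorm (v.1 + w.1) = 64 := by rw [LeechModTwo.norm_add, hv, hw, hd]; norm_num
  obtain ⟨g, i, s, hs, hxi, hyi⟩ := to_frame (v := v) (w := w) (d := 4) (d' := 4) (leechLattice.add_mem v.2 w.2) han
    (by rw [dot_add_left, dot_self, dot_comm' w.1, hv, hd]; norm_num)
    (by rw [dot_add_left, dot_self, hw, hd]; norm_num)
  set x := g • v with hx
  set y := g • w with hy
  have hxy : dotInt x.1 y.1 = 0 := (smul_dot g v w).trans hd
  obtain ⟨j, hji, hxj, hx0⟩ := four_shape x.2 ((smul_norm g v).trans hv) (i := i) (by omega)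
  obtain ⟨k, hki, hyk, hy0⟩ := four_shape y.2 ((smul_norm g w).trans hw) (i := i) (by omega)
  rw [dot_two y.1 (Ne.symm hji) hx0, hxi, hyi] at hxy
  have hjk : j = k := by
    by_contra hne
    rw [hy0 j hji hne] at hxy
    rcases hs with rfl | rfl <;> omega
  subst hjk
  have hyj : y.1 j = -(x.1 j) := by
    rcases hs with rfl | rfl <;> rcases hxj with e | e <;> rw [e] at hxy ⊢ <;> omega
  obtain ⟨σ, hσ, e1, e2⟩ := m24_map_pair (Ne.symm hji) (show (none : GolayPt) ≠ some 0 by simp)
  obtain ⟨c, hc, hc1, hc2⟩ := pair_signs (decide (x.1 i < 0)) (decide (x.1 j < 0))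
  rw [decide_eq_true_iff] at hc1 hc2
  refine ⟨mono (⟨σ, hσ⟩, ⟨c, hc⟩) * g, ?_, ?_⟩
  all_goals
    rw [mul_smul]
    apply Subtype.ext
    funext l'
    obtain ⟨l, rfl⟩ := σ.surjective l'
  · rw [← hx, mono_smul_apply]
    show _ = Spor.vecU (σ l)
    rw [Spor.vecU]
    by_cases h1 : l = i
    · subst h1
      rw [e1, if_pos (Or.inl rfl : (none : GolayPt) = none ∨ (none : GolayPt) = some 0)]
      simp only [hc1]
      split <;> omega
    by_cases h2 : l = j
    · subst h2
      rw [e2, if_pos (Or.inr rfl : (some 0 : GolayPt) = none ∨ (some 0 : GolayPt) = some 0)]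
      simp only [hc2]
      split <;> omega
    rw [if_neg (show ¬(σ l = none ∨ σ l = some 0) from fun e => e.elim
      (fun e => h1 (σ.injective (e.trans e1.symm))) (fun e => h2 (σ.injective (e.trans e2.symm)))), hx0 l h1 h2]
    simp
  · rw [← hy, mono_smul_apply]
    show _ = Spor.vecU' (σ l)
    rw [Spor.vecU']
    by_cases h1 : l = i
    · subst h1
      rw [e1, if_pos rfl]
      simp only [hc1]
      split <;> omega
    by_cases h2 : l = j
    · subst h2
      rw [e2, if_neg (show ¬((some 0 : GolayPt) = none) by simp), if_pos rfl]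
      simp only [hc2]
      split <;> omega
    rw [if_neg (show ¬(σ l = none) from fun e => h1 (σ.injective (e.trans e1.symm))),
      if_neg (show ¬(σ l = some 0) from fun e => h2 (σ.injective (e.trans e2.symm))), hy0 l h1 h2]
    simp

/-- the second normal vector for product 8 -/
def octVec (l : GolayPt) : ℤ := if l ∈ maskK.dec fpnq0X then 2 else 0

theorem form8 (v w : leechLattice) (hv : sqNorm v.1 = 32) (hw : sqNorm w.1 = 32)
    (hd : dotInt v.1 w.1 = 8) :
    ∃ g : Co0, g • v = lpair (pt oneX) (pt twoX) ∧ ((g • w : leechLattice) : GolayPt → ℤ) = octVec := by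
  classical
  obtain ⟨a, ha, han, hav, haw⟩ := long_of (fun h1 h2 h3 => over8 h1 h2 h3) v w hv hw hd
  obtain ⟨g, i, s, hs, hxi, hyi⟩ := to_frame (d := 4) (d' := 2) ha han (by rw [hav]; norm_num)
    (by rw [haw]; norm_num)
  set x := g • v with hx
  set y := g • w with hy
  have hxy : dotInt x.1 y.1 = 8 := (smul_dot g v w).trans hd
  obtain ⟨j, hji, hxj, hx0⟩ := four_shape x.2 ((smul_norm g v).trans hv) (i := i) (by omega)
  obtain ⟨o, ho, hyo, hy0⟩ : ∃ o ∈ octads, (∀ l ∈ o, y.1 l = 2 ∨ y.1 l = -2) ∧ ∀ l, l ∉ o → y.1 l = 0 := by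
    rcases shapes32 y.2 ((smul_norm g w).trans hw) with ⟨p, q, hpq, hp, hq, h0⟩ | h | ⟨p, hp, h1⟩
    · exfalso
      by_cases g1 : i = p
      · subst g1; omega
      by_cases g2 : i = q
      · subst g2; omega
      have := h0 i g1 g2
      omega
    · exact h
    · exfalso
      by_cases g1 : i = p
      · subst g1; omega
      have := h1 i g1
      omega
  have hio : i ∈ o := by by_contra g; have := hy0 i g; omega
  rw [dot_two y.1 (Ne.symm hji) hx0, hxi, hyi] at hxy
  have hjo : j ∉ o := fun hj => by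
    have := hyo j hj
    rcases hs with rfl | rfl <;> rcases hxj with e | e <;> rw [e] at hxy <;> omega
  let N : Finset GolayPt := o.filter fun l => y.1 l < 0
  have hNe : Even N.card := by
    rcases leech_cases y.2 with ⟨t, ht, -, h4⟩ | hodd
    swap
    · exfalso; have := hodd i; omega
    have htl : ∀ l, y.1 l = 2 * t l := fun l => congrFun ht l
    have e : ∑ l, t l = ∑ l ∈ o, (if y.1 l < 0 then (-1 : ℤ) else 1) := by
      rw [← Finset.sum_subset (Finset.subset_univ o) fun l _ hl => by have := hy0 l hl; have := htl l; omega]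
      refine Finset.sum_congr rfl fun l hl => ?_
      have := hyo l hl
      have := htl l
      split <;> omega
    have e2 : ∑ l ∈ o, (if y.1 l < 0 then (-1 : ℤ) else 1) = 8 - 2 * N.card := by
      rw [Finset.sum_congr rfl fun l _ => show (if y.1 l < 0 then (-1 : ℤ) else 1) = 1 - 2 * (if y.1 l < 0 then 1 else 0) by
        split <;> norm_num, Finset.sum_sub_distrib, Finset.sum_const, (mem_octads.1 ho).2, ← Finset.mul_sum,
        Finset.sum_boole]
      norm_num
      rfl
    rw [e, e2] at h4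
    rw [Nat.even_iff]
    omega
  obtain ⟨c, hc, hce, hcj⟩ := signs_octad ho hjo N (Finset.filter_subset _ _) hNe (decide (x.1 j < 0))
  rw [decide_eq_true_iff] at hcj
  have hcl : ∀ l ∈ o, (l ∈ c ↔ y.1 l < 0) := fun l hl => by
    have h1 := Finset.ext_iff.1 hce l
    simp only [Finset.mem_inter, hl, and_true, N, Finset.mem_filter, true_and] at h1
    exact h1
  obtain ⟨τ, hτ, e1, e2, e3⟩ := fpnq_flag (Ne.symm hji) ho hio hjo
  have hσc : τ⁻¹ • c ∈ Code := smul_mem_code (inv_mem hτ) hc
  have hmem : ∀ l, τ⁻¹ l ∈ τ⁻¹ • c ↔ l ∈ c := fun l => Finset.smul_mem_smul_finset_iff τ⁻¹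
  have hei : τ⁻¹ i = pt oneX := by rw [Equiv.Perm.inv_def, Equiv.symm_apply_eq, e1]
  have hej : τ⁻¹ j = pt twoX := by rw [Equiv.Perm.inv_def, Equiv.symm_apply_eq, e2]
  have h12 : pt oneX ≠ pt twoX := by decide +kernel
  refine ⟨mono (⟨τ⁻¹, inv_mem hτ⟩, ⟨_, hσc⟩) * g, ?_, ?_⟩
  · rw [mul_smul, ← hx]
    apply Subtype.ext
    funext l'
    obtain ⟨l, rfl⟩ := (τ⁻¹).surjective l'
    rw [mono_smul_apply]
    simp only [hmem, lpair, pairVec, Pi.add_apply, Pi.single_apply]
    by_cases h1 : l = i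
    · subst h1
      simp only [hei, if_true, if_neg h12, hcl l hio]
      split <;> omega
    by_cases h2 : l = j
    · subst h2
      simp only [hej, if_true, if_neg (Ne.symm h12), hcj]
      split <;> omega
    have n1 : ¬(τ⁻¹ l = pt oneX) := fun e => h1 ((τ⁻¹).injective (e.trans hei.symm))
    have n2 : ¬(τ⁻¹ l = pt twoX) := fun e => h2 ((τ⁻¹).injective (e.trans hej.symm))
    simp only [hx0 l h1 h2, neg_zero, ite_self, add_zero, if_neg n1, if_neg n2]
  · rw [mul_smul, ← hy]
    funext l'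
    obtain ⟨l, rfl⟩ := (τ⁻¹).surjective l'
    rw [mono_smul_apply]
    have ho' : τ⁻¹ l ∈ maskK.dec fpnq0X ↔ l ∈ o := by
      rw [← e3, ← Finset.inv_smul_mem_iff]; rfl
    simp only [hmem, octVec, ho']
    by_cases hl : l ∈ o
    · simp only [if_pos hl, hcl l hl]
      have := hyo l hl
      split <;> omega
    · rw [if_neg hl, hy0 l hl]; simp

theorem transitive16 (v w w' : leechLattice) (hv : sqNorm v.1 = 32) (hw : sqNorm w.1 = 32)
    (hw' : sqNorm w'.1 = 32) (hd : dotInt v.1 w.1 = -16) (hd' : dotInt v.1 w'.1 = -16) :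
    ∃ g : Co0, g • v = v ∧ g • w = w' := by
  have key : ∀ u : leechLattice, sqNorm u.1 = 32 → dotInt v.1 u.1 = -16 →
      ∃ g : Co0, g • v = lpair none (some 0) ∧ g • u = -lpair none (some 1) := fun u hu hdu => by
    obtain ⟨g, h1, h2⟩ := form16 v (-u) hv (by rw [AddSubgroup.coe_neg, norm_neg', hu])
      (by rw [AddSubgroup.coe_neg, dot_comm', dot_neg_left, dot_comm', hdu]; norm_num)
    exact ⟨g, h1, by rw [← h2, smul_neg', neg_neg]⟩
  obtain ⟨g, g1, g2⟩ := key w hw hd
  obtain ⟨k, k1, k2⟩ := key w' hw' hd'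
  exact ⟨k⁻¹ * g, by rw [mul_smul, g1, ← k1, inv_smul_smul], by rw [mul_smul, g2, ← k2, inv_smul_smul]⟩

theorem transitive8 (v w v' w' : leechLattice) (hv : sqNorm v.1 = 32) (hw : sqNorm w.1 = 32)
    (hv' : sqNorm v'.1 = 32) (hw' : sqNorm w'.1 = 32) (hd : dotInt v.1 w.1 = 8) (hd' : dotInt v'.1 w'.1 = 8) :
    ∃ g : Co0, g • v = v' ∧ g • w = w' := by
  obtain ⟨g, g1, g2⟩ := form8 v w hv hw hd
  obtain ⟨k, k1, k2⟩ := form8 v' w' hv' hw' hd'
  exact ⟨k⁻¹ * g, by rw [mul_smul, g1, ← k1, inv_smul_smul],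
    by rw [mul_smul, Subtype.ext (g2.trans k2.symm), inv_smul_smul]⟩

theorem transitive0 (v w v' w' : leechLattice) (hv : sqNorm v.1 = 32) (hw : sqNorm w.1 = 32)
    (hv' : sqNorm v'.1 = 32) (hw' : sqNorm w'.1 = 32) (hd : dotInt v.1 w.1 = 0) (hd' : dotInt v'.1 w'.1 = 0) :
    ∃ g : Co0, g • v = v' ∧ g • w = w' := by
  obtain ⟨g, g1, g2⟩ := form0 v w hv hw hd
  obtain ⟨k, k1, k2⟩ := form0 v' w' hv' hw' hd'
  exact ⟨k⁻¹ * g, by rw [mul_smul, g1, ← k1, inv_smul_smul], by rw [mul_smul, g2, ← k2, inv_smul_smul]⟩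

end CfsgLib.Spor.LeechPairs
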