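import Cfsg.Agent.Spor.LeechCo3

/-!
The configurations of 275, 100 and 11178 shortest vectors and their transitivity.
-/

set_option autoImplicit false

namespace CfsgLib.Spor.LeechCo3Count

open Cfsg CfsgLib.Spor CfsgLib.Spor.LeechFacts CfsgLib.Spor.LeechCount CfsgLib.Spor.LeechModTwo
  CfsgLib.Spor.LeechCross CfsgLib.Spor.LeechOrbits CfsgLib.Spor.LeechPairs CfsgLib.Spor.LeechCensus
  CfsgLib.Spor.LeechIso CfsgLib.Spor.LeechCo3
open scoped Pointwise

/-- lattice vectors of given sum of squares -/
noncomputable def vecs (N : ℤ) : Finset (GolayPt → ℤ) := (finite_vecs N).toFinset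

theorem mem_vecs {N : ℤ} {w : GolayPt → ℤ} : w ∈ vecs N ↔ w ∈ leechLattice ∧ sqNorm w = N :=
  Set.Finite.mem_toFinset _

theorem vecs32 : vecs 32 = minSet := rfl

/-- vectors with two given products -/
noncomputable def two (N : ℤ) (a b : GolayPt → ℤ) (p q : ℤ) : Finset (GolayPt → ℤ) :=
  (vecs N).filter fun w => dotInt a w = p ∧ dotInt b w = q

theorem mem_two {N : ℤ} {a b : GolayPt → ℤ} {p q : ℤ} {w : GolayPt → ℤ} :
    w ∈ two N a b p q ↔ (w ∈ leechLattice ∧ sqNorm w = N) ∧ dotInt a w = p ∧ dotInt b w = q := by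
  rw [two, Finset.mem_filter, mem_vecs]

theorem move (g : Co0) (N : ℤ) (a b : leechLattice) (p q : ℤ) :
    (two N a.1 b.1 p q).card = (two N (g • a).1 (g • b).1 p q).card := by
  refine Finset.card_bij (fun w hw => (g • (⟨w, (mem_two.1 hw).1.1⟩ : leechLattice)).1)
    (fun w hw => ?_) (fun w hw w' hw' e => ?_) fun w hw => ?_
  · obtain ⟨⟨h1, h2⟩, h3, h4⟩ := mem_two.1 hw
    exact mem_two.2 ⟨⟨(g • (⟨w, h1⟩ : leechLattice)).2, (smul_norm g _).trans h2⟩,
      (smul_dot g a _).trans h3, (smul_dot g b _).trans h4⟩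
  · exact congrArg Subtype.val (MulAction.injective g (Subtype.ext e) :
      (⟨w, (mem_two.1 hw).1.1⟩ : leechLattice) = ⟨w', (mem_two.1 hw').1.1⟩)
  · obtain ⟨⟨h1, h2⟩, h3, h4⟩ := mem_two.1 hw
    refine ⟨(g⁻¹ • (⟨w, h1⟩ : leechLattice)).1, mem_two.2 ⟨⟨Subtype.mem _, (smul_norm g⁻¹ _).trans h2⟩, ?_, ?_⟩, ?_⟩
    · have h := smul_dot g a (g⁻¹ • (⟨w, h1⟩ : leechLattice))
      rw [smul_inv_smul] at h
      exact h.symm.trans h3
    · have h := smul_dot g b (g⁻¹ • (⟨w, h1⟩ : leechLattice))
      rw [smul_inv_smul] at h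
      exact h.symm.trans h4
    · simp

/-- an octad as a vector with entries 2 -/
def octTwo (o : Finset GolayPt) : GolayPt → ℤ := fun l => if l ∈ o then 2 else 0

/-- the odd vector with one entry -3 -/
def oddOne (p : GolayPt) : GolayPt → ℤ := fun l => if l = p then -3 else 1

theorem hs_std : (two 32 Spor.vecU' five 0 24).card = 100 := by
  classical
  let O := (SteinerCount.blocks octads).filter fun o => (none : GolayPt) ∈ o ∧ (some 0 : GolayPt) ∈ o
  let P : Finset GolayPt := (Finset.univ.erase none).erase (some 0)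
  have hO : O.card = 77 := by
    have h := SteinerCount.count_above (B := octads) steiner_octads (s := {(none : GolayPt), some 0})
      (by rw [Finset.card_pair (by simp)]; norm_num)
    simp only [Finset.card_pair (show (none : GolayPt) ≠ some 0 by simp),
      show Fintype.card GolayPt = 24 from rfl, Finset.insert_subset_iff, Finset.singleton_subset_iff] at h
    norm_num [Nat.choose] at h
    show ((SteinerCount.blocks octads).filter fun o => (none : GolayPt) ∈ o ∧ (some 0 : GolayPt) ∈ o).card = 77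
    omega
  have hmem : ∀ o ∈ O, o ∈ Code ∧ o.card = 8 ∧ (none : GolayPt) ∈ o ∧ (some 0 : GolayPt) ∈ o := fun o ho => by
    obtain ⟨h1, h2, h3⟩ := Finset.mem_filter.1 ho
    obtain ⟨h4, h5⟩ := mem_octads.1 (SteinerCount.mem_blocks.1 h1)
    exact ⟨h4, h5, h2, h3⟩
  have hP : ∀ p ∈ P, p ≠ none ∧ p ≠ some 0 := fun p hp => by
    simp only [P, Finset.mem_erase] at hp
    exact ⟨hp.2.1, hp.1⟩
  have hU : Spor.vecU' = minusU := rfl
  have key : two 32 Spor.vecU' five 0 24 = insert Spor.vecU (O.image octTwo ∪ P.image oddOne) := by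
    ext x
    rw [mem_two, hU, dot_minusU, dot_five, Finset.mem_insert, Finset.mem_union, Finset.mem_image, Finset.mem_image]
    constructor
    · rintro ⟨⟨hx, hn⟩, h0, h24⟩
      have hx0 : x none = x (some 0) := by omega
      rcases shapes32 hx hn with ⟨a, b, hab, ha, hb, hz⟩ | ⟨o, ho, h1, h2⟩ | ⟨a, ha, h1⟩
      · left
        have hsum : ∑ i, x i = x a + x b := by
          rw [← Finset.sum_subset (Finset.subset_univ {a, b}) fun l _ hl => by
            simp only [Finset.mem_insert, Finset.mem_singleton, not_or] at hl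
            exact hz l hl.1 hl.2, Finset.sum_pair hab]
        have hb' : ∀ l, x l = 4 ∨ x l = -4 ∨ x l = 0 := fun l => by
          by_cases g1 : l = a
          · subst g1; omega
          by_cases g2 : l = b
          · subst g2; omega
          exact Or.inr (Or.inr (hz l g1 g2))
        have := hb' none
        have h4 : x none = 4 := by omega
        funext l
        by_cases g1 : l = none
        · subst g1; simp [Spor.vecU, h4]
        by_cases g2 : l = some 0
        · subst g2; simp [Spor.vecU, ← hx0, h4]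
        rw [show Spor.vecU l = 0 by simp [Spor.vecU, g1, g2]]
        by_contra hne
        have hin : ∀ m, x m ≠ 0 → m = a ∨ m = b := fun m hm => by
          by_contra g; push_neg at g; exact hm (hz m g.1 g.2)
        rcases hin none (by omega) with e1 | e1 <;> rcases hin (some 0) (by omega) with e2 | e2 <;>
          rcases hin l hne with e3 | e3 <;>
          first
            | exact g1 (e3.trans e1.symm)
            | exact g2 (e3.trans e2.symm)
            | exact absurd (e1.trans e2.symm) (by simp)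
      · right; left
        have hsum : ∑ i, x i = ∑ i ∈ o, x i :=
          (Finset.sum_subset (Finset.subset_univ o) fun l _ hl => h2 l hl).symm
        have h8 := (mem_octads.1 ho).2
        have hle : ∑ i ∈ o, x i ≤ 16 := by
          refine le_trans (Finset.sum_le_sum (g := fun _ => (2 : ℤ)) fun i hi => ?_) (by simp [h8])
          rcases h1 i hi with e | e <;> rw [e] <;> norm_num
        have hno : none ∈ o := by
          by_contra g; have := h2 none g; omega
        have h0o : some 0 ∈ o := by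
          by_contra g; have := h2 _ g; have := h1 none hno; omega
        have hall : ∀ i ∈ o, x i = 2 := by
          intro i hi
          by_contra g
          have hi2 : x i = -2 := (h1 i hi).resolve_left g
          have h3 := Finset.add_sum_erase o x hi
          have : ∑ j ∈ o.erase i, x j ≤ 14 := by
            refine le_trans (Finset.sum_le_sum (g := fun _ => (2 : ℤ)) fun j hj => ?_)
              (by simp [Finset.card_erase_of_mem hi, h8])
            rcases h1 j (Finset.mem_of_mem_erase hj) with e | e <;> rw [e] <;> norm_num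
          have := h1 none hno
          omega
        refine ⟨o, Finset.mem_filter.2 ⟨SteinerCount.mem_blocks.2 ho, hno, h0o⟩, funext fun l => ?_⟩
        simp only [octTwo]
        split
        · exact (hall l ‹_›).symm
        · exact (h2 l ‹_›).symm
      · right; right
        have han : a ≠ none := fun e => by
          subst e; have := h1 (some 0) (by simp); omega
        have ha0 : a ≠ some 0 := fun e => by
          subst e; have := h1 none (by simp); omega
        refine ⟨a, by simp [P, han, ha0], ?_⟩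
        set N := (Finset.univ.erase a).filter fun l => x l < 0 with hN
        have hsum : ∑ i, x i = x a + (23 - 2 * (N.card : ℤ)) := by
          rw [← Finset.add_sum_erase _ x (Finset.mem_univ a), Finset.sum_congr rfl
            (fun l hl => show x l = 1 - 2 * (if x l < 0 then 1 else 0) by
              rcases h1 l (Finset.ne_of_mem_erase hl) with e | e <;> rw [e] <;> norm_num),
            Finset.sum_sub_distrib, Finset.sum_const, Finset.card_erase_of_mem (Finset.mem_univ a),
            Finset.card_univ, ← Finset.mul_sum, Finset.sum_boole, show Fintype.card GolayPt = 24 from rfl, hN]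
          norm_num
        have ho : ∀ l, ¬(2 : ℤ) ∣ x l := fun l => by
          by_cases g : l = a
          · subst g; omega
          · have := h1 l g; omega
        have hn1 := h1 none (Ne.symm han)
        have hxn : x none = 1 := by omega
        have hxa : x a = -3 := by
          by_contra g
          have hxa : x a = 3 := by omega
          have hc := card_cases ((odd_mem_iff ho).1 hx).1
          have he : threeSupp x = insert a N := by
            ext l
            rw [mem_threeSupp, Finset.mem_insert]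
            by_cases g' : l = a
            · subst g'; rw [hxa]; simp
            · have := h1 l g'
              simp only [hN, g', Finset.mem_filter, Finset.mem_erase, Finset.mem_univ, and_true, false_or, ne_eq,
                not_false_iff, true_and]
              omega
          rw [he, Finset.card_insert_of_notMem (by simp [hN])] at hc
          omega
        have hN0 : N = ∅ := Finset.card_eq_zero.1 (by omega)
        funext l
        simp only [oddOne]
        split
        · subst l; exact hxa.symm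
        · have := h1 l ‹_›
          by_contra g
          have : l ∈ N := Finset.mem_filter.2 ⟨Finset.mem_erase.2 ⟨‹_›, Finset.mem_univ l⟩, by omega⟩
          rw [hN0] at this
          exact Finset.notMem_empty l this
    · rintro (rfl | ⟨o, ho, rfl⟩ | ⟨p, hp, rfl⟩)
      · refine ⟨⟨Spor.leechU.2, norm_U⟩, by decide +kernel, ?_⟩
        decide +kernel
      · obtain ⟨hc, h8, hno, h0o⟩ := hmem o ho
        have e : octTwo o = fun l => 2 * (if l ∈ o then 1 else 0) := funext fun l => by
          simp only [octTwo]; split <;> norm_num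
        refine ⟨⟨?_, ?_⟩, ?_, ?_⟩
        · rw [e]
          refine two_mul_mem ?_ ?_
          · rw [show oddSupp (fun l => if l ∈ o then (1 : ℤ) else 0) = o from by
              ext l; rw [mem_oddSupp]; split <;> simp_all]
            exact hc
          · simp [h8]
        · simp only [sqNorm, octTwo, ite_pow]
          simp [h8]
        · simp [octTwo, hno, h0o]
        · simp [octTwo, hno, h8]
      · obtain ⟨h1, h2⟩ := hP p hp
        have hs : ∑ l, oddOne p l = 20 := by
          rw [← Finset.add_sum_erase _ _ (Finset.mem_univ p), Finset.sum_congr rfl fun l hl =>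
            show oddOne p l = 1 by simp [oddOne, Finset.ne_of_mem_erase hl],
            Finset.sum_const, Finset.card_erase_of_mem (Finset.mem_univ p), Finset.card_univ,
            show Fintype.card GolayPt = 24 from rfl]
          simp [oddOne]
        refine ⟨⟨?_, ?_⟩, ?_, ?_⟩
        · have ho : ∀ l, ¬(2 : ℤ) ∣ oddOne p l := fun l => by
            simp only [oddOne]; split <;> norm_num
          refine (odd_mem_iff ho).2 ⟨?_, by rw [hs]; norm_num⟩
          rw [show threeSupp (oddOne p) = ∅ from by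
            ext l
            rw [mem_threeSupp]
            simp only [oddOne, Finset.notMem_empty, iff_false]
            split <;> norm_num]
          exact empty_mem_code
        · rw [sqNorm, ← Finset.add_sum_erase _ _ (Finset.mem_univ p), Finset.sum_congr rfl fun l hl =>
            show oddOne p l ^ 2 = 1 by simp [oddOne, Finset.ne_of_mem_erase hl],
            Finset.sum_const, Finset.card_erase_of_mem (Finset.mem_univ p), Finset.card_univ,
            show Fintype.card GolayPt = 24 from rfl]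
          simp [oddOne]
        · simp [oddOne, Ne.symm h1, Ne.symm h2]
        · rw [hs]; simp [oddOne, Ne.symm h1]
  rw [key]
  have hj : Set.InjOn octTwo ↑O := fun a _ b _ e => by
    ext l
    have h := congrFun e l
    simp only [octTwo] at h
    by_cases g : l ∈ a <;> by_cases g' : l ∈ b <;> simp [g, g'] at h ⊢
  have hk : Set.InjOn oddOne ↑P := fun a _ b _ e => by
    by_contra g
    have h := congrFun e a
    simp [oddOne, g] at h
  have hd : Disjoint (O.image octTwo) (P.image oddOne) := by
    rw [Finset.disjoint_left]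
    intro x hx hx'
    obtain ⟨o, ho, rfl⟩ := Finset.mem_image.1 hx
    obtain ⟨p, hp, e⟩ := Finset.mem_image.1 hx'
    have h := congrFun e none
    simp [octTwo, oddOne, (hmem o ho).2.2.1, Ne.symm (hP p hp).1] at h
  have hne : Spor.vecU ∉ O.image octTwo ∪ P.image oddOne := by
    intro h
    rcases Finset.mem_union.1 h with h | h
    · obtain ⟨o, ho, e⟩ := Finset.mem_image.1 h
      have h' := congrFun e none
      simp [octTwo, Spor.vecU, (hmem o ho).2.2.1] at h'
    · obtain ⟨p, hp, e⟩ := Finset.mem_image.1 h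
      have h' := congrFun e none
      simp [oddOne, Spor.vecU, Ne.symm (hP p hp).1] at h'
  rw [Finset.card_insert_of_notMem hne, Finset.card_union_of_disjoint hd, Finset.card_image_of_injOn hj,
    Finset.card_image_of_injOn hk, hO]
  rfl

theorem fives_std : (two 48 Spor.vecU Spor.vecU' 24 16).card = 1024 := by
  classical
  have h0 : {s | s ∈ Code ∧ ((none : GolayPt) ∉ s ∧ (some 0 : GolayPt) ∉ s)}.ncard = 1024 := by
    rw [ncard_filter_code (fun s => (none : GolayPt) ∉ s ∧ (some 0 : GolayPt) ∉ s)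
      (fun m => decide ((none : GolayPt) ∉ ofMask m ∧ (some 0 : GolayPt) ∉ ofMask m))
      (fun m _ => (decide_eq_true_iff).symm)]
    decide +kernel
  rw [← h0, ← Set.ncard_coe_finset]
  let f : (GolayPt → ℤ) → Finset GolayPt := threeSupp
  refine Set.ncard_congr (fun u _ => f u) ?_ ?_ ?_
  all_goals simp only [Finset.mem_coe, mem_two, dot_U, show Spor.vecU' = minusU from rfl, dot_minusU, f]
  · rintro u ⟨⟨hu, hn⟩, h1, h2⟩
    have hun : u none = 5 := by omega
    have hodd := five_odd hu hn (Or.inl hun)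
    have ho : ∀ l, ¬(2 : ℤ) ∣ u l := fun l => by
      by_cases hl : l = none
      · subst hl; omega
      · have := hodd l hl; omega
    refine ⟨((odd_mem_iff ho).1 hu).1, fun h => ?_, fun h => ?_⟩
    · rw [neg_iff_three (Or.inl hun) hodd] at h; omega
    · rw [neg_iff_three (Or.inl hun) hodd] at h; omega
  · rintro u u' ⟨⟨hu, hn⟩, h1, h2⟩ ⟨⟨hu', hn'⟩, h1', h2'⟩ e
    have hun : u none = 5 := by omega
    have hun' : u' none = 5 := by omega
    have hodd := five_odd hu hn (Or.inl hun)
    have hodd' := five_odd hu' hn' (Or.inl hun')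
    funext l
    by_cases hl : l = none
    · subst hl; omega
    have h := Finset.ext_iff.1 e l
    rw [neg_iff_three (Or.inl hun) hodd, neg_iff_three (Or.inl hun') hodd'] at h
    have := hodd l hl
    have := hodd' l hl
    omega
  · rintro c ⟨hc, hn, h0c⟩
    let u : GolayPt → ℤ := fun l => if l = none then 5 else if l ∈ c then -1 else 1
    have hun : u none = 5 := rfl
    have hodd : ∀ l, l ≠ none → u l = 1 ∨ u l = -1 := fun l hl => by
      simp only [u, if_neg hl]; split <;> simp
    have hT : threeSupp u = c := by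
      ext l
      rw [neg_iff_three (Or.inl hun) hodd]
      simp only [u]
      by_cases hl : l = none
      · subst hl; simp [hn]
      · rw [if_neg hl]; split <;> simp_all
    have ho : ∀ l, ¬(2 : ℤ) ∣ u l := fun l => by
      simp only [u]; split <;> [norm_num; (split <;> norm_num)]
    have e : ∀ l, u l = 1 + (if l = none then 4 else 0) - 2 * (if l ∈ c then 1 else 0) := fun l => by
      simp only [u]
      by_cases hl : l = none
      · subst hl; simp [hn]
      · rw [if_neg hl, if_neg hl]; split <;> norm_num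
    have hs : ∑ l, u l = 28 - 2 * (c.card : ℤ) := by
      rw [Finset.sum_congr rfl fun l _ => e l, Finset.sum_sub_distrib, Finset.sum_add_distrib,
        Finset.sum_ite_eq', ← Finset.mul_sum, Finset.sum_boole, Finset.sum_const, Finset.card_univ,
        show Fintype.card GolayPt = 24 from rfl, Finset.filter_univ_mem]
      norm_num
    have hn2 : sqNorm u = 48 := by
      rw [sqNorm, ← Finset.add_sum_erase _ _ (Finset.mem_univ (none : GolayPt)),
        Finset.sum_congr rfl fun l hl => show u l ^ 2 = 1 by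
          rcases hodd l (Finset.ne_of_mem_erase hl) with g | g <;> rw [g] <;> norm_num,
        Finset.sum_const, Finset.card_erase_of_mem (Finset.mem_univ _), Finset.card_univ,
        show Fintype.card GolayPt = 24 from rfl, hun]
      norm_num
    refine ⟨u, ⟨⟨(odd_mem_iff ho).2 ⟨hT.symm ▸ hc, ?_⟩, hn2⟩, ?_, ?_⟩, hT⟩
    · rw [hs]
      rcases card_cases hc with g | g | g | g | g <;> rw [g] <;> norm_num
    · simp [u, h0c]
    · simp [u, h0c]

theorem all_hundred {u d : GolayPt → ℤ} (hu : u ∈ vecs 48) (hd : d ∈ vecs 32) (hud : dotInt u d = 16) :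
    (two 32 d u 0 24).card = 100 := by
  classical
  have hX : ∀ u ∈ vecs 48, ∀ d ∈ (vecs 32).filter (fun d => dotInt u d = 16), (two 32 d u 0 24).card ≤ 100 := by
    intro u hu d hd
    rcases (two 32 d u 0 24).eq_empty_or_nonempty with h | ⟨x, hx⟩
    · simp [h]
    obtain ⟨hd, hud⟩ := Finset.mem_filter.1 hd
    obtain ⟨hu1, hu2⟩ := mem_vecs.1 hu
    obtain ⟨hd1, hd2⟩ := mem_vecs.1 hd
    obtain ⟨⟨hx1, hx2⟩, hdx, hux⟩ := mem_two.1 hx
    obtain ⟨g, g1, g2, -⟩ := form_hs ⟨u, hu1⟩ ⟨d, hd1⟩ ⟨x, hx1⟩ hu2 hd2 hx2 hud hux hdx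
    refine le_of_eq ?_
    rw [show (two 32 d u 0 24).card = _ from move g 32 ⟨d, hd1⟩ ⟨u, hu1⟩ 0 24, g1, g2, hs_std]
  let W : (GolayPt → ℤ) → (GolayPt → ℤ) → (GolayPt → ℤ) → ℕ := fun u d x =>
    if dotInt u d = 16 ∧ dotInt d x = 0 ∧ dotInt u x = 24 then 1 else 0
  have hL : ∑ u ∈ vecs 48, ∑ d ∈ (vecs 32).filter (fun d => dotInt u d = 16), (two 32 d u 0 24).card =
      ∑ u ∈ vecs 48, ∑ d ∈ vecs 32, ∑ x ∈ vecs 32, W u d x := by
    refine Finset.sum_congr rfl fun u _ => ?_
    rw [Finset.sum_filter]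
    refine Finset.sum_congr rfl fun d _ => ?_
    rw [two, Finset.card_filter]
    split
    · exact Finset.sum_congr rfl fun x _ => by simp [W, *]
    · simp [W, *]
  have hR : ∑ u ∈ vecs 48, ∑ d ∈ vecs 32, ∑ x ∈ vecs 32, W u d x = 196560 * (93150 * 1024) := by
    rw [Finset.sum_comm]
    have hd : ∀ d ∈ vecs 32, ∑ u ∈ vecs 48, ∑ x ∈ vecs 32, W u d x = 93150 * 1024 := by
      intro d hd
      obtain ⟨hd1, hd2⟩ := mem_vecs.1 hd
      have e : ∀ x ∈ vecs 32, ∑ u ∈ vecs 48, W u d x = if dotInt d x = 0 then 1024 else 0 := by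
        intro x hx
        obtain ⟨hx1, hx2⟩ := mem_vecs.1 hx
        by_cases h0 : dotInt d x = 0
        · rw [if_pos h0]
          obtain ⟨g, g1, g2⟩ := form0 (⟨x, hx1⟩ : leechLattice) ⟨d, hd1⟩ hx2 hd2 ((dot_comm' _ _).trans h0)
          have h := move g 48 ⟨x, hx1⟩ ⟨d, hd1⟩ 24 16
          rw [g1, g2, show ((Spor.leechU : leechLattice) : GolayPt → ℤ) = Spor.vecU from rfl,
            show ((Spor.leechU' : leechLattice) : GolayPt → ℤ) = Spor.vecU' from rfl, fives_std] at h
          rw [← h, two, Finset.card_filter]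
          refine Finset.sum_congr rfl fun u _ => ?_
          simp only [W, h0, true_and, dot_comm' u, and_comm]
        · simp [W, h0]
      rw [Finset.sum_comm, Finset.sum_congr rfl e, ← Finset.sum_filter, Finset.sum_const, smul_eq_mul,
        ← (census d hd1 hd2).2.2, ← Set.ncard_coe_finset]
      congr 2
      ext w
      simp [mem_vecs, and_assoc]
    rw [Finset.sum_congr rfl hd, Finset.sum_const, smul_eq_mul, vecs32, card_minSet]
  have hn16 : ∀ u ∈ vecs 48, ((vecs 32).filter (fun d => dotInt u d = 16)).card = 11178 := fun u hu =>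
    (census48 u (mem_vecs.1 hu).1 (mem_vecs.1 hu).2).1
  have hle : ∀ u ∈ vecs 48, ∑ d ∈ (vecs 32).filter (fun d => dotInt u d = 16), (two 32 d u 0 24).card ≤
      ∑ d ∈ (vecs 32).filter (fun d => dotInt u d = 16), 100 := fun u hu => Finset.sum_le_sum (hX u hu)
  have heq : ∑ u ∈ vecs 48, ∑ d ∈ (vecs 32).filter (fun d => dotInt u d = 16), (two 32 d u 0 24).card =
      ∑ u ∈ vecs 48, ∑ d ∈ (vecs 32).filter (fun d => dotInt u d = 16), 100 := by
    have h100 : ∑ u ∈ vecs 48, ∑ d ∈ (vecs 32).filter (fun d => dotInt u d = 16), 100 = 16773120 * (11178 * 100) := by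
      rw [Finset.sum_congr rfl fun u hu => by rw [Finset.sum_const, hn16 u hu, smul_eq_mul], Finset.sum_const,
        smul_eq_mul, vecs, ← Set.ncard_eq_toFinset_card _ (finite_vecs 48), count48]
    rw [hL, hR, h100]
  have h1 := (Finset.sum_eq_sum_iff_of_le hle).1 heq u hu
  exact (Finset.sum_eq_sum_iff_of_le (hX u hu)).1 h1 d (Finset.mem_filter.2 ⟨hd, hud⟩)

theorem sub_count (S : Set leechLattice) (F : Finset (GolayPt → ℤ))
    (h : ∀ v : leechLattice, v ∈ S ↔ v.1 ∈ F) (hF : ∀ w ∈ F, w ∈ leechLattice) : S.ncard = F.card := by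
  rw [← Set.ncard_image_of_injective _ Subtype.val_injective, ← Set.ncard_coe_finset]
  congr 1
  ext w
  simp only [Set.mem_image, Finset.mem_coe]
  exact ⟨fun ⟨v, hv, e⟩ => e ▸ (h v).1 hv, fun hw => ⟨⟨w, hF w hw⟩, (h ⟨w, hF w hw⟩).2 hw, rfl⟩⟩

theorem pairs_transitive (u d u' d' : leechLattice) (hu : sqNorm u.1 = 48) (hd : sqNorm d.1 = 32)
    (hu' : sqNorm u'.1 = 48) (hd' : sqNorm d'.1 = 32) (hud : dotInt u.1 d.1 = 16)
    (hud' : dotInt u'.1 d'.1 = 16) : ∃ g : Co0, g • u = u' ∧ g • d = d' := by
  have key : ∀ u d : leechLattice, sqNorm u.1 = 48 → sqNorm d.1 = 32 → dotInt u.1 d.1 = 16 →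
      ∃ g : Co0, (g • u).1 = five ∧ (g • d).1 = Spor.vecU' := by
    intro u d hu hd hud
    obtain ⟨x, hx⟩ := Finset.card_pos.1 (show 0 < (two 32 d.1 u.1 0 24).card by
      rw [all_hundred (mem_vecs.2 ⟨u.2, hu⟩) (mem_vecs.2 ⟨d.2, hd⟩) hud]; norm_num)
    obtain ⟨⟨hx1, hx2⟩, hdx, hux⟩ := mem_two.1 hx
    obtain ⟨g, g1, g2, -⟩ := form_hs u d ⟨x, hx1⟩ hu hd hx2 hud hux hdx
    exact ⟨g, g1, g2⟩
  obtain ⟨g, g1, g2⟩ := key u d hu hd hud
  obtain ⟨k, k1, k2⟩ := key u' d' hu' hd' hud'
  exact ⟨k⁻¹ * g, by rw [mul_smul, inv_smul_eq_iff]; exact Subtype.ext (g1.trans k1.symm),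
    by rw [mul_smul, inv_smul_eq_iff]; exact Subtype.ext (g2.trans k2.symm)⟩

theorem mcl_config (u v : leechLattice) (hu : sqNorm u.1 = 48)
    (hv : sqNorm v.1 = 32 ∧ sqNorm (u.1 - v.1) = 32) :
    {x : leechLattice | sqNorm x.1 = 32 ∧ sqNorm (u.1 - x.1) = 32 ∧ dotInt v.1 x.1 = 16}.ncard = 275 ∧
    ∀ x ∈ {x : leechLattice | sqNorm x.1 = 32 ∧ sqNorm (u.1 - x.1) = 32 ∧ dotInt v.1 x.1 = 16},
    ∀ x' ∈ {x : leechLattice | sqNorm x.1 = 32 ∧ sqNorm (u.1 - x.1) = 32 ∧ dotInt v.1 x.1 = 16},
      ∃ g : Co0, g • u = u ∧ g • v = v ∧ g • x = x' := by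
  classical
  have hdu : ∀ y : leechLattice, sqNorm y.1 = 32 → sqNorm (u.1 - y.1) = 32 → dotInt u.1 y.1 = 24 := by
    intro y h1 h2
    rw [LeechModTwo.norm_sub, hu, h1] at h2
    omega
  have huv := hdu v hv.1 hv.2
  constructor
  · let S := splits u
    have hS : S.ncard = 552 := count_splits u hu
    have hSf : S.Finite := Set.finite_of_ncard_ne_zero (hS.trans_ne (by norm_num))
    let F := hSf.toFinset
    have hF : F.card = 552 := by rw [← Set.ncard_eq_toFinset_card _ hSf, hS]
    have hmem : ∀ y, y ∈ F ↔ sqNorm y.1 = 32 ∧ sqNorm (u.1 - y.1) = 32 := fun y => hSf.mem_toFinset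
    have hval : ∀ y ∈ F, dotInt v.1 y.1 = 16 ∨ dotInt v.1 y.1 = 8 ∨ y = v ∨ y = u - v := by
      intro y hy
      obtain ⟨h1, h2⟩ := (hmem y).1 hy
      by_cases e1 : y = v
      · exact Or.inr (Or.inr (Or.inl e1))
      by_cases e2 : y = u - v
      · exact Or.inr (Or.inr (Or.inr e2))
      have n1 := norm_min (leechLattice.sub_mem v.2 y.2) fun h => e1 (Subtype.ext (sub_eq_zero.1 h).symm)
      have n2 := norm_min (leechLattice.sub_mem (leechLattice.sub_mem u.2 v.2) y.2) fun h =>
        e2 (Subtype.ext (sub_eq_zero.1 h).symm)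
      have h8 := leech_dot_dvd v.2 y.2
      rw [LeechModTwo.norm_sub, hv.1, h1] at n1
      rw [LeechModTwo.norm_sub, hv.2, h1, sub_eq_add_neg u.1, dot_add_left, dot_neg_left, hdu y h1 h2] at n2
      omega
    have hdiff : ∀ y : leechLattice, sqNorm y.1 = 32 → sqNorm (u.1 - y.1) = 32 →
        dotInt v.1 (u - y).1 = 24 - dotInt v.1 y.1 := by
      intro y h1 h2
      rw [AddSubgroup.coe_sub, dot_comm', sub_eq_add_neg, dot_add_left, dot_neg_left, dot_comm' y.1, huv]
      ring
    have hswap : (F.filter fun y => dotInt v.1 y.1 = 8).card = (F.filter fun y => dotInt v.1 y.1 = 16).card := by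
      refine Finset.card_nbij' (fun y => u - y) (fun y => u - y) ?_ ?_ (fun y _ => sub_sub_cancel u y)
        (fun y _ => sub_sub_cancel u y)
      all_goals
        intro y hy
        simp only [Finset.mem_coe, Finset.mem_filter, hmem] at hy ⊢
        obtain ⟨⟨h1, h2⟩, h3⟩ := hy
        refine ⟨⟨h2, ?_⟩, by rw [hdiff y h1 h2, h3]; norm_num⟩
        rw [AddSubgroup.coe_sub, sub_sub_cancel]
        exact h1
    have hpart : F = (F.filter fun y => dotInt v.1 y.1 = 16) ∪ ((F.filter fun y => dotInt v.1 y.1 = 8) ∪ {v, u - v}) := by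
      ext y
      simp only [Finset.mem_union, Finset.mem_filter, Finset.mem_insert, Finset.mem_singleton]
      constructor
      · intro hy
        rcases hval y hy with h | h | h | h
        · exact Or.inl ⟨hy, h⟩
        · exact Or.inr (Or.inl ⟨hy, h⟩)
        · exact Or.inr (Or.inr (Or.inl h))
        · exact Or.inr (Or.inr (Or.inr h))
      · rintro (⟨hy, -⟩ | ⟨hy, -⟩ | rfl | rfl)
        · exact hy
        · exact hy
        · exact (hmem _).2 hv
        · refine (hmem _).2 ⟨hv.2, ?_⟩
          rw [AddSubgroup.coe_sub, sub_sub_cancel]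
          exact hv.1
    have hvv : dotInt v.1 v.1 = 32 := by rw [dot_self, hv.1]
    have hvu : dotInt v.1 (u - v).1 = -8 := by rw [hdiff v hv.1 hv.2, hvv]; norm_num
    have hne : v ≠ u - v := fun e => by rw [← e, hvv] at hvu; norm_num at hvu
    have hc := congrArg Finset.card hpart
    rw [Finset.card_union_of_disjoint, Finset.card_union_of_disjoint, Finset.card_pair hne, hswap, hF] at hc
    rotate_left
    · rw [Finset.disjoint_left]
      intro y hy hy'
      simp only [Finset.mem_filter, Finset.mem_insert, Finset.mem_singleton] at hy hy'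
      rcases hy' with rfl | rfl
      · rw [hvv] at hy; exact absurd hy.2 (by norm_num)
      · rw [hvu] at hy; exact absurd hy.2 (by norm_num)
    · rw [Finset.disjoint_left]
      intro y hy hy'
      simp only [Finset.mem_union, Finset.mem_filter, Finset.mem_insert, Finset.mem_singleton] at hy hy'
      rcases hy' with h | rfl | rfl
      · omega
      · rw [hvv] at hy; exact absurd hy.2 (by norm_num)
      · rw [hvu] at hy; exact absurd hy.2 (by norm_num)
    have hset : {x : leechLattice | sqNorm x.1 = 32 ∧ sqNorm (u.1 - x.1) = 32 ∧ dotInt v.1 x.1 = 16} =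
        ↑(F.filter fun y => dotInt v.1 y.1 = 16) := by
      ext y
      simp only [Finset.coe_filter, hmem, Set.mem_setOf_eq, and_assoc]
    rw [hset, Set.ncard_coe_finset]
    omega
  · intro x hx x' hx'
    obtain ⟨g, g1, g2, g3⟩ := form_mcl u v x hu hv.1 hx.1 huv (hdu x hx.1 hx.2.1) hx.2.2
    obtain ⟨k, k1, k2, k3⟩ := form_mcl u v x' hu hv.1 hx'.1 huv (hdu x' hx'.1 hx'.2.1) hx'.2.2
    exact ⟨k⁻¹ * g, by rw [mul_smul, inv_smul_eq_iff]; exact Subtype.ext (g1.trans k1.symm),
      by rw [mul_smul, inv_smul_eq_iff]; exact Subtype.ext (g2.trans k2.symm),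
      by rw [mul_smul, inv_smul_eq_iff]; exact Subtype.ext (g3.trans k3.symm)⟩

theorem plus_facts {v w : leechLattice} (hv : sqNorm v.1 = 48) (hw : sqNorm w.1 = 48)
    (hvw : dotInt v.1 w.1 = -32) : sqNorm (v + w).1 = 32 ∧ dotInt v.1 (v + w).1 = 16 := by
  refine ⟨by rw [AddSubgroup.coe_add, LeechModTwo.norm_add, hv, hw, hvw]; norm_num, ?_⟩
  rw [AddSubgroup.coe_add, dot_comm', dot_add_left, dot_self, hv, dot_comm', hvw]
  norm_num

theorem hs_config (v w : leechLattice) (hv : sqNorm v.1 = 48) (hw : sqNorm w.1 = 48)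
    (hvw : dotInt v.1 w.1 = -32) :
    {x : leechLattice | sqNorm x.1 = 32 ∧ dotInt v.1 x.1 = 24 ∧ dotInt w.1 x.1 = -24}.ncard = 100 ∧
    ∀ x ∈ {x : leechLattice | sqNorm x.1 = 32 ∧ dotInt v.1 x.1 = 24 ∧ dotInt w.1 x.1 = -24},
    ∀ x' ∈ {x : leechLattice | sqNorm x.1 = 32 ∧ dotInt v.1 x.1 = 24 ∧ dotInt w.1 x.1 = -24},
      ∃ g : Co0, g • v = v ∧ g • w = w ∧ g • x = x' := by
  obtain ⟨hn, hd⟩ := plus_facts hv hw hvw
  have hdx : ∀ x : GolayPt → ℤ, dotInt (v + w).1 x = dotInt v.1 x + dotInt w.1 x := fun x => by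
    rw [AddSubgroup.coe_add, dot_add_left]
  refine ⟨?_, fun x hx x' hx' => ?_⟩
  · rw [← all_hundred (mem_vecs.2 ⟨v.2, hv⟩) (mem_vecs.2 ⟨(v + w).2, hn⟩) hd]
    refine sub_count _ _ (fun x => ?_) fun y hy => (mem_two.1 hy).1.1
    rw [mem_two, hdx]
    exact ⟨fun h => ⟨⟨x.2, h.1⟩, by have := h.2.1; have := h.2.2; omega, h.2.1⟩,
      fun h => ⟨h.1.2, h.2.2, by have := h.2.1; have := h.2.2; omega⟩⟩
  · obtain ⟨g, g1, g2, g3⟩ := form_hs v (v + w) x hv hn hx.1 hd hx.2.1 (by rw [hdx, hx.2.1, hx.2.2]; norm_num)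
    obtain ⟨k, k1, k2, k3⟩ := form_hs v (v + w) x' hv hn hx'.1 hd hx'.2.1 (by rw [hdx, hx'.2.1, hx'.2.2]; norm_num)
    have e1 : (k⁻¹ * g) • v = v := by rw [mul_smul, inv_smul_eq_iff]; exact Subtype.ext (g1.trans k1.symm)
    have e2 : (k⁻¹ * g) • (v + w) = v + w := by
      rw [mul_smul, inv_smul_eq_iff]; exact Subtype.ext (g2.trans k2.symm)
    refine ⟨k⁻¹ * g, e1, ?_, by rw [mul_smul, inv_smul_eq_iff]; exact Subtype.ext (g3.trans k3.symm)⟩
    rw [smul_add', e1] at e2
    exact add_left_cancel e2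

theorem swap (v w : leechLattice) (hv : sqNorm v.1 = 48) (hw : sqNorm w.1 = 48)
    (hvw : dotInt v.1 w.1 = -32) : ∃ g : Co0, g • v = w ∧ g • w = v := by
  obtain ⟨hn, hd⟩ := plus_facts hv hw hvw
  have hd' : dotInt w.1 (v + w).1 = 16 := by
    rw [add_comm v w]; exact (plus_facts hw hv ((dot_comm' _ _).trans hvw)).2
  obtain ⟨g, g1, g2⟩ := pairs_transitive v (v + w) w (v + w) hv hn hw hn hd hd'
  refine ⟨g, g1, ?_⟩
  rw [smul_add', g1, add_comm v w] at g2
  exact add_left_cancel g2

theorem eleven_thousand (u : leechLattice) (hu : sqNorm u.1 = 48) :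
    {x : leechLattice | sqNorm x.1 = 32 ∧ dotInt u.1 x.1 = -16}.ncard = 11178 ∧
    ∀ x ∈ {x : leechLattice | sqNorm x.1 = 32 ∧ dotInt u.1 x.1 = -16},
    ∀ x' ∈ {x : leechLattice | sqNorm x.1 = 32 ∧ dotInt u.1 x.1 = -16},
      ∃ g : Co0, g • u = u ∧ g • x = x' := by
  refine ⟨?_, fun x hx x' hx' => ?_⟩
  · rw [← (census48 u.1 u.2 hu).2]
    refine sub_count _ _ (fun x => ?_) fun y hy => (mem_minSet.1 (Finset.mem_filter.1 hy).1).1
    rw [Finset.mem_filter, mem_minSet]
    exact ⟨fun h => ⟨⟨x.2, h.1⟩, h.2⟩, fun h => ⟨h.1.2, h.2⟩⟩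
  · have hneg : ∀ y : leechLattice, dotInt u.1 y.1 = -16 → dotInt u.1 (-y).1 = 16 := fun y hy => by
      rw [AddSubgroup.coe_neg, dot_comm', dot_neg_left, dot_comm', hy, neg_neg]
    obtain ⟨g, g1, g2⟩ := pairs_transitive u (-x) u (-x') hu ((norm_neg' _).trans hx.1) hu
      ((norm_neg' _).trans hx'.1) (hneg x hx.2) (hneg x' hx'.2)
    rw [smul_neg'] at g2
    exact ⟨g, g1, neg_injective g2⟩

end CfsgLib.Spor.LeechCo3Count
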