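import Cfsg.Agent.Spor.LeechHS
import Cfsg.Agent.Spor.M24Simple
import Mathlib

/-!
The three orbits of a point stabiliser on the hundred vectors.
-/

set_option autoImplicit false
set_option linter.unusedSectionVars false

namespace CfsgLib.Spor.LeechHSRank

open Cfsg MulAction CfsgLib.Spor CfsgLib.Spor.LeechFacts CfsgLib.Spor.LeechCount CfsgLib.Spor.LeechModTwo
  CfsgLib.Spor.LeechCross CfsgLib.Spor.LeechOrbits CfsgLib.Spor.LeechPairs CfsgLib.Spor.LeechCensus
  CfsgLib.Spor.LeechIso CfsgLib.Spor.LeechCo3 CfsgLib.Spor.LeechCo3Count CfsgLib.Spor.LeechStab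
  CfsgLib.Spor.LeechHS CfsgLib.Spor.M24Simple
open scoped Pointwise

/-- octads through the two points -/
noncomputable def base : Finset (Finset GolayPt) :=
  (octads_finite).toFinset.filter fun o => (none : GolayPt) ∈ o ∧ (some 0 : GolayPt) ∈ o

theorem mem_base {o : Finset GolayPt} : o ∈ base ↔ o ∈ octads ∧ (none : GolayPt) ∈ o ∧ (some 0 : GolayPt) ∈ o := by
  simp [base]

theorem card_base : base.card = 77 := by
  classical
  let rest : Finset GolayPt := Finset.univ \ {none, some 0}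
  have hrest : rest.card = 22 := by
    rw [Finset.card_sdiff_of_subset (Finset.subset_univ _), Finset.card_univ, Finset.card_pair (by simp)]
    simp [GolayPt]
  have h := Finset.sum_card_bipartiteAbove_eq_sum_card_bipartiteBelow (s := base) (t := rest.powersetCard 3)
    (fun o T => T ⊆ o)
  have hl : ∀ o ∈ base, (Finset.bipartiteAbove (fun o T => T ⊆ o) (rest.powersetCard 3) o).card = 20 := by
    intro o ho
    rw [mem_base] at ho
    have e : Finset.bipartiteAbove (fun o T => T ⊆ o) (rest.powersetCard 3) o = (o \ {none, some 0}).powersetCard 3 := by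
      ext T
      simp only [Finset.bipartiteAbove, Finset.mem_filter, Finset.mem_powersetCard]
      constructor
      · rintro ⟨⟨h1, h2⟩, h3⟩
        exact ⟨fun a ha => Finset.mem_sdiff.2 ⟨h3 ha, (Finset.mem_sdiff.1 (h1 ha)).2⟩, h2⟩
      · rintro ⟨h1, h2⟩
        exact ⟨⟨fun a ha => Finset.mem_sdiff.2 ⟨Finset.mem_univ _, (Finset.mem_sdiff.1 (h1 ha)).2⟩, h2⟩,
          fun a ha => (Finset.mem_sdiff.1 (h1 ha)).1⟩
    rw [e, Finset.card_powersetCard, Finset.card_sdiff_of_subset (by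
      intro a ha
      simp only [Finset.mem_insert, Finset.mem_singleton] at ha
      rcases ha with rfl | rfl
      exacts [ho.2.1, ho.2.2]), (mem_octads.1 ho.1).2, Finset.card_pair (by simp)]
    rfl
  have hr : ∀ T ∈ rest.powersetCard 3, (Finset.bipartiteBelow (fun o T => T ⊆ o) base T).card = 1 := by
    intro T hT
    obtain ⟨h1, h2⟩ := Finset.mem_powersetCard.1 hT
    have hn : ∀ a ∈ T, a ≠ none ∧ a ≠ some 0 := fun a ha => by
      have := (Finset.mem_sdiff.1 (h1 ha)).2
      simpa using this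
    have h5 : (insert none (insert (some 0) T) : Finset GolayPt).card = 5 := by
      rw [Finset.card_insert_of_notMem, Finset.card_insert_of_notMem, h2]
      · exact fun h => (hn _ h).2 rfl
      · simp only [Finset.mem_insert, not_or]; exact ⟨by simp, fun h => (hn _ h).1 rfl⟩
    obtain ⟨o, ⟨ho, hsub⟩, huniq⟩ := existsUnique_octad h5
    rw [Finset.card_eq_one]
    refine ⟨o, ?_⟩
    ext o'
    simp only [Finset.bipartiteBelow, Finset.mem_filter, Finset.mem_singleton, mem_base]
    constructor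
    · rintro ⟨⟨ho', a, b⟩, c⟩
      exact huniq o' ⟨ho', by
        intro z hz
        simp only [Finset.mem_insert] at hz
        rcases hz with rfl | rfl | hz
        exacts [a, b, c hz]⟩
    · rintro rfl
      exact ⟨⟨ho, hsub (by simp), hsub (by simp)⟩, fun z hz => hsub (by simp [hz])⟩
  rw [Finset.sum_congr rfl hl, Finset.sum_congr rfl hr, Finset.sum_const, Finset.sum_const, Finset.card_powersetCard,
    hrest, show Nat.choose 22 3 = 1540 by decide +kernel, smul_eq_mul, smul_eq_mul] at h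
  omega

/-- points other than the two -/
abbrev Pt : Type := {p : GolayPt // p ≠ none ∧ p ≠ some 0}

/-- octads through the two points, as a type -/
abbrev Bl : Type := {o : Finset GolayPt // o ∈ base}

/-- vectors of the neighbours -/
noncomputable def vPt (p : Pt) : leechLattice := oddAt p.1

/-- vectors of the others -/
noncomputable def vBl (o : Bl) : leechLattice := ⟨octTwo o.1, octTwo_mem (mem_base.1 o.2).1⟩

theorem vPt_facts (p : Pt) : vPt p ∈ hundred ∧ dotInt Spor.leechU.1 (vPt p).1 = 8 := by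
  rw [mem_hundred, fiveL_val, show (Spor.leechU' : leechLattice).1 = minusU from rfl, dot_minusU, dot_five,
    show (Spor.leechU : leechLattice).1 = Spor.vecU from rfl, LeechHS.dot_U, vPt, oddAt_val, sum_oddOne, ← dot_self, dot_oddOne, sum_oddOne]
  simp only [oddOne, if_neg (Ne.symm p.2.1), if_neg (Ne.symm p.2.2)]
  norm_num

theorem vBl_facts (o : Bl) : vBl o ∈ hundred ∧ dotInt Spor.leechU.1 (vBl o).1 = 16 := by
  obtain ⟨ho, h1, h2⟩ := mem_base.1 o.2
  rw [mem_hundred, fiveL_val, show (Spor.leechU' : leechLattice).1 = minusU from rfl, dot_minusU, dot_five,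
    show (Spor.leechU : leechLattice).1 = Spor.vecU from rfl, LeechHS.dot_U]
  show (sqNorm (octTwo o.1) = 32 ∧ 4 * (octTwo o.1 none - octTwo o.1 (some 0)) = 0 ∧
    4 * octTwo o.1 none + ∑ i, octTwo o.1 i = 24) ∧ 4 * octTwo o.1 none + 4 * octTwo o.1 (some 0) = 16
  rw [sum_octTwo (mem_octads.1 ho).2, ← dot_self, dot_octTwo, Finset.inter_self, (mem_octads.1 ho).2]
  simp [octTwo, h1, h2]

theorem vPt_inj : Function.Injective vPt := fun p q h => Subtype.ext (by
  have := congrArg (fun v : leechLattice => v.1 p.1) h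
  simp only [vPt, oddAt_val, oddOne, if_pos] at this
  by_contra hne
  rw [if_neg hne] at this
  norm_num at this)

theorem vBl_inj : Function.Injective vBl := fun o o' h => Subtype.ext (by
  ext l
  have := congrArg (fun v : leechLattice => v.1 l) h
  simp only [vBl, octTwo] at this
  split_ifs at this with a b b <;> simp_all)

theorem classify {y : leechLattice} (hy : y ∈ hundred) :
    y = Spor.leechU ∨ (∃ p, vPt p = y) ∨ ∃ o, vBl o = y := by
  classical
  have hfin : hundred.Finite := Set.finite_of_ncard_pos (by rw [ncard_hundred]; norm_num)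
  let f : Unit ⊕ Pt ⊕ Bl → leechLattice := Sum.elim (fun _ => Spor.leechU) (Sum.elim vPt vBl)
  have hU : dotInt Spor.leechU.1 Spor.leechU.1 = 32 := by rw [dot_self]; exact norm_base
  have hinj : Function.Injective f := by
    rintro (u | p | o) (u' | q | o') h <;> simp only [f, Sum.elim_inl, Sum.elim_inr] at h
    · rfl
    · have := (vPt_facts q).2; rw [← h, hU] at this; norm_num at this
    · have := (vBl_facts o').2; rw [← h, hU] at this; norm_num at this
    · have := (vPt_facts p).2; rw [h, hU] at this; norm_num at this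
    · rw [vPt_inj h]
    · have := (vPt_facts p).2; rw [h, (vBl_facts o').2] at this; norm_num at this
    · have := (vBl_facts o).2; rw [h, hU] at this; norm_num at this
    · have := (vBl_facts o).2; rw [h, (vPt_facts q).2] at this; norm_num at this
    · rw [vBl_inj h]
  have hsub : Set.range f ⊆ hundred := by
    rintro _ ⟨(u | p | o), rfl⟩
    exacts [U_mem, (vPt_facts p).1, (vBl_facts o).1]
  have hPt : Fintype.card Pt = 22 := by decide +kernel
  have heq : Set.range f = hundred := Set.eq_of_subset_of_ncard_le hsub (by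
    rw [ncard_hundred, Set.ncard_range_of_injective hinj, Nat.card_sum, Nat.card_sum, Nat.card_unique,
      Nat.card_eq_fintype_card, hPt, Nat.card_eq_fintype_card, Fintype.card_coe, card_base]) hfin
  rw [← heq] at hy
  obtain ⟨(u | p | o), rfl⟩ := hy
  · exact Or.inl rfl
  · exact Or.inr (Or.inl ⟨p, rfl⟩)
  · exact Or.inr (Or.inr ⟨o, rfl⟩)

theorem counts : {y : leechLattice | y ∈ hundred ∧ dotInt Spor.leechU.1 y.1 = 8}.ncard = 22 ∧
    {y : leechLattice | y ∈ hundred ∧ y ≠ Spor.leechU ∧ dotInt Spor.leechU.1 y.1 ≠ 8}.ncard = 77 := by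
  classical
  have hPt : Fintype.card Pt = 22 := by decide +kernel
  have hU : dotInt Spor.leechU.1 Spor.leechU.1 = 32 := by rw [dot_self]; exact norm_base
  constructor
  · rw [show {y : leechLattice | y ∈ hundred ∧ dotInt Spor.leechU.1 y.1 = 8} = Set.range vPt from ?_,
      Set.ncard_range_of_injective vPt_inj, Nat.card_eq_fintype_card, hPt]
    ext y
    constructor
    · rintro ⟨hy, h8⟩
      rcases classify hy with rfl | ⟨p, rfl⟩ | ⟨o, rfl⟩
      · rw [hU] at h8; norm_num at h8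
      · exact ⟨p, rfl⟩
      · rw [(vBl_facts o).2] at h8; norm_num at h8
    · rintro ⟨p, rfl⟩; exact vPt_facts p
  · rw [show {y : leechLattice | y ∈ hundred ∧ y ≠ Spor.leechU ∧ dotInt Spor.leechU.1 y.1 ≠ 8} = Set.range vBl from ?_,
      Set.ncard_range_of_injective vBl_inj, Nat.card_eq_fintype_card, Fintype.card_coe, card_base]
    ext y
    constructor
    · rintro ⟨hy, hne, h8⟩
      rcases classify hy with rfl | ⟨p, rfl⟩ | ⟨o, rfl⟩
      · exact absurd rfl hne
      · exact absurd (vPt_facts p).2 h8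
      · exact ⟨o, rfl⟩
    · rintro ⟨o, rfl⟩
      refine ⟨(vBl_facts o).1, fun e => ?_, fun e => ?_⟩
      · have := (vBl_facts o).2; rw [e, hU] at this; norm_num at this
      · rw [(vBl_facts o).2] at e; norm_num at e

theorem fix_of (σ : M24) (h1 : (σ : Equiv.Perm GolayPt) none = none) (h2 : (σ : Equiv.Perm GolayPt) (some 0) = some 0) :
    permHom σ ∈ hsG ∧ permHom σ • Spor.leechU = Spor.leechU := by
  have hσ : σ ∈ LeechStab.twoStab := ⟨h1, h2⟩
  have : permHom σ ∈ hsG ⊓ stabilizer Co0 Spor.leechU := by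
    rw [hsG_inf]; exact ⟨σ, hσ, rfl⟩
  exact ⟨this.1, this.2⟩

theorem trans_pt (p q : Pt) : ∃ g ∈ hsG, g • Spor.leechU = Spor.leechU ∧ g • vPt p = vPt q := by
  obtain ⟨σ, hσ⟩ := m24_move (k := 3) (by norm_num) ![none, some 0, p.1] ![none, some 0, q.1]
    (inj_three (by simp) (Ne.symm p.2.1) (Ne.symm p.2.2)) (inj_three (by simp) (Ne.symm q.2.1) (Ne.symm q.2.2))
  obtain ⟨hg, hgU⟩ := fix_of σ (hσ 0) (hσ 1)
  refine ⟨_, hg, hgU, Subtype.ext (funext fun l => ?_)⟩
  obtain ⟨l, rfl⟩ := (σ : Equiv.Perm GolayPt).surjective l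
  rw [permHom_apply]
  have h3 : (σ : Equiv.Perm GolayPt) p.1 = q.1 := hσ 2
  simp only [vPt, oddAt_val, oddOne, ← h3, EmbeddingLike.apply_eq_iff_eq]

theorem trans_bl (o o' : Bl) : ∃ g ∈ hsG, g • Spor.leechU = Spor.leechU ∧ g • vBl o = vBl o' := by
  classical
  obtain ⟨ho, h1, h2⟩ := mem_base.1 o.2
  obtain ⟨ho', h1', h2'⟩ := mem_base.1 o'.2
  have pick : ∀ o : Finset GolayPt, o ∈ octads → none ∈ o → some 0 ∈ o →
      ∃ u : Fin 5 → GolayPt, Function.Injective u ∧ u 0 = none ∧ u 1 = some 0 ∧ ∀ i, u i ∈ o := by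
    intro o ho h1 h2
    obtain ⟨T, hT, hT3⟩ := Finset.exists_subset_card_eq (show 3 ≤ (o \ {none, some 0}).card by
      have := Finset.le_card_sdiff ({none, some 0} : Finset GolayPt) o
      rw [(mem_octads.1 ho).2, Finset.card_pair (by simp)] at this
      omega)
    let e := (T.equivFinOfCardEq hT3).symm
    have he : ∀ i, (e i).1 ∈ o ∧ (e i).1 ≠ none ∧ (e i).1 ≠ some 0 := fun i => by
      simpa using Finset.mem_sdiff.1 (hT (e i).2)
    refine ⟨Fin.cons none (Fin.cons (some 0) fun i => (e i).1), ?_, rfl, rfl, ?_⟩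
    · refine Fin.cons_injective_iff.2 ⟨?_, Fin.cons_injective_iff.2 ⟨?_, fun a b h => e.injective (Subtype.ext h)⟩⟩
      · rintro ⟨i, hi⟩
        revert hi
        refine Fin.cases ?_ (fun j => ?_) i
        · simp
        · simp only [Fin.cons_succ]; exact (he j).2.1
      · rintro ⟨i, hi⟩
        exact (he i).2.2 hi
    · intro i
      refine Fin.cases h1 (fun j => ?_) i
      refine Fin.cases h2 (fun k => ?_) j
      simpa using (he k).1
  obtain ⟨u, hu, u0, u1, hu'⟩ := pick o.1 ho h1 h2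
  obtain ⟨v, hv, v0, v1, hv'⟩ := pick o'.1 ho' h1' h2'
  obtain ⟨σ, hσ⟩ := m24_move (k := 5) le_rfl u v hu hv
  obtain ⟨hg, hgU⟩ := fix_of σ (show σ • (none : GolayPt) = none by rw [← u0, hσ 0, v0, u0])
    (show σ • (some 0 : GolayPt) = some 0 by rw [← u1, hσ 1, v1, u1])
  have hso : (σ : Equiv.Perm GolayPt) • o.1 = o'.1 := by
    have h5 : (Finset.univ.image v).card = 5 := by rw [Finset.card_image_of_injective _ hv]; rfl
    refine (existsUnique_octad h5).unique ⟨smul_mem_octads σ.2 ho, ?_⟩ ⟨ho', ?_⟩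
    · intro a ha
      obtain ⟨i, -, rfl⟩ := Finset.mem_image.1 ha
      rw [← hσ i]
      exact Finset.smul_mem_smul_finset (hu' i)
    · intro a ha
      obtain ⟨i, -, rfl⟩ := Finset.mem_image.1 ha
      exact hv' i
  refine ⟨_, hg, hgU, Subtype.ext (funext fun l => ?_)⟩
  obtain ⟨l, rfl⟩ := (σ : Equiv.Perm GolayPt).surjective l
  rw [permHom_apply]
  show octTwo o.1 l = octTwo o'.1 ((σ : Equiv.Perm GolayPt) l)
  simp only [octTwo, ← hso]
  have : (σ : Equiv.Perm GolayPt) l ∈ (σ : Equiv.Perm GolayPt) • o.1 ↔ l ∈ o.1 :=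
    Finset.smul_mem_smul_finset_iff (b := l) (σ : Equiv.Perm GolayPt)
  simp only [this]

theorem main (v w x : leechLattice) (hv : sqNorm v.1 = 48) (hw : sqNorm w.1 = 48) (hvw : dotInt v.1 w.1 = -32)
    (hx : sqNorm x.1 = 32 ∧ dotInt v.1 x.1 = 24 ∧ dotInt w.1 x.1 = -24) :
    {y : leechLattice | (sqNorm y.1 = 32 ∧ dotInt v.1 y.1 = 24 ∧ dotInt w.1 y.1 = -24) ∧ dotInt x.1 y.1 = 8}.ncard = 22 ∧
    {y : leechLattice | (sqNorm y.1 = 32 ∧ dotInt v.1 y.1 = 24 ∧ dotInt w.1 y.1 = -24) ∧ y ≠ x ∧ dotInt x.1 y.1 ≠ 8}.ncard = 77 ∧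
    ∀ y y' : leechLattice, (sqNorm y.1 = 32 ∧ dotInt v.1 y.1 = 24 ∧ dotInt w.1 y.1 = -24) →
      (sqNorm y'.1 = 32 ∧ dotInt v.1 y'.1 = 24 ∧ dotInt w.1 y'.1 = -24) → y ≠ x → y' ≠ x →
      (dotInt x.1 y.1 = 8 ↔ dotInt x.1 y'.1 = 8) → ∃ g : Co0, g • v = v ∧ g • w = w ∧ g • x = x ∧ g • y = y' := by
  obtain ⟨hn, hd⟩ := plus_facts hv hw hvw
  obtain ⟨g, g1, g2⟩ := pairs_transitive v (v + w) fiveL Spor.leechU' hv hn norm_fiveL
    (by show sqNorm Spor.vecU' = 32; decide +kernel) hd
    (by rw [fiveL_val]; show dotInt five Spor.vecU' = 16; decide +kernel)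
  have hiff : ∀ z : leechLattice, (sqNorm z.1 = 32 ∧ dotInt v.1 z.1 = 24 ∧ dotInt w.1 z.1 = -24) ↔ g • z ∈ hundred := by
    intro z
    rw [mem_hundred, smul_norm, ← g2, ← g1, smul_dot, smul_dot,
      show dotInt (v + w).1 z.1 = dotInt v.1 z.1 + dotInt w.1 z.1 by rw [AddSubgroup.coe_add, dot_add_left]]
    constructor
    · rintro ⟨a, b, c⟩; exact ⟨a, by omega, b⟩
    · rintro ⟨a, b, c⟩; exact ⟨a, c, by omega⟩
  obtain ⟨h, hh, hhx⟩ := hsG_transitive ((hiff x).1 hx)
  obtain ⟨k, hk⟩ : ∃ k : Co0, k = h⁻¹ * g := ⟨_, rfl⟩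
  have hkx : k • x = Spor.leechU := by rw [hk, mul_smul, ← hhx, inv_smul_smul]
  have hkiff : ∀ z : leechLattice, (sqNorm z.1 = 32 ∧ dotInt v.1 z.1 = 24 ∧ dotInt w.1 z.1 = -24) ↔ k • z ∈ hundred := by
    intro z
    rw [hiff, hk, mul_smul]
    exact ⟨fun e => hundred_smul (inv_mem hh) e, fun e => by simpa using hundred_smul hh e⟩
  have hdot : ∀ z : leechLattice, dotInt Spor.leechU.1 (k • z).1 = dotInt x.1 z.1 := fun z => by
    rw [← hkx, smul_dot]
  have hne : ∀ z : leechLattice, k • z ≠ Spor.leechU ↔ z ≠ x := fun z => by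
    rw [← hkx]; exact (MulAction.injective k).ne_iff
  obtain ⟨c1, c2⟩ := counts
  refine ⟨?_, ?_, fun y y' hy hy' hyx hy'x hsame => ?_⟩
  · refine Eq.trans ?_ c1
    rw [← Set.ncard_image_of_injective _ (MulAction.injective k)]
    congr 1
    ext z
    constructor
    · rintro ⟨u, ⟨hu, h8⟩, rfl⟩; exact ⟨(hkiff u).1 hu, (hdot u).trans h8⟩
    · rintro ⟨hz, h8⟩
      refine ⟨k⁻¹ • z, ⟨(hkiff _).2 (by rwa [smul_inv_smul]), ?_⟩, smul_inv_smul _ _⟩
      rw [← hdot, smul_inv_smul]; exact h8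
  · refine Eq.trans ?_ c2
    rw [← Set.ncard_image_of_injective _ (MulAction.injective k)]
    congr 1
    ext z
    constructor
    · rintro ⟨u, ⟨hu, hux, h8⟩, rfl⟩; exact ⟨(hkiff u).1 hu, (hne u).2 hux, by rw [hdot]; exact h8⟩
    · rintro ⟨hz, hzU, h8⟩
      refine ⟨k⁻¹ • z, ⟨(hkiff _).2 (by rwa [smul_inv_smul]), ?_, ?_⟩, smul_inv_smul _ _⟩
      · rw [← hne, smul_inv_smul]; exact hzU
      · rw [← hdot, smul_inv_smul]; exact h8
  · have hd8 : ∀ z : leechLattice, dotInt Spor.leechU.1 (k • z).1 = 8 ↔ dotInt x.1 z.1 = 8 := fun z => by rw [hdot]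
    have hcase : ∃ m ∈ hsG, m • Spor.leechU = Spor.leechU ∧ m • (k • y) = k • y' := by
      rcases classify ((hkiff y).1 hy) with e | ⟨p, hp⟩ | ⟨o, ho⟩
      · exact absurd e ((hne y).2 hyx)
      · rcases classify ((hkiff y').1 hy') with e | ⟨q, hq⟩ | ⟨o, ho⟩
        · exact absurd e ((hne y').2 hy'x)
        · rw [← hp, ← hq]; exact trans_pt p q
        · exfalso
          have h1 := (hd8 y').2 (hsame.1 ((hd8 y).1 (hp ▸ (vPt_facts p).2)))
          rw [← ho, (vBl_facts o).2] at h1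
          norm_num at h1
      · rcases classify ((hkiff y').1 hy') with e | ⟨q, hq⟩ | ⟨o', ho'⟩
        · exact absurd e ((hne y').2 hy'x)
        · exfalso
          have h1 := (hd8 y).2 (hsame.2 ((hd8 y').1 (hq ▸ (vPt_facts q).2)))
          rw [← ho, (vBl_facts o).2] at h1
          norm_num at h1
        · rw [← ho, ← ho']; exact trans_bl o o'
    obtain ⟨m, hm, hmU, hmy⟩ := hcase
    have hgv : ∀ z : leechLattice, g • z = fiveL ∨ g • z = Spor.leechU' → (k⁻¹ * m * k) • z = z := by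
      intro z hz
      have hfix : ∀ n ∈ hsG, n • (g • z) = g • z := fun n hn => by
        rcases hz with e | e <;> rw [e]
        exacts [hn.1, hn.2]
      have hkz : k • z = g • z := by rw [hk, mul_smul]; exact hfix _ (inv_mem hh)
      rw [mul_smul, mul_smul, hkz, hfix m hm, ← hkz, inv_smul_smul]
    refine ⟨k⁻¹ * m * k, hgv v (Or.inl g1), ?_, ?_, ?_⟩
    · have e1 := hgv (v + w) (Or.inr g2)
      rw [smul_add', hgv v (Or.inl g1)] at e1
      exact add_left_cancel e1
    · rw [mul_smul, mul_smul, hkx, hmU, ← hkx, inv_smul_smul]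
    · rw [mul_smul, mul_smul, hmy, inv_smul_smul]

end CfsgLib.Spor.LeechHSRank
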