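import Cfsg.Agent.Spor.SmallSteinerAut
import Cfsg.Prelude.Def_SporadicCombinatorics
import Mathlib.LinearAlgebra.Span.Basic
import Mathlib.GroupTheory.Perm.Basic

/-!
The ternary code of length twelve: the code, its hexads and its monomial group.
-/

set_option autoImplicit false

namespace CfsgLib.Spor.Ternary

open Cfsg CfsgLib.Spor.SmallSteiner
open scoped Pointwise

/-- numbering of the array -/
def e12 : Fin 12 ≃ ArrayPt :=
  (finProdFinEquiv (m := 4) (n := 3)).symm.trans ((Equiv.refl (Fin 4)).prodCongr (ZMod.finEquiv 3).toEquiv)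

/-- value of a coded word -/
def valN (w : ℕ × ℕ) (i : ℕ) : ℕ :=
  cond (Nat.beq (Nat.land (Nat.shiftRight w.1 i) 1) 1) 1
    (cond (Nat.beq (Nat.land (Nat.shiftRight w.2 i) 1) 1) 2 0)

theorem valN_lt (w : ℕ × ℕ) (i : ℕ) : valN w i < 3 := by
  rw [valN, bit_eq, bit_eq]
  cases w.1.testBit i <;> cases w.2.testBit i <;> decide

/-- the word of a code -/
def val (w : ℕ × ℕ) (p : ArrayPt) : ZMod 3 := (valN w (e12.symm p).val : ZMod 3)

theorem val_val (w : ℕ × ℕ) (p : ArrayPt) : (val w p).val = valN w (e12.symm p).val :=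
  ZMod.val_natCast_of_lt (valN_lt _ _)

/-- the linear conditions on a coded word -/
def checkN (w : ℕ × ℕ) : Bool :=
  (List.range 3).any fun s =>
    (List.range 4).all (fun i => Nat.beq (Nat.mod (valN w (3 * i) + valN w (3 * i + 1) + valN w (3 * i + 2) + s) 3) 0) &&
    (List.range 3).all fun a => (List.range 3).all fun b =>
      Nat.beq (Nat.mod (valN w (b % 3) + valN w (3 + a % 3) + valN w (6 + (a + b) % 3) +
        valN w (9 + (a + 2 * b) % 3)) 3) s

theorem mem_tetracode (t : Fin 4 → ZMod 3) :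
    t ∈ tetracode ↔ ∃ a b : ZMod 3, ![b, a, a + b, a + 2 * b] = t := by
  rw [tetracode, Submodule.mem_span_pair]
  refine exists_congr fun a => exists_congr fun b => ?_
  have e : a • ![(0 : ZMod 3), 1, 1, 1] + b • ![(1 : ZMod 3), 0, 1, 2] = ![b, a, a + b, a + 2 * b] := by
    funext i
    fin_cases i <;> simp [mul_comm]
  rw [e]

theorem idx_eq : ∀ (i : Fin 4) (r : ZMod 3), (e12.symm (i, r)).val = 3 * i.val + r.val := by
  decide +kernel

theorem checkN_iff (w : ℕ × ℕ) : val w ∈ ternaryGolayCode ↔ checkN w = true := by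
  show IsTernaryGolayWord (val w) ↔ _
  have sum3 : ∀ i : Fin 4, ∑ r : ZMod 3, val w (i, r) =
      ((valN w (3 * i.val) + valN w (3 * i.val + 1) + valN w (3 * i.val + 2) : ℕ) : ZMod 3) := by
    intro i
    rw [show (Finset.univ : Finset (ZMod 3)) = {0, 1, 2} by decide, Finset.sum_insert (by decide),
      Finset.sum_insert (by decide), Finset.sum_singleton]
    simp only [val, idx_eq, Nat.cast_add]
    rw [show ((0 : ZMod 3)).val = 0 from rfl, show ((1 : ZMod 3)).val = 1 from rfl,
      show ((2 : ZMod 3)).val = 2 from rfl, add_zero]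
    ring
  have sum4 : ∀ a b : ZMod 3, ∑ i : Fin 4, val w (i, ![b, a, a + b, a + 2 * b] i) =
      ((valN w (b.val % 3) + valN w (3 + a.val % 3) + valN w (6 + (a.val + b.val) % 3) +
        valN w (9 + (a.val + 2 * b.val) % 3) : ℕ) : ZMod 3) := by
    intro a b
    have h2 : ∀ a b : ZMod 3, (a + b).val = (a.val + b.val) % 3 ∧
        (a + 2 * b).val = (a.val + 2 * b.val) % 3 ∧ a.val = a.val % 3 := by decide
    rw [Fin.sum_univ_four]
    simp only [val, idx_eq, Nat.cast_add, Matrix.cons_val]
    rw [(h2 a b).1, (h2 a b).2.1, ← (h2 a b).2.2, ← (h2 b a).2.2]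
    simp
  simp only [checkN, List.any_eq_true, List.all_eq_true, List.mem_range, Bool.and_eq_true, Nat.beq_eq]
  constructor
  · rintro ⟨s, hs, ht⟩
    refine ⟨s.val, ZMod.val_lt s, fun i hi => ?_, fun a ha b hb => ?_⟩
    · have h := hs ⟨i, hi⟩
      rw [sum3] at h
      have h' : ((valN w (3 * i) + valN w (3 * i + 1) + valN w (3 * i + 2) + s.val : ℕ) : ZMod 3) = 0 := by
        rw [Nat.cast_add, h, ZMod.natCast_zmod_val]; ring
      exact (ZMod.natCast_eq_zero_iff _ _).1 h' |> Nat.mod_eq_zero_of_dvd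
    · have h := ht _ ((mem_tetracode _).2 ⟨(a : ZMod 3), (b : ZMod 3), rfl⟩)
      rw [sum4, ZMod.val_natCast_of_lt ha, ZMod.val_natCast_of_lt hb] at h
      have := congrArg ZMod.val h
      rwa [ZMod.val_natCast] at this
  · rintro ⟨s, hs, hcol, htet⟩
    refine ⟨(s : ZMod 3), fun i => ?_, fun t ht => ?_⟩
    · rw [sum3, eq_neg_iff_add_eq_zero, ← Nat.cast_add, ZMod.natCast_eq_zero_iff]
      exact Nat.dvd_of_mod_eq_zero (hcol i.val i.2)
    · obtain ⟨a, b, rfl⟩ := (mem_tetracode t).1 ht
      rw [sum4, ← ZMod.natCast_mod]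
      exact congrArg Nat.cast (htet a.val (ZMod.val_lt a) b.val (ZMod.val_lt b))

/-- all words supported on given positions -/
def exts : List ℕ → List (ℕ × ℕ)
  | [] => [(0, 0)]
  | i :: l => [(0, 0), (Nat.shiftLeft 1 i, 0), (0, Nat.shiftLeft 1 i)].flatMap fun v =>
      (exts l).map fun w => (Nat.lor v.1 w.1, Nat.lor v.2 w.2)

theorem exts_repr (x : ℕ → ℕ) (hx : ∀ i, x i < 3) : ∀ l : List ℕ, l.Nodup →
    ∃ w ∈ exts l, ∀ i, valN w i = (if i ∈ l then x i else 0) ∧ (w.1.testBit i = true → i ∈ l) ∧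
      (w.2.testBit i = true → i ∈ l)
  | [], _ => ⟨(0, 0), by simp [exts], fun i => by simp [valN, show Nat.beq 0 1 = false from rfl]⟩
  | a :: l, h => by
    rw [List.nodup_cons] at h
    obtain ⟨w, hw, hwi⟩ := exts_repr x hx l h.2
    have ha1 : w.1.testBit a = false := Bool.eq_false_iff.2 fun e => h.1 ((hwi a).2.1 e)
    have ha2 : w.2.testBit a = false := Bool.eq_false_iff.2 fun e => h.1 ((hwi a).2.2 e)
    obtain ⟨v, hv, hva⟩ : ∃ v : ℕ × ℕ, v ∈ [(0, 0), (Nat.shiftLeft 1 a, 0), (0, Nat.shiftLeft 1 a)] ∧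
        ((x a = 0 ∧ v = (0, 0)) ∨ (x a = 1 ∧ v = (Nat.shiftLeft 1 a, 0)) ∨
          (x a = 2 ∧ v = (0, Nat.shiftLeft 1 a))) := by
      have := hx a
      rcases (show x a = 0 ∨ x a = 1 ∨ x a = 2 by omega) with e | e | e
      · exact ⟨_, by simp, Or.inl ⟨e, rfl⟩⟩
      · exact ⟨_, by simp, Or.inr (Or.inl ⟨e, rfl⟩)⟩
      · exact ⟨_, by simp, Or.inr (Or.inr ⟨e, rfl⟩)⟩
    refine ⟨(Nat.lor v.1 w.1, Nat.lor v.2 w.2), List.mem_flatMap.2 ⟨v, hv, List.mem_map.2 ⟨w, hw, rfl⟩⟩,
      fun i => ?_⟩
    obtain ⟨h1, h2, h3⟩ := hwi i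
    simp only [valN, bit_eq] at h1 ⊢
    simp only [show ∀ p q, Nat.lor p q = p ||| q from fun _ _ => rfl, Nat.testBit_lor]
    by_cases hia : i = a
    · subst hia
      rcases hva with ⟨e, rfl⟩ | ⟨e, rfl⟩ | ⟨e, rfl⟩ <;>
        simp [ha1, ha2, e, show Nat.shiftLeft 1 i = 1 <<< i from rfl, Nat.one_shiftLeft]
    · rcases hva with ⟨e, rfl⟩ | ⟨e, rfl⟩ | ⟨e, rfl⟩ <;>
        simp only [Nat.zero_testBit, Bool.false_or, show Nat.shiftLeft 1 a = 1 <<< a from rfl,
          Nat.one_shiftLeft, Nat.testBit_two_pow, decide_eq_false (Ne.symm hia)] <;>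
        refine ⟨?_, fun hh => List.mem_cons_of_mem _ (h2 hh), fun hh => List.mem_cons_of_mem _ (h3 hh)⟩ <;>
        rw [h1] <;> simp [hia]

/-- mask of the information positions -/
def infoMask : ℕ := 95

theorem code_check :
    codeList.map (fun w => (Nat.land w.1 infoMask, Nat.land w.2 infoMask)) = exts infoPos ∧
    (codeList.all fun w => Nat.blt w.1 4096 && (Nat.blt w.2 4096 && Nat.beq (Nat.land w.1 w.2) 0)) = true ∧
    codeList.all checkN = true ∧
    (exts freePos).all (fun w => !checkN w || (Nat.beq w.1 0 && Nat.beq w.2 0)) = true ∧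
    infoPos.Nodup ∧ freePos.Nodup ∧
    ((List.range 12).all fun i => (infoMask.testBit i == infoPos.contains i) &&
      (infoPos.contains i || freePos.contains i)) = true := by decide +kernel

theorem eq_zero_of_info {x : ArrayPt → ZMod 3} (hx : x ∈ ternaryGolayCode)
    (h : ∀ i : Fin 12, i.val ∈ infoPos → x (e12 i) = 0) : x = 0 := by
  obtain ⟨-, -, -, hfree, -, hnd, hpos⟩ := code_check
  obtain ⟨w, hw, hwi⟩ := exts_repr (fun i => if hi : i < 12 then (x (e12 ⟨i, hi⟩)).val else 0)
    (fun i => by split <;> [exact ZMod.val_lt _; norm_num]) freePos hnd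
  have e : val w = x := by
    funext p
    obtain ⟨i, rfl⟩ := e12.surjective p
    rw [val, Equiv.symm_apply_apply, (hwi i.val).1]
    by_cases hi : i.val ∈ freePos
    · rw [if_pos hi, dif_pos i.2, ZMod.natCast_zmod_val]
    · rw [if_neg hi, Nat.cast_zero]
      have := List.all_eq_true.1 hpos i.val (List.mem_range.2 i.2)
      simp only [Bool.and_eq_true, Bool.or_eq_true, List.contains_iff_mem, hi, or_false] at this
      exact (h i this.2).symm
  have h0 := List.all_eq_true.1 hfree w hw
  rw [(checkN_iff w).1 (e ▸ hx), Bool.not_true, Bool.false_or, Bool.and_eq_true, Nat.beq_eq,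
    Nat.beq_eq] at h0
  rw [← e]
  funext p
  rw [val, valN, bit_eq, bit_eq, h0.1, h0.2]
  simp

theorem eq_of_info {x y : ArrayPt → ZMod 3} (hx : x ∈ ternaryGolayCode) (hy : y ∈ ternaryGolayCode)
    (h : ∀ i : Fin 12, i.val ∈ infoPos → x (e12 i) = y (e12 i)) : x = y :=
  sub_eq_zero.1 (eq_zero_of_info (sub_mem hx hy) fun i hi => by simp [h i hi])

theorem val_mem {w : ℕ × ℕ} (hw : w ∈ codeList) : val w ∈ ternaryGolayCode :=
  (checkN_iff w).2 (List.all_eq_true.1 code_check.2.2.1 w hw)

theorem mem_list {x : ArrayPt → ZMod 3} (hx : x ∈ ternaryGolayCode) : ∃ w ∈ codeList, val w = x := by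
  obtain ⟨hinfo, -, -, -, hnd, -, hpos⟩ := code_check
  obtain ⟨v, hv, hvi⟩ := exts_repr (fun i => if hi : i < 12 then (x (e12 ⟨i, hi⟩)).val else 0)
    (fun i => by split <;> [exact ZMod.val_lt _; norm_num]) infoPos hnd
  rw [← hinfo, List.mem_map] at hv
  obtain ⟨w, hw, rfl⟩ := hv
  refine ⟨w, hw, eq_of_info (val_mem hw) hx fun i hi => ?_⟩
  have h1 := (hvi i.val).1
  rw [if_pos hi, dif_pos i.2] at h1
  rw [val, Equiv.symm_apply_apply]
  have e : valN w i.val = valN (Nat.land w.1 infoMask, Nat.land w.2 infoMask) i.val := by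
    have hb : infoMask.testBit i.val = true := by
      have := List.all_eq_true.1 hpos i.val (List.mem_range.2 i.2)
      simp only [Bool.and_eq_true, beq_iff_eq, List.contains_iff_mem] at this
      rw [this.1]; simpa using hi
    simp only [valN, bit_eq]
    simp [show ∀ a b, Nat.land a b = a &&& b from fun _ _ => rfl, hb]
  rw [e, h1, ZMod.natCast_zmod_val]

theorem mask_eq {w v : ℕ × ℕ} (hw : w ∈ codeList) (hv : v ∈ codeList) (h : val w = val v) : w = v := by
  have hc := code_check.2.1
  simp only [List.all_eq_true, Bool.and_eq_true, Nat.blt_eq, Nat.beq_eq] at hc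
  have key : ∀ i, w.1.testBit i = v.1.testBit i ∧ w.2.testBit i = v.2.testBit i := by
    intro i
    by_cases hi : i < 12
    · have e := congrArg ZMod.val (congrFun h (e12 ⟨i, hi⟩))
      rw [val_val, val_val, Equiv.symm_apply_apply] at e
      have d : ∀ u : ℕ × ℕ, u ∈ codeList → ¬(u.1.testBit i = true ∧ u.2.testBit i = true) := by
        intro u hu hh
        have := congrArg (fun n => n.testBit i) (show u.1 &&& u.2 = 0 from (hc u hu).2.2)
        simp [hh.1, hh.2] at this
      have d1 := d w hw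
      have d2 := d v hv
      simp only [valN, bit_eq] at e
      revert e d1 d2
      cases w.1.testBit i <;> cases w.2.testBit i <;> cases v.1.testBit i <;> cases v.2.testBit i <;>
        decide
    · have p : ∀ n, n < 4096 → n.testBit i = false := fun n hn =>
        Nat.testBit_eq_false_of_lt (lt_of_lt_of_le hn
          (show 2 ^ 12 ≤ 2 ^ i from Nat.pow_le_pow_right (by norm_num) (not_lt.1 hi)))
      simp [p _ (hc w hw).1, p _ (hc w hw).2.1, p _ (hc v hv).1, p _ (hc v hv).2.1]
  exact Prod.ext (Nat.eq_of_testBit_eq fun i => (key i).1) (Nat.eq_of_testBit_eq fun i => (key i).2)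

theorem codeList_nodup : codeList.Nodup := by
  have h : nodupB 26 (codeList.map fun w => w.1 + 4096 * w.2) = true := by decide +kernel
  exact List.Nodup.of_map _ (nodup_of_nodupB _ _ h)

theorem count_words (P : (ArrayPt → ZMod 3) → Prop) (b : ℕ × ℕ → Bool)
    (hb : ∀ w ∈ codeList, P (val w) ↔ b w = true) :
    {x | x ∈ ternaryGolayCode ∧ P x}.ncard = codeList.countP b := by
  classical
  have e : {x | x ∈ ternaryGolayCode ∧ P x} = ↑((codeList.filter b).toFinset.image val) := by
    ext x
    simp only [Set.mem_setOf_eq, Finset.coe_image, Set.mem_image, List.coe_toFinset, List.mem_filter]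
    constructor
    · rintro ⟨hx, hP⟩
      obtain ⟨w, hw, rfl⟩ := mem_list hx
      exact ⟨w, ⟨hw, (hb w hw).1 hP⟩, rfl⟩
    · rintro ⟨w, ⟨hw, h⟩, rfl⟩
      exact ⟨val_mem hw, (hb w hw).2 h⟩
  rw [e, Set.ncard_coe_finset, Finset.card_image_of_injOn,
    List.toFinset_card_of_nodup (codeList_nodup.filter _), List.countP_eq_length_filter]
  intro a ha c hc hac
  simp only [List.coe_toFinset, Set.mem_setOf_eq, List.mem_filter] at ha hc
  exact mask_eq ha.1 hc.1 hac

theorem supp_val {w : ℕ × ℕ} (hw : w ∈ codeList) :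
    ternarySupport (val w) = (ofN 12 (Nat.lor w.1 w.2)).image e12 := by
  ext p
  obtain ⟨i, rfl⟩ := e12.surjective p
  rw [e12.injective.mem_finset_image, mem_ofN, show Nat.lor w.1 w.2 = w.1 ||| w.2 from rfl,
    Nat.testBit_lor]
  simp only [ternarySupport, Finset.mem_filter, Finset.mem_univ, true_and]
  rw [← ZMod.val_ne_zero, val_val, Equiv.symm_apply_apply, valN, bit_eq, bit_eq]
  cases w.1.testBit i.val <;> cases w.2.testBit i.val <;> simp

theorem supp_card {w : ℕ × ℕ} (hw : w ∈ codeList) :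
    (ternarySupport (val w)).card = cnt 12 (Nat.lor w.1 w.2) := by
  rw [supp_val hw, Finset.card_image_of_injective _ e12.injective, card_ofN]

theorem weight_check :
    (codeList.all fun w => memM (cnt 12 (Nat.lor w.1 w.2)) [0, 6, 9, 12] &&
      (!Nat.beq (cnt 12 (Nat.lor w.1 w.2)) 0 || (Nat.beq w.1 0 && Nat.beq w.2 0))) = true ∧
    codeList.countP (fun w => Nat.beq (cnt 12 (Nat.lor w.1 w.2)) 6) = 264 ∧
    codeList.countP (fun w => Nat.beq (cnt 12 (Nat.lor w.1 w.2)) 9) = 440 ∧
    codeList.countP (fun w => Nat.beq (cnt 12 (Nat.lor w.1 w.2)) 12) = 24 ∧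
    codeList.length = 729 := by decide +kernel

theorem count_weight (k : ℕ) :
    {x | x ∈ ternaryGolayCode ∧ (ternarySupport x).card = k}.ncard =
      codeList.countP fun w => Nat.beq (cnt 12 (Nat.lor w.1 w.2)) k :=
  count_words _ _ fun w hw => by rw [supp_card hw, Nat.beq_eq]

theorem weights :
    Nat.card ↥ternaryGolayCode = 729 ∧
    (∀ x ∈ ternaryGolayCode, x ≠ 0 → (ternarySupport x).card = 6 ∨ (ternarySupport x).card = 9 ∨
      (ternarySupport x).card = 12) ∧
    {x : ArrayPt → ZMod 3 | x ∈ ternaryGolayCode ∧ (ternarySupport x).card = 6}.ncard = 264 ∧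
    {x : ArrayPt → ZMod 3 | x ∈ ternaryGolayCode ∧ (ternarySupport x).card = 9}.ncard = 440 ∧
    {x : ArrayPt → ZMod 3 | x ∈ ternaryGolayCode ∧ (ternarySupport x).card = 12}.ncard = 24 := by
  obtain ⟨hw, h6, h9, h12, hlen⟩ := weight_check
  refine ⟨?_, fun x hx hne => ?_, by rw [count_weight, h6], by rw [count_weight, h9],
    by rw [count_weight, h12]⟩
  · have h := count_words (fun _ => True) (fun _ => true) fun _ _ => by simp
    simp only [and_true, List.countP_true, hlen] at h
    rw [← h, ← Nat.card_coe_set_eq]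
    rfl
  · obtain ⟨w, hw', rfl⟩ := mem_list hx
    have := List.all_eq_true.1 hw w hw'
    simp only [Bool.and_eq_true, memM_iff, List.mem_cons, List.not_mem_nil, or_false, Bool.or_eq_true,
      Bool.not_eq_true', Nat.beq_eq] at this
    rw [supp_card hw']
    rcases this.1 with h | h | h | h
    · exfalso
      apply hne
      obtain ⟨e1, e2⟩ := this.2.resolve_left (by rw [h]; decide)
      funext p
      rw [val, valN, bit_eq, bit_eq, e1, e2]
      simp
    · exact Or.inl h
    · exact Or.inr (Or.inl h)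
    · exact Or.inr (Or.inr h)

/-- the rows with a single information digit -/
def rowIdx (j : ℕ) : ℕ := 3 ^ (5 - j)

/-- a row -/
def row (j : Fin 6) : ℕ × ℕ := codeList.getD (rowIdx j.val) (0, 0)

theorem row_check : ∀ j : Fin 6, row j ∈ codeList ∧ (∀ l : Fin 6,
    valN (row j) (infoPos.getD l.val 0) = if j = l then 1 else 0) ∧ infoPos.getD j.val 0 < 12 := by
  decide +kernel

/-- the position of an information digit -/
def infoPt (j : Fin 6) : ArrayPt := e12 ⟨infoPos.getD j.val 0, (row_check j).2.2⟩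

theorem expand {x : ArrayPt → ZMod 3} (hx : x ∈ ternaryGolayCode) :
    x = ∑ j : Fin 6, x (infoPt j) • val (row j) := by
  refine eq_of_info hx (Submodule.sum_mem _ fun j _ => Submodule.smul_mem _ _ (val_mem (row_check j).1))
    fun i hi => ?_
  obtain ⟨l, hl⟩ : ∃ l : Fin 6, infoPos.getD l.val 0 = i.val := by
    have key : ∀ n ∈ infoPos, ∃ l : Fin 6, infoPos.getD l.val 0 = n := by decide +kernel
    exact key _ hi
  have he : e12 i = infoPt l := congrArg e12 (Fin.ext hl.symm)
  rw [Finset.sum_apply, Finset.sum_eq_single l]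
  · rw [Pi.smul_apply, smul_eq_mul, he, infoPt, val, Equiv.symm_apply_apply, (row_check l).2.1 l]
    simp
  · intro j _ hj
    rw [Pi.smul_apply, smul_eq_mul, he, val]
    simp only [infoPt, Equiv.symm_apply_apply]
    rw [(row_check j).2.1 l, if_neg hj]
    simp
  · simp

theorem orth_check : ∀ i j : Fin 6,
    ((List.range 12).map fun p => valN (row i) p * valN (row j) p).sum % 3 = 0 := by decide +kernel

theorem self_orthogonal {x y : ArrayPt → ZMod 3} (hx : x ∈ ternaryGolayCode)
    (hy : y ∈ ternaryGolayCode) : ∑ p, x p * y p = 0 := by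
  have hrows : ∀ i j, ∑ p, val (row i) p * val (row j) p = 0 := by
    intro i j
    rw [← e12.sum_comp]
    simp only [val, Equiv.symm_apply_apply, ← Nat.cast_mul]
    rw [← Nat.cast_sum, ZMod.natCast_eq_zero_iff]
    refine Nat.dvd_of_mod_eq_zero ?_
    rw [← orth_check i j]
    congr 1
  rw [expand hx, expand hy]
  simp only [Finset.sum_apply, Pi.smul_apply, smul_eq_mul, Finset.sum_mul_sum]
  rw [Finset.sum_comm]
  refine Finset.sum_eq_zero fun i _ => ?_
  rw [Finset.sum_comm]
  refine Finset.sum_eq_zero fun j _ => ?_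
  rw [show (∑ p, x (infoPt i) * val (row i) p * (y (infoPt j) * val (row j) p)) =
    x (infoPt i) * y (infoPt j) * ∑ p, val (row i) p * val (row j) p by
      rw [Finset.mul_sum]; exact Finset.sum_congr rfl fun p _ => by ring, hrows, mul_zero]

/-- the hexads -/
abbrev hexads : Set (Finset ArrayPt) :=
  {h : Finset ArrayPt | ∃ x ∈ ternaryGolayCode, ternarySupport x = h ∧ h.card = 6}

theorem hex_check :
    (codeList.all fun w => !Nat.beq (cnt 12 (Nat.lor w.1 w.2)) 6 ||
      memM (Nat.lor w.1 w.2) blocks12) = true ∧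
    (blocks12.all fun b => codeList.any fun w => Nat.beq (Nat.lor w.1 w.2) b) = true ∧
    blocks12.length = 132 ∧ blocks12.Nodup ∧
    (blocks12.all fun b => Nat.blt b 4096 && Nat.beq (cnt 12 b) 6) = true := by decide +kernel

theorem hexads_eq : hexads = (fun b => b.image e12) '' sys 12 blocks12 := by
  obtain ⟨h1, h2, -, -, h5⟩ := hex_check
  ext h
  simp only [Set.mem_setOf_eq, Set.mem_image]
  constructor
  · rintro ⟨x, hx, rfl, h6⟩
    obtain ⟨w, hw, rfl⟩ := mem_list hx
    have := List.all_eq_true.1 h1 w hw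
    rw [supp_card hw] at h6
    simp only [h6, Nat.beq_refl, Bool.not_true, Bool.false_or, memM_iff] at this
    exact ⟨_, ⟨_, this, rfl⟩, (supp_val hw).symm⟩
  · rintro ⟨_, ⟨b, hb, rfl⟩, rfl⟩
    obtain ⟨w, hw, he⟩ := List.any_eq_true.1 (List.all_eq_true.1 h2 b hb)
    have h6 := List.all_eq_true.1 h5 b hb
    simp only [Bool.and_eq_true, Nat.beq_eq] at h6
    rw [Nat.beq_eq] at he
    refine ⟨val w, val_mem hw, by rw [supp_val hw, he], ?_⟩
    rw [Finset.card_image_of_injective _ e12.injective, card_ofN, h6.2]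

theorem hexads_steiner : IsSteinerSystem 5 6 hexads := by
  rw [hexads_eq]
  exact steiner_image e12 steiner12

theorem ncard_hexads : hexads.ncard = 132 := by
  classical
  obtain ⟨-, -, hlen, hnd, h5⟩ := hex_check
  simp only [List.all_eq_true, Bool.and_eq_true, Nat.blt_eq] at h5
  rw [hexads_eq, Set.ncard_image_of_injective _ (Finset.image_injective e12.injective),
    show sys 12 blocks12 = ↑(blocks12.toFinset.image (ofN 12)) by ext s; simp [sys],
    Set.ncard_coe_finset, Finset.card_image_of_injOn, List.toFinset_card_of_nodup hnd, hlen]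
  intro a ha b hb h
  simp only [List.coe_toFinset, Set.mem_setOf_eq] at ha hb
  exact ofN_inj (h5 a ha).1 (h5 b hb).1 h

theorem same_support :
    ((codeList.filter fun w => Nat.beq (cnt 12 (Nat.lor w.1 w.2)) 6).all fun w =>
      (codeList.filter fun w => Nat.beq (cnt 12 (Nat.lor w.1 w.2)) 6).all fun v =>
        !Nat.beq (Nat.lor w.1 w.2) (Nat.lor v.1 v.2) ||
          ((Nat.beq v.1 w.1 && Nat.beq v.2 w.2) || (Nat.beq v.1 w.2 && Nat.beq v.2 w.1))) = true := by
  decide +kernel

theorem val_swap {w : ℕ × ℕ} (hw : w ∈ codeList) : val (w.2, w.1) = -val w := by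
  funext p
  have hd := code_check.2.1
  simp only [List.all_eq_true, Bool.and_eq_true, Nat.beq_eq] at hd
  have h0 := congrArg (fun n => n.testBit (e12.symm p).val) (show w.1 &&& w.2 = 0 from (hd w hw).2.2)
  simp only [Nat.testBit_and, Nat.zero_testBit] at h0
  simp only [Pi.neg_apply, val, valN, bit_eq]
  revert h0
  cases w.1.testBit (e12.symm p).val <;> cases w.2.testBit (e12.symm p).val <;> simp <;> decide

theorem scalar_constant (c : ArrayPt → (ZMod 3)ˣ)
    (h : ∀ x ∈ ternaryGolayCode, monomialMap 1 c x ∈ ternaryGolayCode) :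
    (∀ p, c p = 1) ∨ (∀ p, c p = -1) := by
  classical
  have key : ∀ p q : ArrayPt, c p = c q := by
    intro p q
    obtain ⟨s, hsub, hs⟩ : ∃ s : Finset ArrayPt, {p, q} ⊆ s ∧ s.card = 5 :=
      Finset.exists_superset_card_eq (le_trans Finset.card_le_two (by norm_num)) (by simp)
    obtain ⟨b, ⟨⟨x, hx, hxs, hb6⟩, hsb⟩, -⟩ := hexads_steiner.2 s hs
    obtain ⟨w, hw, rfl⟩ := mem_list hx
    obtain ⟨v, hv, hve⟩ := mem_list (h _ hx)
    have hsupp : ternarySupport (val v) = ternarySupport (val w) := by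
      rw [hve]
      ext i
      simp [ternarySupport, monomialMap, show ∀ i, (1 : Equiv.Perm ArrayPt).symm i = i from fun _ => rfl]
    have hvw : v = w ∨ val v = -val w := by
      have hw6 : Nat.beq (cnt 12 (Nat.lor w.1 w.2)) 6 = true := by
        rw [Nat.beq_eq, ← supp_card hw, hxs, hb6]
      have hv6 : Nat.beq (cnt 12 (Nat.lor v.1 v.2)) 6 = true := by
        rw [Nat.beq_eq, ← supp_card hv, hsupp, hxs, hb6]
      have hd := code_check.2.1
      simp only [List.all_eq_true, Bool.and_eq_true, Nat.blt_eq] at hd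
      have hm : Nat.lor w.1 w.2 = Nat.lor v.1 v.2 := by
        rw [supp_val hv, supp_val hw] at hsupp
        exact (ofN_inj (n := 12) (Nat.or_lt_two_pow (hd v hv).1 (hd v hv).2.1)
          (Nat.or_lt_two_pow (hd w hw).1 (hd w hw).2.1) (Finset.image_injective e12.injective hsupp)).symm
      have := List.all_eq_true.1 (List.all_eq_true.1 same_support w (List.mem_filter.2 ⟨hw, hw6⟩)) v
        (List.mem_filter.2 ⟨hv, hv6⟩)
      simp only [hm, Nat.beq_refl, Bool.not_true, Bool.false_or, Bool.or_eq_true, Bool.and_eq_true,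
        Nat.beq_eq] at this
      rcases this with ⟨e1, e2⟩ | ⟨e1, e2⟩
      · exact Or.inl (Prod.ext e1 e2)
      · exact Or.inr (by rw [show v = (w.2, w.1) from Prod.ext e1 e2]; exact val_swap hw)
    have hp : val w p ≠ 0 := by
      have : p ∈ ternarySupport (val w) := hxs ▸ hsb (hsub (by simp))
      simpa [ternarySupport] using this
    have hq : val w q ≠ 0 := by
      have : q ∈ ternarySupport (val w) := hxs ▸ hsb (hsub (by simp))
      simpa [ternarySupport] using this
    have ev : ∀ i, (c i : ZMod 3) * val w i = val v i := fun i => by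
      rw [hve]; simp [monomialMap, show ∀ i, (1 : Equiv.Perm ArrayPt).symm i = i from fun _ => rfl]
    refine Units.ext ?_
    rcases hvw with e | e
    · have a1 := ev p
      have a2 := ev q
      rw [e] at a1 a2
      rw [mul_left_eq_self₀] at a1 a2
      rw [a1.resolve_right hp, a2.resolve_right hq]
    · have f : ∀ u a : ZMod 3, a ≠ 0 → u * a = -a → u = -1 := by decide
      have a1 := ev p
      have a2 := ev q
      rw [congrFun e] at a1 a2
      rw [f _ _ hp a1, f _ _ hq a2]
  have two : ∀ u : (ZMod 3)ˣ, u = 1 ∨ u = -1 := by decide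
  rcases two (c (0, 0)) with h0 | h0
  · exact Or.inl fun p => (key p (0, 0)).trans h0
  · exact Or.inr fun p => (key p (0, 0)).trans h0

/-! ### the monomial group -/

theorem mono_mul (σ τ : Equiv.Perm ArrayPt) (c d : ArrayPt → (ZMod 3)ˣ) (x : ArrayPt → ZMod 3) :
    monomialMap σ c (monomialMap τ d x) = monomialMap (σ * τ) (fun i => c i * d (σ.symm i)) x := by
  funext i
  simp only [monomialMap, Units.val_mul, mul_assoc]
  rfl

theorem mono_inj (σ : Equiv.Perm ArrayPt) (c : ArrayPt → (ZMod 3)ˣ) :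
    Function.Injective (monomialMap σ c) := by
  intro x y h
  funext i
  have := congrFun h (σ i)
  simpa [monomialMap] using this

theorem mono_surj {σ : Equiv.Perm ArrayPt} {c : ArrayPt → (ZMod 3)ˣ}
    (h : ∀ x ∈ ternaryGolayCode, monomialMap σ c x ∈ ternaryGolayCode) :
    ∀ y ∈ ternaryGolayCode, ∃ x ∈ ternaryGolayCode, monomialMap σ c x = y := by
  let f : ternaryGolayCode → ternaryGolayCode := fun x => ⟨monomialMap σ c x.1, h x.1 x.2⟩
  have hf : Function.Injective f := fun x y e => Subtype.ext (mono_inj σ c (congrArg Subtype.val e))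
  intro y hy
  obtain ⟨x, hx⟩ := Finite.surjective_of_injective hf ⟨y, hy⟩
  exact ⟨x.1, x.2, congrArg Subtype.val hx⟩

/-- permutations with a monomial lift -/
def lifts : Subgroup (Equiv.Perm ArrayPt) where
  carrier := {σ | ∃ c : ArrayPt → (ZMod 3)ˣ, ∀ x ∈ ternaryGolayCode, monomialMap σ c x ∈ ternaryGolayCode}
  one_mem' := ⟨1, fun x hx => by
    convert hx using 1
    funext i
    simp [monomialMap, show ∀ i, (1 : Equiv.Perm ArrayPt).symm i = i from fun _ => rfl]⟩
  mul_mem' := fun {σ τ} ⟨c, hc⟩ ⟨d, hd⟩ => ⟨_, fun x hx => mono_mul σ τ c d x ▸ hc _ (hd x hx)⟩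
  inv_mem' := fun {σ} ⟨c, hc⟩ => ⟨fun i => (c (σ i))⁻¹, fun y hy => by
    obtain ⟨x, hx, rfl⟩ := mono_surj hc y hy
    convert hx using 1
    funext i
    show (((c (σ i))⁻¹ : (ZMod 3)ˣ) : ZMod 3) * ((c (σ i) : ZMod 3) * x (σ.symm (σ i))) = x i
    rw [Units.inv_mul_cancel_left, Equiv.symm_apply_apply]⟩

/-- image of a coded word under a signed permutation -/
def imgW (P C : ℕ) (w : ℕ × ℕ) : ℕ × ℕ :=
  (Nat.lor (Nat.land (imgn 12 P w.1) (Nat.xor 4095 C)) (Nat.land (imgn 12 P w.2) C),
   Nat.lor (Nat.land (imgn 12 P w.2) (Nat.xor 4095 C)) (Nat.land (imgn 12 P w.1) C))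

theorem lift_check :
    ((List.range 5).all fun k => (List.range (trans12.getD k []).length).all fun j =>
      okN 12 ((trans12.getD k []).getD j 0) && (List.finRange 6).all fun r =>
        checkN (imgW ((trans12.getD k []).getD j 0) ((liftSigns.getD k []).getD j 0) (row r))) = true ∧
    trans12.length = 5 := by decide +kernel

theorem val_imgW {P : ℕ} (hP : okN 12 P = true) (C : ℕ) {w : ℕ × ℕ}
    (hd : ∀ i, ¬(w.1.testBit i = true ∧ w.2.testBit i = true)) :
    monomialMap (e12.permCongr (permN 12 P))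
      (fun p => if C.testBit (e12.symm p).val then -1 else 1) (val w) = val (imgW P C w) := by
  funext p
  obtain ⟨i, rfl⟩ := e12.surjective p
  obtain ⟨j, rfl⟩ := (permN 12 P).surjective i
  have hs : (e12.permCongr (permN 12 P)).symm (e12 (permN 12 P j)) = e12 j := by
    rw [Equiv.symm_apply_eq]; simp
  have hi : ∀ m, (imgn 12 P m).testBit (permN 12 P j).val = m.testBit j.val := by
    intro m
    rw [Bool.eq_iff_iff, testBit_imgn]
    constructor
    · rintro ⟨a, ha, hb, e⟩
      have e2 : permN 12 P ⟨a, ha⟩ = permN 12 P j := Fin.ext (by rw [permN_val hP]; exact e)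
      rwa [show j = ⟨a, ha⟩ from ((permN 12 P).injective e2).symm]
    · intro hb
      exact ⟨j.val, j.2, hb, (permN_val hP j).symm⟩
  have h4 : (4095 : ℕ).testBit (permN 12 P j).val = true := by
    rw [show (4095 : ℕ) = 2 ^ 12 - 1 from rfl, Nat.testBit_two_pow_sub_one]
    simp
  simp only [monomialMap, hs, val, Equiv.symm_apply_apply, imgW, valN, bit_eq]
  simp only [show ∀ a b, Nat.lor a b = a ||| b from fun _ _ => rfl,
    show ∀ a b, Nat.land a b = a &&& b from fun _ _ => rfl,
    show ∀ a b, Nat.xor a b = a ^^^ b from fun _ _ => rfl, Nat.testBit_lor, Nat.testBit_and,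
    Nat.testBit_xor, hi, h4]
  have hd' := hd j.val
  revert hd'
  cases C.testBit (permN 12 P j).val <;> cases w.1.testBit j.val <;> cases w.2.testBit j.val <;>
    simp <;> decide

theorem aut_sys_le : setSystemAut (sys 12 blocks12) ≤ lifts.comap e12.permCongrHom.toMonoidHom := by
  obtain ⟨hlift, hlen⟩ := lift_check
  refine std12.le_of_trans fun k P hP _ => ?_
  have hk : k < 5 := by
    by_contra hc
    rw [List.getD_eq_default _ _ (by omega)] at hP
    simp at hP
  obtain ⟨j, hj, rfl⟩ := List.getElem_of_mem hP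
  have h := List.all_eq_true.1 (List.all_eq_true.1 hlift k (List.mem_range.2 hk)) j (List.mem_range.2 hj)
  simp only [Bool.and_eq_true, List.all_eq_true, List.mem_finRange, forall_const] at h
  rw [List.getD_eq_getElem _ _ hj] at h
  refine ⟨fun p => if ((liftSigns.getD k []).getD j 0).testBit (e12.symm p).val then -1 else 1,
    fun x hx => ?_⟩
  show monomialMap (e12.permCongr (permN 12 (trans12.getD k [])[j])) _ x ∈ _
  rw [expand hx]
  have e : ∀ (σ : Equiv.Perm ArrayPt) (c : ArrayPt → (ZMod 3)ˣ) (a : Fin 6 → ZMod 3),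
      monomialMap σ c (∑ r, a r • val (row r)) = ∑ r, a r • monomialMap σ c (val (row r)) := by
    intro σ c a
    funext i
    simp only [monomialMap, Finset.sum_apply, Pi.smul_apply, smul_eq_mul, Finset.mul_sum]
    exact Finset.sum_congr rfl fun r _ => by ring
  rw [e]
  refine Submodule.sum_mem _ fun r _ => Submodule.smul_mem _ _ ?_
  have hd := code_check.2.1
  simp only [List.all_eq_true, Bool.and_eq_true, Nat.beq_eq] at hd
  rw [val_imgW h.1 _ fun i hh => by
    have := congrArg (fun n => n.testBit i) (show (row r).1 &&& (row r).2 = 0 from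
      (hd _ (row_check r).1).2.2)
    simp [hh.1, hh.2] at this]
  exact (checkN_iff _).2 (h.2 r)

theorem lifts_eq : lifts = setSystemAut hexads := by
  have hf : (fun b => b.image e12.symm) '' hexads = sys 12 blocks12 := by
    rw [hexads_eq, Set.image_image]
    conv_rhs => rw [← Set.image_id (sys 12 blocks12)]
    refine Set.image_congr fun b _ => ?_
    rw [Finset.image_image, Equiv.symm_comp_self, Finset.image_id]
    rfl
  refine le_antisymm ?_ ?_
  · intro σ hσ
    obtain ⟨c, hc⟩ := hσ
    refine (mem_aut_iff hexads_steiner σ).2 ?_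
    rintro _ ⟨x, hx, rfl, h6⟩
    have e : σ • ternarySupport x = ternarySupport (monomialMap σ c x) := by
      ext p
      obtain ⟨q, rfl⟩ := σ.surjective p
      rw [Finset.mem_smul_finset]
      simp [ternarySupport, monomialMap]
    exact ⟨_, hc x hx, e.symm, by rw [Finset.card_smul_finset]; exact h6⟩
  · intro σ hσ
    have h1 := aut_sys_le ((mem_aut_transport e12.symm hf hexads_steiner steiner12 σ).2 hσ)
    have e : e12.permCongrHom.toMonoidHom (e12.symm.permCongr σ) = σ := by
      refine Equiv.ext fun p => ?_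
      simp
    rwa [Subgroup.mem_comap, e] at h1

theorem monomial_group :
    Nat.card {f : Equiv.Perm ArrayPt × (ArrayPt → (ZMod 3)ˣ) //
      (∀ x ∈ ternaryGolayCode, monomialMap f.1 f.2 x ∈ ternaryGolayCode)} = 190080 ∧
    {σ : Equiv.Perm ArrayPt | ∃ c : ArrayPt → (ZMod 3)ˣ,
      (∀ x ∈ ternaryGolayCode, monomialMap σ c x ∈ ternaryGolayCode)} =
      (setSystemAut hexads : Set (Equiv.Perm ArrayPt)) := by
  refine ⟨?_, ?_⟩
  swap
  · rw [← lifts_eq]; rfl
  let F : lifts × (ZMod 3)ˣ → {f : Equiv.Perm ArrayPt × (ArrayPt → (ZMod 3)ˣ) //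
      (∀ x ∈ ternaryGolayCode, monomialMap f.1 f.2 x ∈ ternaryGolayCode)} :=
    fun z => ⟨(z.1.1, fun i => z.2 * Classical.choose z.1.2 i), fun x hx => by
      have := Submodule.smul_mem ternaryGolayCode (z.2 : ZMod 3) (Classical.choose_spec z.1.2 x hx)
      convert this using 1
      funext i
      simp [monomialMap, mul_assoc]⟩
  have hF : Function.Bijective F := by
    constructor
    · rintro ⟨⟨σ, hσ⟩, u⟩ ⟨⟨τ, hτ⟩, v⟩ h
      have h1 : σ = τ := congrArg (fun z => z.1.1) h
      subst h1
      have h2 := congrFun (congrArg (fun z => z.1.2) h) (0, 0)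
      exact Prod.ext rfl (mul_right_cancel h2)
    · rintro ⟨⟨σ, c⟩, hc⟩
      have hσ : σ ∈ lifts := ⟨c, hc⟩
      set d := Classical.choose hσ with hd
      have hdspec := Classical.choose_spec hσ
      have hconst := scalar_constant (fun i => c i * (d i)⁻¹) fun y hy => by
        obtain ⟨x, hx, rfl⟩ := mono_surj hdspec y hy
        convert hc x hx using 1
        funext i
        show ((c i * (d i)⁻¹ : (ZMod 3)ˣ) : ZMod 3) * ((d i : ZMod 3) * x (σ.symm i)) = (c i : ZMod 3) * x (σ.symm i)
        rw [← mul_assoc, ← Units.val_mul, inv_mul_cancel_right]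
      have : ∃ u : (ZMod 3)ˣ, ∀ i, c i = u * d i := by
        rcases hconst with h | h
        · exact ⟨1, fun i => by rw [one_mul]; exact mul_inv_eq_one.1 (h i)⟩
        · exact ⟨-1, fun i => by rw [← h i, inv_mul_cancel_right]⟩
      obtain ⟨u, hu⟩ := this
      exact ⟨(⟨σ, hσ⟩, u), Subtype.ext (Prod.ext rfl (funext fun i => (hu i).symm))⟩
  rw [← Nat.card_congr (Equiv.ofBijective F hF), Nat.card_prod, lifts_eq]
  have hf : (fun b => b.image e12.symm) '' hexads = sys 12 blocks12 := by
    rw [hexads_eq, Set.image_image]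
    conv_rhs => rw [← Set.image_id (sys 12 blocks12)]
    refine Set.image_congr fun b _ => ?_
    rw [Finset.image_image, Equiv.symm_comp_self, Finset.image_id]
    rfl
  rw [(system_props (t := 5) e12.symm std12 hexads_steiner hf).1,
    show Nat.card (ZMod 3)ˣ = 2 by rw [Nat.card_eq_fintype_card]; decide]
  decide +kernel

end CfsgLib.Spor.Ternary
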