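import Cfsg.Agent.Spor.SmallSteinerAut

/-!
Intersections of the blocks of S(5,6,12) with one of them.
-/

set_option autoImplicit false

namespace CfsgLib.Spor.SmallSteiner

open Cfsg
open scoped Pointwise

theorem inter_check :
    (blocks12.all fun c => Nat.beq c first12 ||
      memM (cnt 12 (Nat.land first12 c)) [0, 2, 3, 4]) = true ∧
    ((List.range 64).all fun s =>
      (!Nat.beq (cnt 12 s) 2 || Nat.beq (blocks12.countP fun c => Nat.beq (Nat.land first12 c) s) 3) &&
      ((!Nat.beq (cnt 12 s) 3 || Nat.beq (blocks12.countP fun c => Nat.beq (Nat.land first12 c) s) 2) &&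
      (!Nat.beq (cnt 12 s) 4 || Nat.beq (blocks12.countP fun c => Nat.beq (Nat.land first12 c) s) 3))) = true ∧
    (first12 = 63 ∧ memM 63 blocks12 = true ∧ blocks12.all (fun b => Nat.blt b (2 ^ 12)) = true ∧
      blocks12.Nodup) := by
  decide +kernel

theorem ofN_land {n : ℕ} (a b : ℕ) : ofN n (Nat.land a b) = ofN n a ∩ ofN n b := by
  ext i
  rw [show Nat.land a b = a &&& b from rfl, mem_ofN, Finset.mem_inter, mem_ofN, mem_ofN,
    Nat.testBit_and, Bool.and_eq_true]

theorem count_meet {s : ℕ} (hs : s < 2 ^ 12) :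
    {c | c ∈ sys 12 blocks12 ∧ ofN 12 first12 ∩ c = ofN 12 s}.ncard =
      blocks12.countP fun c => Nat.beq (Nat.land first12 c) s := by
  classical
  obtain ⟨-, -, h63, -, hlt, hnd⟩ := inter_check
  simp only [List.all_eq_true, Nat.blt_eq] at hlt
  have hf : first12 < 2 ^ 12 := by rw [h63]; norm_num
  have e : {c | c ∈ sys 12 blocks12 ∧ ofN 12 first12 ∩ c = ofN 12 s} =
      ↑((blocks12.filter fun c => Nat.beq (Nat.land first12 c) s).toFinset.image (ofN 12)) := by
    ext c
    simp only [Set.mem_setOf_eq, Finset.coe_image, Set.mem_image, List.coe_toFinset, List.mem_filter]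
    constructor
    · rintro ⟨⟨b, hb, rfl⟩, he⟩
      refine ⟨b, ⟨hb, ?_⟩, rfl⟩
      rw [Nat.beq_eq]
      exact ofN_inj (lt_of_le_of_lt Nat.and_le_left hf) hs ((ofN_land _ _).trans he)
    · rintro ⟨b, ⟨hb, he⟩, rfl⟩
      exact ⟨⟨b, hb, rfl⟩, by rw [← ofN_land, Nat.eq_of_beq_eq_true he]⟩
  rw [e, Set.ncard_coe_finset, Finset.card_image_of_injOn,
    List.toFinset_card_of_nodup (hnd.filter _), List.countP_eq_length_filter]
  intro a ha b hb hab
  simp only [List.coe_toFinset, Set.mem_setOf_eq, List.mem_filter] at ha hb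
  exact ofN_inj (hlt a ha.1) (hlt b hb.1) hab

theorem block_std {b : Finset (Fin 12)} (hb : b ∈ sys 12 blocks12) :
    ∃ g ∈ setSystemAut (sys 12 blocks12), g • ofN 12 first12 = b := by
  obtain ⟨-, -, h63, hm, -⟩ := inter_check
  obtain ⟨s, hs, hst⟩ := Finset.exists_subset_card_eq (n := 5)
    (show 5 ≤ b.card by rw [steiner12.1 b hb]; norm_num)
  let x : Fin 5 ↪ Fin 12 := ((Finset.equivFinOfCardEq hst).symm.toEmbedding).trans
    (Function.Embedding.subtype _)
  obtain ⟨g, hg, hgx⟩ := std12.orbit_base x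
  refine ⟨g, hg, ?_⟩
  have hF : ofN 12 first12 ∈ sys 12 blocks12 := ⟨first12, by rw [h63]; exact (memM_iff _ _).1 hm, rfl⟩
  refine subset_unique steiner12 ((mem_aut_iff steiner12 g).1 hg _ hF) hb hst ?_ hs
  intro p hp
  obtain ⟨i, hi⟩ : ∃ i, x i = p := ⟨Finset.equivFinOfCardEq hst ⟨p, hp⟩, by simp [x]⟩
  rw [← hi, ← hgx i]
  refine Finset.smul_mem_smul_finset ?_
  rw [h63]
  have key : ∀ j : Fin 5, baseEmb std12.le j ∈ ofN 12 63 := by decide +kernel
  exact key i

theorem meet_std {b : Finset (Fin 12)} (hb : b ∈ sys 12 blocks12) :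
    (∀ c ∈ sys 12 blocks12, c ≠ b →
      (b ∩ c).card = 0 ∨ (b ∩ c).card = 2 ∨ (b ∩ c).card = 3 ∨ (b ∩ c).card = 4) ∧
    ∀ s ⊆ b, (s.card = 2 → {c | c ∈ sys 12 blocks12 ∧ b ∩ c = s}.ncard = 3) ∧
      (s.card = 3 → {c | c ∈ sys 12 blocks12 ∧ b ∩ c = s}.ncard = 2) ∧
      (s.card = 4 → {c | c ∈ sys 12 blocks12 ∧ b ∩ c = s}.ncard = 3) := by
  obtain ⟨g, hg, rfl⟩ := block_std hb
  obtain ⟨h1, h2, h63, -, hlt, -⟩ := inter_check
  have hmem := (mem_aut_iff steiner12 g).1 hg
  have hmem' := (mem_aut_iff steiner12 g⁻¹).1 (inv_mem hg)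
  simp only [List.all_eq_true, Nat.blt_eq] at hlt
  refine ⟨fun c hc hne => ?_, fun s hs => ?_⟩
  · obtain ⟨m, hm, hmc⟩ := hmem' c hc
    rw [show c = g • ofN 12 m by rw [hmc, smul_inv_smul], ← Finset.smul_finset_inter,
      Finset.card_smul_finset, ← ofN_land, card_ofN]
    have h := List.all_eq_true.1 h1 m hm
    simp only [Bool.or_eq_true, Nat.beq_eq, memM_iff, List.mem_cons, List.not_mem_nil, or_false] at h
    exact h.resolve_left fun e => hne (by rw [show c = g • ofN 12 m by rw [hmc, smul_inv_smul], e])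
  · obtain ⟨s, rfl⟩ : ∃ s', g • s' = s := ⟨g⁻¹ • s, smul_inv_smul g s⟩
    rw [Finset.smul_finset_subset_smul_finset_iff] at hs
    obtain ⟨m, hm, rfl⟩ := exists_mask s
    have hm64 : m < 64 := by
      have := (ofN_subset hm).1 hs
      rw [← this, h63]
      exact Nat.lt_succ_of_le Nat.and_le_right
    have e : {c | c ∈ sys 12 blocks12 ∧ g • ofN 12 first12 ∩ c = g • ofN 12 m} =
        (fun c => g • c) '' {c | c ∈ sys 12 blocks12 ∧ ofN 12 first12 ∩ c = ofN 12 m} := by
      ext c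
      constructor
      · rintro ⟨hc, he⟩
        refine ⟨g⁻¹ • c, ⟨hmem' c hc, ?_⟩, smul_inv_smul g c⟩
        have := congrArg (fun x : Finset (Fin 12) => g⁻¹ • x) he
        simpa [Finset.smul_finset_inter] using this
      · rintro ⟨d, ⟨hd, he⟩, rfl⟩
        exact ⟨hmem d hd, by rw [← Finset.smul_finset_inter, he]⟩
    have h := List.all_eq_true.1 h2 m (List.mem_range.2 hm64)
    simp only [Bool.and_eq_true, Bool.or_eq_true, Bool.not_eq_true', Nat.beq_eq] at h
    have hcount : ∀ k v, (Nat.beq (cnt 12 m) k = false ∨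
        (blocks12.countP fun c => Nat.beq (Nat.land first12 c) m) = v) →
        (g • ofN 12 m).card = k →
        {c | c ∈ sys 12 blocks12 ∧ g • ofN 12 first12 ∩ c = g • ofN 12 m}.ncard = v := by
      intro k v hkv hk
      rw [Finset.card_smul_finset, card_ofN] at hk
      rw [e, Set.ncard_image_of_injective _ (MulAction.injective g), count_meet hm]
      exact hkv.resolve_left (by simp [hk])
    exact ⟨hcount 2 3 h.1, hcount 3 2 h.2.1, hcount 4 3 h.2.2⟩

theorem block_meets {α : Type*} [Fintype α] [DecidableEq α] (hα : Fintype.card α = 12)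
    {B : Set (Finset α)} (hB : IsSteinerSystem 5 6 B) {b : Finset α} (hb : b ∈ B) :
    (∀ c ∈ B, c ≠ b → (b ∩ c).card = 0 ∨ (b ∩ c).card = 2 ∨ (b ∩ c).card = 3 ∨ (b ∩ c).card = 4) ∧
    ∀ s ⊆ b, (s.card = 2 → {c : Finset α | c ∈ B ∧ b ∩ c = s}.ncard = 3) ∧
      (s.card = 3 → {c : Finset α | c ∈ B ∧ b ∩ c = s}.ncard = 2) ∧
      (s.card = 4 → {c : Finset α | c ∈ B ∧ b ∩ c = s}.ncard = 3) := by
  obtain ⟨f, hf⟩ := unique12 hα hB
  obtain ⟨h1, h2⟩ := meet_std (b := b.image f) (hf ▸ ⟨b, hb, rfl⟩)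
  have hinj := Finset.image_injective f.injective
  have hmem : ∀ c, c.image f ∈ sys 12 blocks12 ↔ c ∈ B := fun c => by
    rw [← hf]; exact hinj.mem_set_image
  refine ⟨fun c hc hne => ?_, fun s hs => ?_⟩
  · have := h1 (c.image f) ((hmem c).2 hc) (fun e => hne (hinj e))
    rwa [← Finset.image_inter _ _ f.injective, Finset.card_image_of_injective _ f.injective] at this
  · have h := h2 (s.image f) (Finset.image_subset_image hs)
    rw [Finset.card_image_of_injective _ f.injective] at h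
    have e : {c | c ∈ sys 12 blocks12 ∧ b.image f ∩ c = s.image f} =
        (fun c => c.image f) '' {c | c ∈ B ∧ b ∩ c = s} := by
      ext c
      constructor
      · rintro ⟨hc, he⟩
        rw [← hf] at hc
        obtain ⟨d, hd, rfl⟩ := hc
        rw [← Finset.image_inter _ _ f.injective] at he
        exact ⟨d, ⟨hd, hinj he⟩, rfl⟩
      · rintro ⟨d, ⟨hd, he⟩, rfl⟩
        exact ⟨(hmem d).2 hd, by rw [← Finset.image_inter _ _ f.injective, he]⟩
    rw [e, Set.ncard_image_of_injective _ hinj] at h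
    exact h

end CfsgLib.Spor.SmallSteiner
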