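import Cfsg.Agent.Spor.SubInv2
import Cfsg.Agent.Spor.StabConj

/-!
Orbit families of a certified stabiliser: covering, counting and moving, transported to any flag.
-/

set_option autoImplicit false

namespace CfsgLib.Spor

open Cfsg
open scoped Pointwise

variable {X Y : Type} [MulAction (Equiv.Perm GolayPt) X] [MulAction (Equiv.Perm GolayPt) Y]

theorem family_cover {β : Type} {y₀ : Y} {gs : List GT}
    (hst : M24 ⊓ MulAction.stabilizer (Equiv.Perm GolayPt) y₀ = gtGroup gs) {C : Set X}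
    (hfin : C.Finite) (zs : List X) (ns : List ℕ) (f : X → β)
    (hinv : ∀ g ∈ M24, g • y₀ = y₀ → ∀ x, (x ∈ C → g • x ∈ C) ∧ f (g • x) = f x)
    (hnd : (zs.map f).Nodup)
    (hns : zs.map (fun z => (MulAction.orbit (gtGroup gs) z).ncard) = ns)
    (hmem : ∀ z ∈ zs, z ∈ C) (hsum : C.ncard ≤ ns.sum) :
    C = {y | ∃ z ∈ zs, y ∈ MulAction.orbit (gtGroup gs) z} := by
  have h : ∀ g : gtGroup gs, ∀ x, (x ∈ C → g • x ∈ C) ∧ f (g • x) = f x := fun g x => by
    have hg : (g : Equiv.Perm GolayPt) ∈ M24 ⊓ MulAction.stabilizer (Equiv.Perm GolayPt) y₀ :=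
      hst.symm ▸ g.2
    exact hinv g hg.1 (MulAction.mem_stabilizer_iff.1 hg.2) x
  refine orbits_cover_inv hfin zs ns f (fun g x => (h g x).2) hnd hns (fun z hz => ?_) hsum
  rintro _ ⟨g, rfl⟩
  exact (h g z).1 (hmem z hz)

theorem family_count {β : Type} {y₀ : Y} {gs : List GT}
    (hst : M24 ⊓ MulAction.stabilizer (Equiv.Perm GolayPt) y₀ = gtGroup gs) {C : Set X}
    {zs : List X} (hcov : C = {y | ∃ z ∈ zs, y ∈ MulAction.orbit (gtGroup gs) z}) {f : X → β}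
    (hinv : ∀ g ∈ M24, g • y₀ = y₀ → ∀ x, (x ∈ C → g • x ∈ C) ∧ f (g • x) = f x)
    (hnd : (zs.map f).Nodup) {z : X} (hz : z ∈ zs) {n : ℕ}
    (hn : (MulAction.orbit (gtGroup gs) z).ncard = n) (σ : Equiv.Perm GolayPt) {Q : X → Prop}
    (hQ : ∀ x, Q (σ • x) ↔ x ∈ C ∧ f x = f z) : {x | Q x}.ncard = n := by
  have h : ∀ g : gtGroup gs, ∀ x, f (g • x) = f x := fun g x => by
    have hg : (g : Equiv.Perm GolayPt) ∈ M24 ⊓ MulAction.stabilizer (Equiv.Perm GolayPt) y₀ :=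
      hst.symm ▸ g.2
    exact (hinv g hg.1 (MulAction.mem_stabilizer_iff.1 hg.2) x).2
  have e : {x | Q x} = σ • {x | x ∈ C ∧ f x = f z} := by
    ext x
    rw [Set.mem_smul_set_iff_inv_smul_mem, Set.mem_setOf_eq, Set.mem_setOf_eq, ← hQ, smul_inv_smul]
  rw [e, Set.ncard_smul_set, fibre_eq_orbit zs hcov f h hnd hz, hn]

theorem family_move {β : Type} {y₀ : Y} {gs : List GT}
    (hst : M24 ⊓ MulAction.stabilizer (Equiv.Perm GolayPt) y₀ = gtGroup gs) {C : Set X}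
    {zs : List X} (hcov : C = {y | ∃ z ∈ zs, y ∈ MulAction.orbit (gtGroup gs) z}) {f : X → β}
    (hinv : ∀ g ∈ M24, g • y₀ = y₀ → ∀ x, (x ∈ C → g • x ∈ C) ∧ f (g • x) = f x)
    (hnd : (zs.map f).Nodup) {σ : Equiv.Perm GolayPt} (hσ : σ ∈ M24) {x y : X}
    (hx : σ⁻¹ • x ∈ C) (hy : σ⁻¹ • y ∈ C) (he : f (σ⁻¹ • x) = f (σ⁻¹ • y)) :
    ∃ g ∈ M24, g • σ • y₀ = σ • y₀ ∧ g • x = y := by
  have h : ∀ g : gtGroup gs, ∀ x, f (g • x) = f x := fun g x => by
    have hg : (g : Equiv.Perm GolayPt) ∈ M24 ⊓ MulAction.stabilizer (Equiv.Perm GolayPt) y₀ :=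
      hst.symm ▸ g.2
    exact (hinv g hg.1 (MulAction.mem_stabilizer_iff.1 hg.2) x).2
  obtain ⟨g, hg⟩ := same_orbit_of_inv zs hcov f h hnd hx hy he
  have hgM : (g : Equiv.Perm GolayPt) ∈ M24 ⊓ MulAction.stabilizer (Equiv.Perm GolayPt) y₀ :=
    hst.symm ▸ g.2
  refine ⟨σ * g * σ⁻¹, mul_mem (mul_mem hσ hgM.1) (inv_mem hσ), ?_, ?_⟩
  · rw [mul_smul, mul_smul, inv_smul_smul, MulAction.mem_stabilizer_iff.1 hgM.2]
  · rw [mul_smul, mul_smul, show (g : Equiv.Perm GolayPt) • σ⁻¹ • x = σ⁻¹ • y from hg,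
      smul_inv_smul]

theorem mem_smul_of_fix {g : Equiv.Perm GolayPt} {p : GolayPt} (hg : g p = p) (s : Finset GolayPt) :
    p ∈ g • s ↔ p ∈ s := by
  conv_lhs => rw [← hg]
  exact mem_smul_iff

theorem pt_mem_ofMask {i m : ℕ} (hi : i < 24) : pt i ∈ ofMask m ↔ m.testBit i = true := by
  rw [mem_ofMask, num_pt hi]

theorem ncard_octads_where (P : Finset GolayPt → Prop) (b : ℕ → Bool)
    (hb : ∀ a, P (ofMask a) ↔ b a = true) :
    {x | x ∈ octads ∧ P x}.ncard = octadList.countP b := by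
  classical
  have e : {x | x ∈ octads ∧ P x} = ↑((octadList.filter b).toFinset.image ofMask) := by
    ext x
    simp only [Set.mem_setOf_eq, Finset.coe_image, Set.mem_image, List.coe_toFinset, List.mem_filter]
    constructor
    · rintro ⟨hx, hP⟩
      exact ⟨maskOf x, ⟨(mem_octads_iff (maskOf_lt x)).1 (by rwa [ofMask_maskOf]),
        (hb _).1 (by rwa [ofMask_maskOf])⟩, ofMask_maskOf x⟩
    · rintro ⟨a, ⟨ha, hba⟩, rfl⟩
      exact ⟨(mem_octads_iff (by simpa using List.all_eq_true.1 octadList_lt a ha)).2 ha, (hb a).2 hba⟩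
  have hnd : octadList.Nodup := by
    rw [← beq_iff_eq.1 octadList_eq]; exact wordList_nodup.filter _
  rw [e, Set.ncard_coe_finset, Finset.card_image_of_injOn,
    List.toFinset_card_of_nodup (hnd.filter _), List.countP_eq_length_filter]
  intro a ha c hc hac
  simp only [List.coe_toFinset, Set.mem_setOf_eq, List.mem_filter] at ha hc
  exact (ofMask_eq_ofMask (by simpa using List.all_eq_true.1 octadList_lt a ha.1)
    (by simpa using List.all_eq_true.1 octadList_lt c hc.1)).1 hac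

theorem exists_octad_iff (m : ℕ) (hm : m < 2 ^ 24) :
    (∃ o ∈ octads, ofMask m ⊆ o) ↔ (octadList.any fun a => Nat.beq (Nat.land m a) m) = true := by
  rw [List.any_eq_true]
  constructor
  · rintro ⟨o, ho, hsub⟩
    refine ⟨maskOf o, (mem_octads_iff (maskOf_lt o)).1 (by rwa [ofMask_maskOf]), ?_⟩
    rw [natBeq, beq_iff_eq]
    exact (ofMask_subset_iff hm).1 (by rwa [ofMask_maskOf])
  · rintro ⟨a, ha, he⟩
    exact ⟨ofMask a, (mem_octads_iff (by simpa using List.all_eq_true.1 octadList_lt a ha)).2 ha,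
      ofMask_subset (Nat.eq_of_beq_eq_true he)⟩

theorem exists_octad_smul {σ : Equiv.Perm GolayPt} (hσ : σ ∈ M24) (s : Finset GolayPt) :
    (∃ o ∈ octads, σ • s ⊆ o) ↔ ∃ o ∈ octads, s ⊆ o := by
  constructor
  · rintro ⟨o, ho, hs⟩
    refine ⟨σ⁻¹ • o, smul_mem_octads (inv_mem hσ) ho, fun p hp => ?_⟩
    rw [← mem_smul_iff (σ := σ), smul_inv_smul]
    exact hs (mem_smul_iff.2 hp)
  · rintro ⟨o, ho, hs⟩
    exact ⟨σ • o, smul_mem_octads hσ ho, Finset.smul_finset_subset_smul_finset hs⟩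

end CfsgLib.Spor
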