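import Cfsg.Agent.Spor.QuartetData
import Cfsg.Agent.Spor.StabConj
import Cfsg.Agent.Spor.FamilyTools
import Cfsg.Prelude.Def_SporadicCombinatorics

/-!
Quartets of a dodecad: the list, uniqueness, the stabiliser and its suborbits.
-/

set_option autoImplicit false

namespace CfsgLib.Spor.Quartets

open Cfsg
open scoped Pointwise

/-- traces of octads of size six on the base dodecad -/
def hexList : List ℕ := (octadList.map fun o => o &&& dodX).filter fun h => pop h == 6

/-- membership by natural number comparison -/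
def memN (m : ℕ) : List ℕ → Bool
  | [] => false
  | a :: l => cond (Nat.beq a m) true (memN m l)

theorem memN_iff (m : ℕ) (l : List ℕ) : memN m l = true ↔ m ∈ l := by
  induction l with
  | nil => simp [memN]
  | cons a l ih =>
    rw [memN]
    cases h : Nat.beq a m
    · simp only [cond_false, ih, List.mem_cons]
      refine ⟨Or.inr, fun h' => h'.resolve_left fun e => ?_⟩
      subst e
      simp [natBeq] at h
    · simp [Nat.eq_of_beq_eq_true h]

theorem data_check : hexList = hexData := by decide +kernel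

/-- hexad test -/
def hexB (m : ℕ) : Bool := memN m hexData

theorem mem_D0_lt : dodX < 2 ^ 24 := by decide +kernel

theorem hex_iff {m : ℕ} (hm : m < 2 ^ 24) : ofMask m ∈ hexadsOn D0 ↔ hexB m = true := by
  rw [hexB, memN_iff, ← data_check, hexList, List.mem_filter]
  show (ofMask m).card = 6 ∧ (∃ o ∈ octads, o ∩ D0 = ofMask m) ↔ _
  constructor
  · rintro ⟨h6, o, ho, he⟩
    refine ⟨List.mem_map.2 ⟨maskOf o, (mem_octads_iff (maskOf_lt o)).1 (by rwa [ofMask_maskOf]), ?_⟩, ?_⟩
    · refine (ofMask_eq_ofMask (lt_of_le_of_lt Nat.and_le_left (maskOf_lt o)) hm).1 ?_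
      rw [ofMask_and, ofMask_maskOf]
      exact he
    · rw [card_ofMask] at h6
      simp [h6]
  · rintro ⟨h, h6⟩
    obtain ⟨o, ho, rfl⟩ := List.mem_map.1 h
    refine ⟨by rw [card_ofMask]; simpa using h6, ofMask o, ?_, by rw [D0, ofMask_and]⟩
    exact (mem_octads_iff (by simpa using List.all_eq_true.1 octadList_lt o ho)).2 ho

/-- the triples inside the base dodecad -/
def tripleList : List ℕ :=
  (List.range 24).flatMap fun i => ((List.range 24).filter fun j => Nat.blt i j).flatMap fun j =>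
    ((List.range 24).filter fun k => Nat.blt j k && (dodX.testBit i && (dodX.testBit j &&
      dodX.testBit k))).map fun k => 1 <<< i ||| 1 <<< j ||| 1 <<< k

theorem triple_check : tripleList = tripleData := by decide +kernel

theorem triple_mem {t : Finset GolayPt} (ht : t.card = 3) (hsub : t ⊆ D0) :
    ∃ m ∈ tripleData, ofMask m = t ∧ m < 2 ^ 24 := by
  classical
  rw [← triple_check]
  set L := (t.image num).sort (· ≤ ·) with hL
  have hlen : L.length = 3 := by
    rw [hL, Finset.length_sort, Finset.card_image_of_injective _ num_injective, ht]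
  have hmem : ∀ p, p ∈ t ↔ num p ∈ L := fun p => by
    rw [hL, Finset.mem_sort, num_injective.mem_finset_image]
  have hin : ∀ x ∈ L, x < 24 ∧ dodX.testBit x = true := fun x hx => by
    rw [hL, Finset.mem_sort] at hx
    obtain ⟨p, hp, rfl⟩ := Finset.mem_image.1 hx
    exact ⟨num_lt p, mem_ofMask.1 (hsub hp)⟩
  have hs : L.Pairwise (· ≤ ·) := Finset.pairwise_sort _ _
  have hnd : L.Nodup := Finset.sort_nodup _ _
  obtain ⟨a, b, c, hLe⟩ := List.length_eq_three.1 hlen
  rw [hLe] at hs hnd hin hmem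
  simp only [List.pairwise_cons, List.nodup_cons, List.mem_cons, List.not_mem_nil, or_false,
    forall_eq_or_imp, forall_eq, not_or] at hs hnd hin hmem
  refine ⟨1 <<< a ||| 1 <<< b ||| 1 <<< c, ?_, ?_, ?_⟩
  · simp only [tripleList, List.mem_flatMap, List.mem_map, List.mem_filter, List.mem_range,
      Bool.and_eq_true, Nat.blt_eq]
    exact ⟨a, hin.1.1, b, ⟨hin.2.1.1, lt_of_le_of_ne hs.1.1 hnd.1.1⟩, c,
      ⟨hin.2.2.1, lt_of_le_of_ne hs.2.1 hnd.2.1, hin.1.2, hin.2.1.2, hin.2.2.2⟩, rfl⟩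
  · ext p
    rw [hmem, mem_ofMask]
    simp only [Nat.testBit_lor, Bool.or_eq_true, Nat.one_shiftLeft, Nat.testBit_two_pow,
      decide_eq_true_eq]
    constructor <;> intro h <;> omega
  · have p : ∀ x, x < 24 → 1 <<< x < 2 ^ 24 := fun x hx => by
      rw [Nat.one_shiftLeft]; exact Nat.pow_lt_pow_right (by norm_num) hx
    exact Nat.or_lt_two_pow (Nat.or_lt_two_pow (p a hin.1.1) (p b hin.2.1.1)) (p c hin.2.2.1)

theorem famDec_four (a b c d : ℕ) :
    famDec [a, b, c, d] = {ofMask a, ofMask b, ofMask c, ofMask d} := by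
  ext s; simp [famDec]

/-- a non-empty part of a non-empty mask -/
def lb (m : ℕ) : ℕ := Nat.xor m (Nat.land m (Nat.sub m 1))

theorem lb_spec {m : ℕ} (hm : m ≠ 0) : ∃ i, (lb m).testBit i = true ∧ m.testBit i = true := by
  have e : lb m = m ^^^ (m &&& (m - 1)) := rfl
  obtain ⟨i, hi⟩ := Nat.exists_testBit_of_ne_zero (x := lb m) fun h => by
    have h' : m &&& (m - 1) ≤ m - 1 := Nat.and_le_right
    have h'' : m = m &&& (m - 1) := Nat.eq_of_testBit_eq fun i => by
      have := congrArg (fun n => n.testBit i) (e ▸ h)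
      simp only [Nat.testBit_xor, Nat.zero_testBit] at this
      revert this
      cases m.testBit i <;> cases (m &&& (m - 1)).testBit i <;> simp
    omega
  refine ⟨i, hi, ?_⟩
  rw [e, Nat.testBit_xor, Nat.testBit_and] at hi
  revert hi
  cases m.testBit i <;> simp

/-- the remaining mask -/
def rest (m : ℕ) (l : List ℕ) : ℕ := l.foldl (fun acc t => acc ^^^ t) m

theorem list_check :
    (tripleData.all fun t => Nat.beq (Nat.land t (lb dodX)) 0 || tripleData.all fun u =>
      Nat.beq (Nat.land u (lb (Nat.xor dodX t))) 0 || (!(Nat.beq (Nat.land t u) 0 && hexB (t ||| u)) ||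
      tripleData.all fun v =>
        Nat.beq (Nat.land v (lb (Nat.xor (Nat.xor dodX t) u))) 0 ||
          (!(Nat.beq (Nat.land t v) 0 && (Nat.beq (Nat.land u v) 0 && (hexB (t ||| v) && (hexB (u ||| v) &&
            (hexB (t ||| Nat.xor (Nat.xor (Nat.xor dodX t) u) v) &&
              (hexB (u ||| Nat.xor (Nat.xor (Nat.xor dodX t) u) v) &&
                hexB (v ||| Nat.xor (Nat.xor (Nat.xor dodX t) u) v))))))) ||
          quartetList.any fun q => q == [t, u, v, Nat.xor (Nat.xor (Nat.xor dodX t) u) v]))) = true ∧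
    (quartetList.all fun q => q.length == 4 && q.all (fun m => decide (m < 2 ^ 24) && pop m == 3 &&
      m &&& dodX == m && q.all fun m' => m == m' || (m &&& m' == 0 && hexB (m ||| m')))) = true ∧
    quartetList.length = 220 ∧
    nodupB 24 (quartetList.map fun q => ((q.map fun m => m % 2 ^ 24).map mix).sum) = true ∧
    (quartetList.all fun q => nodupB 24 (q.map fun m => m % 2 ^ 24)) = true ∧
    quartetList.contains quartet0 = true := by
  decide +kernel

theorem mem_list {Q : Finset (Finset GolayPt)} (hQ : Q ∈ quartets D0) :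
    ∃ q ∈ quartetList, famDec q = Q := by
  classical
  obtain ⟨h4, h3, hh⟩ := hQ
  have hdisj : ∀ a ∈ Q, ∀ b ∈ Q, a ≠ b → Disjoint a b := by
    intro a ha b hb hne
    have := (hh a ha b hb hne).1
    rw [Finset.disjoint_iff_inter_eq_empty, ← Finset.card_eq_zero]
    have e := Finset.card_union_add_card_inter a b
    rw [this, (h3 a ha).1, (h3 b hb).1] at e
    omega
  have hcov : Q.biUnion id = D0 := by
    refine Finset.eq_of_subset_of_card_le (Finset.biUnion_subset.2 fun a ha => (h3 a ha).2) ?_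
    rw [Finset.card_biUnion (t := id) fun a ha b hb hne => hdisj a ha b hb hne,
      Finset.sum_congr rfl fun a (ha : a ∈ Q) => (show (id a).card = 3 from (h3 a ha).1), Finset.sum_const, h4, D0_mem.2]
    norm_num
  have hmemD : ∀ p ∈ D0, ∃ a ∈ Q, p ∈ a := fun p hp => by
    rw [← hcov] at hp
    simpa using hp
  have hmask : ∀ a ∈ Q, ∃ m ∈ tripleData, ofMask m = a ∧ m < 2 ^ 24 := fun a ha =>
    triple_mem (h3 a ha).1 (h3 a ha).2
  have hD0 : D0 = ofMask dodX := rfl
  -- the remaining points after removing some members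
  have hrest : ∀ (l : List ℕ), (l.map ofMask).Nodup → (∀ m ∈ l, ofMask m ∈ Q ∧ m < 2 ^ 24) →
      rest dodX l < 2 ^ 24 ∧ ofMask (rest dodX l) = D0 \ (l.map ofMask).toFinset.biUnion id := by
    intro l
    induction l using List.reverseRecOn with
    | nil => intro _ _; exact ⟨mem_D0_lt, by simp [rest, hD0]⟩
    | append_singleton l m ih =>
      intro hnd hl
      rw [List.map_append, List.map_singleton, List.nodup_append] at hnd
      obtain ⟨hlt, he⟩ := ih hnd.1 fun x hx => hl x (by simp [hx])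
      obtain ⟨hm, hmlt⟩ := hl m (by simp)
      have e : rest dodX (l ++ [m]) = rest dodX l ^^^ m := by simp [rest]
      rw [e]
      refine ⟨Nat.xor_lt_two_pow hlt hmlt, ?_⟩
      rw [ofMask_xor, he]
      ext p
      have hsub := (h3 _ hm).2
      have hdj : ∀ x ∈ l, p ∈ ofMask x → p ∉ ofMask m := fun x hx hpx hpm =>
        Finset.disjoint_left.1 (hdisj _ (hl x (by simp [hx])).1 _ hm (hnd.2.2 _
          (List.mem_map.2 ⟨x, hx, rfl⟩) _ (by simp))) hpx hpm
      simp only [Finset.mem_symmDiff, Finset.mem_sdiff, Finset.mem_biUnion, List.mem_toFinset,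
        List.map_append, List.mem_append, List.map_singleton, List.mem_singleton, id]
      constructor
      · rintro (⟨⟨hp, hn⟩, hpm⟩ | ⟨hpm, hn⟩)
        · refine ⟨hp, ?_⟩
          rintro ⟨a, ha | rfl, hpa⟩
          · exact hn ⟨a, ha, hpa⟩
          · exact hpm hpa
        · exfalso
          refine hn ⟨hsub hpm, ?_⟩
          rintro ⟨a, ha, hpa⟩
          obtain ⟨x, hx, rfl⟩ := List.mem_map.1 ha
          exact hdj x hx hpa hpm
      · rintro ⟨hp, hn⟩
        exact Or.inl ⟨⟨hp, fun ⟨a, ha, hpa⟩ => hn ⟨a, Or.inl ha, hpa⟩⟩,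
          fun hpm => hn ⟨_, Or.inr rfl, hpm⟩⟩
  -- pick the member through the lowest remaining point
  have hpick : ∀ (l : List ℕ), (l.map ofMask).Nodup → (∀ m ∈ l, ofMask m ∈ Q ∧ m < 2 ^ 24) →
      l.length < 4 → ∃ m ∈ tripleData, ofMask m ∈ Q ∧ m < 2 ^ 24 ∧
        Nat.land m (lb (rest dodX l)) ≠ 0 ∧ ofMask m ∉ l.map ofMask := by
    intro l hnd hl hlen
    obtain ⟨hlt, he⟩ := hrest l hnd hl
    have hne : rest dodX l ≠ 0 := by
      intro e
      rw [e, ofMask_zero] at he
      have hsub : D0 ⊆ (l.map ofMask).toFinset.biUnion id := Finset.sdiff_eq_empty_iff_subset.1 he.symm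
      have h1 := (Finset.card_le_card hsub).trans (Finset.card_biUnion_le_card_mul _ _ 3 fun a ha => by
        obtain ⟨m, hm, rfl⟩ := List.mem_map.1 (List.mem_toFinset.1 ha)
        exact (h3 _ (hl m hm).1).1.le)
      rw [D0_mem.2, List.toFinset_card_of_nodup hnd, List.length_map] at h1
      omega
    obtain ⟨i, hlb, hbit⟩ := lb_spec hne
    have hi24 : i < 24 := by
      by_contra h
      rw [Nat.testBit_eq_false_of_lt (lt_of_lt_of_le hlt
        (Nat.pow_le_pow_right (by norm_num) (not_lt.1 h)))] at hbit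
      exact Bool.noConfusion hbit
    have hp : pt i ∈ ofMask (rest dodX l) := (pt_mem_ofMask hi24).2 hbit
    rw [he, Finset.mem_sdiff] at hp
    obtain ⟨a, ha, hpa⟩ := hmemD _ hp.1
    obtain ⟨m, hm, rfl, hmlt⟩ := hmask a ha
    refine ⟨m, hm, ha, hmlt, fun h => ?_, fun hin =>
      hp.2 (Finset.mem_biUnion.2 ⟨_, List.mem_toFinset.2 hin, hpa⟩)⟩
    have := congrArg (fun n => n.testBit i) (show m &&& lb (rest dodX l) = 0 from h)
    simp [(pt_mem_ofMask hi24).1 hpa, hlb] at this
  obtain ⟨t, ht, htQ, htlt, htb, -⟩ := hpick [] (by simp) (by simp) (by simp)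
  obtain ⟨u, hu, huQ, hult, hub, hut⟩ := hpick [t] (by simp) (List.forall_mem_singleton.2 ⟨htQ, htlt⟩) (by simp)
  simp only [List.map_cons, List.map_nil, List.mem_singleton] at hut
  obtain ⟨v, hv, hvQ, hvlt, hvb, hvn⟩ := hpick [t, u] (by simp [Ne.symm hut])
    (List.forall_mem_cons.2 ⟨⟨htQ, htlt⟩, List.forall_mem_singleton.2 ⟨huQ, hult⟩⟩) (by simp)
  simp only [List.map_cons, List.map_nil, List.mem_cons, List.not_mem_nil, or_false, not_or] at hvn
  have hnd3 : (([t, u, v] : List ℕ).map ofMask).Nodup := by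
    simp [Ne.symm hut, Ne.symm hvn.1, Ne.symm hvn.2]
  have hl3 : ∀ m ∈ ([t, u, v] : List ℕ), ofMask m ∈ Q ∧ m < 2 ^ 24 := by
    exact List.forall_mem_cons.2 ⟨⟨htQ, htlt⟩, List.forall_mem_cons.2 ⟨⟨huQ, hult⟩,
      List.forall_mem_singleton.2 ⟨hvQ, hvlt⟩⟩⟩
  obtain ⟨w, hw, hwQ, hwlt, -, hwn⟩ := hpick [t, u, v] hnd3 hl3 (by simp)
  simp only [List.map_cons, List.map_nil, List.mem_cons, List.not_mem_nil, or_false, not_or] at hwn
  have hQe : Q = famDec [t, u, v, w] := by
    refine (Finset.eq_of_subset_of_card_le ?_ ?_).symm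
    · rw [famDec_four]
      simp [Finset.insert_subset_iff, htQ, huQ, hvQ, hwQ]
    · rw [h4, famDec, List.toFinset_card_of_nodup]
      · simp
      · simp [Ne.symm hut, Ne.symm hvn.1, Ne.symm hvn.2, Ne.symm hwn.1, Ne.symm hwn.2.1,
          Ne.symm hwn.2.2]
  obtain ⟨hrlt, hre⟩ := hrest [t, u, v] hnd3 hl3
  have hwr : rest dodX [t, u, v] = w := by
    refine (ofMask_eq_ofMask hrlt hwlt).1 ?_
    rw [hre]
    ext p
    simp only [Finset.mem_sdiff, Finset.mem_biUnion, List.mem_toFinset, List.map_cons, List.map_nil,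
      List.mem_cons, List.not_mem_nil, or_false, id]
    constructor
    · rintro ⟨hp, hn⟩
      obtain ⟨a, ha, hpa⟩ := hmemD p hp
      rw [hQe, famDec_four] at ha
      simp only [Finset.mem_insert, Finset.mem_singleton] at ha
      rcases ha with rfl | rfl | rfl | rfl
      · exact absurd ⟨_, Or.inl rfl, hpa⟩ hn
      · exact absurd ⟨_, Or.inr (Or.inl rfl), hpa⟩ hn
      · exact absurd ⟨_, Or.inr (Or.inr rfl), hpa⟩ hn
      · exact hpa
    · intro hp
      refine ⟨(h3 _ hwQ).2 hp, ?_⟩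
      rintro ⟨a, rfl | rfl | rfl, hpa⟩
      · exact Finset.disjoint_left.1 (hdisj _ htQ _ hwQ (Ne.symm hwn.1)) hpa hp
      · exact Finset.disjoint_left.1 (hdisj _ huQ _ hwQ (Ne.symm hwn.2.1)) hpa hp
      · exact Finset.disjoint_left.1 (hdisj _ hvQ _ hwQ (Ne.symm hwn.2.2)) hpa hp
  have hx : ∀ {a b : ℕ}, ofMask a ∈ Q → ofMask b ∈ Q → a < 2 ^ 24 → b < 2 ^ 24 →
      ofMask a ≠ ofMask b → hexB (a ||| b) = true ∧ a &&& b = 0 := by
    intro a b ha hb hal hbl hne
    refine ⟨(hex_iff (Nat.or_lt_two_pow hal hbl)).1 ?_, ?_⟩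
    · rw [ofMask_or]; exact hh _ ha _ hb hne
    · have := hdisj _ ha _ hb hne
      rw [Finset.disjoint_iff_inter_eq_empty, ← ofMask_and, ← ofMask_zero] at this
      exact (ofMask_eq_ofMask (lt_of_le_of_lt Nat.and_le_left hal) (by norm_num)).1 this
  have h := List.all_eq_true.1 list_check.1 t ht
  simp only [natBeq, Bool.or_eq_true, beq_iff_eq, show Nat.land t (lb dodX) ≠ 0 from htb, false_or,
    List.all_eq_true] at h
  have h := h u hu
  obtain ⟨e1, e2⟩ := hx htQ huQ htlt hult (Ne.symm hut)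
  simp only [show Nat.land u (lb (Nat.xor dodX t)) ≠ 0 from hub, show Nat.land t u = 0 from e2, e1,
    beq_self_eq_true, Bool.and_self, Bool.not_true, Bool.false_eq_true, false_or] at h
  have h := h v hv
  obtain ⟨f1, f2⟩ := hx htQ hvQ htlt hvlt (Ne.symm hvn.1)
  obtain ⟨g1, g2⟩ := hx huQ hvQ hult hvlt (Ne.symm hvn.2)
  simp only [show Nat.land v (lb (Nat.xor (Nat.xor dodX t) u)) ≠ 0 from hvb, f1,
    show Nat.land t v = 0 from f2, g1, show Nat.land u v = 0 from g2,
    show Nat.xor (Nat.xor (Nat.xor dodX t) u) v = w from hwr,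
    (hx htQ hwQ htlt hwlt (Ne.symm hwn.1)).1, (hx huQ hwQ hult hwlt (Ne.symm hwn.2.1)).1,
    (hx hvQ hwQ hvlt hwlt (Ne.symm hwn.2.2)).1, beq_self_eq_true, Bool.and_self, Bool.not_true,
    Bool.false_eq_true, false_or, List.any_eq_true] at h
  obtain ⟨q, hq, he⟩ := h
  rw [beq_iff_eq.1 he] at hq
  exact ⟨_, hq, hQe.symm⟩

theorem list_mem {q : List ℕ} (hq : q ∈ quartetList) : famDec q ∈ quartets D0 := by
  have h := List.all_eq_true.1 list_check.2.1 q hq
  have hn := List.all_eq_true.1 list_check.2.2.2.2.1 q hq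
  simp only [Bool.and_eq_true, beq_iff_eq, List.all_eq_true, decide_eq_true_eq, Bool.or_eq_true] at h
  obtain ⟨hlen, hm⟩ := h
  have hnd : (q.map ofMask).Nodup := by
    have hn' := nodup_of_nodupB _ _ hn
    refine List.Nodup.map_on ?_ (List.Nodup.of_map _ hn')
    intro x hx y hy he
    exact List.inj_on_of_nodup_map hn' hx hy (mask_mod_eq he)
  refine ⟨by rw [famDec, List.toFinset_card_of_nodup hnd, List.length_map, hlen], ?_, ?_⟩
  · intro t ht
    simp only [famDec, List.mem_toFinset, List.mem_map] at ht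
    obtain ⟨m, hmq, rfl⟩ := ht
    obtain ⟨⟨⟨hlt, h3⟩, hsub⟩, -⟩ := hm m hmq
    refine ⟨by rw [card_ofMask, h3], ?_⟩
    rw [D0]
    exact ofMask_subset hsub
  · intro t ht u hu hne
    simp only [famDec, List.mem_toFinset, List.mem_map] at ht hu
    obtain ⟨m, hmq, rfl⟩ := ht
    obtain ⟨m', hmq', rfl⟩ := hu
    rcases (hm m hmq).2 m' hmq' with rfl | h'
    · exact absurd rfl hne
    · rw [← ofMask_or]
      exact (hex_iff (Nat.or_lt_two_pow (hm m hmq).1.1.1 (hm m' hmq').1.1.1)).2 h'.2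

/-- the base quartet -/
def Q0 : Finset (Finset GolayPt) := famDec quartet0

theorem Q0_mem : Q0 ∈ quartets D0 := list_mem (by simpa using list_check.2.2.2.2.2)

theorem quartets_D0 : quartets D0 = {Q | Q ∈ quartetList.map famDec} := by
  ext Q
  rw [Set.mem_setOf_eq, List.mem_map]
  refine ⟨mem_list, ?_⟩
  rintro ⟨q, hq, rfl⟩
  exact list_mem hq

theorem ncard_quartets_D0 : (quartets D0).ncard = 220 := by
  classical
  have hn := nodup_of_nodupB _ _ list_check.2.2.2.1
  have hnd : (quartetList.map famDec).Nodup := by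
    refine List.Nodup.map_on ?_ (List.Nodup.of_map _ hn)
    intro x hx y hy he
    refine List.inj_on_of_nodup_map hn hx hy ?_
    rw [← famKey_eq x, ← famKey_eq y, he]
    · exact List.all_eq_true.1 list_check.2.2.2.2.1 y hy
    · exact List.all_eq_true.1 list_check.2.2.2.2.1 x hx
  rw [quartets_D0, ← List.coe_toFinset, Set.ncard_coe_finset, List.toFinset_card_of_nodup hnd,
    List.length_map, list_check.2.2.1]

theorem smul_mem_hexads {σ : Equiv.Perm GolayPt} (hσ : σ ∈ M24) {d h : Finset GolayPt}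
    (hh : h ∈ hexadsOn d) : σ • h ∈ hexadsOn (σ • d) := by
  obtain ⟨h6, o, ho, rfl⟩ := hh
  exact ⟨(card_smul_perm σ _).trans h6, σ • o, smul_mem_octads hσ ho, (smul_inter_perm σ o d).symm⟩

theorem smul_mem_quartets {σ : Equiv.Perm GolayPt} (hσ : σ ∈ M24) {d : Finset GolayPt}
    {Q : Finset (Finset GolayPt)} (hQ : Q ∈ quartets d) : σ • Q ∈ quartets (σ • d) := by
  obtain ⟨h4, h3, hh⟩ := hQ
  refine ⟨by rw [Finset.card_smul_finset, h4], ?_, ?_⟩
  · intro t ht
    obtain ⟨t, ht', rfl⟩ := Finset.mem_smul_finset.1 ht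
    exact ⟨(card_smul_perm σ t).trans (h3 t ht').1,
      Finset.smul_finset_subset_smul_finset (h3 t ht').2⟩
  · intro t ht u hu hne
    obtain ⟨t, ht', rfl⟩ := Finset.mem_smul_finset.1 ht
    obtain ⟨u, hu', rfl⟩ := Finset.mem_smul_finset.1 hu
    rw [← Finset.smul_finset_union]
    exact smul_mem_hexads hσ (hh t ht' u hu' fun e => hne (by rw [e]))

theorem quartets_smul {σ : Equiv.Perm GolayPt} (hσ : σ ∈ M24) (d : Finset GolayPt) :
    quartets (σ • d) = σ • quartets d := by
  ext Q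
  rw [Set.mem_smul_set_iff_inv_smul_mem]
  constructor
  · intro h
    have := smul_mem_quartets (inv_mem hσ) h
    rwa [inv_smul_smul] at this
  · intro h
    have := smul_mem_quartets hσ h
    rwa [smul_inv_smul] at this

/-- the quartets through the first triple -/
def through : List (List ℕ) :=
  [[7, 4120, 327744, 8960], [7, 584, 73744, 266496], [7, 65800, 262672, 12352], [7, 270344, 336, 70144]]

theorem unique_check :
    (quartetList.all fun q => !memN 7 q || through.any fun q' => q == q') = true ∧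
    (tripleData.all fun u => !(Nat.beq (Nat.land 7 u) 0 && hexB (7 ||| u)) ||
      Nat.beq (through.countP fun q => memN u q) 1) = true ∧
    (through.all fun q => quartetList.contains q && (memN 7 q && conjList.any fun P =>
      inM24 P && imgP P dodX % 2 ^ 24 == dodX &&
        quartet0.all fun m => q.contains (imgP P m % 2 ^ 24))) = true ∧
    1 <<< m11X ||| 1 <<< dpqX ||| 1 <<< dpqrX = 7 := by decide +kernel

theorem mem_famDec_iff {q : List ℕ} (hq : q ∈ quartetList) {m : ℕ} (hm : m < 2 ^ 24) :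
    ofMask m ∈ famDec q ↔ m ∈ q := by
  simp only [famDec, List.mem_toFinset, List.mem_map]
  refine ⟨?_, fun h => ⟨m, h, rfl⟩⟩
  rintro ⟨m', hm', he⟩
  have h := List.all_eq_true.1 list_check.2.1 q hq
  simp only [Bool.and_eq_true, List.all_eq_true, decide_eq_true_eq] at h
  rwa [← (ofMask_eq_ofMask (h.2 m' hm').1.1.1 hm).1 he]

theorem triple_std {d : Finset GolayPt} (hd : d ∈ dodecads) {t : Finset GolayPt} (ht : t.card = 3)
    (hsub : t ⊆ d) : ∃ σ ∈ M24, σ • D0 = d ∧ σ • ofMask 7 = t := by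
  classical
  obtain ⟨p, q, r, hpq, hpr, hqr, rfl⟩ := Finset.card_eq_three.1 ht
  obtain ⟨σ, hσ, hd', hp, hq', hr⟩ := dod_flag3 hd (hsub (by simp)) (hsub (by simp))
    (hsub (by simp)) hpq hpr hqr
  refine ⟨σ, hσ, hd', ?_⟩
  rw [← hp, ← hq', ← hr, ← unique_check.2.2.2]
  ext x
  obtain ⟨y, rfl⟩ := σ.surjective x
  have hn : num p0 = m11X ∧ num (pt dpqX) = dpqX ∧ num (pt dpqrX) = dpqrX := by decide +kernel
  simp only [mem_smul_iff, mem_ofMask, Nat.testBit_lor, Bool.or_eq_true, Nat.one_shiftLeft,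
    Nat.testBit_two_pow, decide_eq_true_eq, Finset.mem_insert, Finset.mem_singleton,
    EmbeddingLike.apply_eq_iff_eq]
  constructor
  · rintro ((h | h) | h)
    · exact Or.inl (num_injective (h.symm.trans hn.1.symm))
    · exact Or.inr (Or.inl (num_injective (h.symm.trans hn.2.1.symm)))
    · exact Or.inr (Or.inr (num_injective (h.symm.trans hn.2.2.symm)))
  · rintro (rfl | rfl | rfl)
    · exact Or.inl (Or.inl hn.1.symm)
    · exact Or.inl (Or.inr hn.2.1.symm)
    · exact Or.inr hn.2.2.symm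

theorem mem_through {Q : Finset (Finset GolayPt)} (hQ : Q ∈ quartets D0) (h7 : ofMask 7 ∈ Q) :
    ∃ q ∈ through, q ∈ quartetList ∧ famDec q = Q := by
  obtain ⟨q, hq, rfl⟩ := mem_list hQ
  have h := List.all_eq_true.1 unique_check.1 q hq
  simp only [(memN_iff 7 q).2 ((mem_famDec_iff hq (by norm_num)).1 h7), Bool.not_true, Bool.false_or,
    List.any_eq_true, beq_iff_eq] at h
  obtain ⟨q', hq', rfl⟩ := h
  exact ⟨q, hq', hq, rfl⟩

theorem through_mem {q : List ℕ} (hq : q ∈ through) :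
    q ∈ quartetList ∧ 7 ∈ q ∧ ∃ P, inM24 P = true ∧ imgP P dodX % 2 ^ 24 = dodX ∧
      ∀ m ∈ quartet0, imgP P m % 2 ^ 24 ∈ q := by
  have h := List.all_eq_true.1 unique_check.2.2.1 q hq
  simp only [Bool.and_eq_true, List.contains_iff_mem, memN_iff, List.any_eq_true, beq_iff_eq,
    List.all_eq_true] at h
  obtain ⟨h1, h2, P, -, ⟨h3, h4⟩, h5⟩ := h
  exact ⟨h1, h2, P, h3, h4, h5⟩

theorem existsUnique_quartet {d : Finset GolayPt} (hd : d ∈ dodecads) {t u : Finset GolayPt}
    (ht : t.card = 3) (hu : u.card = 3) (htu : Disjoint t u) (hh : t ∪ u ∈ hexadsOn d) :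
    ∃! Q : Finset (Finset GolayPt), Q ∈ quartets d ∧ t ∈ Q ∧ u ∈ Q := by
  have hsubd : t ∪ u ⊆ d := by
    obtain ⟨-, o, -, e⟩ := hh
    rw [← e]; exact Finset.inter_subset_right
  obtain ⟨σ, hσ, rfl, rfl⟩ := triple_std hd ht (Finset.union_subset_left hsubd)
  obtain ⟨u, rfl⟩ : ∃ u', σ • u' = u := ⟨σ⁻¹ • u, smul_inv_smul σ u⟩
  rw [card_smul_perm] at hu
  rw [← Finset.smul_finset_union] at hh
  have hh' : ofMask 7 ∪ u ∈ hexadsOn D0 := by
    have := smul_mem_hexads (inv_mem hσ) hh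
    rwa [inv_smul_smul, inv_smul_smul] at this
  have hsub : ofMask 7 ∪ u ⊆ D0 := by
    obtain ⟨-, o, -, e⟩ := hh'
    rw [← e]; exact Finset.inter_subset_right
  obtain ⟨b, hb, rfl, hblt⟩ := triple_mem hu (Finset.union_subset_right hsub)
  have hdis : 7 &&& b = 0 := by
    rw [smul_eq_image, smul_eq_image, Finset.disjoint_image σ.injective,
      Finset.disjoint_iff_inter_eq_empty, ← ofMask_and, ← ofMask_zero] at htu
    exact (ofMask_eq_ofMask (lt_of_le_of_lt Nat.and_le_left (by norm_num)) (by norm_num)).1 htu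
  rw [← ofMask_or, hex_iff (Nat.or_lt_two_pow (by norm_num) hblt)] at hh'
  have h := List.all_eq_true.1 unique_check.2.1 b hb
  simp only [show Nat.land 7 b = 0 from hdis, hh', natBeq, beq_self_eq_true, Bool.and_self,
    Bool.not_true, Bool.false_or, beq_iff_eq, List.countP_eq_length_filter, List.length_eq_one_iff] at h
  obtain ⟨q, hq⟩ := h
  have hq' : q ∈ through ∧ memN b q = true := List.mem_filter.1 (by rw [hq]; simp)
  obtain ⟨hql, h7, -⟩ := through_mem hq'.1
  refine ⟨σ • famDec q, ⟨smul_mem_quartets hσ (list_mem hql),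
    Finset.smul_mem_smul_finset ((mem_famDec_iff hql (by norm_num)).2 h7),
    Finset.smul_mem_smul_finset ((mem_famDec_iff hql hblt).2 ((memN_iff b q).1 hq'.2))⟩, ?_⟩
  rintro Q ⟨hQ, hQa, hQb⟩
  obtain ⟨Q, rfl⟩ : ∃ Q', σ • Q' = Q := ⟨σ⁻¹ • Q, smul_inv_smul σ Q⟩
  rw [quartets_smul hσ, Set.smul_mem_smul_set_iff] at hQ
  rw [Finset.smul_mem_smul_finset_iff] at hQa hQb
  obtain ⟨r, hr, hrl, rfl⟩ := mem_through hQ hQa
  have : r ∈ through.filter fun q => memN b q :=
    List.mem_filter.2 ⟨hr, (memN_iff b r).2 ((mem_famDec_iff hrl hblt).1 hQb)⟩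
  rw [hq, List.mem_singleton] at this
  rw [this]

theorem quartet_std {d : Finset GolayPt} (hd : d ∈ dodecads) {Q : Finset (Finset GolayPt)}
    (hQ : Q ∈ quartets d) : ∃ σ ∈ M24, σ • D0 = d ∧ σ • Q0 = Q := by
  classical
  obtain ⟨t, ht⟩ := Finset.card_pos.1 (by rw [hQ.1]; norm_num : 0 < Q.card)
  obtain ⟨σ, hσ, rfl, rfl⟩ := triple_std hd (hQ.2.1 t ht).1 (hQ.2.1 t ht).2
  obtain ⟨R, rfl⟩ : ∃ R, σ • R = Q := ⟨σ⁻¹ • Q, smul_inv_smul σ Q⟩
  rw [quartets_smul hσ, Set.smul_mem_smul_set_iff] at hQ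
  rw [Finset.smul_mem_smul_finset_iff] at ht
  obtain ⟨q0, hq0, hq0l, rfl⟩ := mem_through hQ ht
  obtain ⟨-, -, P, hPM, hPD, hPq⟩ := through_mem hq0
  have hok : okP P = true := by
    rw [inM24, Bool.and_eq_true] at hPM
    exact hPM.1
  refine ⟨σ * mkPerm P, mul_mem hσ (mkPerm_mem_M24 hPM), ?_, ?_⟩
  · rw [mul_smul, D0, smul_ofMask hok, ← ofMask_mod, hPD]
  · rw [mul_smul]
    congr 1
    refine Finset.eq_of_subset_of_card_le ?_
      (by rw [Finset.card_smul_finset, (list_mem hq0l).1, Q0_mem.1])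
    intro s hs
    obtain ⟨s, hs', rfl⟩ := Finset.mem_smul_finset.1 hs
    simp only [Q0, famDec, List.mem_toFinset, List.mem_map] at hs' ⊢
    obtain ⟨m, hm, rfl⟩ := hs'
    exact ⟨_, hPq m hm, by rw [ofMask_mod, smul_ofMask hok]⟩

theorem quartets_count {d : Finset GolayPt} (hd : d ∈ dodecads) :
    (quartets d).ncard = 220 ∧ ∀ Q ∈ quartets d, ∀ Q' ∈ quartets d,
      ∃ g : Equiv.Perm GolayPt, g ∈ M24 ∧ g • d = d ∧ g • Q = Q' := by
  refine ⟨?_, fun Q hQ Q' hQ' => ?_⟩
  · obtain ⟨σ, hσ, rfl⟩ := dodecad_std hd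
    rw [quartets_smul hσ, Set.ncard_smul_set, ncard_quartets_D0]
  · obtain ⟨σ, hσ, h1, h2⟩ := quartet_std hd hQ
    obtain ⟨τ, hτ, h3, h4⟩ := quartet_std hd hQ'
    refine ⟨τ * σ⁻¹, mul_mem hτ (inv_mem hσ), ?_, ?_⟩
    · rw [mul_smul]; conv_lhs => rw [← h1, inv_smul_smul, h3]
    · rw [mul_smul, ← h2, inv_smul_smul, h4]

end CfsgLib.Spor.Quartets
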