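import Cfsg.Agent.Spor.Quartets
import Cfsg.Agent.Spor.M24Elems
import Mathlib.LinearAlgebra.Matrix.GeneralLinearGroup.Card
import Mathlib.LinearAlgebra.Matrix.NonsingularInverse

/-!
The stabiliser of a quartet: its normal subgroup of order nine, the quotient, the suborbits.
-/

set_option autoImplicit false

namespace CfsgLib.Spor.Quartets

open Cfsg CfsgLib.Spor.M24Elems
open scoped Pointwise

/-- the stabiliser of the base quartet -/
def G0 : Subgroup (Equiv.Perm GolayPt) :=
  M24 ⊓ MulAction.stabilizer (Equiv.Perm GolayPt) D0 ⊓ MulAction.stabilizer (Equiv.Perm GolayPt) Q0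

theorem mem_G0 {g : Equiv.Perm GolayPt} : g ∈ G0 ↔ g ∈ M24 ∧ g • D0 = D0 ∧ g • Q0 = Q0 := by
  simp only [G0, Subgroup.mem_inf, MulAction.mem_stabilizer_iff, and_assoc]

theorem card_G0 : Nat.card G0 = 432 := by
  set H : Subgroup (Equiv.Perm GolayPt) := M24 ⊓ MulAction.stabilizer (Equiv.Perm GolayPt) D0
  have hH : Nat.card H = 95040 := by
    rw [show H = gtGroup (chainTop dodStab) from stab_D0_eq]
    exact card_stab_D0
  have horb : MulAction.orbit H Q0 = quartets D0 := by
    ext Q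
    constructor
    · rintro ⟨g, rfl⟩
      have h := smul_mem_quartets (Subgroup.mem_inf.1 g.2).1 Q0_mem
      rwa [MulAction.mem_stabilizer_iff.1 (Subgroup.mem_inf.1 g.2).2] at h
    · intro hQ
      obtain ⟨σ, hσ, hD, hQ'⟩ := quartet_std D0_mem hQ
      exact ⟨⟨σ, Subgroup.mem_inf.2 ⟨hσ, MulAction.mem_stabilizer_iff.2 hD⟩⟩, hQ'⟩
  have h := ncard_orbit_mul_card (G := H) Q0
  rw [horb, ncard_quartets_D0, hH] at h
  have e : Nat.card (MulAction.stabilizer H Q0) = Nat.card G0 := by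
    rw [Nat.card_congr ((MulAction.stabilizer H Q0).equivMapOfInjective H.subtype
      H.subtype_injective).toEquiv]
    congr 2
    ext σ
    simp only [Subgroup.mem_map, MulAction.mem_stabilizer_iff, G0, Subgroup.mem_inf]
    exact ⟨fun ⟨g, hg, he⟩ => he ▸ ⟨Subgroup.mem_inf.1 g.2, hg⟩,
      fun h => ⟨⟨σ, Subgroup.mem_inf.2 h.1⟩, h.2, rfl⟩⟩
  omega

/-- a code keeping both base objects -/
def fixB0 (P : ℕ) : Bool :=
  inM24 P && (imgP P dodX % 2 ^ 24 == dodX && quartet0.all fun m => memN (imgP P m % 2 ^ 24) quartet0)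

theorem fixB0_spec {P : ℕ} (h : fixB0 P = true) : okP P = true ∧ mkPerm P ∈ G0 := by
  simp only [fixB0, Bool.and_eq_true, beq_iff_eq, List.all_eq_true, memN_iff] at h
  obtain ⟨hM, hD, hQ⟩ := h
  have hok := inM24_ok hM
  refine ⟨hok, mem_G0.2 ⟨mkPerm_mem_M24 hM, by rw [D0, smul_ofMask hok, ← ofMask_mod, hD], ?_⟩⟩
  refine Finset.eq_of_subset_of_card_le ?_ (by rw [Finset.card_smul_finset])
  intro s hs
  obtain ⟨s, hs', rfl⟩ := Finset.mem_smul_finset.1 hs
  simp only [Q0, famDec, List.mem_toFinset, List.mem_map] at hs' ⊢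
  obtain ⟨m, hm, rfl⟩ := hs'
  exact ⟨_, hQ m hm, by rw [ofMask_mod, smul_ofMask hok]⟩

/-- the action of the member with the given coordinates -/
def fA (i j p : ℕ) : ℕ := (app genA)^[i] ((app genB)^[j] p)

theorem nine_check :
    (fixB0 genA && fixB0 genB) = true ∧
    ((List.range 3).all fun i => (List.range 3).all fun j => (List.range 3).all fun k =>
      (List.range 3).all fun l => (List.range 24).all fun p =>
        fA ((i + k) % 3) ((j + l) % 3) p == fA i j (fA k l p)) = true ∧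
    ((List.range 3).all fun i => (List.range 3).all fun j =>
      (i == 0 && j == 0) || (List.range 24).any fun p => fA i j p != p) = true ∧
    (repList.all fun x => fixB0 x.2 && (List.range 24).all fun p =>
      (app x.2 (fA 1 0 p) == fA x.1.1 x.1.2.2.1 (app x.2 p)) &&
      (app x.2 (fA 0 1 p) == fA x.1.2.1 x.1.2.2.2 (app x.2 p))) = true ∧
    ((List.range 3).all fun a => (List.range 3).all fun b => (List.range 3).all fun c =>
      (List.range 3).all fun d => (a * d) % 3 == (b * c) % 3 ||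
        repList.any fun x => x.1 == (a, b, c, d)) = true ∧
    (moveList.all fun P => fixB0 P) = true ∧
    ((List.range 24).all fun q => !dodX.testBit q || moveList.any fun P => app P 0 == q) = true := by
  decide +kernel

theorem img_iter {P : ℕ} (hP : okP P = true) (n : ℕ) {i : ℕ} (hi : i < 24) :
    img (mkPerm P ^ n) i = (app P)^[n] i ∧ (app P)^[n] i < 24 := by
  induction n with
  | zero => exact ⟨img_one hi, hi⟩
  | succ n ih =>
    rw [Function.iterate_succ_apply', pow_succ', img_mul, ih.1, img_mkPerm hP ih.2]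
    exact ⟨rfl, app_lt hP ih.2⟩

theorem gens_spec : okP genA = true ∧ okP genB = true ∧ mkPerm genA ∈ G0 ∧ mkPerm genB ∈ G0 := by
  have h := nine_check.1
  rw [Bool.and_eq_true] at h
  exact ⟨(fixB0_spec h.1).1, (fixB0_spec h.2).1, (fixB0_spec h.1).2, (fixB0_spec h.2).2⟩

/-- the vectors -/
abbrev V : Type := Fin 2 → ZMod 3

/-- the underlying map of `psi` -/
noncomputable def psiFun (x : V) : Equiv.Perm GolayPt :=
  mkPerm genA ^ (x 0).val * mkPerm genB ^ (x 1).val

theorem img_psiFun (x : V) {p : ℕ} (hp : p < 24) :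
    img (psiFun x) p = fA (x 0).val (x 1).val p ∧ fA (x 0).val (x 1).val p < 24 := by
  obtain ⟨hA, hB, -⟩ := gens_spec
  obtain ⟨e1, l1⟩ := img_iter hB (x 1).val hp
  obtain ⟨e2, l2⟩ := img_iter hA (x 0).val l1
  exact ⟨by rw [psiFun, img_mul, e1, e2, fA], l2⟩

/-- the nine translations -/
noncomputable def psi : Multiplicative V →* Equiv.Perm GolayPt where
  toFun x := psiFun x.toAdd
  map_one' := by simp [psiFun]
  map_mul' x y := by
    refine perm_ext fun p hp => ?_
    obtain ⟨e2, l2⟩ := img_psiFun y.toAdd hp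
    rw [img_mul, e2, (img_psiFun x.toAdd l2).1, (img_psiFun (x * y).toAdd hp).1]
    have h := nine_check.2.1
    simp only [List.all_eq_true, List.mem_range, beq_iff_eq] at h
    rw [← h _ (ZMod.val_lt _) _ (ZMod.val_lt _) _ (ZMod.val_lt _) _ (ZMod.val_lt _) p hp]
    simp [ZMod.val_add]

theorem img_psi (x : Multiplicative V) {p : ℕ} (hp : p < 24) :
    img (psi x) p = fA (x.toAdd 0).val (x.toAdd 1).val p := (img_psiFun x.toAdd hp).1

theorem psi_injective : Function.Injective psi := by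
  refine (injective_iff_map_eq_one psi).2 fun x hx => ?_
  have h := nine_check.2.2.1
  simp only [List.all_eq_true, List.mem_range, Bool.or_eq_true, Bool.and_eq_true, beq_iff_eq,
    List.any_eq_true, bne_iff_ne] at h
  rcases h _ (ZMod.val_lt (x.toAdd 0)) _ (ZMod.val_lt (x.toAdd 1)) with ⟨h0, h1⟩ | ⟨p, hp, hne⟩
  · rw [ZMod.val_eq_zero] at h0 h1
    refine Multiplicative.toAdd.injective ?_
    funext i
    fin_cases i <;> simp [h0, h1]
  · rw [← img_psi x hp, hx, img_one hp] at hne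
    exact absurd rfl hne

theorem psi_mem (x : Multiplicative V) : psi x ∈ G0 := by
  obtain ⟨-, -, hA, hB⟩ := gens_spec
  exact mul_mem (pow_mem hA _) (pow_mem hB _)

/-- conjugation acts by the given matrix -/
def IsLin (g : Equiv.Perm GolayPt) (M : Matrix (Fin 2) (Fin 2) (ZMod 3)) : Prop :=
  ∀ x : V, g * psi (.ofAdd x) * g⁻¹ = psi (.ofAdd (M.mulVec x))

theorem isLin_unique {g : Equiv.Perm GolayPt} {M M' : Matrix (Fin 2) (Fin 2) (ZMod 3)}
    (h : IsLin g M) (h' : IsLin g M') : M = M' :=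
  Matrix.mulVec_injective (funext fun x =>
    Multiplicative.ofAdd.injective (psi_injective ((h x).symm.trans (h' x))))

theorem isLin_one : IsLin 1 1 := fun x => by simp

theorem isLin_mul {g g' : Equiv.Perm GolayPt} {M M' : Matrix (Fin 2) (Fin 2) (ZMod 3)}
    (h : IsLin g M) (h' : IsLin g' M') : IsLin (g * g') (M * M') := fun x => by
  rw [show g * g' * psi (.ofAdd x) * (g * g')⁻¹ = g * (g' * psi (.ofAdd x) * g'⁻¹) * g⁻¹ by group,
    h', h, Matrix.mulVec_mulVec]

theorem isLin_inv {g : Equiv.Perm GolayPt} {M : Matrix (Fin 2) (Fin 2) (ZMod 3)} (h : IsLin g M) :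
    IsLin g⁻¹ M⁻¹ := by
  have hM : IsUnit M := by
    refine Matrix.mulVec_injective_iff_isUnit.1 fun x y he => ?_
    have : g * psi (.ofAdd x) * g⁻¹ = g * psi (.ofAdd y) * g⁻¹ := by rw [h, h, he]
    exact Multiplicative.ofAdd.injective (psi_injective (mul_left_cancel (mul_right_cancel this)))
  intro x
  have e := h (M⁻¹.mulVec x)
  rw [Matrix.mulVec_mulVec, Matrix.mul_nonsing_inv _ ((Matrix.isUnit_iff_isUnit_det _).1 hM),
    Matrix.one_mulVec] at e
  rw [← e]
  group

/-- elements acting linearly -/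
def H1 : Subgroup (Equiv.Perm GolayPt) where
  carrier := {g | g ∈ G0 ∧ ∃ M, IsLin g M}
  one_mem' := ⟨one_mem _, 1, isLin_one⟩
  mul_mem' := fun ⟨ha, M, hM⟩ ⟨hb, M', hM'⟩ => ⟨mul_mem ha hb, M * M', isLin_mul hM hM'⟩
  inv_mem' := fun ⟨ha, M, hM⟩ => ⟨inv_mem ha, M⁻¹, isLin_inv hM⟩

/-- the matrix of an element -/
noncomputable def lin : H1 →* Matrix (Fin 2) (Fin 2) (ZMod 3) where
  toFun g := Classical.choose g.2.2
  map_one' := isLin_unique (Classical.choose_spec (1 : H1).2.2) isLin_one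
  map_mul' g g' := isLin_unique (Classical.choose_spec (g * g').2.2)
    (isLin_mul (Classical.choose_spec g.2.2) (Classical.choose_spec g'.2.2))

/-- the action on the translations -/
noncomputable def phi : H1 →* GL (Fin 2) (ZMod 3) := lin.toHomUnits

theorem phi_val (g : H1) {M : Matrix (Fin 2) (Fin 2) (ZMod 3)} (h : IsLin g M) :
    (phi g : Matrix (Fin 2) (Fin 2) (ZMod 3)) = M :=
  isLin_unique (Classical.choose_spec g.2.2) h

theorem phi_lin (g : H1) : IsLin g (phi g : Matrix (Fin 2) (Fin 2) (ZMod 3)) :=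
  Classical.choose_spec g.2.2

theorem rep_facts {x : (ℕ × ℕ × ℕ × ℕ) × ℕ} (hx : x ∈ repList) :
    mkPerm x.2 ∈ G0 ∧ IsLin (mkPerm x.2)
      !![(x.1.1 : ZMod 3), (x.1.2.1 : ZMod 3); (x.1.2.2.1 : ZMod 3), (x.1.2.2.2 : ZMod 3)] := by
  have h := List.all_eq_true.1 nine_check.2.2.2.1 x hx
  simp only [Bool.and_eq_true, List.all_eq_true, List.mem_range, beq_iff_eq] at h
  obtain ⟨hf, he⟩ := h
  obtain ⟨hok, hG⟩ := fixB0_spec hf
  refine ⟨hG, ?_⟩
  obtain ⟨hA, hB, -⟩ := gens_spec
  have h1 := nine_check.2.1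
  simp only [List.all_eq_true, List.mem_range, beq_iff_eq] at h1
  have hcol : ∀ (v w : V), (∀ p, p < 24 → app x.2 (fA (v 0).val (v 1).val p) =
      fA (w 0).val (w 1).val (app x.2 p)) →
      mkPerm x.2 * psi (.ofAdd v) * (mkPerm x.2)⁻¹ = psi (.ofAdd w) := by
    intro v w hvw
    rw [mul_inv_eq_iff_eq_mul]
    refine perm_ext fun p hp => ?_
    obtain ⟨e1, l1⟩ := img_psiFun v hp
    rw [img_mul, img_mul, show img (psi (.ofAdd v)) p = _ from e1, img_mkPerm hok l1,
      img_mkPerm hok hp, show img (psi (.ofAdd w)) _ = _ from (img_psiFun w (app_lt hok hp)).1]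
    exact hvw p hp
  have hmod : ∀ (n m p : ℕ), p < 24 → fA (n % 3) (m % 3) p = fA n m p := by
    have hp3 : ∀ {P : ℕ}, okP P = true → mkPerm P ^ 3 = 1 → ∀ n p, p < 24 →
        (app P)^[n % 3] p = (app P)^[n] p := by
      intro P hP h3 n p hp
      rw [← (img_iter hP n hp).1, ← (img_iter hP (n % 3) hp).1]
      conv_rhs => rw [← Nat.div_add_mod n 3, pow_add, pow_mul, h3, one_pow, one_mul]
    intro n m p hp
    have o3 : ∀ v : V, psi (.ofAdd v) ^ 3 = 1 := fun v => by
      rw [← map_pow, ← ofAdd_nsmul, show (3 : ℕ) • v = 0 from funext fun i => by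
        simp [show ∀ a : ZMod 3, (3 : ℕ) • a = 0 by decide], ofAdd_zero, map_one]
    have hA3 : mkPerm genA ^ 3 = 1 := by
      have := o3 ![1, 0]
      rwa [show psi (.ofAdd ![(1 : ZMod 3), 0]) = mkPerm genA by
        show psiFun ![1, 0] = _
        simp [psiFun, ZMod.val_one]] at this
    have hB3 : mkPerm genB ^ 3 = 1 := by
      have := o3 ![0, 1]
      rwa [show psi (.ofAdd ![(0 : ZMod 3), 1]) = mkPerm genB by
        show psiFun ![0, 1] = _
        simp [psiFun, ZMod.val_one]] at this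
    rw [fA, fA, hp3 hB hB3 m p hp, hp3 hA hA3 n _ (img_iter hB m hp).2]
  set M : Matrix (Fin 2) (Fin 2) (ZMod 3) :=
    !![(x.1.1 : ZMod 3), (x.1.2.1 : ZMod 3); (x.1.2.2.1 : ZMod 3), (x.1.2.2.2 : ZMod 3)] with hM
  have c0 : mkPerm x.2 * psi (.ofAdd ![1, 0]) * (mkPerm x.2)⁻¹ = psi (.ofAdd (M.mulVec ![1, 0])) := by
    refine hcol _ _ fun p hp => ?_
    rw [hM]
    simp only [Matrix.mulVec, dotProduct, Fin.sum_univ_two, Matrix.of_apply, Matrix.cons_val_zero,
      Matrix.cons_val_one, ZMod.val_zero, ZMod.val_one, mul_one, mul_zero, add_zero, ZMod.val_natCast]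
    rw [hmod _ _ _ (app_lt hok hp)]
    exact (he p hp).1
  have c1 : mkPerm x.2 * psi (.ofAdd ![0, 1]) * (mkPerm x.2)⁻¹ = psi (.ofAdd (M.mulVec ![0, 1])) := by
    refine hcol _ _ fun p hp => ?_
    rw [hM]
    simp only [Matrix.mulVec, dotProduct, Fin.sum_univ_two, Matrix.of_apply, Matrix.cons_val_zero,
      Matrix.cons_val_one, ZMod.val_zero, ZMod.val_one, mul_one, mul_zero, zero_add, ZMod.val_natCast]
    rw [hmod _ _ _ (app_lt hok hp)]
    exact (he p hp).2
  intro v
  have hv : v = (v 0).val • (![1, 0] : V) + (v 1).val • ![0, 1] := by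
    funext i
    fin_cases i <;> simp
  rw [hv, Matrix.mulVec_add, Matrix.mulVec_smul, Matrix.mulVec_smul]
  simp only [ofAdd_add, ofAdd_nsmul, map_mul, map_pow]
  rw [← c0, ← c1, conj_pow, conj_pow]
  group

theorem phi_surjective : Function.Surjective phi := by
  intro U
  set M : Matrix (Fin 2) (Fin 2) (ZMod 3) := U.val with hM
  have hdet : M.det ≠ 0 := by
    intro h
    have := ((Matrix.isUnit_iff_isUnit_det M).1 U.isUnit)
    rw [h] at this
    exact not_isUnit_zero this
  have h := nine_check.2.2.2.2.1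
  simp only [List.all_eq_true, List.mem_range, Bool.or_eq_true, List.any_eq_true, beq_iff_eq] at h
  have hne : (M 0 0).val * (M 1 1).val % 3 ≠ (M 0 1).val * (M 1 0).val % 3 := by
    intro e
    apply hdet
    rw [Matrix.det_fin_two, sub_eq_zero]
    have : (((M 0 0).val * (M 1 1).val : ℕ) : ZMod 3) = (((M 0 1).val * (M 1 0).val : ℕ) : ZMod 3) := by
      rw [← ZMod.natCast_mod, e, ZMod.natCast_mod]
    simpa using this
  obtain ⟨x, hx, hxe⟩ := (h _ (ZMod.val_lt (M 0 0)) _ (ZMod.val_lt (M 0 1)) _ (ZMod.val_lt (M 1 0)) _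
    (ZMod.val_lt (M 1 1))).resolve_left hne
  obtain ⟨hG, hL⟩ := rep_facts hx
  refine ⟨⟨mkPerm x.2, hG, _, hL⟩, Units.ext ?_⟩
  rw [phi_val _ hL, ← hM, hxe]
  ext i j
  fin_cases i <;> fin_cases j <;> simp

theorem card_GL : Nat.card (GL (Fin 2) (ZMod 3)) = 48 := by
  rw [Matrix.card_GL_field, Fin.prod_univ_two]
  simp

/-- the translations inside the kernel -/
noncomputable def toKer (x : Multiplicative V) : phi.ker :=
  have h1 : IsLin (psi x) 1 := fun v => by
    rw [Matrix.one_mulVec, ← map_mul, mul_comm x, map_mul, mul_inv_cancel_right]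
  ⟨⟨psi x, psi_mem x, 1, h1⟩, Units.ext (phi_val _ h1)⟩

theorem kernel_facts : H1 = G0 ∧ Nat.card phi.ker = 9 ∧ Function.Surjective toKer := by
  have hinj : Function.Injective toKer := fun x y h =>
    psi_injective (congrArg (fun k : phi.ker => ((k : H1) : Equiv.Perm GolayPt)) h)
  have h9 : Nat.card (Multiplicative V) = 9 := by simp [V]
  have hker := Nat.card_le_card_of_injective toKer hinj
  have hprod := Subgroup.card_eq_card_quotient_mul_card_subgroup phi.ker
  rw [Nat.card_congr (QuotientGroup.quotientKerEquivOfSurjective phi phi_surjective).toEquiv, card_GL]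
    at hprod
  have hle : H1 ≤ G0 := fun g hg => hg.1
  have hle' := Subgroup.card_le_of_le hle
  rw [card_G0] at hle'
  have hk : Nat.card phi.ker = 9 := by omega
  refine ⟨Subgroup.eq_of_le_of_card_ge hle (by rw [card_G0]; omega), hk, ?_⟩
  exact ((Nat.bijective_iff_injective_and_card toKer).2 ⟨hinj, h9.trans hk.symm⟩).2

theorem G0_factor {g : Equiv.Perm GolayPt} (hg : g ∈ G0) :
    ∃ x ∈ repList, ∃ v : Multiplicative V, g = mkPerm x.2 * psi v := by
  rw [← kernel_facts.1] at hg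
  set g' : H1 := ⟨g, hg⟩
  set M : Matrix (Fin 2) (Fin 2) (ZMod 3) := (phi g').val with hM
  have hdet : M.det ≠ 0 := fun h => by
    have := ((Matrix.isUnit_iff_isUnit_det M).1 (phi g').isUnit)
    rw [h] at this
    exact not_isUnit_zero this
  obtain ⟨⟨r, hr⟩, hre⟩ := phi_surjective (phi g')
  have h := nine_check.2.2.2.2.1
  simp only [List.all_eq_true, List.mem_range, Bool.or_eq_true, List.any_eq_true, beq_iff_eq] at h
  have hne : (M 0 0).val * (M 1 1).val % 3 ≠ (M 0 1).val * (M 1 0).val % 3 := by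
    intro e
    apply hdet
    rw [Matrix.det_fin_two, sub_eq_zero]
    have : (((M 0 0).val * (M 1 1).val : ℕ) : ZMod 3) = (((M 0 1).val * (M 1 0).val : ℕ) : ZMod 3) := by
      rw [← ZMod.natCast_mod, e, ZMod.natCast_mod]
    simpa using this
  obtain ⟨x, hx, hxe⟩ := (h _ (ZMod.val_lt (M 0 0)) _ (ZMod.val_lt (M 0 1)) _ (ZMod.val_lt (M 1 0)) _
    (ZMod.val_lt (M 1 1))).resolve_left hne
  obtain ⟨hG, hL⟩ := rep_facts hx
  set x' : H1 := ⟨mkPerm x.2, hG, _, hL⟩
  have hphi : phi x' = phi g' := Units.ext (by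
    rw [phi_val _ hL, ← hM, hxe]
    ext i j
    fin_cases i <;> fin_cases j <;> simp)
  have hk : x'⁻¹ * g' ∈ phi.ker := by rw [MonoidHom.mem_ker, map_mul, map_inv, hphi, inv_mul_cancel]
  obtain ⟨v, hv⟩ := kernel_facts.2.2 ⟨_, hk⟩
  refine ⟨x, hx, v, ?_⟩
  have e : psi v = (mkPerm x.2)⁻¹ * g :=
    congrArg (fun k : phi.ker => ((k : H1) : Equiv.Perm GolayPt)) hv
  rw [e, mul_inv_cancel_left]

/-- equality of two lists as sets of masks -/
def qsub (a b : List ℕ) : Bool := a.all fun m => memN m b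

/-- certificate of one suborbit -/
def subB (o : List (List ℕ)) (w : List ℕ) : Bool :=
  o.all (fun q => quartetList.any fun q' => q == q') && (Nat.beq w.length o.length &&
    (nodupB 24 (o.map fun q => ((q.map fun m => m % 2 ^ 24).map mix).sum) &&
    ((o.zip w).all (fun y => fixB0 y.2 && qsub ((o.headD []).map fun m => imgP y.2 m % 2 ^ 24) y.1) &&
    ((List.range 3).all fun i => (List.range 3).all fun j => repList.all fun x =>
      o.any fun q => qsub ((o.headD []).map fun m => imgP x.2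
        (((imgP genA)^[i] ((imgP genB)^[j] m)) % 2 ^ 24) % 2 ^ 24) q))))

theorem sub_check : subB suborbit1 witness1 = true ∧ subB suborbit2 witness2 = true ∧
    subB suborbit3 witness3 = true ∧ subB suborbit4 witness4 = true := by decide +kernel

theorem union_check : (quartetList.all fun q => qsub q quartet0 || suborbit1.any (qsub q) ||
    suborbit2.any (qsub q) || suborbit3.any (qsub q) || suborbit4.any (qsub q)) = true ∧
    (suborbit1.length = 12 ∧ suborbit2.length = 27 ∧ suborbit3.length = 72 ∧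
      suborbit4.length = 108) := by decide +kernel

theorem famDec_of_qsub {a b : List ℕ} (ha : famDec a ∈ quartets D0) (hb : famDec b ∈ quartets D0)
    (h : qsub a b = true) : famDec a = famDec b := by
  simp only [qsub, List.all_eq_true, memN_iff] at h
  refine Finset.eq_of_subset_of_card_le ?_ (by rw [ha.1, hb.1])
  intro s hs
  simp only [famDec, List.mem_toFinset, List.mem_map] at hs ⊢
  obtain ⟨m, hm, rfl⟩ := hs
  exact ⟨m, h m hm, rfl⟩

theorem smul_famDec {P : ℕ} (hok : okP P = true) (l : List ℕ) :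
    mkPerm P • famDec l = famDec (l.map fun m => imgP P m % 2 ^ 24) := by
  ext s
  simp only [famDec, Finset.mem_smul_finset, List.mem_toFinset, List.mem_map]
  constructor
  · rintro ⟨_, ⟨m, hm, rfl⟩, rfl⟩
    exact ⟨_, ⟨m, hm, rfl⟩, by rw [ofMask_mod, smul_ofMask hok]⟩
  · rintro ⟨_, ⟨m, hm, rfl⟩, rfl⟩
    exact ⟨_, ⟨m, hm, rfl⟩, by rw [ofMask_mod, smul_ofMask hok]⟩

theorem pow_famDec {P : ℕ} (hok : okP P = true) (n : ℕ) (l : List ℕ) :
    mkPerm P ^ n • famDec l = famDec (l.map fun m => (imgP P)^[n] m) := by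
  induction n with
  | zero => simp
  | succ n ih =>
    rw [pow_succ', mul_smul, ih, smul_famDec hok]
    simp only [List.map_map, Function.comp_def, Function.iterate_succ_apply']
    ext s
    simp [famDec, show ∀ m, ofMask (m % 16777216) = ofMask m from fun m => ofMask_mod m]

theorem orbit_sub {o : List (List ℕ)} {w : List ℕ} (h : subB o w = true) (h0 : o ≠ []) :
    (∀ q ∈ o, famDec q ∈ quartets D0) ∧
    MulAction.orbit G0 (famDec (o.headD [])) = {Q | Q ∈ o.map famDec} ∧
      (MulAction.orbit G0 (famDec (o.headD []))).ncard = o.length := by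
  simp only [subB, Bool.and_eq_true, List.all_eq_true, List.any_eq_true, beq_iff_eq, natBeq,
    List.mem_range] at h
  obtain ⟨hin, hlen, hnd, hwit, hclos⟩ := h
  have hmem : ∀ q ∈ o, q ∈ quartetList := fun q hq => by
    obtain ⟨q', hq', rfl⟩ := hin q hq; exact hq'
  have hQ : ∀ q ∈ o, famDec q ∈ quartets D0 := fun q hq => list_mem (hmem q hq)
  have hhead : o.headD [] ∈ o := by
    cases o with
    | nil => exact absurd rfl h0
    | cons a l => exact List.mem_cons_self
  have hG : ∀ g ∈ G0, g • famDec (o.headD []) ∈ quartets D0 := fun g hg => by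
    have := smul_mem_quartets (mem_G0.1 hg).1 (hQ _ hhead)
    rwa [(mem_G0.1 hg).2.1] at this
  have e : MulAction.orbit G0 (famDec (o.headD [])) = {Q | Q ∈ o.map famDec} := by
    ext Q
    simp only [Set.mem_setOf_eq, List.mem_map]
    constructor
    · rintro ⟨g, rfl⟩
      obtain ⟨x, hx, v, hgv⟩ := G0_factor g.2
      obtain ⟨q, hq, hqs⟩ := hclos _ (ZMod.val_lt (v.toAdd 0)) _ (ZMod.val_lt (v.toAdd 1)) x hx
      obtain ⟨hA, hB, -⟩ := gens_spec
      have hxok : okP x.2 = true := by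
        have := List.all_eq_true.1 nine_check.2.2.2.1 x hx
        rw [Bool.and_eq_true] at this
        exact (fixB0_spec this.1).1
      have eg : (g : Equiv.Perm GolayPt) • famDec (o.headD []) = famDec ((o.headD []).map fun m =>
          imgP x.2 (((imgP genA)^[(v.toAdd 0).val] ((imgP genB)^[(v.toAdd 1).val] m)) % 2 ^ 24) % 2 ^ 24) := by
        rw [hgv, show psi v = mkPerm genA ^ (v.toAdd 0).val * mkPerm genB ^ (v.toAdd 1).val from rfl,
          mul_smul, mul_smul, pow_famDec hB, pow_famDec hA, smul_famDec hxok]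
        ext s
        simp only [famDec, List.map_map, Function.comp_def, List.mem_toFinset, List.mem_map]
        constructor <;> rintro ⟨m, hm, rfl⟩ <;> refine ⟨m, hm, ?_⟩
        · rw [ofMask_mod, ofMask_mod, ← smul_ofMask hxok, ← smul_ofMask hxok, ofMask_mod]
        · rw [ofMask_mod, ofMask_mod, ← smul_ofMask hxok, ← smul_ofMask hxok, ofMask_mod]
      refine ⟨q, hq, ?_⟩
      show famDec q = (g : Equiv.Perm GolayPt) • famDec (o.headD [])
      rw [eg]
      exact (famDec_of_qsub (by rw [← eg]; exact hG g g.2) (hQ q hq) hqs).symm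
    · rintro ⟨q, hq, rfl⟩
      obtain ⟨P, hP⟩ : ∃ P, (q, P) ∈ o.zip w := by
        obtain ⟨n, hn, rfl⟩ := List.getElem_of_mem hq
        exact ⟨w[n]'(by omega), List.mem_iff_getElem.2 ⟨n, by simp; omega, by simp⟩⟩
      obtain ⟨hf, hs⟩ := hwit (q, P) hP
      obtain ⟨hok, hPG⟩ := fixB0_spec hf
      refine ⟨⟨_, hPG⟩, ?_⟩
      show mkPerm P • famDec (o.headD []) = famDec q
      rw [smul_famDec hok]
      exact famDec_of_qsub (by rw [← smul_famDec hok]; exact hG _ hPG) (hQ q hq) hs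
  refine ⟨hQ, e, ?_⟩
  classical
  have hn := nodup_of_nodupB _ _ hnd
  have hndq : (o.map famDec).Nodup := by
    refine List.Nodup.map_on ?_ (List.Nodup.of_map _ hn)
    intro x hx y hy he
    refine List.inj_on_of_nodup_map hn hx hy ?_
    rw [← famKey_eq x (List.all_eq_true.1 list_check.2.2.2.2.1 x (hmem x hx)),
      ← famKey_eq y (List.all_eq_true.1 list_check.2.2.2.2.1 y (hmem y hy)), he]
  rw [e, ← List.coe_toFinset, Set.ncard_coe_finset, List.toFinset_card_of_nodup hndq, List.length_map]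

theorem stab_structure {d : Finset GolayPt} (hd : d ∈ dodecads) {Q : Finset (Finset GolayPt)}
    (hQ : Q ∈ quartets d) :
    Nat.card ↥(MulAction.stabilizer M24 d ⊓ MulAction.stabilizer M24 Q) = 432 ∧
      (∃ (N : Subgroup ↥(MulAction.stabilizer M24 d ⊓ MulAction.stabilizer M24 Q)) (_ : N.Normal),
        Nat.card N = 9 ∧ Nonempty
          (↥(MulAction.stabilizer M24 d ⊓ MulAction.stabilizer M24 Q) ⧸ N ≃* GL (Fin 2) (ZMod 3))) ∧
      ∀ p ∈ d, ∀ q ∈ d, ∃ g ∈ (MulAction.stabilizer M24 d ⊓ MulAction.stabilizer M24 Q),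
        ((g : ↥M24) : Equiv.Perm GolayPt) p = q := by
  obtain ⟨σ, hσ, rfl, rfl⟩ := quartet_std hd hQ
  have e1 : MulAction.stabilizer M24 (σ • D0) ⊓ MulAction.stabilizer M24 (σ • Q0) =
      MulAction.stabilizer M24 (σ • (D0, Q0)) := stabilizer_pair _ _
  have e2 : M24 ⊓ MulAction.stabilizer (Equiv.Perm GolayPt) (D0, Q0) = H1 := by
    rw [kernel_facts.1, stab_amb_pair]; rfl
  let f : ↥(MulAction.stabilizer M24 (σ • D0) ⊓ MulAction.stabilizer M24 (σ • Q0)) ≃* ↥H1 :=
    ((MulEquiv.subgroupCongr e1).trans (stabEquiv hσ (D0, Q0))).trans (MulEquiv.subgroupCongr e2)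
  have hsurj : Function.Surjective (phi.comp f.toMonoidHom) := phi_surjective.comp f.surjective
  have hcard : Nat.card ↥(MulAction.stabilizer M24 (σ • D0) ⊓ MulAction.stabilizer M24 (σ • Q0)) = 432 := by
    rw [Nat.card_congr f.toEquiv, kernel_facts.1, card_G0]
  refine ⟨hcard, ⟨(phi.comp f.toMonoidHom).ker, inferInstance, ?_,
    ⟨QuotientGroup.quotientKerEquivOfSurjective _ hsurj⟩⟩, ?_⟩
  · have h := Subgroup.card_eq_card_quotient_mul_card_subgroup (phi.comp f.toMonoidHom).ker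
    rw [Nat.card_congr (QuotientGroup.quotientKerEquivOfSurjective _ hsurj).toEquiv, card_GL, hcard] at h
    omega
  · have h := nine_check.2.2.2.2.2.2
    simp only [List.all_eq_true, List.mem_range, Bool.or_eq_true, Bool.not_eq_true', List.any_eq_true,
      beq_iff_eq] at h
    have hmove : ∀ a ∈ D0, ∃ g ∈ G0, g (pt 0) = a := by
      intro a ha
      obtain ⟨P, hP, he⟩ := (h (num a) (num_lt a)).resolve_left (by rw [mem_ofMask.1 ha]; simp)
      obtain ⟨hok, hPG⟩ := fixB0_spec (List.all_eq_true.1 nine_check.2.2.2.2.2.1 P hP)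
      exact ⟨_, hPG, num_injective (by rw [num_mkPerm hok, num_pt (by norm_num), he])⟩
    intro p hp q hq
    obtain ⟨p, hp', rfl⟩ := Finset.mem_smul_finset.1 hp
    obtain ⟨q, hq', rfl⟩ := Finset.mem_smul_finset.1 hq
    obtain ⟨g, hg, rfl⟩ := hmove p hp'
    obtain ⟨k, hk, rfl⟩ := hmove q hq'
    obtain ⟨hgM, hgD, hgQ⟩ := mem_G0.1 (mul_mem hk (inv_mem hg))
    refine ⟨⟨σ * (k * g⁻¹) * σ⁻¹, mul_mem (mul_mem hσ hgM) (inv_mem hσ)⟩,
      Subgroup.mem_inf.2 ⟨?_, ?_⟩, ?_⟩
    · rw [MulAction.mem_stabilizer_iff]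
      show (σ * (k * g⁻¹) * σ⁻¹) • σ • D0 = σ • D0
      rw [← mul_smul, inv_mul_cancel_right, mul_smul, hgD]
    · rw [MulAction.mem_stabilizer_iff]
      show (σ * (k * g⁻¹) * σ⁻¹) • σ • Q0 = σ • Q0
      rw [← mul_smul, inv_mul_cancel_right, mul_smul, hgQ]
    · show (σ * (k * g⁻¹) * σ⁻¹) (σ • g (pt 0)) = σ • k (pt 0)
      simp

theorem suborbits {d : Finset GolayPt} (hd : d ∈ dodecads) {Q : Finset (Finset GolayPt)}
    (hQ : Q ∈ quartets d) :
    ∃ X₁ ∈ quartets d, ∃ X₂ ∈ quartets d, ∃ X₃ ∈ quartets d, ∃ X₄ ∈ quartets d,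
      (MulAction.orbit ↥(MulAction.stabilizer M24 d ⊓ MulAction.stabilizer M24 Q) X₁).ncard = 12 ∧
      (MulAction.orbit ↥(MulAction.stabilizer M24 d ⊓ MulAction.stabilizer M24 Q) X₂).ncard = 27 ∧
      (MulAction.orbit ↥(MulAction.stabilizer M24 d ⊓ MulAction.stabilizer M24 Q) X₃).ncard = 72 ∧
      (MulAction.orbit ↥(MulAction.stabilizer M24 d ⊓ MulAction.stabilizer M24 Q) X₄).ncard = 108 ∧
      quartets d = {Q} ∪
        MulAction.orbit ↥(MulAction.stabilizer M24 d ⊓ MulAction.stabilizer M24 Q) X₁ ∪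
        MulAction.orbit ↥(MulAction.stabilizer M24 d ⊓ MulAction.stabilizer M24 Q) X₂ ∪
        MulAction.orbit ↥(MulAction.stabilizer M24 d ⊓ MulAction.stabilizer M24 Q) X₃ ∪
        MulAction.orbit ↥(MulAction.stabilizer M24 d ⊓ MulAction.stabilizer M24 Q) X₄ := by
  obtain ⟨σ, hσ, rfl, rfl⟩ := quartet_std hd hQ
  set S := MulAction.stabilizer M24 (σ • D0) ⊓ MulAction.stabilizer M24 (σ • Q0)
  have horb : ∀ X : Finset (Finset GolayPt), MulAction.orbit S (σ • X) = σ • MulAction.orbit G0 X := by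
    intro X
    ext Y
    rw [Set.mem_smul_set_iff_inv_smul_mem]
    constructor
    · rintro ⟨⟨g, hg⟩, rfl⟩
      obtain ⟨h1, h2⟩ := Subgroup.mem_inf.1 hg
      have h1' : (g : Equiv.Perm GolayPt) • σ • D0 = σ • D0 := h1
      have h2' : (g : Equiv.Perm GolayPt) • σ • Q0 = σ • Q0 := h2
      refine ⟨⟨σ⁻¹ * g * σ, mem_G0.2 ⟨mul_mem (mul_mem (inv_mem hσ) g.2) hσ, ?_, ?_⟩⟩, ?_⟩
      · rw [mul_smul, mul_smul, h1', inv_smul_smul]
      · rw [mul_smul, mul_smul, h2', inv_smul_smul]
      · show (σ⁻¹ * (g : Equiv.Perm GolayPt) * σ) • X = σ⁻¹ • (g : Equiv.Perm GolayPt) • σ • X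
        rw [mul_smul, mul_smul]
    · rintro ⟨⟨g, hg⟩, hgX⟩
      obtain ⟨hgM, hgD, hgQ⟩ := mem_G0.1 hg
      refine ⟨⟨⟨σ * g * σ⁻¹, mul_mem (mul_mem hσ hgM) (inv_mem hσ)⟩, Subgroup.mem_inf.2 ⟨?_, ?_⟩⟩, ?_⟩
      · show (σ * g * σ⁻¹) • σ • D0 = σ • D0
        rw [← mul_smul, inv_mul_cancel_right, mul_smul, hgD]
      · show (σ * g * σ⁻¹) • σ • Q0 = σ • Q0
        rw [← mul_smul, inv_mul_cancel_right, mul_smul, hgQ]
      · show (σ * g * σ⁻¹) • σ • X = Y
        rw [← mul_smul, inv_mul_cancel_right, mul_smul, show g • X = σ⁻¹ • Y from hgX, smul_inv_smul]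
  obtain ⟨c1, c2, c3, c4⟩ := sub_check
  obtain ⟨l1, l2, l3, l4⟩ := union_check.2
  obtain ⟨m1, o1, n1⟩ := orbit_sub c1 (by intro h; simp [h] at l1)
  obtain ⟨m2, o2, n2⟩ := orbit_sub c2 (by intro h; simp [h] at l2)
  obtain ⟨m3, o3, n3⟩ := orbit_sub c3 (by intro h; simp [h] at l3)
  obtain ⟨m4, o4, n4⟩ := orbit_sub c4 (by intro h; simp [h] at l4)
  have hq : ∀ {o : List (List ℕ)}, o.length ≠ 0 → (∀ q ∈ o, famDec q ∈ quartets D0) →
      σ • famDec (o.headD []) ∈ quartets (σ • D0) := by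
    intro o ho hm
    refine smul_mem_quartets hσ (hm _ ?_)
    cases o with
    | nil => simp at ho
    | cons a l => exact List.mem_cons_self
  refine ⟨σ • famDec (suborbit1.headD []), hq (by omega) m1, σ • famDec (suborbit2.headD []),
    hq (by omega) m2, σ • famDec (suborbit3.headD []), hq (by omega) m3,
    σ • famDec (suborbit4.headD []), hq (by omega) m4, ?_, ?_, ?_, ?_, ?_⟩
  · rw [horb, Set.ncard_smul_set, n1, l1]
  · rw [horb, Set.ncard_smul_set, n2, l2]
  · rw [horb, Set.ncard_smul_set, n3, l3]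
  · rw [horb, Set.ncard_smul_set, n4, l4]
  · rw [horb, horb, horb, horb, quartets_smul hσ, ← Set.smul_set_singleton, ← Set.smul_set_union,
      ← Set.smul_set_union, ← Set.smul_set_union, ← Set.smul_set_union]
    refine congrArg (fun s : Set (Finset (Finset GolayPt)) => σ • s) ?_
    rw [o1, o2, o3, o4]
    refine Set.Subset.antisymm (fun R hR => ?_) ?_
    · obtain ⟨q, hqm, rfl⟩ := mem_list hR
      have h := List.all_eq_true.1 union_check.1 q hqm
      simp only [Bool.or_eq_true, List.any_eq_true] at h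
      rcases h with (((h | ⟨r, hr, h⟩) | ⟨r, hr, h⟩) | ⟨r, hr, h⟩) | ⟨r, hr, h⟩
      · exact Or.inl (Or.inl (Or.inl (Or.inl (famDec_of_qsub hR Q0_mem h))))
      · exact Or.inl (Or.inl (Or.inl (Or.inr (List.mem_map.2 ⟨r, hr, (famDec_of_qsub hR (m1 r hr) h).symm⟩))))
      · exact Or.inl (Or.inl (Or.inr (List.mem_map.2 ⟨r, hr, (famDec_of_qsub hR (m2 r hr) h).symm⟩)))
      · exact Or.inl (Or.inr (List.mem_map.2 ⟨r, hr, (famDec_of_qsub hR (m3 r hr) h).symm⟩))
      · exact Or.inr (List.mem_map.2 ⟨r, hr, (famDec_of_qsub hR (m4 r hr) h).symm⟩)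
    · rintro R ((((rfl | h) | h) | h) | h)
      · exact Q0_mem
      all_goals obtain ⟨r, hr, rfl⟩ := List.mem_map.1 h
      · exact m1 r hr
      · exact m2 r hr
      · exact m3 r hr
      · exact m4 r hr

end CfsgLib.Spor.Quartets
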