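import Cfsg.Agent.Spor.PslElevenCheck
import Cfsg.Agent.Lie.ProjLine

/-!
The point stabiliser on twelve letters of the smallest Mathieu group is PSL(2,11).
-/

set_option autoImplicit false

namespace CfsgLib.Spor.PslEleven

open Cfsg CfsgLib.Spor CfsgLib.Spor.M24Elems CfsgLib.Spor.ListSub Matrix

/-- the projective group -/
abbrev L := Matrix.ProjectiveSpecialLinearGroup (Fin 2) F

/-- the coded matrix -/
def mtx (n : ℕ) : Matrix (Fin 2) (Fin 2) F :=
  !![(ent n).1, (ent n).2.1; (ent n).2.2.1, (ent n).2.2.2]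

/-- a coded special linear element -/
def sl (n : ℕ) : SpecialLinearGroup (Fin 2) F := if h : (mtx n).det = 1 then ⟨mtx n, h⟩ else 1

theorem coe_sl {n : ℕ} (h : detB n = true) : (sl n).1 = mtx n := by
  have hd : (mtx n).det = 1 := by
    rw [mtx, det_fin_two_of]
    simpa [detB] using h
  exact congrArg Subtype.val (dif_pos (c := (mtx n).det = 1) hd : sl n = ⟨mtx n, hd⟩)

theorem val_mul (A B : SpecialLinearGroup (Fin 2) F) : (A * B).1 = A.1 * B.1 := rfl

theorem val_one : (1 : SpecialLinearGroup (Fin 2) F).1 = 1 := rfl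

/-- the class of a coded matrix -/
def cls (n : ℕ) : L := QuotientGroup.mk (sl n)

theorem cls_mul {x y z : ℕ} (hx : detB x = true) (hy : detB y = true) (hz : detB z = true)
    (h : mulB x y z = true) : cls z = cls x * cls y := by
  rw [cls, cls, cls, ← QuotientGroup.mk_mul, QuotientGroup.eq, Subgroup.mem_center_iff]
  simp only [mulB, decide_eq_true_eq, Prod.ext_iff] at h
  have key : sl x * sl y = sl z ∨ (sl x * sl y).1 = -(sl z).1 := by
    rcases h with ⟨h1, h2, h3, h4⟩ | ⟨h1, h2, h3, h4⟩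
    · refine Or.inl (Subtype.ext ?_)
      rw [val_mul, coe_sl hx, coe_sl hy, coe_sl hz, mtx, mtx, mtx, mul_fin_two, h1, h2, h3, h4]
    · refine Or.inr ?_
      rw [val_mul, coe_sl hx, coe_sl hy, coe_sl hz, mtx, mtx, mtx, mul_fin_two, h1, h2, h3, h4]
      ext i j
      fin_cases i <;> fin_cases j <;> simp
  intro g
  rcases key with e | e
  · rw [e, inv_mul_cancel, mul_one, one_mul]
  · refine Subtype.ext ?_
    have hinv : (sl z)⁻¹.1 * (sl z).1 = 1 := by
      rw [← val_mul, inv_mul_cancel, val_one]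
    show g.1 * ((sl z)⁻¹.1 * (sl x * sl y).1) = (sl z)⁻¹.1 * (sl x * sl y).1 * g.1
    rw [e, mul_neg, hinv, mul_neg, neg_mul, mul_one, one_mul]

theorem scal_of_cls {x : ℕ} (hx : detB x = true) (h : cls x = 1) : scalB x = true := by
  rw [cls, QuotientGroup.eq_one_iff, Subgroup.mem_center_iff] at h
  have e1 : !![(1 : F), 1; 0, 1] * (sl x).1 = (sl x).1 * !![1, 1; 0, 1] :=
    congrArg Subtype.val (h ⟨!![1, 1; 0, 1], by simp [det_fin_two_of]⟩)
  have e2 : !![(1 : F), 0; 1, 1] * (sl x).1 = (sl x).1 * !![1, 0; 1, 1] :=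
    congrArg Subtype.val (h ⟨!![1, 0; 1, 1], by simp [det_fin_two_of]⟩)
  simp only [coe_sl hx, mtx, mul_fin_two] at e1 e2
  simp only [← Matrix.ext_iff, Fin.forall_fin_two] at e1 e2
  simp at e1 e2
  simp only [scalB, decide_eq_true_eq]
  refine ⟨e2.1, e1.2, ?_⟩
  simpa [e1.2] using e2.2.1

/-- the base group -/
noncomputable def H : Subgroup (Equiv.Perm GolayPt) := gtGroup [m11Cg1, m11Cg2, m11Cg3, m11Cg4]

theorem H_equiv : Nat.card H = 660 → Nonempty (H ≃* L) := by
  classical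
  intro hcard
  have h := allB_eq
  simp only [allB, Bool.and_eq_true, beq_iff_eq, List.all_eq_true, List.mem_range, Bool.or_eq_true,
    Bool.not_eq_true', decide_eq_true_eq] at h
  obtain ⟨⟨⟨⟨⟨⟨hle, hln⟩, hlm⟩, hok⟩, hid⟩, hdet⟩, hrow⟩ := h
  have hget : ∀ i, i < 660 → els.getD i 0 ∈ els := fun i hi => by
    rw [List.getD_eq_getElem _ _ (hle.symm ▸ hi)]; exact List.getElem_mem _
  have hdet' : ∀ i, i < 660 → detB (mat.getD i 0) = true := fun i hi => by
    rw [List.getD_eq_getElem _ _ (hlm.symm ▸ hi)]; exact hdet _ (List.getElem_mem _)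
  let pk : Equiv.Perm GolayPt → ℕ := fun σ => packL ((List.range 24).map (img σ))
  let idx : Equiv.Perm GolayPt → ℕ := fun σ => els.idxOf (pk σ)
  have hpk : ∀ i, i < 660 → idx (mkPerm (els.getD i 0)) = i := by
    intro i hi
    obtain ⟨o, n⟩ := hok _ (hget i hi)
    have : pk (mkPerm (els.getD i 0)) = els.getD i 0 := by
      refine Eq.trans ?_ n
      exact congrArg packL (List.map_congr_left fun j hj => img_mkPerm o (List.mem_range.1 hj))
    show els.idxOf _ = i
    rw [this]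
    exact (hrow i hi).1.1
  have hone : mkPerm (els.getD 0 0) = 1 := perm_ext fun j hj => by
    rw [img_mkPerm (hok _ (hget 0 (by omega))).1 hj, img_one hj]; exact hid j hj
  let T : Finset (Equiv.Perm GolayPt) := (Finset.range 660).image fun i => mkPerm (els.getD i 0)
  let f : Equiv.Perm GolayPt → L := fun σ => cls (mat.getD (idx σ) 0)
  have hf : ∀ i, i < 660 → f (mkPerm (els.getD i 0)) = cls (mat.getD i 0) := fun i hi => by
    show cls _ = _
    rw [hpk i hi]
  have step : ∀ g ∈ [m11Cg1, m11Cg2, m11Cg3, m11Cg4], ∀ x ∈ T, x * g.perm ∈ T ∧ f (x * g.perm) = f x * f g.perm := by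
    intro g hg x hx
    obtain ⟨i, hi, rfl⟩ := Finset.mem_image.1 hx
    rw [Finset.mem_range] at hi
    obtain ⟨k, hk, hkg⟩ := List.getElem_of_mem hg
    have hk' : k < 4 := hk
    have a := (hrow i hi).2 k hk'
    have b := (hrow 0 (by omega)).2 k hk'
    have hg' : [m11Cg1, m11Cg2, m11Cg3, m11Cg4].getD k m11Cg1 = g := by
      rw [← hkg]
      exact List.getD_eq_getElem _ _ hk
    rw [hg'] at a b
    obtain ⟨⟨aj, ac⟩, am⟩ := a
    obtain ⟨⟨bj, bc⟩, -⟩ := b
    have eg : g.perm = mkPerm (els.getD ((nxt.getD 0 []).getD k 0) 0) := by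
      rw [mkPerm_comp bc, hone, one_mul]; rfl
    have ex : mkPerm (els.getD i 0) * g.perm = mkPerm (els.getD ((nxt.getD i []).getD k 0) 0) :=
      (mkPerm_comp ac).symm
    refine ⟨by rw [ex]; exact Finset.mem_image.2 ⟨_, Finset.mem_range.2 aj, rfl⟩, ?_⟩
    rw [ex, hf _ aj, eg, hf _ bj, hf i hi]
    exact cls_mul (hdet' i hi) (hdet' _ bj) (hdet' _ aj) am
  have h1T : (1 : Equiv.Perm GolayPt) ∈ T := Finset.mem_image.2 ⟨0, by simp, hone⟩
  have hT : ∀ x ∈ H, x ∈ T := fun x hx => closure_mem _ T h1T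
    (fun a ha s hs => by obtain ⟨g, hg, rfl⟩ := hs; exact (step g hg a ha).1) hx
  let T' := T.filter fun y => ∀ x ∈ T, x * y ∈ T ∧ f (x * y) = f x * f y
  have hf1 : f 1 = 1 := by
    rw [← hone, hf 0 (by omega)]
    have a := cls_mul (hdet' 0 (by omega)) (hdet' 0 (by omega)) (hdet' 0 (by omega))
      (by decide +kernel : mulB (mat.getD 0 0) (mat.getD 0 0) (mat.getD 0 0) = true)
    exact (mul_eq_left.1 a.symm)
  have hT' : ∀ y ∈ H, y ∈ T' := fun y hy => closure_mem _ T'
    (Finset.mem_filter.2 ⟨h1T, fun x hx => ⟨by rwa [mul_one], by rw [mul_one, hf1, mul_one]⟩⟩)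
    (fun a ha s hs => by
      obtain ⟨g, hg, rfl⟩ := hs
      obtain ⟨haT, ha'⟩ := Finset.mem_filter.1 ha
      refine Finset.mem_filter.2 ⟨(step g hg a haT).1, fun x hx => ?_⟩
      rw [← mul_assoc]
      obtain ⟨m1, m2⟩ := step g hg _ (ha' x hx).1
      refine ⟨m1, ?_⟩
      rw [m2, (ha' x hx).2, (step g hg a haT).2, mul_assoc]) hy
  let φ : H →* L := MonoidHom.mk' (fun x => f x.1)
    fun x y => ((Finset.mem_filter.1 (hT' _ y.2)).2 _ (hT _ x.2)).2
  have hinj : Function.Injective φ := (injective_iff_map_eq_one φ).2 fun x hx => by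
    obtain ⟨i, hi, e⟩ := Finset.mem_image.1 (hT _ x.2)
    rw [Finset.mem_range] at hi
    have hx' : f x.1 = 1 := hx
    rw [← e, hf i hi] at hx'
    rcases (hrow i hi).1.2 with hs | hs
    · rw [scal_of_cls (hdet' i hi) hx'] at hs; cases hs
    · subst hs; exact Subtype.ext (e.symm.trans hone)
  have hL : Nat.card L = 660 := by
    have : Fact (Nat.Prime 11) := ⟨by norm_num⟩
    have := CfsgLib.Lie.ProjLine.card_PSL_two (F := F) (q := 11) (ZMod.card 11)
    rw [show Nat.gcd 2 (11 - 1) = 2 from rfl] at this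
    show Nat.card L = 660
    unfold L
    omega
  exact ⟨MulEquiv.ofBijective φ (hinj.bijective_of_nat_card_le (by rw [hL, hcard]))⟩

end CfsgLib.Spor.PslEleven
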