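import Cfsg.Agent.Spor.StabConj
import Cfsg.Agent.Spor.InterFacts

/-!
Joint stabilisers isomorphic to symmetric groups.
-/

set_option autoImplicit false

namespace CfsgLib.Spor

open Cfsg
open scoped Pointwise

/-- from a chain realising all permutations of a set to a symmetric group -/
noncomputable def symEquivOfChain {H : Subgroup (Equiv.Perm GolayPt)} {ls : List Level} {A n : ℕ}
    (hsub : gtGroup (chainTop ls) ≤ H) (hc : Nat.card H ≤ chainSize ls)
    (h : transOK ls A n = true) (hn : pop A = n) (h1 : chainSize (ls.drop n) = 1) :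
    ↥H ≃* Equiv.Perm (Fin n) :=
  (permEquivOfChain hsub hc h hn h1).trans
    (Finset.equivFinOfCardEq ((card_ofMask A).trans hn)).permCongrHom

theorem small_pops : pop (hexdX) = 6 ∧ pop (FULL ^^^ dodX) = 12 ∧
    (hexdX = Nat.land dodX dOX0) ∧ (oct2X = ooX3) ∧ transOK m11C (FULL ^^^ dodX) 2 = true := by
  decide +kernel

theorem duad_pop : pop duadX = 2 ∧ (Nat.land duadX (FULL ^^^ dodX) = duadX) := by decide +kernel

/-- a dodecad, one of its points and a duad outside come from the base ones -/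
theorem duad_flag {d : Finset GolayPt} (hd : d ∈ dodecads) {p q q' : GolayPt} (hp : p ∈ d)
    (hq : q ∉ d) (hq' : q' ∉ d) (hne : q ≠ q') :
    ∃ σ ∈ M24, σ • D0 = d ∧ σ p0 = p ∧ σ • ofMask duadX = {q, q'} := by
  obtain ⟨σ, hσ, rfl, rfl⟩ := dod_flag1 hd hp
  obtain ⟨a, b, hab, he⟩ := Finset.card_eq_two.1
    (show (ofMask duadX).card = 2 from (card_ofMask _).trans duad_pop.1)
  have hout : ∀ x ∈ ofMask duadX, x ∈ ofMask (FULL ^^^ dodX) := by
    have := ofMask_subset duad_pop.2
    exact fun x hx => this hx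
  have hinj : Function.Injective ![a, b] := by
    intro i j; fin_cases i <;> fin_cases j <;> simp [hab, hab.symm]
  have hinj' : Function.Injective ![σ⁻¹ q, σ⁻¹ q'] := by
    intro i j; fin_cases i <;> fin_cases j <;> simp [hne, hne.symm]
  have hm : ∀ w : GolayPt, w ∉ σ • D0 → σ⁻¹ w ∈ ofMask (FULL ^^^ dodX) := by
    intro w hw
    rw [ofMask_compl, Finset.mem_compl]
    intro h
    apply hw
    have h2 := mem_smul_iff (σ := σ).2 h
    simpa [D0] using h2
  obtain ⟨⟨g, hg, hgx⟩, -⟩ := transitive_of_chain m11C_sub m11C_card small_pops.2.2.2.2 ⟨_, hinj⟩ ⟨_, hinj'⟩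
    (fun i => by fin_cases i <;> exact hout _ (by rw [he]; simp))
    (fun i => by
      fin_cases i
      · exact hm q hq
      · exact hm q' hq')
  rw [← m11_exact.1] at hg
  obtain ⟨⟨hgM, hgD⟩, hgp⟩ := hg
  refine ⟨σ * g, mul_mem hσ hgM, ?_, ?_, ?_⟩
  · rw [mul_smul, show g • D0 = D0 from MulAction.mem_stabilizer_iff.1 hgD]
  · rw [Equiv.Perm.mul_apply, show g p0 = p0 from MulAction.mem_stabilizer_iff.1 hgp]
  · have h0 : g a = σ⁻¹ q := hgx 0
    have h1 : g b = σ⁻¹ q' := hgx 1
    rw [he, smul_eq_image, Finset.image_insert, Finset.image_singleton, Equiv.Perm.mul_apply,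
      Equiv.Perm.mul_apply, h0, h1]
    simp

/-- two octads meeting in two points come from the base ones -/
theorem oct2_flag {o o' : Finset GolayPt} (ho : o ∈ octads) (ho' : o' ∈ octads)
    (h : (o ∩ o').card = 2) :
    ∃ σ ∈ M24, σ • O0 = o ∧ σ • ofMask oct2X = o' := by
  obtain ⟨σ, hσ, rfl⟩ := octad_std ho
  have hX : (O0 ∩ ofMask oct2X).card = 2 := by
    simp only [O0, maskInter_card]; decide +kernel
  have hXo : ofMask oct2X ∈ octads := by rw [small_pops.2.2.2.1]; exact oo_in3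
  obtain ⟨g, hg, hgO, hgX⟩ := oo_move hσ (smul_mem_octads hσ hXo) ho'
    (by rw [inter_smul_card, hX, h])
  exact ⟨g * σ, mul_mem hg hσ, by rw [mul_smul, hgO], by rw [mul_smul, hgX]⟩

/-- a hexad on a dodecad comes from the base one -/
theorem hexad_flag {d C : Finset GolayPt} (hd : d ∈ dodecads) (hC : C ∈ hexadsOn d) :
    ∃ σ ∈ M24, σ • D0 = d ∧ σ • ofMask hexdX = C := by
  obtain ⟨h6, o, ho, rfl⟩ := hC
  obtain ⟨σ, hσ, rfl⟩ := dodecad_std hd
  have hX : (D0 ∩ maskK.dec dOX0).card = 6 := by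
    simp only [D0, maskK, maskInter_card]; decide +kernel
  obtain ⟨g, hg, hgD, hgX⟩ := dO_move hσ (smul_mem_octads hσ dO_in0) ho
    (by rw [inter_smul_card, hX, Finset.inter_comm, h6])
  refine ⟨g * σ, mul_mem hg hσ, by rw [mul_smul, hgD], ?_⟩
  rw [small_pops.2.2.1, show Nat.land dodX dOX0 = dodX &&& dOX0 from rfl, ofMask_and, smul_inter_perm,
    mul_smul, mul_smul, show σ • ofMask dodX = σ • D0 from rfl, hgD,
    show ofMask dOX0 = maskK.dec dOX0 from rfl, hgX, Finset.inter_comm]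

end CfsgLib.Spor
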