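import Cfsg.Agent.Spor.M24Classes
import Cfsg.Agent.Spor.M24Trans
import Mathlib

/-!
The stabiliser of two points in the group of the code has no subgroup of index 56 or 210.
-/

set_option autoImplicit false
set_option linter.unusedSectionVars false
set_option linter.style.haveILetI false

namespace CfsgLib.Spor.MTwentyTwoIndex

open Cfsg MulAction Equiv CfsgLib.Spor.M24Elems

theorem card_pts : Fintype.card GolayPt = 24 := by simp [GolayPt]

/-- the points moved by a permutation of prime order, inside an invariant set, come in multiples -/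
theorem dvd_moved {α : Type*} [Fintype α] [DecidableEq α] {r : ℕ} (hr : r.Prime) (g : Perm α) (hg : g ^ r = 1)
    (S : Finset α) (hS : ∀ a, g a ∈ S ↔ a ∈ S) : r ∣ (S.filter fun a => g a ≠ a).card := by
  classical
  let τ : Perm {a // a ∈ S} := g.subtypePerm hS
  have hτ : τ ^ r = 1 := by
    rw [Perm.subtypePerm_pow]
    exact Equiv.ext fun a => Subtype.ext (by simp [hg])
  have hd : r ∣ τ.support.card := by
    rw [← τ.sum_cycleType]
    refine Multiset.dvd_sum fun n hn => ?_
    rcases (Nat.dvd_prime hr).1 ((Perm.dvd_of_mem_cycleType hn).trans (orderOf_dvd_of_pow_eq_one hτ)) with e | e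
    · have := Perm.two_le_of_mem_cycleType hn; omega
    · exact ⟨1, by omega⟩
  have he : (S.filter fun a => g a ≠ a) = τ.support.map ⟨Subtype.val, Subtype.val_injective⟩ := by
    ext a
    simp only [Finset.mem_filter, Finset.mem_map, Perm.mem_support, Function.Embedding.coeFn_mk, ne_eq]
    constructor
    · rintro ⟨h1, h2⟩
      exact ⟨⟨a, h1⟩, fun e => h2 (congrArg Subtype.val e), rfl⟩
    · rintro ⟨b, hb, rfl⟩
      exact ⟨b.2, fun e => hb (Subtype.ext e)⟩
  rwa [he, Finset.card_map]

theorem fixN_modEq {r : ℕ} (hr : r.Prime) (g : Perm GolayPt) (hg : g ^ r = 1) :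
    ∃ k, fixN g + r * k = 24 := by
  classical
  obtain ⟨k, hk⟩ := dvd_moved hr g hg Finset.univ (fun a => by simp)
  refine ⟨k, ?_⟩
  have := Finset.card_filter_add_card_filter_not (s := (Finset.univ : Finset GolayPt)) (fun a => g a = a)
  rw [Finset.card_univ, card_pts] at this
  rw [← hk]
  exact this

/-- an element of order prime to 48 fixes at most four points -/
theorem fixN_le {g : M24} {r : ℕ} (hr : r.Prime) (h48 : ¬ r ∣ 48) (hg : g ^ r = 1) (h1 : g ≠ 1) :
    fixN (g : Perm GolayPt) ≤ 4 := by
  classical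
  by_contra hlt
  push Not at hlt
  obtain ⟨T, hT, hT5⟩ := Finset.exists_subset_card_eq (show 5 ≤ _ from hlt)
  let x : Fin 5 ↪ GolayPt := ⟨fun i => ((T.equivFinOfCardEq hT5).symm i).1, fun a b e =>
    (T.equivFinOfCardEq hT5).symm.injective (Subtype.ext e)⟩
  have hx : g ∈ stabilizer M24 x := DFunLike.ext _ _ fun i =>
    (Finset.mem_filter.1 (hT ((T.equivFinOfCardEq hT5).symm i).2)).2
  have hc := card_fix_embedding (k := 5) le_rfl x
  have h48' : Nat.card (stabilizer M24 x) = 48 := by
    rw [show (24 : ℕ).descFactorial 5 = 5100480 by norm_num [Nat.descFactorial]] at hc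
    omega
  have hd := Subgroup.orderOf_dvd_natCard _ hx
  haveI := Fact.mk hr
  rw [h48'] at hd
  rw [orderOf_eq_prime hg h1] at hd
  exact h48 hd

theorem fixN_five {g : M24} (hg : g ^ 5 = 1) (h1 : g ≠ 1) : fixN (g : Perm GolayPt) = 4 := by
  obtain ⟨k, hk⟩ := fixN_modEq (r := 5) (by norm_num) g.1 (by simpa using congrArg Subtype.val hg)
  have := fixN_le (r := 5) (by norm_num) (by norm_num) hg h1
  omega

theorem fixN_eleven {g : M24} (hg : g ^ 11 = 1) (h1 : g ≠ 1) : fixN (g : Perm GolayPt) = 2 := by
  obtain ⟨k, hk⟩ := fixN_modEq (r := 11) (by norm_num) g.1 (by simpa using congrArg Subtype.val hg)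
  have := fixN_le (r := 11) (by norm_num) (by norm_num) hg h1
  omega

theorem no_involution {p q : GolayPt} (hpq : p ≠ q) {g t : M24} (hg : g ^ 11 = 1) (hg1 : g ≠ 1)
    (ht : orderOf t = 2) (hgp : g • p = p) (hgq : g • q = q) (htp : t • p = p) (htq : t • q = q)
    (hc : Commute g t) : False := by
  classical
  obtain ⟨c, -, h⟩ := inv_cases t.2 (by rw [Subgroup.orderOf_coe]; exact ht)
  have h8 : fixN (t : Perm GolayPt) = 8 := by
    rcases h with h | h
    · exact h.2
    · exact absurd htp ((free_iff _).2 h.2 p)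
  let S : Finset GolayPt := Finset.univ.filter fun a => (t : Perm GolayPt) a = a
  have hS : ∀ a, (g : Perm GolayPt) a ∈ S ↔ a ∈ S := by
    intro a
    have e : (t : Perm GolayPt) ((g : Perm GolayPt) a) = (g : Perm GolayPt) ((t : Perm GolayPt) a) := by
      have := congrArg (fun u : M24 => (u : Perm GolayPt) a) hc.eq
      simpa using this.symm
    simp only [S, Finset.mem_filter, Finset.mem_univ, true_and, e]
    exact (g : Perm GolayPt).injective.eq_iff
  obtain ⟨k, hk⟩ := dvd_moved (r := 11) (by norm_num) g.1 (by simpa using congrArg Subtype.val hg) S hS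
  have hfix : (S.filter fun a => (g : Perm GolayPt) a = a) = {p, q} := by
    refine Finset.eq_of_superset_of_card_ge ?_ ?_
    · intro a ha
      simp only [Finset.mem_insert, Finset.mem_singleton] at ha
      rcases ha with rfl | rfl <;> simp only [S, Finset.mem_filter, Finset.mem_univ, true_and]
      · exact ⟨htp, hgp⟩
      · exact ⟨htq, hgq⟩
    · rw [Finset.card_pair hpq]
      refine (Finset.card_le_card ?_).trans (le_of_eq (fixN_eleven hg hg1))
      intro a ha
      simp only [Finset.mem_filter, Finset.mem_univ, true_and] at ha ⊢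
      exact ha.2
  have hsum := Finset.card_filter_add_card_filter_not (s := S) (fun a => (g : Perm GolayPt) a = a)
  rw [hfix, Finset.card_pair hpq, show S.card = 8 from h8] at hsum
  simp only [ne_eq] at hk hsum
  omega

theorem not_210 {p q : GolayPt} (hpq : p ≠ q) (H : Subgroup M24) (hHp : ∀ h ∈ H, h • p = p) (hHq : ∀ h ∈ H, h • q = q) :
    Nat.card H ≠ 2112 := by
  classical
  intro hH
  haveI : Fact (Nat.Prime 11) := ⟨by norm_num⟩
  haveI : Fact (Nat.Prime 2) := ⟨Nat.prime_two⟩
  let P : Sylow 11 H := default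
  have hP : Nat.card P = 11 := by
    rw [P.card_eq_multiplicity, hH, show (2112 : ℕ) = 11 * 192 by norm_num, Nat.factorization_mul (by norm_num) (by norm_num)]
    simp [Nat.Prime.factorization (by norm_num : Nat.Prime 11), Nat.factorization_eq_zero_of_not_dvd]
  let N := Subgroup.normalizer ((P : Subgroup H) : Set H)
  have hmod : N.index % 11 = 1 := by
    have := card_sylow_modEq_one 11 H
    rw [Sylow.card_eq_index_normalizer P] at this
    exact this
  have hmul := N.card_mul_index
  rw [hH] at hmul
  have hd : N.index ∣ 192 := by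
    have h2 : N.index ∣ (P : Subgroup H).index := Subgroup.index_dvd_of_le Subgroup.le_normalizer
    have h3 := (P : Subgroup H).card_mul_index
    rw [hH, hP] at h3
    rwa [show (P : Subgroup H).index = 192 by omega] at h2
  have h16 : 16 ∣ Nat.card N := by
    have hi : N.index ∈ (Finset.range 193).filter (fun i => i ∣ 192 ∧ i % 11 = 1) :=
      Finset.mem_filter.2 ⟨Finset.mem_range.2 (Nat.lt_succ_of_le (Nat.le_of_dvd (by norm_num) hd)), hd, hmod⟩
    rw [show (Finset.range 193).filter (fun i => i ∣ 192 ∧ i % 11 = 1) = {1, 12} from by decide +kernel] at hi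
    simp only [Finset.mem_insert, Finset.mem_singleton] at hi
    rcases hi with e | e <;> rw [e] at hmul <;> omega
  haveI : IsCyclic (P : Subgroup H) := isCyclic_of_prime_card hP
  have hk := (Subgroup.normalizerMonoidHom (P : Subgroup H)).ker.card_mul_index
  rw [Subgroup.index_ker] at hk
  have hr : Nat.card (Subgroup.normalizerMonoidHom (P : Subgroup H)).range ∣ 10 := by
    have h3 : Nat.card (MulAut (P : Subgroup H)) = 10 := by
      rw [IsCyclic.card_mulAut, hP]; rfl
    exact h3 ▸ Subgroup.card_subgroup_dvd_card _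
  have h2 : 2 ∣ Nat.card (Subgroup.normalizerMonoidHom (P : Subgroup H)).ker := by
    obtain ⟨u, hu⟩ := h16
    obtain ⟨w, hw⟩ := hr
    have e : Nat.card (Subgroup.normalizerMonoidHom (P : Subgroup H)).ker * 10 = 16 * (u * w) := by
      rw [hw, ← mul_assoc, hk, ← mul_assoc]
      congr 1
    omega
  obtain ⟨t, ht⟩ := exists_prime_orderOf_dvd_card' 2 h2
  obtain ⟨g, hgo⟩ := exists_prime_orderOf_dvd_card' (G := (P : Subgroup H)) 11 (by rw [hP])
  have htc : Commute ((g : (P : Subgroup H)) : H) (t.1.1 : H) := by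
    have h1 := (Subgroup.normalizerMonoidHom_ker (P : Subgroup H)).le t.2
    rw [Subgroup.mem_subgroupOf] at h1
    exact Subgroup.mem_centralizer_iff.1 h1 _ g.2
  refine no_involution hpq (g := g.1.1) (t := t.1.1.1) ?_ ?_ ?_ (hHp _ g.1.2) (hHq _ g.1.2) (hHp _ t.1.1.2) (hHq _ t.1.1.2)
    (htc.map H.subtype)
  · have := congrArg (fun z : (P : Subgroup H) => ((z : H) : M24)) (pow_orderOf_eq_one g)
    simpa [hgo] using this
  · intro e
    have : g = 1 := Subtype.ext (Subtype.ext e)
    rw [this, orderOf_one] at hgo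
    norm_num at hgo
  · rw [Subgroup.orderOf_coe, Subgroup.orderOf_coe, Subgroup.orderOf_coe]
    exact ht

theorem card_four {a b c d : GolayPt} (hab : a ≠ b) (hac : a ≠ c) (had : a ≠ d) (hbc : b ≠ c) (hbd : b ≠ d) (hcd : c ≠ d)
    (L : Subgroup M24) (hL : ∀ g ∈ L, g • a = a ∧ g • b = b ∧ g • c = c ∧ g • d = d) : Nat.card L ∣ 960 := by
  have hinj : Function.Injective ![a, b, c, d] := by
    intro i j
    fin_cases i <;> fin_cases j <;> simp [hab, hac, had, hbc, hbd, hcd, hab.symm, hac.symm, had.symm, hbc.symm, hbd.symm, hcd.symm]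
  let x : Fin 4 ↪ GolayPt := ⟨![a, b, c, d], hinj⟩
  have hc := card_fix_embedding (k := 4) (by norm_num) x
  rw [show (24 : ℕ).descFactorial 4 = 255024 by norm_num [Nat.descFactorial]] at hc
  have h960 : Nat.card (stabilizer M24 x) = 960 := by omega
  rw [← h960]
  refine Subgroup.card_dvd_of_le fun g hg => DFunLike.ext _ _ fun i => ?_
  obtain ⟨h1, h2, h3, h4⟩ := hL g hg
  fin_cases i <;> [exact h1; exact h2; exact h3; exact h4]

section fiftySix

open Matrix

theorem no_square (z : ℤ) : z ^ 2 ≠ 23365020751953125 := by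
  intro h
  have h1 : z.natAbs ^ 2 = 23365020751953125 := by
    have := congrArg Int.natAbs h
    rwa [Int.natAbs_pow] at this
  rcases Nat.lt_or_ge z.natAbs 152856210 with h2 | h2
  · have : z.natAbs ^ 2 ≤ 152856209 ^ 2 := Nat.pow_le_pow_left (by omega) 2
    omega
  · have : 152856210 ^ 2 ≤ z.natAbs ^ 2 := Nat.pow_le_pow_left h2 2
    omega

theorem no_graph {n : Type*} [Fintype n] [DecidableEq n] (hn : Fintype.card n = 22) (A : Matrix n n ℤ)
    (hdiag : ∀ a, A a a = 0) (l m : ℤ) (hlm : (l = 5 ∧ m = 0) ∨ (l = 0 ∧ m = 2))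
    (hsq : ∀ a b, (A * A) a b = if a = b then 6 else l * A a b + m * (1 - A a b)) : False := by
  rcases hlm with ⟨rfl, rfl⟩ | ⟨rfl, rfl⟩
  · haveI : Fact (Nat.Prime 7) := ⟨by norm_num⟩
    let M : Matrix n n (ZMod 7) := (A + 1).map (Int.castRingHom (ZMod 7))
    have hM : M * M = 0 := by
      rw [← Matrix.map_mul]
      ext a b
      rw [Matrix.map_apply, Matrix.zero_apply]
      have : ((A + 1) * (A + 1)) a b = 7 * ((A + 1) a b) := by
        rw [add_mul, mul_add, mul_one, one_mul]
        simp only [Matrix.add_apply, hsq, Matrix.one_apply]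
        split_ifs with e
        · subst e; simp [hdiag]
        · ring
      rw [this, map_mul]
      have h7 : (Int.castRingHom (ZMod 7)) 7 = 0 := (ZMod.intCast_zmod_eq_zero_iff_dvd 7 7).2 dvd_rfl
      rw [h7, zero_mul]
    have hn' : IsNilpotent M := ⟨2, by rw [pow_two, hM]⟩
    have ht := (Matrix.isNilpotent_trace_of_isNilpotent hn').eq_zero
    have h22 : M.trace = ((22 : ℤ) : ZMod 7) := by
      rw [Matrix.trace]
      simp [M, Matrix.diag, hdiag, hn]
    rw [h22, ZMod.intCast_zmod_eq_zero_iff_dvd] at ht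
    norm_num at ht
  · let M : Matrix n n ℤ := A + 1
    have hM : M * M = (5 : ℤ) • 1 + (2 : ℤ) • Matrix.of (fun _ _ => (1 : ℤ)) := by
      ext a b
      simp only [M, add_mul, mul_add, mul_one, one_mul, Matrix.add_apply, hsq, Matrix.smul_apply, Matrix.one_apply,
        Matrix.of_apply, smul_eq_mul]
      split_ifs with e
      · subst e; simp [hdiag]
      · ring
    refine no_square M.det ?_
    have hq : ((M * M).map (Int.castRingHom ℚ)).det = 23365020751953125 := by
      rw [hM]
      have : (((5 : ℤ) • (1 : Matrix n n ℤ) + (2 : ℤ) • Matrix.of (fun _ _ => (1 : ℤ))).map (Int.castRingHom ℚ)) =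
          (5 : ℚ) • (1 + Matrix.replicateCol Unit (fun _ : n => (2 / 5 : ℚ)) * Matrix.replicateRow Unit (fun _ : n => (1 : ℚ))) := by
        ext a b
        simp only [Matrix.map_apply, Matrix.add_apply, Matrix.smul_apply, Matrix.of_apply, Matrix.one_apply, Matrix.mul_apply,
          Matrix.replicateCol_apply, Matrix.replicateRow_apply, Finset.univ_unique, Finset.sum_singleton, smul_eq_mul,
          Int.coe_castRingHom]
        split_ifs <;> push_cast <;> norm_num
      rw [this, Matrix.det_smul, Matrix.det_one_add_mul_comm, Matrix.det_unique, hn]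
      simp [Matrix.mul_apply, hn]
      norm_num
    have hdet : ((M * M).map (Int.castRingHom ℚ)).det = ((M.det ^ 2 : ℤ) : ℚ) := by
      rw [pow_two, ← Matrix.det_mul]
      exact ((Int.castRingHom ℚ).map_det _).symm
    rw [hdet] at hq
    exact_mod_cast hq

theorem not_56 {p q : GolayPt} (hpq : p ≠ q) (H : Subgroup M24) (hHp : ∀ h ∈ H, h • p = p) (hHq : ∀ h ∈ H, h • q = q) :
    Nat.card H ≠ 7920 := by
  classical
  intro hH
  haveI : Fact (Nat.Prime 5) := ⟨by norm_num⟩
  haveI : Fact (Nat.Prime 11) := ⟨by norm_num⟩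
  let Ω := {a : GolayPt // a ≠ p ∧ a ≠ q}
  have hΩ : Fintype.card Ω = 22 := by
    rw [Fintype.card_subtype]
    have : (Finset.univ.filter fun a : GolayPt => a ≠ p ∧ a ≠ q) = Finset.univ \ {p, q} := by
      ext a; simp
    rw [this, Finset.card_sdiff_of_subset (Finset.subset_univ _), Finset.card_univ, card_pts, Finset.card_pair hpq]
  letI : SMul H Ω := ⟨fun h a => ⟨(h : M24) • a.1,
    fun e => a.2.1 (MulAction.injective (h : M24) (e.trans (hHp _ h.2).symm)),
    fun e => a.2.2 (MulAction.injective (h : M24) (e.trans (hHq _ h.2).symm))⟩⟩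
  letI : MulAction H Ω :=
    { one_smul := fun a => Subtype.ext (one_smul M24 a.1)
      mul_smul := fun g h a => Subtype.ext (mul_smul (g : M24) (h : M24) a.1) }
  have fixcount : ∀ (r : ℕ) (g : H), fixN ((g : M24) : Perm GolayPt) = r →
      (Finset.univ.filter fun a : Ω => g • a = a).card + 2 = r := by
    intro r g hg
    rw [← hg, fixN]
    have : (Finset.univ.filter fun a => ((g : M24) : Perm GolayPt) a = a) =
        ((Finset.univ.filter fun a : Ω => g • a = a).map ⟨Subtype.val, Subtype.val_injective⟩) ∪ {p, q} := by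
      ext a
      simp only [Finset.mem_filter, Finset.mem_univ, true_and, Finset.mem_union, Finset.mem_map,
        Function.Embedding.coeFn_mk, Finset.mem_insert, Finset.mem_singleton]
      constructor
      · intro ha
        by_cases h1 : a = p
        · exact Or.inr (Or.inl h1)
        by_cases h2 : a = q
        · exact Or.inr (Or.inr h2)
        exact Or.inl ⟨⟨a, h1, h2⟩, Subtype.ext ha, rfl⟩
      · rintro (⟨b, hb, rfl⟩ | rfl | rfl)
        · exact congrArg Subtype.val hb
        · exact hHp _ g.2
        · exact hHq _ g.2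
    rw [this, Finset.card_union_of_disjoint, Finset.card_map, Finset.card_pair hpq]
    rw [Finset.disjoint_left]
    intro a ha ha'
    obtain ⟨b, -, rfl⟩ := Finset.mem_map.1 ha
    simp only [Finset.mem_insert, Finset.mem_singleton] at ha'
    rcases ha' with e | e
    exacts [b.2.1 e, b.2.2 e]
  -- divisibility of invariant sets by an element of prime order
  have inv_dvd : ∀ (r : ℕ), r.Prime → ∀ g : H, g ^ r = 1 → ∀ S : Finset Ω, (∀ a ∈ S, g • a ∈ S) →
      r ∣ (S.filter fun a => g • a ≠ a).card := by
    intro r hr g hg S hS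
    refine dvd_moved hr (MulAction.toPerm g) ?_ S fun a => ?_
    · rw [← MulAction.toPermHom_apply, ← map_pow, hg, map_one]
    · refine ⟨fun h => ?_, hS a⟩
      have himg : S.image (fun b => g • b) = S :=
        Finset.eq_of_subset_of_card_le (Finset.image_subset_iff.2 hS)
          (le_of_eq (Finset.card_image_of_injective S (MulAction.injective g)).symm)
      rw [MulAction.toPerm_apply, ← himg, Finset.mem_image] at h
      obtain ⟨b, hb, e⟩ := h
      rwa [← MulAction.injective g e]
  obtain ⟨g11, hg11⟩ := exists_prime_orderOf_dvd_card' (G := H) 11 (by rw [hH]; norm_num)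
  obtain ⟨x, -⟩ : ∃ x : Ω, True := by
    haveI : Nonempty Ω := Fintype.card_pos_iff.1 (by omega)
    exact ⟨Classical.arbitrary _, trivial⟩
  let K := stabilizer H x
  have hOK : Nat.card (orbit H x) * Nat.card K = 7920 := by
    rw [← hH, ← Nat.card_prod]
    exact Nat.card_congr (MulAction.orbitProdStabilizerEquivGroup H x)
  have hK5 : 5 ∣ Nat.card K := by
    have h1 : Nat.card (orbit H x) ≤ 22 := by
      rw [← hΩ, ← Nat.card_eq_fintype_card]; exact Finite.card_subtype_le _
    have h2 : 11 ∣ Nat.card (orbit H x) := by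
      have hfree : ∀ a ∈ (orbit H x).toFinset, g11 • a ≠ a := by
        intro a _ e
        have hf := fixN_eleven (g := (g11 : M24)) (by rw [← hg11]; exact_mod_cast congrArg Subtype.val (pow_orderOf_eq_one g11))
          (fun e => by rw [show g11 = 1 from Subtype.ext e, orderOf_one] at hg11; norm_num at hg11)
        have := fixcount 2 g11 hf
        have h0 : a ∈ (Finset.univ.filter fun a : Ω => g11 • a = a) := Finset.mem_filter.2 ⟨Finset.mem_univ _, e⟩
        have := Finset.card_pos.2 ⟨a, h0⟩
        omega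
      have hd := inv_dvd 11 (by norm_num) g11 (hg11 ▸ pow_orderOf_eq_one _) (orbit H x).toFinset
        (fun a ha => by simp only [Set.mem_toFinset] at ha ⊢; exact MulAction.mem_orbit_of_mem_orbit g11 ha)
      rw [Finset.filter_true_of_mem hfree, ← Set.ncard_eq_toFinset_card', ← Nat.card_coe_set_eq] at hd
      exact hd
    obtain ⟨j, hj⟩ := h2
    rcases (show j = 0 ∨ j = 1 ∨ j = 2 by omega) with rfl | rfl | rfl <;> rw [hj] at hOK <;> omega
  obtain ⟨g5, hg5⟩ := exists_prime_orderOf_dvd_card' (G := K) 5 hK5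
  let h5 : H := g5.1
  have hh5 : orderOf h5 = 5 := by rw [← hg5]; exact Subgroup.orderOf_coe g5
  have hfix5 : (Finset.univ.filter fun a : Ω => h5 • a = a).card = 2 := by
    have hf := fixN_five (g := (h5 : M24)) (by rw [← hh5]; exact_mod_cast congrArg Subtype.val (pow_orderOf_eq_one h5))
      (fun e => by rw [show h5 = 1 from Subtype.ext e, orderOf_one] at hh5; norm_num at hh5)
    have := fixcount 4 h5 hf
    omega
  have hxfix : x ∈ (Finset.univ.filter fun a : Ω => h5 • a = a) := Finset.mem_filter.2 ⟨Finset.mem_univ _, g5.2⟩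
  obtain ⟨y, hy, hyx⟩ := Finset.exists_mem_ne (show 1 < _ by rw [hfix5]; norm_num) x
  have hyf : h5 • y = y := (Finset.mem_filter.1 hy).2
  have honly : ∀ a, h5 • a = a → a = x ∨ a = y := by
    intro a ha
    by_contra hc
    push Not at hc
    have hs : ({x, y, a} : Finset Ω) ⊆ (Finset.univ.filter fun a : Ω => h5 • a = a) := by
      intro b hb
      simp only [Finset.mem_insert, Finset.mem_singleton] at hb
      rcases hb with rfl | rfl | rfl
      exacts [hxfix, hy, Finset.mem_filter.2 ⟨Finset.mem_univ _, ha⟩]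
    have := Finset.card_le_card hs
    rw [Finset.card_eq_three.2 ⟨x, y, a, hyx.symm, hc.1.symm, hc.2.symm, rfl⟩, hfix5] at this
    omega
  let orb : Ω → Finset Ω := fun z => (orbit K z).toFinset
  have orb_mem : ∀ z w, w ∈ orb z ↔ ∃ k : K, k • z = w := fun z w => by simp [orb, MulAction.mem_orbit_iff]
  have orb_inv : ∀ (z : Ω) (k : K), ∀ a ∈ orb z, k.1 • a ∈ orb z := fun z k a ha => by
    obtain ⟨l, rfl⟩ := (orb_mem z a).1 ha
    exact (orb_mem _ _).2 ⟨k * l, mul_smul k l z⟩
  have orb_ne : ∀ z, z ≠ x → x ∉ orb z := fun z hz h => by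
    obtain ⟨k, hk⟩ := (orb_mem z x).1 h
    exact hz (MulAction.injective k (hk.trans k.2.symm))
  have hK720 : Nat.card K = 360 ∨ Nat.card K = 720 := by
    have h2 : 11 ∣ Nat.card (orbit H x) := by
      have h5' := hOK
      by_contra hn
      have hd : 11 ∣ Nat.card K := (((by norm_num : Nat.Prime 11).dvd_mul).1 (h5' ▸ by norm_num)).resolve_left hn
      obtain ⟨g, hg⟩ := exists_prime_orderOf_dvd_card' (G := K) 11 hd
      have hg' : orderOf g.1 = 11 := by rw [Subgroup.orderOf_coe]; exact hg
      have hf := fixN_eleven (g := (g.1 : M24)) (by rw [← hg']; exact_mod_cast congrArg Subtype.val (pow_orderOf_eq_one g.1))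
        (fun e => by rw [show g.1 = 1 from Subtype.ext e, orderOf_one] at hg'; norm_num at hg')
      have := fixcount 2 g.1 hf
      have := Finset.card_pos.2 ⟨x, (Finset.mem_filter.2 ⟨Finset.mem_univ _, g.2⟩ : x ∈ Finset.univ.filter fun a : Ω => g.1 • a = a)⟩
      omega
    have h1 : Nat.card (orbit H x) ≤ 22 := by
      rw [← hΩ, ← Nat.card_eq_fintype_card]; exact Finite.card_subtype_le _
    obtain ⟨j, hj⟩ := h2
    rcases (show j = 0 ∨ j = 1 ∨ j = 2 by omega) with rfl | rfl | rfl <;> rw [hj] at hOK <;> omega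
  have three : ∀ z, z ≠ x → 3 ∣ (orb z).card := by
    intro z hz
    let L := (stabilizer K z).map ((H.subtype).comp K.subtype)
    have hL : Nat.card L ∣ 960 := by
      refine card_four hpq (c := x.1) (d := z.1) (Ne.symm x.2.1) (Ne.symm z.2.1) (Ne.symm x.2.2) (Ne.symm z.2.2)
        (fun e => hz (Subtype.ext e.symm)) L ?_
      rintro _ ⟨k, hk, rfl⟩
      exact ⟨hHp _ k.1.2, hHq _ k.1.2, congrArg Subtype.val k.2, congrArg Subtype.val hk⟩
    rw [Subgroup.card_map_of_injective (show Function.Injective (H.subtype.comp K.subtype) from H.subtype_injective.comp K.subtype_injective)] at hL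
    have hm : (orb z).card * Nat.card (stabilizer K z) = Nat.card K := by
      rw [← Nat.card_congr (MulAction.orbitProdStabilizerEquivGroup K z), Nat.card_prod]
      simp [orb, Nat.card_eq_fintype_card]
    by_contra h3
    have h9 : 9 ∣ Nat.card (stabilizer K z) := by
      refine Nat.Coprime.dvd_of_dvd_mul_left ((Nat.prime_three.coprime_iff_not_dvd).2 h3 |>.pow_left 2) ?_
      rw [hm]
      rcases hK720 with e | e <;> rw [e] <;> norm_num
    exact absurd (h9.trans hL) (by norm_num)
  have five : ∀ z, y ∉ orb z → z ≠ x → 5 ∣ (orb z).card := by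
    intro z hyz hz
    have := inv_dvd 5 (by norm_num) h5 (hh5 ▸ pow_orderOf_eq_one _) (orb z) (orb_inv z g5)
    have hfree : ∀ a ∈ orb z, h5 • a ≠ a := by
      intro a ha e
      rcases honly a e with rfl | rfl
      exacts [orb_ne z hz ha, hyz ha]
    rw [Finset.filter_true_of_mem hfree] at this
    exact this
  let Y := orb y
  have hyY : y ∈ Y := (orb_mem y y).2 ⟨1, one_smul _ _⟩
  have hxY : x ∉ Y := orb_ne y hyx
  have hY1 : Y.card % 5 = 1 := by
    have hd := inv_dvd 5 (by norm_num) h5 (hh5 ▸ pow_orderOf_eq_one _) Y (orb_inv y g5)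
    have hs := Finset.card_filter_add_card_filter_not (s := Y) (fun a => h5 • a = a)
    have : (Y.filter fun a => h5 • a = a) = {y} := by
      ext a
      simp only [Finset.mem_filter, Finset.mem_singleton]
      refine ⟨fun ⟨h1, h2⟩ => (honly a h2).resolve_left (fun e => hxY (e ▸ h1)), fun e => e ▸ ⟨hyY, hyf⟩⟩
    rw [this, Finset.card_singleton] at hs
    simp only [ne_eq] at hd hs
    omega
  have hYle : Y.card ≤ 21 := by
    have := Finset.card_le_card (show Y ⊆ Finset.univ.erase x from fun a ha =>
      Finset.mem_erase.2 ⟨fun e => hxY (e ▸ ha), Finset.mem_univ _⟩)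
    rw [Finset.card_erase_of_mem (Finset.mem_univ _), Finset.card_univ, hΩ] at this
    exact this
  have hY6 : Y.card = 6 := by
    obtain ⟨j, hj⟩ := three y hyx
    have hj' : Y.card = 3 * j := hj
    have hd : Y.card ∣ Nat.card K := by
      rw [← Nat.card_congr (MulAction.orbitProdStabilizerEquivGroup K y), Nat.card_prod]
      refine dvd_mul_of_dvd_left ?_ _
      simp [Y, orb, Nat.card_eq_fintype_card]
    rcases (show Y.card = 6 ∨ Y.card = 21 by omega) with e | e
    · exact e
    · rw [e] at hd
      rcases hK720 with e' | e' <;> rw [e'] at hd <;> norm_num at hd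
  let T : Finset Ω := Finset.univ \ insert x Y
  have hT : T.card = 15 := by
    rw [Finset.card_sdiff_of_subset (Finset.subset_univ _), Finset.card_univ, hΩ, Finset.card_insert_of_notMem hxY, hY6]
  have hTorb : ∀ z ∈ T, orb z = T := by
    intro z hz
    obtain ⟨hzx, hzY⟩ : z ≠ x ∧ z ∉ Y := by simpa [T] using hz
    have hy' : y ∉ orb z := fun h => by
      obtain ⟨k, hk⟩ := (orb_mem z y).1 h
      exact hzY ((orb_mem y z).2 ⟨k⁻¹, by rw [← hk, inv_smul_smul]⟩)
    have hsub : orb z ⊆ T := by
      intro a ha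
      obtain ⟨k, rfl⟩ := (orb_mem z a).1 ha
      simp only [T, Finset.mem_sdiff, Finset.mem_univ, true_and, Finset.mem_insert, not_or]
      refine ⟨fun e => orb_ne z hzx (e ▸ ha), fun h => hzY ?_⟩
      obtain ⟨l, hl⟩ := (orb_mem _ _).1 h
      exact (orb_mem y z).2 ⟨k⁻¹ * l, by rw [mul_smul, hl, inv_smul_smul]⟩
    refine Finset.eq_of_subset_of_card_le hsub ?_
    have h3 := three z hzx
    have h5' := five z hy' hzx
    have hpos := Finset.card_pos.2 ⟨z, (orb_mem z z).2 ⟨1, one_smul _ _⟩⟩
    have := Finset.card_le_card hsub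
    omega
  -- transitivity
  have htrans : ∀ a : Ω, ∃ h : H, h • x = a := by
    intro a
    have hall : Nat.card (orbit H x) = 22 := by
      have h1 : Nat.card (orbit H x) ≤ 22 := by
        rw [← hΩ, ← Nat.card_eq_fintype_card]; exact Finite.card_subtype_le _
      rcases hK720 with e | e <;> rw [e] at hOK
      · omega
      · exfalso
        have h11 : Nat.card (orbit H x) = 11 := by omega
        let O : Finset Ω := (orbit H x).toFinset
        have hO : O.card = 11 := by rw [← h11]; simp [O, Nat.card_eq_fintype_card]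
        have hsub : ∀ z ∈ O, orb z ⊆ O := by
          intro z hz w hw
          obtain ⟨k, rfl⟩ := (orb_mem z w).1 hw
          simp only [O, Set.mem_toFinset] at hz ⊢
          obtain ⟨h, rfl⟩ := hz
          exact ⟨k.1 * h, mul_smul k.1 h x⟩
        have h3 : 3 ∣ (O.erase x).card := by
          have hdec : O.erase x = ((O.erase x) ∩ Y) ∪ ((O.erase x) ∩ T) := by
            ext a
            simp only [Finset.mem_erase, Finset.mem_union, Finset.mem_inter, T, Finset.mem_sdiff, Finset.mem_univ,
              true_and, Finset.mem_insert]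
            tauto
          rw [hdec, Finset.card_union_of_disjoint]
          · refine dvd_add ?_ ?_
            · by_cases he : ((O.erase x) ∩ Y).Nonempty
              · obtain ⟨z, hz⟩ := he
                obtain ⟨hzO, hzY⟩ := Finset.mem_inter.1 hz
                have hle : Y ⊆ O.erase x := by
                  intro a ha
                  obtain ⟨k, hk⟩ := (orb_mem y a).1 ha
                  obtain ⟨l, hl⟩ := (orb_mem y z).1 hzY
                  refine Finset.mem_erase.2 ⟨fun e => hxY (e ▸ ha), hsub z (Finset.mem_of_mem_erase hzO) ?_⟩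
                  exact (orb_mem z a).2 ⟨k * l⁻¹, by rw [← hl, mul_smul, inv_smul_smul, hk]⟩
                rw [Finset.inter_eq_right.2 hle, hY6]; norm_num
              · rw [Finset.not_nonempty_iff_eq_empty.1 he]; simp
            · by_cases he : ((O.erase x) ∩ T).Nonempty
              · obtain ⟨z, hz⟩ := he
                obtain ⟨hzO, hzT⟩ := Finset.mem_inter.1 hz
                have := Finset.card_le_card (hTorb z hzT ▸ hsub z (Finset.mem_of_mem_erase hzO))
                omega
              · rw [Finset.not_nonempty_iff_eq_empty.1 he]; simp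
          · rw [Finset.disjoint_left]
            intro a ha hb
            simp only [Finset.mem_inter, T, Finset.mem_sdiff, Finset.mem_univ, true_and, Finset.mem_insert] at ha hb
            exact hb.2 (Or.inr ha.2)
        rw [Finset.card_erase_of_mem (by simp [O]), hO] at h3
        norm_num at h3
    have : orbit H x = Set.univ := Set.eq_of_subset_of_ncard_le (Set.subset_univ _)
      (by rw [Set.ncard_univ, Nat.card_eq_fintype_card, hΩ, ← Nat.card_coe_set_eq, hall])
    exact (this ▸ Set.mem_univ a : a ∈ orbit H x)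
  -- the orbital of size six
  let R : Ω → Ω → Prop := fun a b => ∃ h : H, h • x = a ∧ h • y = b
  have Rinv : ∀ (h : H) a b, R a b → R (h • a) (h • b) := fun h a b ⟨k, h1, h2⟩ =>
    ⟨h * k, by rw [mul_smul, h1], by rw [mul_smul, h2]⟩
  have Riff : ∀ (h : H) a b, R (h • a) (h • b) ↔ R a b := fun h a b =>
    ⟨fun hr => by simpa using Rinv h⁻¹ _ _ hr, Rinv h a b⟩
  have Rx : ∀ b, R x b ↔ b ∈ Y := by
    intro b
    refine ⟨fun ⟨h, h1, h2⟩ => (orb_mem y b).2 ⟨⟨h, h1⟩, h2⟩, fun hb => ?_⟩
    obtain ⟨k, hk⟩ := (orb_mem y b).1 hb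
    exact ⟨k.1, k.2, hk⟩
  have Rirr : ∀ a, ¬ R a a := fun a ⟨h, h1, h2⟩ => hyx (MulAction.injective h (h2.trans h1.symm))
  have rowR : ∀ a, (Finset.univ.filter fun b => R a b).card = 6 := by
    intro a
    obtain ⟨h, rfl⟩ := htrans a
    rw [← hY6]
    exact (Finset.card_bij (fun b _ => h • b) (fun b hb => Finset.mem_filter.2 ⟨Finset.mem_univ _, (Riff h x b).2 ((Rx b).2 hb)⟩)
      (fun _ _ _ _ e => MulAction.injective h e)
      (fun b hb => ⟨h⁻¹ • b, (Rx _).1 ((Riff h x _).1 (by rw [smul_inv_smul]; exact (Finset.mem_filter.1 hb).2)), smul_inv_smul _ _⟩)).symm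
  have colR : ∀ b, (Finset.univ.filter fun a => R a b).card = (Finset.univ.filter fun a => R a x).card := by
    intro b
    obtain ⟨h, rfl⟩ := htrans b
    refine (Finset.card_bij (fun a _ => h • a) (fun a ha => Finset.mem_filter.2 ⟨Finset.mem_univ _, (Riff h a x).2 (Finset.mem_filter.1 ha).2⟩)
      (fun _ _ _ _ e => MulAction.injective h e)
      (fun a ha => ⟨h⁻¹ • a, Finset.mem_filter.2 ⟨Finset.mem_univ _, (Riff h _ x).1 (by rw [smul_inv_smul]; exact (Finset.mem_filter.1 ha).2)⟩, smul_inv_smul _ _⟩)).symm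
  have hcol6 : (Finset.univ.filter fun a => R a x).card = 6 := by
    have h := Finset.sum_card_bipartiteAbove_eq_sum_card_bipartiteBelow (s := (Finset.univ : Finset Ω)) (t := Finset.univ) R
    simp only [Finset.bipartiteAbove, Finset.bipartiteBelow, rowR, colR, Finset.sum_const, Finset.card_univ, hΩ, smul_eq_mul] at h
    omega
  have hxY' : ∀ a, R a x ↔ a ∈ Y := by
    have hpair : (Finset.univ.filter fun a => R a x) = Y := by
      refine Finset.eq_of_subset_of_card_le (fun a ha => ?_) (by rw [hY6, hcol6])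
      by_contra haY
      have hR := (Finset.mem_filter.1 ha).2
      have hax : a ≠ x := fun e => Rirr x (by rwa [e] at hR)
      have haT : a ∈ T := by simp [T, haY, hax]
      have hsub : T ⊆ Finset.univ.filter fun a => R a x := by
        intro b hb
        rw [← hTorb a haT] at hb
        obtain ⟨k, rfl⟩ := (orb_mem a b).1 hb
        refine Finset.mem_filter.2 ⟨Finset.mem_univ _, ?_⟩
        have := Rinv k.1 a x hR
        rwa [show k.1 • x = x from k.2] at this
      have := Finset.card_le_card hsub
      omega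
    intro a
    rw [← hpair]
    simp
  let A : Matrix Ω Ω ℤ := Matrix.of fun a b => if R a b then 1 else 0
  let cnt : Ω → Ω → ℕ := fun a b => (Finset.univ.filter fun c => R a c ∧ R c b).card
  have hAA : ∀ a b, (A * A) a b = cnt a b := by
    intro a b
    simp only [Matrix.mul_apply, A, Matrix.of_apply, cnt]
    rw [← Finset.sum_boole]
    refine Finset.sum_congr rfl fun c _ => ?_
    by_cases h1 : R a c <;> by_cases h2 : R c b <;> simp [h1, h2]
  have cinv : ∀ (h : H) a b, cnt (h • a) (h • b) = cnt a b := by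
    intro h a b
    exact (Finset.card_bij (fun c _ => h • c)
      (fun c hc => by
        obtain ⟨-, h1, h2⟩ := Finset.mem_filter.1 hc
        exact Finset.mem_filter.2 ⟨Finset.mem_univ _, Rinv h _ _ h1, Rinv h _ _ h2⟩)
      (fun _ _ _ _ e => MulAction.injective h e)
      (fun c hc => ⟨h⁻¹ • c, by
        obtain ⟨-, h1, h2⟩ := Finset.mem_filter.1 hc
        exact Finset.mem_filter.2 ⟨Finset.mem_univ _, (Riff h _ _).1 (by rwa [smul_inv_smul]), (Riff h _ _).1 (by rwa [smul_inv_smul])⟩,
        smul_inv_smul _ _⟩)).symm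
  obtain ⟨z, hz⟩ : T.Nonempty := Finset.card_pos.1 (by omega)
  have hform : ∀ b, cnt x b = if x = b then 6 else if R x b then cnt x y else cnt x z := by
    intro b
    split_ifs with e1 e2
    · subst e1
      rw [← hY6]
      refine congrArg Finset.card (Finset.ext fun c => ?_)
      simp [Rx, hxY']
    · obtain ⟨k, rfl⟩ := (orb_mem y b).1 ((Rx b).1 e2)
      have := cinv k.1 x y
      rwa [show k.1 • x = x from k.2] at this
    · have hb : b ∈ T := by
        simp only [T, Finset.mem_sdiff, Finset.mem_univ, true_and, Finset.mem_insert, not_or]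
        exact ⟨fun e => e1 e.symm, fun h => e2 ((Rx b).2 h)⟩
      rw [← hTorb z hz] at hb
      obtain ⟨k, rfl⟩ := (orb_mem z b).1 hb
      have := cinv k.1 x z
      rwa [show k.1 • x = x from k.2] at this
  have hsum : ∑ b, cnt x b = 36 := by
    have h := Finset.sum_card_bipartiteAbove_eq_sum_card_bipartiteBelow (s := (Finset.univ : Finset Ω))
      (t := Finset.univ.filter fun c => R x c) (fun b c => R c b)
    simp only [Finset.bipartiteAbove, Finset.bipartiteBelow, rowR, Finset.sum_const, smul_eq_mul] at h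
    rw [show (36 : ℕ) = 6 * 6 from rfl]
    refine Eq.trans ?_ h
    refine Finset.sum_congr rfl fun b _ => ?_
    simp only [cnt, Finset.filter_filter]
  have hsol : (cnt x y = 5 ∧ cnt x z = 0) ∨ (cnt x y = 0 ∧ cnt x z = 2) := by
    have hsplit : (Finset.univ : Finset Ω) = insert x Y ∪ T := by
      simp [T]
    rw [hsplit, Finset.sum_union (by simp [T, Finset.disjoint_sdiff]), Finset.sum_insert hxY] at hsum
    have eY : ∑ b ∈ Y, cnt x b = 6 * cnt x y := by
      rw [Finset.sum_congr rfl (g := fun _ => cnt x y), Finset.sum_const, hY6, smul_eq_mul]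
      intro b hb
      rw [hform b, if_neg (fun e => hxY (by rwa [← e] at hb)), if_pos ((Rx b).2 hb)]
    have eT : ∑ b ∈ T, cnt x b = 15 * cnt x z := by
      rw [Finset.sum_congr rfl (g := fun _ => cnt x z), Finset.sum_const, hT, smul_eq_mul]
      intro b hb
      simp only [T, Finset.mem_sdiff, Finset.mem_univ, true_and, Finset.mem_insert, not_or] at hb
      rw [hform b, if_neg (fun e => hb.1 e.symm), if_neg (fun h => hb.2 ((Rx b).1 h))]
    have ex : cnt x x = 6 := by rw [hform x, if_pos rfl]
    rw [eY, eT, ex] at hsum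
    omega
  refine no_graph hΩ A (fun a => by simp [A, Rirr]) (cnt x y : ℤ) (cnt x z : ℤ) (by exact_mod_cast hsol) fun a b => ?_
  obtain ⟨h, rfl⟩ := htrans a
  rw [hAA, ← smul_inv_smul h b, cinv, hform]
  have e1 : (h • x = h • (h⁻¹ • b)) ↔ x = h⁻¹ • b := (MulAction.injective h).eq_iff
  have hAe : A (h • x) (h • (h⁻¹ • b)) = if R x (h⁻¹ • b) then 1 else 0 := by
    simp only [A, Matrix.of_apply, Riff]
  rw [hAe]
  simp only [e1]
  split_ifs <;> simp

end fiftySix

theorem main (p q : GolayPt) (hpq : p ≠ q) (H : Subgroup ↥(stabilizer M24 p ⊓ stabilizer M24 q)) :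
    H.index ≠ 56 ∧ H.index ≠ 210 := by
  have hm := H.card_mul_index
  rw [card_stab_two hpq] at hm
  let H' := H.map (stabilizer M24 p ⊓ stabilizer M24 q).subtype
  have hc : Nat.card H' = Nat.card H := Subgroup.card_map_of_injective (Subgroup.subtype_injective _)
  have hp : ∀ h ∈ H', h • p = p := by rintro _ ⟨k, -, rfl⟩; exact k.2.1
  have hq : ∀ h ∈ H', h • q = q := by rintro _ ⟨k, -, rfl⟩; exact k.2.2
  refine ⟨fun e => not_56 hpq H' hp hq ?_, fun e => not_210 hpq H' hp hq ?_⟩ <;>
  · rw [hc]; rw [e] at hm; omega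

end CfsgLib.Spor.MTwentyTwoIndex
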