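import Cfsg.Agent.Spor.MTwentyTwoIndex
import Cfsg.Agent.Spor.M24Simple
import Mathlib

/-!
Subgroups of index 253 in the Mathieu group of degree 23.
-/

set_option autoImplicit false
set_option linter.unusedSectionVars false
set_option linter.style.haveILetI false

open scoped Pointwise

namespace CfsgLib.Spor.MTwentyThreeIndex

open Cfsg MulAction Equiv CfsgLib.Spor CfsgLib.Spor.M24Elems CfsgLib.Spor.M24Simple CfsgLib.Spor.MTwentyTwoIndex

/-- pointwise fixing of five or more points -/
theorem card_five (U : Finset GolayPt) (h5 : 5 ≤ U.card) (L : Subgroup M24) (hL : ∀ g ∈ L, ∀ a ∈ U, g • a = a) :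
    Nat.card L ∣ 48 := by
  classical
  obtain ⟨T, hT, hT5⟩ := Finset.exists_subset_card_eq h5
  let x : Fin 5 ↪ GolayPt := ⟨fun i => ((T.equivFinOfCardEq hT5).symm i).1, fun a b e =>
    (T.equivFinOfCardEq hT5).symm.injective (Subtype.ext e)⟩
  have hc := card_fix_embedding (k := 5) le_rfl x
  rw [show (24 : ℕ).descFactorial 5 = 5100480 by norm_num [Nat.descFactorial]] at hc
  have h48 : Nat.card (stabilizer M24 x) = 48 := by omega
  rw [← h48]
  exact Subgroup.card_dvd_of_le fun g hg => DFunLike.ext _ _ fun i => hL g hg _ (hT ((T.equivFinOfCardEq hT5).symm i).2)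

/-- pointwise fixing of four points -/
theorem card_four' (U : Finset GolayPt) (h4 : 4 ≤ U.card) (L : Subgroup M24) (hL : ∀ g ∈ L, ∀ a ∈ U, g • a = a) :
    Nat.card L ∣ 960 := by
  classical
  obtain ⟨T, hT, hT4⟩ := Finset.exists_subset_card_eq h4
  obtain ⟨a, b, c, d, hab, hac, had, hbc, hbd, hcd, rfl⟩ := Finset.card_eq_four.1 hT4
  exact card_four hab hac had hbc hbd hcd L fun g hg =>
    ⟨hL g hg _ (hT (by simp)), hL g hg _ (hT (by simp)), hL g hg _ (hT (by simp)), hL g hg _ (hT (by simp))⟩

/-- pointwise fixing of nine points -/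
theorem card_nine (U : Finset GolayPt) (h9 : 9 ≤ U.card) (L : Subgroup M24) (hL : ∀ g ∈ L, ∀ a ∈ U, g • a = a) :
    Nat.card L = 1 := by
  classical
  by_contra hne
  obtain ⟨r, hr, hd⟩ := Nat.exists_prime_and_dvd hne
  haveI := Fact.mk hr
  obtain ⟨t, ht⟩ := exists_prime_orderOf_dvd_card' (G := L) r hd
  have hto : orderOf (t.1 : M24) = r := by rw [Subgroup.orderOf_coe]; exact ht
  have hle : 9 ≤ fixN (t.1 : Perm GolayPt) :=
    h9.trans (Finset.card_le_card fun a ha => Finset.mem_filter.2 ⟨Finset.mem_univ _, hL _ t.2 a ha⟩)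
  by_cases h2 : r = 2
  · obtain ⟨c, -, h⟩ := inv_cases (t.1 : M24).2 (by rw [Subgroup.orderOf_coe, hto, h2])
    rcases h with h | h <;> omega
  by_cases h3 : r = 3
  · obtain ⟨c, -, h⟩ := tri_cases (t.1 : M24).2 (by rw [Subgroup.orderOf_coe, hto, h3])
    rcases h with h | h <;> omega
  have h48 : ¬ r ∣ 48 := by
    intro h
    have : r ∣ 2 ^ 4 * 3 := h
    rcases hr.dvd_mul.1 this with e | e
    · exact h2 ((Nat.prime_dvd_prime_iff_eq hr Nat.prime_two).1 (hr.dvd_of_dvd_pow e))
    · exact h3 ((Nat.prime_dvd_prime_iff_eq hr Nat.prime_three).1 e)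
  have := fixN_le hr h48 (hto ▸ pow_orderOf_eq_one _) (fun e => by
    rw [e, orderOf_one] at hto; exact hr.ne_one hto.symm)
  omega

/-- the action on an invariant set -/
def onSet (H : Subgroup M24) (S : Finset GolayPt) (hS : ∀ h ∈ H, ∀ a ∈ S, h • a ∈ S) : H →* Perm {a // a ∈ S} :=
  MonoidHom.mk' (fun h =>
    { toFun := fun a => ⟨h.1 • a.1, hS _ h.2 _ a.2⟩
      invFun := fun a => ⟨h.1⁻¹ • a.1, hS _ (inv_mem h.2) _ a.2⟩
      left_inv := fun a => Subtype.ext (inv_smul_smul _ _)
      right_inv := fun a => Subtype.ext (smul_inv_smul _ _) })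
    (fun g h => Equiv.ext fun a => Subtype.ext (mul_smul g.1 h.1 a.1))

theorem card_le (H : Subgroup M24) (S : Finset GolayPt) (hS : ∀ h ∈ H, ∀ a ∈ S, h • a ∈ S) :
    Nat.card H ≤ Nat.card ((onSet H S hS).ker.map H.subtype) * S.card.factorial := by
  classical
  rw [Subgroup.card_map_of_injective H.subtype_injective, ← (onSet H S hS).ker.card_mul_index, Subgroup.index_ker]
  refine Nat.mul_le_mul_left _ ((Finite.card_subtype_le _).trans (le_of_eq ?_))
  rw [Nat.card_perm, Nat.card_eq_fintype_card, Fintype.card_coe]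

theorem ker_fix {H : Subgroup M24} {S : Finset GolayPt} (hS : ∀ h ∈ H, ∀ a ∈ S, h • a ∈ S) {F : Finset GolayPt}
    (hF : ∀ h ∈ H, ∀ a ∈ F, h • a = a) :
    ∀ g ∈ (onSet H S hS).ker.map H.subtype, ∀ a ∈ F ∪ S, g • a = a := by
  rintro _ ⟨k, hk, rfl⟩ a ha
  rcases Finset.mem_union.1 ha with h | h
  · exact hF _ k.2 a h
  · exact congrArg (fun e : Perm {a // a ∈ S} => (e ⟨a, h⟩).1) hk

theorem octad_trans {o : Finset GolayPt} (ho : o ∈ octads) {x y : GolayPt} (hx : x ∈ o) (hy : y ∈ o) :
    ∃ g : M24, g • o = o ∧ g • x = y := by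
  classical
  have h8 : o.card = 8 := ho.2
  obtain ⟨T, hT, hT4⟩ := Finset.exists_subset_card_eq (show 4 ≤ (o.erase x).card by rw [Finset.card_erase_of_mem hx, h8]; norm_num)
  obtain ⟨T', hT', hT4'⟩ := Finset.exists_subset_card_eq (show 4 ≤ (o.erase y).card by rw [Finset.card_erase_of_mem hy, h8]; norm_num)
  let u : Fin 5 → GolayPt := Fin.cons x fun i => ((T.equivFinOfCardEq hT4).symm i).1
  let v : Fin 5 → GolayPt := Fin.cons y fun i => ((T'.equivFinOfCardEq hT4').symm i).1
  have hu : Function.Injective u := Fin.cons_injective_iff.2 ⟨by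
    rintro ⟨i, hi⟩
    exact (Finset.mem_erase.1 (hT ((T.equivFinOfCardEq hT4).symm i).2)).1 hi,
    fun a b e => (T.equivFinOfCardEq hT4).symm.injective (Subtype.ext e)⟩
  have hv : Function.Injective v := Fin.cons_injective_iff.2 ⟨by
    rintro ⟨i, hi⟩
    exact (Finset.mem_erase.1 (hT' ((T'.equivFinOfCardEq hT4').symm i).2)).1 hi,
    fun a b e => (T'.equivFinOfCardEq hT4').symm.injective (Subtype.ext e)⟩
  obtain ⟨g, hg⟩ := m24_move (k := 5) le_rfl u v hu hv
  refine ⟨g, ?_, hg 0⟩
  have hsub : Finset.univ.image v ⊆ (g • o) ∩ o := by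
    intro a ha
    obtain ⟨i, -, rfl⟩ := Finset.mem_image.1 ha
    refine Finset.mem_inter.2 ⟨?_, ?_⟩
    · rw [← hg i]
      refine Finset.smul_mem_smul_finset ?_
      refine Fin.cases hx (fun j => ?_) i
      simpa [u] using (Finset.mem_erase.1 (hT ((T.equivFinOfCardEq hT4).symm j).2)).2
    · refine Fin.cases hy (fun j => ?_) i
      simpa [v] using (Finset.mem_erase.1 (hT' ((T'.equivFinOfCardEq hT4').symm j).2)).2
  have h5 : (Finset.univ.image v).card = 5 := by
    rw [Finset.card_image_of_injective _ hv]; rfl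
  have := existsUnique_octad (s := Finset.univ.image v) h5
  exact this.unique ⟨smul_mem_octads g.2 ho, hsub.trans Finset.inter_subset_left⟩ ⟨ho, hsub.trans Finset.inter_subset_right⟩

theorem classify (x : GolayPt) (H : Subgroup M24) (hx : ∀ h ∈ H, h • x = x) (hH : Nat.card H = 40320) :
    (∃ s : Finset GolayPt, s.card = 2 ∧ x ∉ s ∧ ∀ h ∈ H, h • s = s) ∨
      ∃ o ∈ octads, x ∈ o ∧ ∀ h ∈ H, h • o = o := by
  classical
  haveI : Fact (Nat.Prime 2) := ⟨Nat.prime_two⟩
  haveI : Fact (Nat.Prime 5) := ⟨by norm_num⟩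
  haveI : Fact (Nat.Prime 7) := ⟨by norm_num⟩
  by_contra hcon
  rw [not_or] at hcon
  obtain ⟨hpair, hoct⟩ := hcon
  let orb : GolayPt → Finset GolayPt := fun a => (MulAction.orbit H a).toFinset
  have orb_mem : ∀ a b, b ∈ orb a ↔ ∃ h : H, h.1 • a = b := fun a b => by simp [orb, MulAction.mem_orbit_iff]
  have orb_inv : ∀ a, ∀ h ∈ H, ∀ b ∈ orb a, h • b ∈ orb a := fun a h hh b hb => by
    obtain ⟨k, rfl⟩ := (orb_mem a b).1 hb
    exact (orb_mem _ _).2 ⟨⟨h, hh⟩ * k, mul_smul h k.1 a⟩
  have orb_smul : ∀ a, ∀ h ∈ H, h • orb a = orb a := fun a h hh => by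
    refine Finset.eq_of_subset_of_card_le (fun b hb => ?_) (le_of_eq (Finset.card_smul_finset _ _).symm)
    obtain ⟨c, hc, rfl⟩ := Finset.mem_smul_finset.1 hb
    exact orb_inv a h hh c hc
  have orb_self : ∀ a, a ∈ orb a := fun a => (orb_mem a a).2 ⟨1, one_smul _ _⟩
  have orb_dvd : ∀ a, (orb a).card ∣ 40320 := by
    intro a
    rw [← hH, ← Nat.card_congr (MulAction.orbitProdStabilizerEquivGroup H a), Nat.card_prod]
    refine dvd_mul_of_dvd_left ?_ _
    simp [orb, Nat.card_eq_fintype_card]
  -- an orbit and a fixed set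
  have key : ∀ (F : Finset GolayPt), (∀ h ∈ H, ∀ a ∈ F, h • a = a) → x ∈ F → F.card ≤ 2 → ∀ y ∉ F,
      (F.card = 1 ∧ (orb y).card = 1) ∨ 9 ≤ (orb y).card := by
    intro F hF hxF hF2 y hyF
    have hdisj : Disjoint F (orb y) := Finset.disjoint_left.2 fun a ha hb => by
      obtain ⟨k, hk⟩ := (orb_mem y a).1 hb
      have : k.1 • y = k.1 • a := hk.trans (hF _ k.2 a ha).symm
      exact hyF (MulAction.injective k.1 this ▸ ha)
    have hF1 : 1 ≤ F.card := Finset.card_pos.2 ⟨x, hxF⟩
    have hcard : (F ∪ orb y).card = F.card + (orb y).card := Finset.card_union_of_disjoint hdisj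
    have hO := orb_inv y
    have hb := card_le H (orb y) hO
    rw [hH] at hb
    have hK := ker_fix (S := orb y) hO hF
    set L := (onSet H (orb y) hO).ker.map H.subtype with hL
    have h40 : Nat.card L ∣ 40320 := by
      rw [← hH]; exact Subgroup.card_dvd_of_le (Subgroup.map_subtype_le _)
    by_contra hneg
    rw [not_or] at hneg
    obtain ⟨hneg1, hneg9⟩ := hneg
    have hpos : 0 < (orb y).card := Finset.card_pos.2 ⟨y, orb_self y⟩
    rcases (show (orb y).card = 1 ∨ (orb y).card = 2 ∨ ((orb y).card = 3) ∨ (4 ≤ (orb y).card ∧ (orb y).card ≤ 6) ∨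
        (orb y).card = 7 ∨ (orb y).card = 8 by omega) with e | e | e | ⟨e, e'⟩ | e | e
    · -- two fixed points and a third one
      have hF2' : F.card = 2 := by omega
      obtain ⟨a, b, hab, rfl⟩ := Finset.card_eq_two.1 hF2'
      have hsingle : orb y = {y} := by
        obtain ⟨w, hw⟩ := Finset.card_eq_one.1 e
        have := orb_self y
        rw [hw, Finset.mem_singleton] at this
        rw [hw, this]
      simp only [Finset.mem_insert, Finset.mem_singleton, not_or] at hyF
      have hinj : Function.Injective ![a, b, y] := inj_three hab (Ne.symm hyF.1) (Ne.symm hyF.2)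
      have hc := card_fix_embedding (k := 3) (by norm_num) ⟨![a, b, y], hinj⟩
      rw [show (24 : ℕ).descFactorial 3 = 12144 by norm_num [Nat.descFactorial]] at hc
      have h3 : Nat.card (stabilizer M24 (⟨![a, b, y], hinj⟩ : Fin 3 ↪ GolayPt)) = 20160 := by omega
      have := Nat.le_of_dvd (by norm_num) (h3 ▸ Subgroup.card_dvd_of_le (H := H) (K := stabilizer M24 (⟨![a, b, y], hinj⟩ : Fin 3 ↪ GolayPt))
        fun g hg => DFunLike.ext _ _ fun i => by
          fin_cases i
          · exact hF g hg a (by simp)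
          · exact hF g hg b (by simp)
          · exact Finset.mem_singleton.1 (hsingle ▸ hO g hg y (orb_self y)))
      omega
    · by_cases hF1' : F.card = 1
      · exact hpair ⟨orb y, e, fun hxo => Finset.disjoint_left.1 hdisj hxF hxo, orb_smul y⟩
      · have := Nat.le_of_dvd (by norm_num) (card_four' (F ∪ orb y) (by omega) L hK)
        rw [e, show Nat.factorial 2 = 2 from rfl] at hb
        omega
    · have := Nat.le_of_dvd (by norm_num) (card_four' (F ∪ orb y) (by omega) L hK)
      rw [e, show Nat.factorial 3 = 6 from rfl] at hb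
      omega
    · have := Nat.le_of_dvd (by norm_num) (card_five (F ∪ orb y) (by omega) L hK)
      have := Nat.mul_le_mul this (Nat.factorial_le e')
      rw [show Nat.factorial 6 = 720 from rfl] at this
      omega
    · rw [e, show Nat.factorial 7 = 5040 from rfl] at hb
      by_cases hF1' : F.card = 1
      · have h48 := card_five (F ∪ orb y) (by omega) L hK
        have h2 : 2 ∣ Nat.card L := by
          by_contra h2
          have : Nat.card L ∣ 3 * 16 := h48
          have h3 := ((Nat.prime_two.coprime_iff_not_dvd.2 h2).symm.pow_right 4).dvd_of_dvd_mul_right this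
          have := Nat.le_of_dvd (by norm_num) h3
          omega
        obtain ⟨t, ht⟩ := exists_prime_orderOf_dvd_card' (G := L) 2 h2
        have hto : orderOf ((t.1 : M24) : Perm GolayPt) = 2 := by rw [Subgroup.orderOf_coe, Subgroup.orderOf_coe]; exact ht
        rcases involution_classes.1 _ (t.1 : M24).2 hto with hset | hset
        · have heq : (Finset.univ.filter fun a => ((t.1 : M24) : Perm GolayPt) a = a) = F ∪ orb y := by
            refine (Finset.eq_of_subset_of_card_le (fun a ha => Finset.mem_filter.2 ⟨Finset.mem_univ _, hK _ t.2 a ha⟩) ?_).symm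
            rw [hcard]; exact (le_of_eq hset.2).trans (by omega)
          refine hoct ⟨_, hset, by rw [heq]; exact Finset.mem_union_left _ hxF, fun h hh => ?_⟩
          rw [heq, Finset.smul_finset_union, orb_smul y h hh]
          congr 1
          obtain ⟨a, rfl⟩ := Finset.card_eq_one.1 hF1'
          rw [Finset.smul_finset_singleton, hF h hh a (by simp)]
        · exact hset x (hK _ t.2 x (Finset.mem_union_left _ hxF))
      · have := card_nine (F ∪ orb y) (by omega) L hK
        rw [this] at hb
        omega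
    · have h1 := card_nine (F ∪ orb y) (by omega) L hK
      have hinj : Function.Injective (onSet H (orb y) hO) := by
        rw [← MonoidHom.ker_eq_bot_iff, ← Subgroup.card_eq_one]
        rwa [hL, Subgroup.card_map_of_injective H.subtype_injective] at h1
      have hbij : Function.Bijective (onSet H (orb y) hO) := hinj.bijective_of_nat_card_le (by
        rw [Nat.card_perm, Nat.card_eq_fintype_card, Fintype.card_coe, e, hH]
        exact le_of_eq rfl)
      obtain ⟨T, hT, hT4⟩ := Finset.exists_subset_card_eq (show 4 ≤ (orb y).card by omega)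
      obtain ⟨a, b, c, d, hab, hac, had, hbc, hbd, hcd, rfl⟩ := Finset.card_eq_four.1 hT4
      have ma : a ∈ orb y := hT (by simp)
      have mb : b ∈ orb y := hT (by simp)
      have mc : c ∈ orb y := hT (by simp)
      have md : d ∈ orb y := hT (by simp)
      have mk : ∀ (u v : {a // a ∈ orb y}), u ≠ v → ∃ t : M24, ∃ o ∈ octads,
          (∀ z, (t : Perm GolayPt) z = z ↔ z ∈ o) ∧ t • u.1 = v.1 ∧ x ∈ o ∧ ∀ w : {a // a ∈ orb y}, w ≠ u → w ≠ v → w.1 ∈ o := by
        intro u v huv
        obtain ⟨t, ht⟩ := hbij.2 (Equiv.swap u v)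
        have hto : orderOf t = 2 := by
          rw [← orderOf_injective (onSet H (orb y) hO) hinj, ht]
          refine orderOf_eq_prime (by rw [pow_two, Equiv.swap_mul_self]) fun e1 => huv ?_
          have := congrArg (fun p : Perm {a // a ∈ orb y} => p u) e1
          simpa using this.symm
        have hto' : orderOf ((t : M24) : Perm GolayPt) = 2 := by rw [Subgroup.orderOf_coe, Subgroup.orderOf_coe]; exact hto
        have hw : ∀ w : {a // a ∈ orb y}, w ≠ u → w ≠ v → ((t : M24) : Perm GolayPt) w.1 = w.1 := fun w h1 h2 => by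
          have := congrArg (fun p : Perm {a // a ∈ orb y} => (p w).1) ht
          simp only [Equiv.swap_apply_of_ne_of_ne h1 h2] at this
          exact this
        rcases involution_classes.1 _ (t : M24).2 hto' with hset | hset
        · refine ⟨t, _, hset, fun z => by simp, ?_, Finset.mem_filter.2 ⟨Finset.mem_univ _, hx _ t.2⟩,
            fun w h1 h2 => Finset.mem_filter.2 ⟨Finset.mem_univ _, hw w h1 h2⟩⟩
          have := congrArg (fun p : Perm {a // a ∈ orb y} => (p u).1) ht
          simp only [Equiv.swap_apply_left] at this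
          exact this
        · exact absurd (hx _ t.2) (hset x)
      obtain ⟨t, o, ho, hto, htu, hxo, hwo⟩ := mk ⟨a, ma⟩ ⟨b, mb⟩ (fun e => hab (congrArg Subtype.val e))
      obtain ⟨t', o', ho', hto', -, hxo', hwo'⟩ := mk ⟨c, mc⟩ ⟨d, md⟩ (fun e => hcd (congrArg Subtype.val e))
      let W : Finset GolayPt := insert x (((((orb y).erase a).erase b).erase c).erase d)
      have hW : 5 ≤ W.card := by
        rw [Finset.card_insert_of_notMem (fun h => Finset.disjoint_left.1 hdisj hxF
          (Finset.mem_of_mem_erase (Finset.mem_of_mem_erase (Finset.mem_of_mem_erase (Finset.mem_of_mem_erase h))))),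
          Finset.card_erase_of_mem (by simp [md, had.symm, hbd.symm, hcd.symm]),
          Finset.card_erase_of_mem (by simp [mc, hac.symm, hbc.symm]),
          Finset.card_erase_of_mem (by simp [mb, hab.symm]), Finset.card_erase_of_mem ma, e]
      obtain ⟨W5, hW5, hW5c⟩ := Finset.exists_subset_card_eq hW
      have hsub : ∀ z ∈ W, z ∈ o ∧ z ∈ o' := by
        intro z hz
        simp only [W, Finset.mem_insert, Finset.mem_erase] at hz
        rcases hz with rfl | ⟨hzd, hzc, hzb, hza, hzO⟩
        · exact ⟨hxo, hxo'⟩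
        · exact ⟨hwo ⟨z, hzO⟩ (fun e => hza (congrArg Subtype.val e)) (fun e => hzb (congrArg Subtype.val e)),
            hwo' ⟨z, hzO⟩ (fun e => hzc (congrArg Subtype.val e)) (fun e => hzd (congrArg Subtype.val e))⟩
      have heq : o = o' := (existsUnique_octad hW5c).unique ⟨ho, fun z hz => (hsub z (hW5 hz)).1⟩
        ⟨ho', fun z hz => (hsub z (hW5 hz)).2⟩
      have hao : a ∈ o' := hwo' ⟨a, ma⟩ (fun e => hac (congrArg Subtype.val e)) (fun e => had (congrArg Subtype.val e))
      rw [← heq, ← hto] at hao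
      exact hab (hao.symm.trans htu)
  -- elements of orders five and seven
  have fixb : ∀ (F : Finset GolayPt), (∀ h ∈ H, ∀ a ∈ F, h • a = a) → ∀ a b, a ∉ F → b ∉ F → Disjoint (orb a) (orb b) →
      F.card + (orb a).card % 5 + (orb b).card % 5 ≤ 4 ∧ F.card + (orb a).card % 7 + (orb b).card % 7 ≤ 4 := by
    intro F hF a b haF hbF hab
    have gen : ∀ r : ℕ, r.Prime → ¬ r ∣ 48 → r ∣ 40320 → F.card + (orb a).card % r + (orb b).card % r ≤ 4 := by
      intro r hr h48 hd
      haveI := Fact.mk hr
      obtain ⟨g, hg⟩ := exists_prime_orderOf_dvd_card' (G := H) r (hH ▸ hd)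
      have hgo : orderOf (g : M24) = r := by rw [Subgroup.orderOf_coe]; exact hg
      have hgp : (g : M24) ^ r = 1 := hgo ▸ pow_orderOf_eq_one _
      have hle := fixN_le hr h48 hgp (fun e => by rw [e, orderOf_one] at hgo; exact hr.ne_one hgo.symm)
      have hmod : ∀ c, (orb c).card % r ≤ ((orb c).filter fun z => ((g : M24) : Perm GolayPt) z = z).card := by
        intro c
        obtain ⟨k, hk⟩ := dvd_moved hr ((g : M24) : Perm GolayPt) (by simpa using congrArg Subtype.val hgp) (orb c) (fun z => by
          refine ⟨fun h => ?_, orb_inv c _ g.2 z⟩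
          have := orb_inv c _ (inv_mem g.2) _ h
          change (g : M24)⁻¹ • ((g : M24) • z) ∈ orb c at this
          rwa [inv_smul_smul] at this)
        have hs := Finset.card_filter_add_card_filter_not (s := orb c) (fun z => ((g : M24) : Perm GolayPt) z = z)
        simp only [ne_eq] at hk hs
        rw [← hs, hk, Nat.add_mul_mod_self_left]
        exact Nat.mod_le _ _
      have h1 := hmod a
      have h2 := hmod b
      have hd1 : ∀ c, c ∉ F → Disjoint F (orb c) := fun c hc => Finset.disjoint_left.2 fun z hz hzc => by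
        obtain ⟨k, hk⟩ := (orb_mem c z).1 hzc
        have : k.1 • c = k.1 • z := hk.trans (hF _ k.2 z hz).symm
        exact hc (MulAction.injective k.1 this ▸ hz)
      have hsub : F ∪ ((orb a).filter fun z => ((g : M24) : Perm GolayPt) z = z) ∪
          ((orb b).filter fun z => ((g : M24) : Perm GolayPt) z = z) ⊆
            Finset.univ.filter fun z => ((g : M24) : Perm GolayPt) z = z := by
        intro z hz
        simp only [Finset.mem_union, Finset.mem_filter, Finset.mem_univ, true_and] at hz ⊢
        rcases hz with (hz | hz) | hz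
        exacts [hF _ g.2 z hz, hz.2, hz.2]
      have h3 := Finset.card_le_card hsub
      rw [Finset.card_union_of_disjoint, Finset.card_union_of_disjoint] at h3
      · have h4 : (Finset.univ.filter fun z => ((g : M24) : Perm GolayPt) z = z).card ≤ 4 := hle
        omega
      · exact Disjoint.mono_right (Finset.filter_subset _ _) (hd1 a haF)
      · rw [Finset.disjoint_union_left]
        exact ⟨Disjoint.mono_right (Finset.filter_subset _ _) (hd1 b hbF), hab.mono (Finset.filter_subset _ _) (Finset.filter_subset _ _)⟩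
    exact ⟨gen 5 (by norm_num) (by norm_num) (by norm_num), gen 7 (by norm_num) (by norm_num) (by norm_num)⟩
  have finish : ∀ F : Finset GolayPt, (∀ h ∈ H, ∀ a ∈ F, h • a = a) → x ∈ F → F.card ≤ 2 →
      (∀ y ∉ F, 9 ≤ (orb y).card) → False := by
    intro F hF hxF hF2 hbig
    have hF1 : 1 ≤ F.card := Finset.card_pos.2 ⟨x, hxF⟩
    obtain ⟨a, ha⟩ : (Finset.univ \ F).Nonempty := by
      rw [← Finset.card_pos, Finset.card_sdiff_of_subset (Finset.subset_univ _), Finset.card_univ, card_pts]; omega
    have haF : a ∉ F := (Finset.mem_sdiff.1 ha).2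
    have hd1 : ∀ c, c ∉ F → Disjoint F (orb c) := fun c hc => Finset.disjoint_left.2 fun z hz hzc => by
      obtain ⟨k, hk⟩ := (orb_mem c z).1 hzc
      have : k.1 • c = k.1 • z := hk.trans (hF _ k.2 z hz).symm
      exact hc (MulAction.injective k.1 this ▸ hz)
    have hne : (Finset.univ \ (F ∪ orb a)).Nonempty := by
      rw [← Finset.card_pos, Finset.card_sdiff_of_subset (Finset.subset_univ _), Finset.card_univ, card_pts,
        Finset.card_union_of_disjoint (hd1 a haF)]
      have h1 := orb_dvd a
      by_contra h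
      have h24 : F.card + (orb a).card ≤ 24 := by
        rw [← Finset.card_union_of_disjoint (hd1 a haF), ← card_pts, ← Finset.card_univ]
        exact Finset.card_le_univ _
      rcases (show (orb a).card = 22 ∨ (orb a).card = 23 by omega) with e | e <;> rw [e] at h1 <;> norm_num at h1
    obtain ⟨b, hb⟩ := hne
    simp only [Finset.mem_sdiff, Finset.mem_univ, true_and, Finset.mem_union, not_or] at hb
    have horb : ∀ u v, v ∉ orb u → Disjoint (orb u) (orb v) := fun u v hv => Finset.disjoint_left.2 fun z hzu hzv => by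
      obtain ⟨k, rfl⟩ := (orb_mem u z).1 hzu
      obtain ⟨l, hl⟩ := (orb_mem v _).1 hzv
      exact hv ((orb_mem u v).2 ⟨l⁻¹ * k, by rw [Subgroup.coe_mul, mul_smul, ← hl, Subgroup.coe_inv, inv_smul_smul]⟩)
    have hab := horb a b hb.2
    have hall : F ∪ orb a ∪ orb b = Finset.univ := by
      refine Finset.eq_univ_of_forall fun c => ?_
      by_contra hc
      simp only [Finset.mem_union, not_or] at hc
      have hsub := Finset.card_le_univ (F ∪ orb a ∪ orb b ∪ orb c)
      rw [Finset.card_union_of_disjoint, Finset.card_union_of_disjoint, Finset.card_union_of_disjoint (hd1 a haF), card_pts] at hsub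
      · have := hbig a haF; have := hbig b hb.1; have := hbig c hc.1.1
        omega
      · rw [Finset.disjoint_union_left]; exact ⟨hd1 b hb.1, hab⟩
      · rw [Finset.disjoint_union_left, Finset.disjoint_union_left]
        exact ⟨⟨hd1 c hc.1.1, horb a c hc.1.2⟩, horb b c hc.2⟩
    have hsum := congrArg Finset.card hall
    rw [Finset.card_union_of_disjoint (by rw [Finset.disjoint_union_left]; exact ⟨hd1 b hb.1, hab⟩),
      Finset.card_union_of_disjoint (hd1 a haF), Finset.card_univ, card_pts] at hsum
    obtain ⟨h5, h7⟩ := fixb F hF a b haF hb.1 hab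
    have h1 := orb_dvd a
    have h2 := orb_dvd b
    have := hbig a haF
    have := hbig b hb.1
    generalize (orb a).card = p at *
    generalize (orb b).card = q at *
    rcases (show F.card = 1 ∨ F.card = 2 by omega) with e | e <;> rw [e] at hsum h5 h7
    all_goals
      obtain rfl : q = 24 - p - F.card := by omega
      rw [e] at *
      have hp : p ≤ 15 := by omega
      interval_cases p <;> first | omega | norm_num at h1 h2 h5 h7
  by_cases h1 : ∃ y, y ≠ x ∧ (orb y).card = 1
  · obtain ⟨y, hyx, hy1⟩ := h1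
    have hF : ∀ h ∈ H, ∀ a ∈ ({x, y} : Finset GolayPt), h • a = a := by
      intro h hh a ha
      simp only [Finset.mem_insert, Finset.mem_singleton] at ha
      rcases ha with rfl | rfl
      · exact hx h hh
      · obtain ⟨w, hw⟩ := Finset.card_eq_one.1 hy1
        have e1 := orb_self a
        have e2 := orb_inv a h hh a (orb_self a)
        rw [hw, Finset.mem_singleton] at e1 e2
        exact e2.trans e1.symm
    have hF2 : ({x, y} : Finset GolayPt).card = 2 := Finset.card_pair (Ne.symm hyx)
    refine finish {x, y} hF (by simp) hF2.le fun z hz => ?_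
    rcases key {x, y} hF (by simp) hF2.le z hz with ⟨e, -⟩ | e <;> omega
  · push Not at h1
    have hF : ∀ h ∈ H, ∀ a ∈ ({x} : Finset GolayPt), h • a = a := fun h hh a ha => by
      rw [Finset.mem_singleton] at ha; exact ha ▸ hx h hh
    refine finish {x} hF (by simp) (by simp) fun z hz => ?_
    rcases key {x} hF (by simp) (by simp) z hz with ⟨-, e⟩ | e
    · exact absurd e (h1 z (by simpa using hz))
    · exact e

theorem main (x : GolayPt) (H : Subgroup ↥(stabilizer M24 x)) (hH : H.index = 253) :
    (∃ s : Finset GolayPt, s.card = 2 ∧ x ∉ s ∧ H = (stabilizer M24 s).subgroupOf (stabilizer M24 x)) ∨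
      ∃ o ∈ octads, x ∈ o ∧ H = (stabilizer M24 o).subgroupOf (stabilizer M24 x) := by
  classical
  have hm := H.card_mul_index
  rw [card_stab_point, hH] at hm
  have hc : Nat.card H = 40320 := by omega
  let H' := H.map (stabilizer M24 x).subtype
  have hc' : Nat.card H' = 40320 := by rw [Subgroup.card_map_of_injective (Subgroup.subtype_injective _), hc]
  have eqv : ∀ (K : Subgroup M24), (∀ h ∈ H', h ∈ K) → Nat.card ↥(K ⊓ stabilizer M24 x) ≤ 40320 →
      H = K.subgroupOf (stabilizer M24 x) := by
    intro K hK hle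
    refine Subgroup.eq_of_le_of_card_ge (fun h hh => hK _ ⟨h, hh, rfl⟩) ?_
    rw [hc, ← Subgroup.inf_subgroupOf_right, Nat.card_congr (Subgroup.subgroupOfEquivOfLe inf_le_right).toEquiv]
    exact hle
  rcases classify x H' (by rintro _ ⟨h, -, rfl⟩; exact h.2) hc' with ⟨s, hs, hxs, hfix⟩ | ⟨o, ho, hxo, hfix⟩
  · refine Or.inl ⟨s, hs, hxs, eqv _ hfix ?_⟩
    obtain ⟨a, b, hab, rfl⟩ := Finset.card_eq_two.1 hs
    have hS : ∀ h ∈ stabilizer M24 ({a, b} : Finset GolayPt) ⊓ stabilizer M24 x, ∀ c ∈ ({a, b} : Finset GolayPt),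
        h • c ∈ ({a, b} : Finset GolayPt) := fun h hh c hc' => by
      have := Finset.smul_mem_smul_finset (a := h) hc'
      rwa [show h • ({a, b} : Finset GolayPt) = {a, b} from hh.1] at this
    refine (card_le _ _ hS).trans ?_
    rw [hs, show Nat.factorial 2 = 2 from rfl]
    simp only [Finset.mem_insert, Finset.mem_singleton, not_or] at hxs
    have hinj : Function.Injective ![x, a, b] := inj_three hxs.1 hxs.2 hab
    have hcc := card_fix_embedding (k := 3) (by norm_num) ⟨![x, a, b], hinj⟩
    rw [show (24 : ℕ).descFactorial 3 = 12144 by norm_num [Nat.descFactorial]] at hcc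
    have hle := Nat.le_of_dvd Nat.card_pos (Subgroup.card_dvd_of_le
      (show (onSet _ _ hS).ker.map (Subgroup.subtype _) ≤ stabilizer M24 (⟨![x, a, b], hinj⟩ : Fin 3 ↪ GolayPt) from
        fun g hg => DFunLike.ext _ _ fun i => by
          have hk := ker_fix hS (F := {x}) (fun h hh c hc' => by rw [Finset.mem_singleton] at hc'; exact hc' ▸ hh.2) g hg
          fin_cases i
          · exact hk x (by simp)
          · exact hk a (by simp)
          · exact hk b (by simp)))
    omega
  · refine Or.inr ⟨o, ho, hxo, eqv _ hfix ?_⟩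
    have h322 : Nat.card (stabilizer M24 o) = 322560 := card_stab_octad ho
    have horb : (o : Set GolayPt) ⊆ orbit (stabilizer M24 o) x := fun y hy => by
      obtain ⟨g, hg, hgx⟩ := octad_trans ho hxo hy
      exact ⟨⟨g, hg⟩, hgx⟩
    have h8 : 8 ≤ (orbit (stabilizer M24 o) x).ncard := by
      have := Set.ncard_le_ncard horb (Set.toFinite _)
      rw [Set.ncard_coe_finset, ho.2] at this
      exact this
    have hprod := (stabilizer (stabilizer M24 o) x).card_mul_index
    rw [index_stabilizer, h322] at hprod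
    have e : Nat.card ↥(stabilizer M24 o ⊓ stabilizer M24 x) = Nat.card (stabilizer (stabilizer M24 o) x) :=
      Nat.card_congr
        { toFun := fun h => ⟨⟨h.1, h.2.1⟩, h.2.2⟩
          invFun := fun h => ⟨h.1.1, ⟨h.1.2, h.2⟩⟩
          left_inv := fun h => rfl
          right_inv := fun h => rfl }
    rw [e]
    have := Nat.mul_le_mul_left (Nat.card (stabilizer (stabilizer M24 o) x)) h8
    omega

end CfsgLib.Spor.MTwentyThreeIndex
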