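import Cfsg.Agent.S1610
import Mathlib

/-!
Tables for the monomial automorphisms of the hexacode.
-/

set_option autoImplicit false

namespace CfsgLib.Spor.HexacodeAut

open Cfsg.Agent.S1610

/-- the generators -/
def row : Fin 3 → Fin 6 → Fin 4 := ![![2, 3, 3, 2, 3, 2], ![3, 2, 2, 3, 3, 2], ![3, 2, 3, 2, 2, 3]]

/-- the code as a bit set -/
def codeN : ℕ := 15936109640703621012752996146547452567624007270905024365018011038221850692485324561270740746450941254939322419320739101985598172768020259715960908334670033575885057798287373467775661163029513492818397235503800534144300529066610297535609585979184535653561298574200659972787938960755106975224950041905358774774402567509053140054033726118933697981023298167992359376127296493447154700525515720950481920073218405542402860021512233722597791561416840422872251943986523302195987331409109478822753007686838851328743034935700110173937536016384151022152209797616787386177940364193462243144044580679504639441708371435193478723240328002550209466620851020090052241130453400108202998835288154409138019100076475440502330193490173069219740879175789587647782078240515513035029345884450202438265290643246947196003675334081798523450300290716076459051855200496187886916677654781911455153070666641470937264148011627284351033721204138925524692498526816446989638678840133581204897183874797561855980026512046456025086024131550686483551368135784902933040555005792160154558948096275402864844131974528765259234055239994371268127507508356081506202671245876262197883489361740626226294258822557758488605950932915381609774502691439001733660959279681850797195265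

/-- inverses in the multiplicative table -/
def invT : Fin 4 → Fin 4 := ![0, 1, 3, 2]

/-- encoding -/
def encW (w : Fin 6 → Fin 4) : ℕ :=
  (w 0).val + 4 * (w 1).val + 16 * (w 2).val + 64 * (w 3).val + 256 * (w 4).val + 1024 * (w 5).val

/-- membership -/
def inB (w : Fin 6 → Fin 4) : Bool := Nat.testBit codeN (encW w)

/-- the full weight words -/
def fullW : List (Fin 6 → Fin 4) := [![1, 1, 2, 2, 3, 3],
  ![1, 1, 3, 3, 2, 2],
  ![1, 2, 1, 2, 1, 2],
  ![1, 2, 2, 1, 2, 1],
  ![1, 3, 1, 3, 3, 1],
  ![1, 3, 3, 1, 1, 3],
  ![2, 1, 1, 2, 2, 1],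
  ![2, 1, 2, 1, 1, 2],
  ![2, 2, 1, 1, 3, 3],
  ![2, 2, 3, 3, 1, 1],
  ![2, 3, 2, 3, 2, 3],
  ![2, 3, 3, 2, 3, 2],
  ![3, 1, 1, 3, 1, 3],
  ![3, 1, 3, 1, 3, 1],
  ![3, 2, 2, 3, 3, 2],
  ![3, 2, 3, 2, 2, 3],
  ![3, 3, 1, 1, 2, 2],
  ![3, 3, 2, 2, 1, 1]]

/-- scalars determined by the image of the first generator -/
def scal (τ : Fin 6 → Fin 6) (v : Fin 6 → Fin 4) : Fin 6 → Fin 4 := fun i => mulT (v i) (invT (row 0 (τ i)))

/-- preservation test -/
def goodB (τ : Fin 6 → Fin 6) (c : Fin 6 → Fin 4) : Bool :=
  inB (fun i => mulT (c i) (row 0 (τ i))) && inB (fun i => mulT (c i) (row 1 (τ i))) && inB (fun i => mulT (c i) (row 2 (τ i)))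

theorem inB_iff : (∀ p, inB (word p) = true) ∧ ∀ a b c d e f : Fin 4, inB ![a, b, c, d, e, f] = true →
    ∃ p : Fin 4 × Fin 4 × Fin 4, word p = ![a, b, c, d, e, f] := by
  constructor <;> decide +kernel

theorem fullW_check : (fullW.all fun v => inB v && (List.finRange 6).all fun i => v i != 0) = true := by decide +kernel

theorem fullW_nodup : fullW.Nodup := by decide +kernel

theorem fullW_all : ∀ a b c : Fin 4, (∀ i, word (a, b, c) i ≠ 0) → word (a, b, c) ∈ fullW := by decide +kernel

theorem fullW_spec : fullW.Nodup ∧ (∀ v ∈ fullW, (∀ i, v i ≠ 0) ∧ inB v = true) ∧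
    ∀ a b c : Fin 4, (∀ i, word (a, b, c) i ≠ 0) → word (a, b, c) ∈ fullW := by
  refine ⟨fullW_nodup, fun v hv => ?_, fullW_all⟩
  have h := List.all_eq_true.1 fullW_check v hv
  simp only [Bool.and_eq_true, List.all_eq_true, bne_iff_ne, ne_eq] at h
  exact ⟨fun i => h.2 i (List.mem_finRange i), h.1⟩

theorem tab_spec : (∀ a b : Fin 4, b ≠ 0 → mulT (mulT a (invT b)) b = a) ∧
    (∀ a b : Fin 4, b ≠ 0 → mulT (mulT a b) (invT b) = a) ∧ (∀ a b : Fin 4, a ≠ 0 → b ≠ 0 → mulT a b ≠ 0) ∧
    (∀ a : Fin 4, a ≠ 0 → invT a ≠ 0) ∧ ∀ i, row 0 i ≠ 0 := by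
  refine ⟨?_, ?_, ?_, ?_, ?_⟩ <;> decide +kernel

theorem count_check : ((Finset.univ : Finset (Equiv.Perm (Fin 6))).sum fun σ =>
    (fullW.filter fun v => goodB σ.symm (scal σ.symm v)).length) = 1080 := by decide +kernel

theorem sign_check : ∀ σ : Equiv.Perm (Fin 6),
    (fullW.any fun v => goodB σ.symm (scal σ.symm v)) = true ↔ Equiv.Perm.sign σ = 1 := by decide +kernel

theorem diag_all : (fullW.all fun v => !goodB id (scal id v) || (List.finRange 6).all fun i => scal id v i == scal id v 0) = true := by
  decide +kernel

theorem diag_check : ∀ v ∈ fullW, goodB id (scal id v) = true → ∀ i j : Fin 6, scal id v i = scal id v j := by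
  intro v hv hg i j
  have h := List.all_eq_true.1 diag_all v hv
  simp only [hg, Bool.not_true, Bool.false_or, List.all_eq_true, beq_iff_eq] at h
  rw [h i (List.mem_finRange i), h j (List.mem_finRange j)]

end CfsgLib.Spor.HexacodeAut
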