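import Cfsg.Agent.Spor.RuData
import Cfsg.Prelude.Def_Spor_Ru
import Mathlib

/-!
Evenness and minimum of the rank-28 Gaussian lattice.
-/

set_option autoImplicit false
set_option linter.unusedSectionVars false
set_option maxRecDepth 20000

namespace CfsgLib.Spor.RuLattice

open Cfsg Cfsg.Spor

/-- the coordinate of a real index -/
def idx (m : Fin 56) : RuIdx := (⟨m.val / 8, by omega⟩, ⟨m.val / 2 % 4, by omega⟩)

/-- real coordinates -/
def rv (v : RuVec) (m : Fin 56) : ℤ := if m.val % 2 = 0 then (v (idx m)).re else (v (idx m)).im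

/-- back to Gaussian coordinates -/
def unrv (w : Fin 56 → ℤ) : RuVec := fun p =>
  ⟨w ⟨8 * p.1.val + 2 * p.2.val, by omega⟩, w ⟨8 * p.1.val + 2 * p.2.val + 1, by omega⟩⟩

theorem unrv_rv (v : RuVec) : unrv (rv v) = v := by
  funext p
  obtain ⟨n, t⟩ := p
  have h1 : idx ⟨8 * n.val + 2 * t.val, by omega⟩ = (n, t) := Prod.ext (Fin.ext (by simp [idx]; omega)) (Fin.ext (by simp [idx]; omega))
  have h2 : idx ⟨8 * n.val + 2 * t.val + 1, by omega⟩ = (n, t) := Prod.ext (Fin.ext (by simp [idx]; omega)) (Fin.ext (by simp [idx]; omega))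
  refine Zsqrtd.ext ?_ ?_
  · show (if (8 * n.val + 2 * t.val) % 2 = 0 then _ else _) = _
    rw [if_pos (by omega), h1]
  · show (if (8 * n.val + 2 * t.val + 1) % 2 = 0 then _ else _) = _
    rw [if_neg (by omega), h2]

/-- real coordinates as a homomorphism -/
def rvHom : RuVec →+ (Fin 56 → ℤ) where
  toFun := rv
  map_zero' := funext fun m => by simp [rv]
  map_add' a b := funext fun m => by simp only [rv, Pi.add_apply]; split <;> simp

/-- the inverse as a homomorphism -/
def unrvHom : (Fin 56 → ℤ) →+ RuVec where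
  toFun := unrv
  map_zero' := funext fun p => by apply Zsqrtd.ext <;> simp [unrv]
  map_add' a b := funext fun p => by apply Zsqrtd.ext <;> simp [unrv]

/-- vector of a list -/
def vecOf (l : List ℤ) (m : Fin 56) : ℤ := l.getD m.val 0

/-- list of a vector -/
def listOf (w : Fin 56 → ℤ) : List ℤ := List.ofFn w

theorem vecOf_listOf (w : Fin 56 → ℤ) : vecOf (listOf w) = w := funext fun m => by
  rw [vecOf, listOf, List.getD_eq_getElem _ _ (lt_of_lt_of_eq m.isLt (List.length_ofFn (f := w)).symm), List.getElem_ofFn]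

/-- a basis vector -/
def bv (i : ℕ) : List ℤ := RuData.basis.getD i []

/-- a combination of basis vectors -/
def comb (c : List (ℕ × ℤ)) : List ℤ :=
  c.foldl (fun acc ik => List.zipWith (fun a b => a + ik.2 * b) acc (bv ik.1)) (List.replicate 56 0)

/-- the spanned group -/
def S : AddSubgroup (Fin 56 → ℤ) := AddSubgroup.closure (Set.range fun i : Fin 56 => vecOf (bv i.val))

theorem lengths : RuData.basis.length = 56 ∧ ∀ l ∈ RuData.basis, l.length = 56 := by decide +kernel

theorem bv_len (i : Fin 56) : (bv i.val).length = 56 := by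
  rw [bv, List.getD_eq_getElem _ _ (lengths.1.symm ▸ i.isLt)]
  exact lengths.2 _ (List.getElem_mem _)

theorem comb_mem {c : List (ℕ × ℤ)} (hc : c.all (fun ik => decide (ik.1 < 56)) = true) : vecOf (comb c) ∈ S := by
  have key : ∀ (l : List (ℕ × ℤ)) (acc : List ℤ), (∀ ik ∈ l, ik.1 < 56) → acc.length = 56 → vecOf acc ∈ S →
      vecOf (l.foldl (fun acc ik => List.zipWith (fun a b => a + ik.2 * b) acc (bv ik.1)) acc) ∈ S := by
    intro l
    induction l with
    | nil => intro acc _ _ h; exact h
    | cons ik l ih =>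
      intro acc hl hlen h
      have hi := hl ik (List.mem_cons_self ..)
      have hb := bv_len ⟨ik.1, hi⟩
      refine ih _ (fun j hj => hl j (List.mem_cons_of_mem _ hj)) (by simp [List.length_zipWith, hlen]; exact (le_of_eq hb.symm)) ?_
      have e : vecOf (List.zipWith (fun a b => a + ik.2 * b) acc (bv ik.1)) = vecOf acc + ik.2 • vecOf (bv ik.1) := by
        funext m
        have h1 : m.val < acc.length := by omega
        have h2 : m.val < (bv ik.1).length := lt_of_lt_of_eq m.isLt hb.symm
        simp only [vecOf, Pi.add_apply, Pi.smul_apply, smul_eq_mul]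
        rw [List.getD_eq_getElem _ _ (by rw [List.length_zipWith]; omega), List.getElem_zipWith,
          List.getD_eq_getElem _ _ h1, List.getD_eq_getElem _ _ h2]
      rw [e]
      have hmem : vecOf (bv ik.1) ∈ S := AddSubgroup.subset_closure (show vecOf (bv ik.1) ∈ Set.range fun i : Fin 56 => vecOf (bv i.val) from ⟨⟨ik.1, hi⟩, rfl⟩)
      exact add_mem h (zsmul_mem hmem _)
  refine key c _ (fun ik hik => by simpa using List.all_eq_true.1 hc ik hik) (by simp) ?_
  rw [show vecOf (List.replicate 56 0) = 0 from funext fun m => by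
    rw [vecOf, List.getD_eq_getElem _ _ (lt_of_lt_of_eq m.isLt List.length_replicate.symm), List.getElem_replicate, Pi.zero_apply]]
  exact zero_mem _

/-- a certificate that an additive map preserves the span -/
def pres (f : RuVec → RuVec) (cs : List (List (ℕ × ℤ))) : Bool :=
  (List.range 56).all fun i => (cs.getD i []).all (fun ik => decide (ik.1 < 56)) &&
    listOf (rv (f (unrv (vecOf (bv i))))) == comb (cs.getD i [])

/-- the five monomial maps -/
def maps : List (RuVec → RuVec) := [fun v => gI • v, ruRj, ruRk, ruSign, ruShift]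

theorem gen_check : (List.range 20).all (fun i => (RuData.genC.getD i []).all (fun ik => decide (ik.1 < 56)) &&
    listOf (rv (ruTable.getD i 0)) == comb (RuData.genC.getD i [])) = true ∧ ruTable.length = 20 := by decide +kernel

theorem pres_check : pres (fun v => gI • v) (RuData.imgC.getD 0 []) = true ∧ pres ruRj (RuData.imgC.getD 1 []) = true ∧
    pres ruRk (RuData.imgC.getD 2 []) = true ∧ pres ruSign (RuData.imgC.getD 3 []) = true ∧
    pres ruShift (RuData.imgC.getD 4 []) = true := by decide +kernel

theorem closed_of_pres {f : RuVec → RuVec} (hadd : ∀ a b, f (a + b) = f a + f b) {cs : List (List (ℕ × ℤ))}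
    (h : pres f cs = true) {v : RuVec} (hv : rv v ∈ S) : rv (f v) ∈ S := by
  let φ : (Fin 56 → ℤ) →+ (Fin 56 → ℤ) := rvHom.comp ((AddMonoidHom.mk' f hadd).comp unrvHom)
  have hle : S ≤ S.comap φ := by
    rw [S, AddSubgroup.closure_le]
    rintro _ ⟨i, rfl⟩
    have h1 := List.all_eq_true.1 h i.val (List.mem_range.2 i.isLt)
    rw [Bool.and_eq_true, beq_iff_eq] at h1
    show rv (f (unrv (vecOf (bv i.val)))) ∈ S
    rw [← vecOf_listOf (rv (f (unrv (vecOf (bv i.val))))), h1.2]
    exact comb_mem h1.1
  have := hle hv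
  rwa [AddSubgroup.mem_comap, show φ (rv v) = rv (f (unrv (rv v))) from rfl, unrv_rv] at this

theorem lattice_le {v : RuVec} (hv : v ∈ ruLattice) : rv v ∈ S := by
  rw [ruLattice, AddSubgroup.mem_sInf] at hv
  refine hv (S.comap rvHom) ⟨fun w hw => ?_, fun w hw => ?_⟩
  · obtain ⟨i, hi, rfl⟩ := List.getElem_of_mem hw
    have h1 := List.all_eq_true.1 gen_check.1 i (List.mem_range.2 (gen_check.2 ▸ hi))
    rw [Bool.and_eq_true, beq_iff_eq, List.getD_eq_getElem _ _ hi] at h1
    show rv (ruTable[i]) ∈ S
    rw [← vecOf_listOf (rv (ruTable[i])), h1.2]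
    exact comb_mem h1.1
  · obtain ⟨p0, p1, p2, p3, p4⟩ := pres_check
    refine ⟨closed_of_pres (fun a b => smul_add gI a b) p0 hw, closed_of_pres ?_ p1 hw, closed_of_pres ?_ p2 hw,
      closed_of_pres ?_ p3 hw, closed_of_pres ?_ p4 hw⟩
    · intro a b; funext p; obtain ⟨n, t⟩ := p
      fin_cases t <;> simp [ruRj, mul_add, add_comm]
    · intro a b; funext p; obtain ⟨n, t⟩ := p
      fin_cases t <;> simp [ruRk, mul_add, add_comm]
    · intro a b; funext p; simp only [ruSign, Pi.add_apply]; split <;> simp [add_comm]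
    · intro a b; funext p; simp [ruShift]

/-- dot product -/
def dot (a b : Fin 56 → ℤ) : ℤ := ∑ m, a m * b m

/-- dot product of lists -/
def dotL (a b : List ℤ) : ℤ := (List.zipWith (· * ·) a b).sum

theorem dot_list {a b : List ℤ} (ha : a.length = 56) (hb : b.length = 56) : dot (vecOf a) (vecOf b) = dotL a b := by
  rw [dot, ← List.sum_ofFn, dotL]
  congr 1
  refine List.ext_getElem (by simp [List.length_zipWith, ha, hb]) fun i h1 h2 => ?_
  rw [List.length_ofFn] at h1
  rw [List.getElem_ofFn, List.getElem_zipWith]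
  simp only [vecOf]
  rw [List.getD_eq_getElem _ _ (show i < a.length by omega), List.getD_eq_getElem _ _ (show i < b.length by omega)]

theorem gram : ∀ i : Fin 56, dotL (bv i.val) (bv i.val) % 8 = 0 ∧
    ∀ j : Fin 56, dotL (bv i.val) (bv j.val) % 4 = 0 := by decide +kernel

theorem dot_comm' (a b : Fin 56 → ℤ) : dot a b = dot b a := Finset.sum_congr rfl fun m _ => mul_comm _ _

theorem dot_add (a b c : Fin 56 → ℤ) : dot (a + b) c = dot a c + dot b c := by
  simp [dot, add_mul, Finset.sum_add_distrib]

theorem dot_neg (a c : Fin 56 → ℤ) : dot (-a) c = -dot a c := by simp [dot, neg_mul, Finset.sum_neg_distrib]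

theorem dot_four {a b : Fin 56 → ℤ} (ha : a ∈ S) (hb : b ∈ S) : 4 ∣ dot a b := by
  have h1 : ∀ (i : Fin 56) {b : Fin 56 → ℤ}, b ∈ S → 4 ∣ dot b (vecOf (bv i.val)) := by
    intro i b hb
    induction hb using AddSubgroup.closure_induction with
    | mem x hx =>
      obtain ⟨j, rfl⟩ := hx
      rw [dot_list (bv_len j) (bv_len i)]
      exact Int.dvd_of_emod_eq_zero ((gram j).2 i)
    | zero => simp [dot]
    | add x y _ _ hx hy => rw [dot_add]; exact dvd_add hx hy
    | neg x _ hx => rw [dot_neg]; exact dvd_neg.2 hx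
  induction ha using AddSubgroup.closure_induction with
  | mem x hx => obtain ⟨i, rfl⟩ := hx; rw [dot_comm']; exact h1 i hb
  | zero => simp [dot]
  | add x y _ _ hx hy => rw [dot_add]; exact dvd_add hx hy
  | neg x _ hx => rw [dot_neg]; exact dvd_neg.2 hx

theorem sq_eight {a : Fin 56 → ℤ} (ha : a ∈ S) : 8 ∣ dot a a := by
  induction ha using AddSubgroup.closure_induction with
  | mem x hx =>
    obtain ⟨i, rfl⟩ := hx
    rw [dot_list (bv_len i) (bv_len i)]
    exact Int.dvd_of_emod_eq_zero (gram i).1
  | zero => simp [dot]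
  | add x y hx' hy' hx hy =>
    obtain ⟨k, hk⟩ := dot_four hx' hy'
    obtain ⟨u, hu⟩ := hx
    obtain ⟨w, hw⟩ := hy
    refine ⟨u + k + w, ?_⟩
    rw [dot_add, dot_comm' x (x + y), dot_comm' y (x + y), dot_add, dot_add, dot_comm' y x, hu, hw, hk]
    ring
  | neg x _ hx => rw [dot_neg, dot_comm', dot_neg, neg_neg]; exact hx

theorem norm_eq (v : RuVec) : ruNorm v = dot (rv v) (rv v) := by
  let e : RuIdx × Fin 2 → Fin 56 := fun q => ⟨8 * q.1.1.val + 2 * q.1.2.val + q.2.val, by omega⟩
  have he : Function.Bijective e := by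
    refine (Fintype.bijective_iff_injective_and_card _).2 ⟨fun a b h => ?_, by simp⟩
    have h' := congrArg Fin.val h
    simp only [e] at h'
    refine Prod.ext (Prod.ext (Fin.ext ?_) (Fin.ext ?_)) (Fin.ext ?_) <;> omega
  rw [dot, ← Fintype.sum_bijective e he (fun q => rv v (e q) * rv v (e q)) _ (fun _ => rfl), Fintype.sum_prod_type]
  refine Finset.sum_congr rfl fun p _ => ?_
  obtain ⟨n, t⟩ := p
  have h1 : idx (e ((n, t), 0)) = (n, t) := Prod.ext (Fin.ext (by simp [idx, e]; omega)) (Fin.ext (by simp [idx, e]; omega))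
  have h2 : idx (e ((n, t), 1)) = (n, t) := Prod.ext (Fin.ext (by simp [idx, e]; omega)) (Fin.ext (by simp [idx, e]; omega))
  rw [Fin.sum_univ_two, Zsqrtd.norm_def]
  simp only [rv, h1, h2]
  rw [if_pos (show (e ((n, t), 0)).val % 2 = 0 by simp [e]; omega), if_neg (show ¬ (e ((n, t), 1)).val % 2 = 0 by simp [e]; omega)]
  ring

/-- reconstruction on an information set -/
def recon (ps rs : List ℕ) (w : List ℤ) (p : ℕ) : ℤ :=
  ((List.range 19).map fun k => if (rs.getD k 0).testBit p then w.getD (ps.getD k 0) 0 else 0).sum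

theorem recon_check : ∀ i : Fin 56, ∀ p : Fin 56,
    ((bv i.val).getD p.val 0 - recon RuData.pos1 RuData.row1 (bv i.val) p.val) % 2 = 0 ∧
    ((bv i.val).getD p.val 0 - recon RuData.pos2 RuData.row2 (bv i.val) p.val) % 2 = 0 := by decide +kernel

theorem pos_check : (∀ k : Fin 19, RuData.pos1.getD k.val 0 < 56 ∧ RuData.pos2.getD k.val 0 < 56) ∧
    (RuData.pos1 ++ RuData.pos2).Nodup ∧ RuData.pos1.length = 19 ∧ RuData.pos2.length = 19 := by decide +kernel

/-- the mask of a set of rows -/
def maskOf (rs : List ℕ) (T : List ℕ) : ℕ := T.foldl (fun y k => y ^^^ rs.getD k 0) 0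

/-- few rows give a heavy word or a single block -/
def enumB (rs : List ℕ) : Bool :=
  (List.range 5).all fun r => (List.sublistsLen r (List.range 19)).all fun T =>
    let y := maskOf rs T
    decide (8 < ((List.range 56).filter y.testBit).length) || y == 0 ||
      (List.range 7).any fun k => y == 255 <<< (8 * k)

theorem enum_check : enumB RuData.row1 = true ∧ enumB RuData.row2 = true := by decide +kernel

/-- a short vector has a product not divisible by four -/
def failB (l : List (ℕ × ℤ)) : Bool :=
  RuData.tests.any fun j => !((l.map fun pa => pa.2 * (bv j).getD pa.1 0).sum % 4 == 0)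

theorem fail_pairs : ∀ p : Fin 56, ∀ q : Fin 56, p.val < q.val →
    failB [(p.val, 2), (q.val, 2)] ∧ failB [(p.val, 2), (q.val, -2)] ∧
    failB [(p.val, -2), (q.val, 2)] ∧ failB [(p.val, -2), (q.val, -2)] := by decide +kernel

theorem fail_blocks : ∀ k : Fin 7, ∀ m : Fin 256,
    failB ((List.range 8).map fun i => (8 * k.val + i, if m.val.testBit i then -1 else 1)) := by decide +kernel

theorem exists_mask : ∀ f : Fin 8 → Bool, ∃ m : Fin 256, ∀ i : Fin 8, m.val.testBit i.val = f i := by decide +kernel

theorem tests_lt : ∀ j ∈ RuData.tests, j < 56 := by decide +kernel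

theorem fail_sound {w : Fin 56 → ℤ} (hw : w ∈ S) {l : List (Fin 56)} (hnd : l.Nodup)
    (hsupp : ∀ m, m ∉ l → w m = 0) : failB (l.map fun m => (m.val, w m)) = false := by
  rw [Bool.eq_false_iff]
  intro h
  simp only [failB, List.any_eq_true, Bool.not_eq_true', beq_eq_false_iff_ne, List.map_map] at h
  obtain ⟨j, hj, hne⟩ := h
  refine hne (Int.emod_eq_zero_of_dvd ?_)
  have hd := dot_four hw (AddSubgroup.subset_closure ⟨⟨j, tests_lt j hj⟩, rfl⟩ : vecOf (bv j) ∈ S)
  have e : dot w (vecOf (bv j)) = (l.map fun m => w m * (bv j).getD m.val 0).sum := by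
    rw [← List.sum_toFinset _ hnd, dot]
    refine (Finset.sum_subset (Finset.subset_univ _) fun m _ hm => ?_).symm
    rw [hsupp m (by simpa using hm), zero_mul]
  rw [e] at hd
  exact hd

theorem ne_eight {a : Fin 56 → ℤ} (ha : a ∈ S) : dot a a ≠ 8 := by
  classical
  intro h8
  have hterm : ∀ m, 0 ≤ a m * a m := fun m => mul_self_nonneg _
  let O : Finset (Fin 56) := Finset.univ.filter fun m => a m % 2 = 1
  have hO1 : ∀ m ∈ O, 1 ≤ a m * a m := fun m hm => by
    have : a m ≠ 0 := fun e => by simp [O, e] at hm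
    exact Int.add_one_le_iff.2 (mul_self_pos.2 this)
  have hOcard : O.card ≤ 8 := by
    have : (O.card : ℤ) ≤ dot a a := by
      calc (O.card : ℤ) = ∑ _m ∈ O, (1 : ℤ) := by simp
        _ ≤ ∑ m ∈ O, a m * a m := Finset.sum_le_sum hO1
        _ ≤ dot a a := Finset.sum_le_sum_of_subset_of_nonneg (Finset.subset_univ _) fun m _ _ => hterm m
    omega
  have hrec : ∀ (ps rs : List ℕ), (∀ i : Fin 56, ∀ p : Fin 56, ((bv i.val).getD p.val 0 - recon ps rs (bv i.val) p.val) % 2 = 0) →
      ∀ p : Fin 56, (a p - recon ps rs (listOf a) p.val) % 2 = 0 := by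
    intro ps rs hb p
    let φ : (Fin 56 → ℤ) →+ ℤ := AddMonoidHom.mk' (fun w => w p - recon ps rs (listOf w) p.val) (fun u w => by
      have : ∀ q, (listOf (u + w)).getD q 0 = (listOf u).getD q 0 + (listOf w).getD q 0 := fun q => by
        by_cases hq : q < 56
        · have := congrFun (vecOf_listOf (u + w)) ⟨q, hq⟩
          have h1 := congrFun (vecOf_listOf u) ⟨q, hq⟩
          have h2 := congrFun (vecOf_listOf w) ⟨q, hq⟩
          simp only [vecOf] at this h1 h2
          rw [this, h1, h2]; rfl
        · simp [listOf, List.getD_eq_getElem?_getD, hq]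
      simp only [recon, this, Pi.add_apply]
      rw [show (fun k => if (rs.getD k 0).testBit p.val then (listOf u).getD (ps.getD k 0) 0 + (listOf w).getD (ps.getD k 0) 0 else 0) =
        fun k => (if (rs.getD k 0).testBit p.val then (listOf u).getD (ps.getD k 0) 0 else 0) +
          (if (rs.getD k 0).testBit p.val then (listOf w).getD (ps.getD k 0) 0 else 0) from funext fun k => by split <;> simp,
        List.sum_map_add]
      ring)
    have hle : S ≤ (AddSubgroup.zmultiples (2 : ℤ)).comap φ := by
      rw [S, AddSubgroup.closure_le]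
      rintro _ ⟨i, rfl⟩
      have e : listOf (vecOf (bv i.val)) = bv i.val := by
        refine List.ext_getElem (by rw [listOf, List.length_ofFn, bv_len]) fun n h1 h2 => ?_
        simp only [listOf, List.getElem_ofFn, vecOf]
        rw [List.getD_eq_getElem _ _ h2]
      show φ (vecOf (bv i.val)) ∈ AddSubgroup.zmultiples (2 : ℤ)
      rw [Int.mem_zmultiples_iff]
      show 2 ∣ vecOf (bv i.val) p - recon ps rs (listOf (vecOf (bv i.val))) p.val
      rw [e]
      exact Int.dvd_of_emod_eq_zero (hb i p)
    have := hle ha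
    rw [AddSubgroup.mem_comap, Int.mem_zmultiples_iff] at this
    exact Int.emod_eq_zero_of_dvd this
  let T : List ℕ → List ℕ := fun ps => (List.range 19).filter fun k => decide ((listOf a).getD (ps.getD k 0) 0 % 2 = 1)
  have hmask : ∀ (ps rs : List ℕ), (∀ p : Fin 56, (a p - recon ps rs (listOf a) p.val) % 2 = 0) →
      ∀ p : Fin 56, (maskOf rs (T ps)).testBit p.val = decide (a p % 2 = 1) := by
    intro ps rs hr p
    have key : ∀ (l : List ℕ) (y : ℕ) (s : ℤ), y.testBit p.val = decide (s % 2 = 1) →
        ((l.filter fun k => decide ((listOf a).getD (ps.getD k 0) 0 % 2 = 1)).foldl (fun y k => y ^^^ rs.getD k 0) y).testBit p.val =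
          decide ((s + (l.map fun k => if (rs.getD k 0).testBit p.val then (listOf a).getD (ps.getD k 0) 0 else 0).sum) % 2 = 1) := by
      intro l
      induction l with
      | nil => intro y s h; simpa using h
      | cons k l ih =>
        intro y s h
        rw [List.map_cons, List.sum_cons, ← add_assoc]
        by_cases hk : (listOf a).getD (ps.getD k 0) 0 % 2 = 1
        · rw [List.filter_cons_of_pos (by simpa using hk), List.foldl_cons]
          refine ih _ _ ?_
          rw [Nat.testBit_xor, h]
          cases hb : (rs.getD k 0).testBit p.val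
          · simp
          · simp only [if_true, Bool.bne_true]
            rw [← decide_not]
            exact decide_eq_decide.2 (by omega)
        · rw [List.filter_cons_of_neg (by simpa using hk)]
          refine ih _ _ ?_
          rw [h]
          refine decide_eq_decide.2 ?_
          split <;> omega
    have := key (List.range 19) 0 0 (by simp)
    rw [zero_add] at this
    show (maskOf rs (T ps)).testBit p.val = _
    refine this.trans (decide_eq_decide.2 ?_)
    have := hr p
    show recon ps rs (listOf a) p.val % 2 = 1 ↔ _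
    omega
  obtain ⟨hlt, hnd, hl1, hl2⟩ := pos_check
  have hsum : (T RuData.pos1).length + (T RuData.pos2).length ≤ 8 := by
    let P : List ℕ → List ℕ := fun ps => ps.filter fun q => decide ((listOf a).getD q 0 % 2 = 1)
    have hTP : ∀ ps : List ℕ, ps.length = 19 → (T ps).length = (P ps).length := fun ps hl => by
      have e : ps = (List.range 19).map fun k => ps.getD k 0 := by
        refine List.ext_getElem (by rw [List.length_map, List.length_range, hl]) fun n h1 h2 => ?_
        rw [List.getElem_map, List.getElem_range, List.getD_eq_getElem _ _ h1]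
      conv_rhs => rw [show P ps = ps.filter _ from rfl, e, List.filter_map, List.length_map]
      rfl
    rw [hTP _ hl1, hTP _ hl2, ← List.length_append, ← List.filter_append,
      ← List.toFinset_card_of_nodup (hnd.filter _)]
    refine le_trans ?_ hOcard
    rw [← Finset.card_map ⟨Fin.val, Fin.val_injective⟩ (s := O)]
    refine Finset.card_le_card fun q hq => ?_
    rw [List.mem_toFinset, List.mem_filter, List.mem_append] at hq
    obtain ⟨hq1, hq2⟩ := hq
    have hq56 : q < 56 := by
      rcases hq1 with h | h <;> obtain ⟨n, hn, rfl⟩ := List.getElem_of_mem h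
      · have := (hlt ⟨n, hl1 ▸ hn⟩).1; rwa [List.getD_eq_getElem _ _ hn] at this
      · have := (hlt ⟨n, hl2 ▸ hn⟩).2; rwa [List.getD_eq_getElem _ _ hn] at this
    refine Finset.mem_map.2 ⟨⟨q, hq56⟩, ?_, rfl⟩
    have := congrFun (vecOf_listOf a) ⟨q, hq56⟩
    simp only [vecOf] at this
    simp only [decide_eq_true_eq, this] at hq2
    simpa [O] using hq2
  have hcase : ∃ rs, enumB rs = true ∧ ∃ ps, (∀ p : Fin 56, (maskOf rs (T ps)).testBit p.val = decide (a p % 2 = 1)) ∧ (T ps).length ≤ 4 := by
    rcases (show (T RuData.pos1).length ≤ 4 ∨ (T RuData.pos2).length ≤ 4 by omega) with h | h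
    · exact ⟨_, enum_check.1, _, hmask _ _ (hrec _ _ fun i p => (recon_check i p).1), h⟩
    · exact ⟨_, enum_check.2, _, hmask _ _ (hrec _ _ fun i p => (recon_check i p).2), h⟩
  obtain ⟨rs, hen, ps, hbit, hlen⟩ := hcase
  have h1 := List.all_eq_true.1 (List.all_eq_true.1 hen _ (List.mem_range.2 (show (T ps).length < 5 by omega))) (T ps)
    (List.mem_sublistsLen.2 ⟨List.filter_sublist .., rfl⟩)
  simp only [Bool.or_eq_true, decide_eq_true_eq, beq_iff_eq, List.any_eq_true, List.mem_range] at h1
  obtain ⟨y, hy⟩ : ∃ y, y = maskOf rs (T ps) := ⟨_, rfl⟩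
  rw [← hy] at h1 hbit
  rcases h1 with (h1 | h1) | ⟨k, hk, h1⟩
  · have hle : ((List.range 56).filter y.testBit).length ≤ O.card := by
      rw [← List.toFinset_card_of_nodup (List.nodup_range.filter _), ← Finset.card_map ⟨Fin.val, Fin.val_injective⟩ (s := O)]
      refine Finset.card_le_card fun q hq => ?_
      rw [List.mem_toFinset, List.mem_filter, List.mem_range] at hq
      obtain ⟨hq1, hq2⟩ := hq
      refine Finset.mem_map.2 ⟨⟨q, hq1⟩, ?_, rfl⟩
      have := hbit ⟨q, hq1⟩
      rw [hq2] at this
      simpa [O] using this.symm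
    omega
  · -- all coordinates even
    have heven : ∀ p, ∃ u, a p = 2 * u := fun p => by
      have := hbit p
      rw [h1, Nat.zero_testBit] at this
      have h' : ¬ a p % 2 = 1 := by simpa using this
      exact ⟨a p / 2, by omega⟩
    choose u hu using heven
    have h2 : ∑ m, u m * u m = 2 := by
      have : dot a a = 4 * ∑ m, u m * u m := by
        rw [dot, Finset.mul_sum]; exact Finset.sum_congr rfl fun m _ => by rw [hu m]; ring
      omega
    have hu2 : ∀ m, u m * u m ≤ 2 := fun m => h2 ▸ Finset.single_le_sum (fun i _ => mul_self_nonneg (u i)) (Finset.mem_univ m)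
    have hu1 : ∀ m, u m ≠ 0 → u m = 1 ∨ u m = -1 := fun m hm => by
      have := hu2 m
      have hb : -1 ≤ u m ∧ u m ≤ 1 := ⟨by nlinarith, by nlinarith⟩
      omega
    let U : Finset (Fin 56) := Finset.univ.filter fun m => u m ≠ 0
    have hU : U.card = 2 := by
      have : (U.card : ℤ) = ∑ m, u m * u m := by
        rw [Finset.card_filter, Nat.cast_sum]
        refine Finset.sum_congr rfl fun m _ => ?_
        by_cases hm : u m = 0
        · simp [hm]
        · rw [if_pos hm]; rcases hu1 m hm with e | e <;> simp [e]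
      omega
    obtain ⟨p, q, hpq, e⟩ := Finset.card_eq_two.1 hU
    wlog hlt' : p.val < q.val generalizing p q
    · exact this q p (Ne.symm hpq) (by rw [e, Finset.pair_comm]) (by have : p.val ≠ q.val := fun h => hpq (Fin.ext h); omega)
    have hp : u p ≠ 0 := by have : p ∈ U := by rw [e]; simp
                            simpa [U] using this
    have hq : u q ≠ 0 := by have : q ∈ U := by rw [e]; simp
                            simpa [U] using this
    have hsup : ∀ m, m ∉ [p, q] → a m = 0 := fun m hm => by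
      have : m ∉ U := by rw [e]; simpa using hm
      rw [hu m, show u m = 0 by simpa [U] using this, mul_zero]
    have hf := fail_sound ha (by simp [hpq]) hsup
    obtain ⟨f1, f2, f3, f4⟩ := fail_pairs p q hlt'
    simp only [List.map_cons, List.map_nil, hu p, hu q] at hf
    rcases hu1 p hp with x | x <;> rcases hu1 q hq with y | y <;> rw [x, y] at hf <;> simp_all
  · -- one block
    have hblk : ∀ p : Fin 56, y.testBit p.val = decide (8 * k ≤ p.val ∧ p.val < 8 * k + 8) := fun p => by
      rw [h1, Nat.testBit_shiftLeft, show (255 : ℕ) = 2 ^ 8 - 1 from rfl, Nat.testBit_two_pow_sub_one, ← Bool.decide_and]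
      exact decide_eq_decide.2 (by omega)
    let bp : Fin 8 → Fin 56 := fun i => ⟨8 * k + i.val, by omega⟩
    have hodd : ∀ i, a (bp i) % 2 = 1 := fun i => by
      have := hbit (bp i)
      rw [hblk] at this
      simpa [bp] using this.symm
    have hinj : Function.Injective bp := fun i j h => Fin.ext (by have := congrArg Fin.val h; simp [bp] at this; exact this)
    have hsplit : ∑ i, a (bp i) * a (bp i) + ∑ m ∈ (Finset.univ.map ⟨bp, hinj⟩)ᶜ, a m * a m = 8 := by
      rw [← h8, dot, ← Finset.sum_add_sum_compl (Finset.univ.map ⟨bp, hinj⟩), Finset.sum_map]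
      rfl
    have hge : ∀ i, 1 ≤ a (bp i) * a (bp i) := fun i => hO1 _ (by simp [O, hodd i])
    have hrest : 0 ≤ ∑ m ∈ (Finset.univ.map ⟨bp, hinj⟩)ᶜ, a m * a m := Finset.sum_nonneg fun m _ => hterm m
    have h8le : (8 : ℤ) ≤ ∑ i, a (bp i) * a (bp i) := by
      calc (8 : ℤ) = ∑ _i : Fin 8, (1 : ℤ) := by simp
        _ ≤ _ := Finset.sum_le_sum fun i _ => hge i
    have hzero : ∀ m, m ∉ List.ofFn bp → a m = 0 := fun m hm => by
      have hz : ∑ m ∈ (Finset.univ.map ⟨bp, hinj⟩)ᶜ, a m * a m = 0 := by omega
      have h0 := (Finset.sum_eq_zero_iff_of_nonneg fun m _ => hterm m).1 hz m (by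
        rw [Finset.mem_compl, Finset.mem_map]
        rintro ⟨i, -, rfl⟩
        exact hm (List.mem_ofFn.2 ⟨i, rfl⟩))
      exact mul_self_eq_zero.1 h0
    have hone : ∀ i, a (bp i) = 1 ∨ a (bp i) = -1 := fun i => by
      have : ∑ j, (a (bp j) * a (bp j) - 1) = 0 := by rw [Finset.sum_sub_distrib]; simp; omega
      have h0 := (Finset.sum_eq_zero_iff_of_nonneg fun j _ => by have := hge j; omega).1 this i (Finset.mem_univ i)
      exact mul_self_eq_one_iff.1 (by omega)
    obtain ⟨m, hm⟩ := exists_mask fun i => decide (a (bp i) ≠ 1)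
    have hf := fail_sound ha (List.nodup_ofFn.2 hinj) hzero
    have hfb := fail_blocks ⟨k, hk⟩ m
    have hlist : ((List.ofFn bp).map fun q => (q.val, a q)) = (List.range 8).map fun i => (8 * k + i, if m.val.testBit i then (-1 : ℤ) else 1) := by
      have key : ∀ i : Fin 8, a (bp i) = if m.val.testBit i.val then -1 else 1 := by
        intro i
        rw [hm i]
        rcases hone i with e | e <;> simp [e]
      refine List.ext_getElem (by simp) fun i h1 h2 => ?_
      simp only [List.length_map, List.length_range] at h2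
      simp only [List.getElem_map, List.getElem_ofFn, List.getElem_range]
      exact Prod.ext rfl (key ⟨i, h2⟩)
    rw [hlist] at hf
    exact absurd hf (by simp [hfb])

theorem main : (∀ x ∈ ruLattice, (8 : ℤ) ∣ ruNorm x) ∧ (∀ x ∈ ruLattice, ruNorm x ≠ 8) ∧
    (∀ x ∈ ruLattice, x ≠ 0 → 16 ≤ ruNorm x) ∧ ∃ x ∈ ruLattice, ruNorm x = 16 := by
  refine ⟨fun x hx => norm_eq x ▸ sq_eight (lattice_le hx), fun x hx => norm_eq x ▸ ne_eight (lattice_le hx),
    fun x hx hx0 => ?_, ruTable.getD 0 0, ?_, by decide +kernel⟩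
  · rw [norm_eq]
    obtain ⟨c, hc⟩ := sq_eight (lattice_le hx)
    have h8 := ne_eight (lattice_le hx)
    have hnn : 0 ≤ dot (rv x) (rv x) := Finset.sum_nonneg fun m _ => mul_self_nonneg _
    have hne : dot (rv x) (rv x) ≠ 0 := fun h => hx0 (by
      have : rv x = 0 := funext fun m => mul_self_eq_zero.1
        ((Finset.sum_eq_zero_iff_of_nonneg fun m _ => mul_self_nonneg (rv x m)).1 h m (Finset.mem_univ m))
      rw [← unrv_rv x, this]
      exact map_zero unrvHom)
    omega
  · rw [ruLattice, AddSubgroup.mem_sInf]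
    intro L hL
    refine hL.1 _ ?_
    rw [List.getD_eq_getElem _ _ (by rw [gen_check.2]; norm_num)]
    exact List.getElem_mem _

end CfsgLib.Spor.RuLattice
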