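import Cfsg.Agent.Lie.Refl
import Cfsg.Agent.Lie.OrthFull
import Cfsg.Agent.Spor.TransvectionClass
import Cfsg.Prelude.Def_SporadicB

/-!
Orthogonal transvections over the field with two elements form a class of 3-transpositions.
-/

set_option autoImplicit false
set_option linter.unusedSectionVars false

namespace CfsgLib.Spor.TransvectionOrth

open CfsgLib.Lie Matrix

local notation "K" => ZMod 2

variable {ι : Type} [Fintype ι] [DecidableEq ι] {Q : QuadraticForm K (ι → K)}

local notation "P" => QuadraticMap.polar (DFunLike.coe Q)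

theorem zmod2 : ∀ c : K, c = 0 ∨ c = 1 := by decide

/-- the transvection of a non-singular vector -/
noncomputable def rho (v : ι → K) (hv : Q v = 1) : Cfsg.isometryGroup K ⇑Q :=
  (Refl.refl_exists (by rw [hv]; exact one_ne_zero : Q v ≠ 0)).choose

theorem act_rho {v : ι → K} (hv : Q v = 1) (x : ι → K) : Refl.act Q (rho v hv) x = x + P v x • v := by
  rw [Refl.act, rho, (Refl.refl_exists (by rw [hv]; exact one_ne_zero : Q v ≠ 0)).choose_spec,
    Quad.reflection_mulVec, hv, inv_one, one_mul, sub_eq_add_neg, ← neg_smul, CharTwo.neg_eq]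

theorem polar_self' (v : ι → K) : P v v = 0 := by
  rw [QuadraticMap.polar_self, two_smul, CharTwo.add_self_eq_zero]

theorem rho_sq {v : ι → K} (hv : Q v = 1) : rho v hv * rho v hv = 1 := by
  refine Refl.act_ext fun x => ?_
  rw [Refl.act_mul, act_rho, act_rho, QuadraticMap.polar_add_right, QuadraticMap.polar_smul_right, polar_self',
    smul_zero, add_zero, Refl.act_one, add_assoc, ← add_smul, CharTwo.add_self_eq_zero, zero_smul, add_zero]

theorem rho_conj {v : ι → K} (hv : Q v = 1) (g : Cfsg.isometryGroup K ⇑Q) :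
    g * rho v hv * g⁻¹ = rho (Refl.act Q g v) (by rw [Refl.act_Q]; exact hv) := by
  refine Refl.act_ext fun x => ?_
  obtain ⟨y, rfl⟩ : ∃ y, Refl.act Q g y = x :=
    ⟨Refl.act Q g⁻¹ x, by rw [← Refl.act_mul, mul_inv_cancel, Refl.act_one]⟩
  rw [Refl.act_mul, Refl.act_inv, Refl.act_mul, act_rho, act_rho, Refl.act_polar]
  simp only [Refl.act, Matrix.mulVec_add, Matrix.mulVec_smul]

theorem rho_congr {u v : ι → K} (hu : Q u = 1) (hv : Q v = 1) (h : u = v) : rho u hu = rho v hv := by
  subst h; rfl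

theorem rank_rho (hQ : (QuadraticMap.polarBilin Q).Nondegenerate) {v : ι → K} (hv : Q v = 1) :
    ((((rho v hv) : GL ι K) : Matrix ι ι K) - 1).rank = 1 := by
  refine TransvectionClass.rank_eq_one (w := v) (fun x => ⟨_, act_rho hv x⟩) ?_
  have hv0 : v ≠ 0 := fun e => by rw [e, map_zero] at hv; exact zero_ne_one hv
  obtain ⟨y, hy⟩ : ∃ y, P v y ≠ 0 := by
    by_contra h; push Not at h; exact hv0 (hQ.1 v h)
  refine ⟨y, fun e => ?_⟩
  have e' : Refl.act Q (rho v hv) y = y := e
  rw [act_rho, (zmod2 (P v y)).resolve_left hy, one_smul, add_eq_left] at e'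
  exact hv0 e'

theorem eq_rho (hQ : (QuadraticMap.polarBilin Q).Nondegenerate) (g : Cfsg.isometryGroup K ⇑Q)
    (h : (((g : GL ι K) : Matrix ι ι K) - 1).rank = 1) : ∃ v, ∃ hv : Q v = 1, g = rho v hv := by
  obtain ⟨w, hw, hg⟩ := TransvectionClass.exists_line h
  obtain ⟨y, hy⟩ : ∃ y, P w y ≠ 0 := by
    by_contra k; push Not at k; exact hw (hQ.1 w k)
  have hy1 := (zmod2 (P w y)).resolve_left hy
  choose c hc using hg
  have hc' : ∀ x, Refl.act Q g x = x + c x • w := hc
  have key : ∀ a b, c b * P a w + c a * P w b = 0 := by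
    intro a b
    have h1 := Refl.act_polar g a b
    rw [hc', hc'] at h1
    simp only [QuadraticMap.polar_add_left, QuadraticMap.polar_add_right, QuadraticMap.polar_smul_left,
      QuadraticMap.polar_smul_right, polar_self', smul_eq_mul] at h1
    linear_combination h1
  have hcx : ∀ x, c x = c y * P w x := fun x => by
    have := key x y
    rw [hy1, mul_one, QuadraticMap.polar_comm (f := ⇑Q) x w] at this
    exact (eq_neg_of_add_eq_zero_right this).trans (CharTwo.neg_eq _)
  have hcy : c y = 1 := by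
    refine (zmod2 (c y)).resolve_left fun h0 => ?_
    have : g = 1 := Refl.act_ext fun x => by rw [hc', hcx, h0, zero_mul, zero_smul, add_zero, Refl.act_one]
    rw [this] at h
    simp at h
  have hw1 : Q w = 1 := by
    have h1 := Refl.act_Q g y
    rw [hc', hcy, one_smul, QuadraticMap.map_add (f := ⇑Q), QuadraticMap.polar_comm (f := ⇑Q) y w, hy1] at h1
    have h2 : Q w + 1 = 0 := by linear_combination h1
    exact (eq_neg_of_add_eq_zero_left h2).trans (CharTwo.neg_eq _)
  exact ⟨w, hw1, Refl.act_ext fun x => by rw [hc', hcx, hcy, one_mul, act_rho]⟩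

theorem exists_link (hQ : (QuadraticMap.polarBilin Q).Nondegenerate) (h5 : 5 ≤ Fintype.card ι) {u v : ι → K}
    (hu : Q u = 1) (hv : Q v = 1) (hne : u ≠ v) : ∃ z, Q z = 1 ∧ P u z = 1 ∧ P v z = 1 := by
  by_contra hall
  push Not at hall
  let S : (ι → K) →ₗ[K] K × K := (QuadraticMap.polarBilin Q u).prod (QuadraticMap.polarBilin Q v)
  have hS : ∀ x, S x = (P u x, P v x) := fun x => rfl
  have hu0 : u ≠ 0 := fun e => by rw [e, map_zero] at hu; exact zero_ne_one hu
  have hv0 : v ≠ 0 := fun e => by rw [e, map_zero] at hv; exact zero_ne_one hv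
  obtain ⟨z0, h1, h2⟩ : ∃ z, P u z = 1 ∧ P v z = 1 := by
    obtain ⟨a, ha⟩ : ∃ a, P u a = 1 := by
      by_contra h; push Not at h
      exact hu0 (hQ.1 u fun y => (zmod2 (P u y)).resolve_right (h y))
    obtain ⟨b, hb⟩ : ∃ b, P v b = 1 := by
      by_contra h; push Not at h
      exact hv0 (hQ.1 v fun y => (zmod2 (P v y)).resolve_right (h y))
    rcases zmod2 (P v a) with e | e
    · rcases zmod2 (P u b) with e' | e'
      · exact ⟨a + b, by rw [QuadraticMap.polar_add_right, ha, e', add_zero], by rw [QuadraticMap.polar_add_right, e, hb, zero_add]⟩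
      · exact ⟨b, e', hb⟩
    · exact ⟨a, ha, e⟩
  have hQA : ∀ k, P u k = 0 → P v k = 0 → Q (z0 + k) = 0 := fun k k1 k2 =>
    (zmod2 _).resolve_right fun h => hall (z0 + k) h
      (by rw [QuadraticMap.polar_add_right, h1, k1, add_zero]) (by rw [QuadraticMap.polar_add_right, h2, k2, add_zero])
  have hQ0 : Q z0 = 0 := by simpa using hQA 0 (QuadraticMap.polar_zero_right _ _) (QuadraticMap.polar_zero_right _ _)
  have hlin : ∀ k, P u k = 0 → P v k = 0 → Q k = P z0 k := fun k k1 k2 => by
    have h := hQA k k1 k2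
    rw [QuadraticMap.map_add (f := ⇑Q), hQ0, zero_add] at h
    exact (eq_neg_of_add_eq_zero_left h).trans (CharTwo.neg_eq _)
  let W := LinearMap.ker S
  have hW : ∀ x, x ∈ W ↔ P u x = 0 ∧ P v x = 0 := fun x => by
    rw [LinearMap.mem_ker, hS, Prod.mk_eq_zero]
  have hiso : W ≤ OrthFull.perpW Q W := by
    intro a ha b hb
    obtain ⟨a1, a2⟩ := (hW a).1 ha
    obtain ⟨b1, b2⟩ := (hW b).1 hb
    have h := hlin (b + a) (by rw [QuadraticMap.polar_add_right, b1, a1, add_zero])
      (by rw [QuadraticMap.polar_add_right, b2, a2, add_zero])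
    rw [QuadraticMap.map_add (f := ⇑Q), hlin b b1 b2, hlin a a1 a2, QuadraticMap.polar_add_right, add_eq_left] at h
    exact h
  have hd := OrthFull.finrank_perpW hQ W
  have hle := Submodule.finrank_mono hiso
  have hrk := LinearMap.finrank_range_add_finrank_ker S
  have hr2 : Module.finrank K (LinearMap.range S) ≤ 2 := (Submodule.finrank_le _).trans (by simp)
  rw [Module.finrank_fintype_fun_eq_card] at hrk
  change _ + Module.finrank K W = _ at hrk
  omega

theorem move (hQ : (QuadraticMap.polarBilin Q).Nondegenerate) (h5 : 5 ≤ Fintype.card ι) {u v : ι → K}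
    (hu : Q u = 1) (hv : Q v = 1) : ∃ g : Cfsg.isometryGroup K ⇑Q, Refl.act Q g u = v := by
  have one : ∀ {a b : ι → K}, Q a = 1 → Q b = 1 → P a b = 1 → ∃ g : Cfsg.isometryGroup K ⇑Q, Refl.act Q g a = b := by
    intro a b ha hb hab
    have hs : Q (a + b) = 1 := by rw [QuadraticMap.map_add (f := ⇑Q), ha, hb, hab]; decide
    refine ⟨rho (a + b) hs, ?_⟩
    rw [act_rho, QuadraticMap.polar_add_left, polar_self', QuadraticMap.polar_comm (f := ⇑Q) b a, hab, zero_add,
      one_smul, ← add_assoc]
    ext i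
    simp only [Pi.add_apply]
    rw [CharTwo.add_self_eq_zero, zero_add]
  by_cases hne : u = v
  · exact ⟨1, by rw [Refl.act_one, hne]⟩
  · obtain ⟨z, hz, hzu, hzv⟩ := exists_link hQ h5 hu hv hne
    obtain ⟨g, hg⟩ := one hu hz hzu
    obtain ⟨k, hk⟩ := one hz hv (by rw [QuadraticMap.polar_comm (f := ⇑Q)]; exact hzv)
    exact ⟨k * g, by rw [Refl.act_mul, hg, hk]⟩

theorem isClass (hQ : (QuadraticMap.polarBilin Q).Nondegenerate) (h5 : 5 ≤ Fintype.card ι) :
    Cfsg.IsThreeTranspositionClass {g : Cfsg.isometryGroup K ⇑Q | (((g : GL ι K) : Matrix ι ι K) - 1).rank = 1} := by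
  classical
  refine ⟨⟨fun g hg => ?_, fun g hg k hk => ?_⟩, ?_, ?_⟩
  · obtain ⟨v, hv, rfl⟩ := eq_rho hQ g hg
    refine orderOf_eq_prime (by rw [pow_two, rho_sq]) fun e => ?_
    have := rank_rho hQ hv
    rw [e] at this
    simp at this
  · obtain ⟨u, hu, rfl⟩ := eq_rho hQ g hg
    obtain ⟨v, hv, rfl⟩ := eq_rho hQ k hk
    refine TransvectionClass.braid (rho_sq hu) (rho_sq hv) ?_
    have hc : ∀ {a b : ι → K} (ha : Q a = 1) (hb : Q b = 1), rho a ha * rho b hb * rho a ha =
        rho (Refl.act Q (rho a ha) b) (by rw [Refl.act_Q]; exact hb) := fun {a b} ha hb => by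
      have h := rho_conj hb (rho a ha)
      rw [inv_eq_of_mul_eq_one_right (rho_sq ha)] at h
      exact h
    rcases zmod2 (P u v) with e | e
    · left
      have h := (hc hu hv).trans (rho_congr _ hv (by rw [act_rho, e, zero_smul, add_zero]))
      calc rho u hu * rho v hv = rho u hu * rho v hv * rho u hu * rho u hu := by
            rw [mul_assoc (rho u hu * rho v hv), rho_sq, mul_one]
        _ = rho v hv * rho u hu := by rw [h]
    · right
      rw [hc hu hv, hc hv hu]
      exact rho_congr _ _ (by rw [act_rho, act_rho, QuadraticMap.polar_comm (f := ⇑Q) v u, e, one_smul, one_smul, add_comm])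
  · obtain ⟨v, hv⟩ : ∃ v, Q v = 1 := by
      by_contra h; push Not at h
      obtain ⟨i⟩ : Nonempty ι := Fintype.card_pos_iff.1 (by omega)
      have h0 : ∀ x, Q x = 0 := fun x => (zmod2 _).resolve_right (h x)
      have : (Pi.single i 1 : ι → K) = 0 := hQ.1 _ fun y => by
        show P _ y = 0
        simp [QuadraticMap.polar, h0]
      simpa using congrFun this i
    refine ⟨rho v hv, rank_rho hQ hv, ?_⟩
    ext g
    constructor
    · intro hg
      obtain ⟨w, hw, rfl⟩ := eq_rho hQ g hg
      obtain ⟨a, ha⟩ := move hQ h5 hv hw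
      exact isConj_iff.2 ⟨a, (rho_conj hv a).trans (rho_congr _ hw ha)⟩
    · intro hg
      obtain ⟨a, rfl⟩ := isConj_iff.1 hg
      rw [rho_conj]
      exact rank_rho hQ _
  · rw [eq_top_iff, ← Refl.W_eq_top hQ (Or.inr (by omega))]
    refine Subgroup.closure_mono ?_
    rintro g ⟨v, hv, e⟩
    have hv' := (zmod2 (Q v)).resolve_left hv
    have : g = rho v hv' := Subtype.ext (Units.ext (e.trans
      (Refl.refl_exists (by rw [hv']; exact one_ne_zero : Q v ≠ 0)).choose_spec.symm))
    rw [this]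
    exact rank_rho hQ hv'

theorem isClass_fun {f : (ι → K) → K} (hf : f = ⇑Q) (hQ : (QuadraticMap.polarBilin Q).Nondegenerate)
    (h5 : 5 ≤ Fintype.card ι) :
    Cfsg.IsThreeTranspositionClass {g : Cfsg.isometryGroup K f | (((g : GL ι K) : Matrix ι ι K) - 1).rank = 1} := by
  subst hf; exact isClass hQ h5

end CfsgLib.Spor.TransvectionOrth
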