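import Cfsg.Agent.Spor.CosetData
import Cfsg.Agent.Spor.M24Sextets

/-!
Covering radius of the Golay code and its punctured code.
-/

set_option autoImplicit false

namespace CfsgLib.Spor

open Cfsg
open scoped Pointwise

/-- the check on one coset leader -/
def leaderOK (h v : ℕ) : Bool :=
  Nat.ble (pop v) 4 && (Nat.ble (pop (Nat.land v 8388607)) 3 &&
    (Nat.blt v 16777216 && Nat.beq (Nat.shiftRight (Nat.xor v (comboT v)) 12) h))

theorem leaders_ok : (leaders.zipIdx.all fun p => leaderOK p.2 p.1) = true ∧
    leaders.length = 4096 := by decide +kernel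

/-- every set is congruent modulo the code to a short one -/
theorem exists_leader (s : Finset GolayPt) : ∃ t : Finset GolayPt,
    t.card ≤ 4 ∧ (t.erase none).card ≤ 3 ∧ symmDiff s t ∈ Code := by
  obtain ⟨hall, hlen⟩ := leaders_ok
  set m := maskOf s with hm
  have hm24 : m < 2 ^ 24 := maskOf_lt s
  have hc : ∀ n, n < 2 ^ 24 → inCode (combo n) = true := fun n _ => by
    have := combo_mem_code n
    rw [mem_Code_iff] at this
    have hlt : combo n < 2 ^ 24 := by
      have key : ∀ (l : List ℕ) (j : ℕ), (∀ b ∈ l, b < 2 ^ 24) → comboAux l j n < 2 ^ 24 := by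
        intro l
        induction l with
        | nil => intro j _; simp [comboAux]
        | cons c l ih =>
          intro j hl
          refine Nat.xor_lt_two_pow ?_ (ih (j + 1) fun b hb => hl b (by simp [hb]))
          split
          · exact hl c (by simp)
          · norm_num
      exact key _ _ (by decide)
    rwa [maskOf_ofMask hlt] at this
  have hr : m ^^^ combo m < 2 ^ 24 := Nat.xor_lt_two_pow hm24 (inCode_lt (hc m hm24))
  set h := (m ^^^ combo m) >>> 12 with hh
  have hlt : h < leaders.length := by
    rw [hlen, hh, Nat.shiftRight_eq_div_pow]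
    exact Nat.div_lt_of_lt_mul (by simpa using hr)
  have hv := List.all_eq_true.1 hall (leaders[h], h)
    (List.mem_zipIdx_iff_getElem?.2 (List.getElem?_eq_getElem hlt))
  simp only [leaderOK, Bool.and_eq_true, Nat.ble_eq] at hv
  obtain ⟨h4, h3, hv24, he⟩ := hv
  have hv24' : leaders[h] < 2 ^ 24 := by simpa [Nat.blt_eq] using hv24
  refine ⟨ofMask (leaders[h]), by rwa [card_ofMask], ?_, ?_⟩
  · have e : (ofMask (leaders[h])).erase none = ofMask (Nat.land (leaders[h]) 8388607) := by
      rw [show Nat.land (leaders[h]) 8388607 = leaders[h] &&& 8388607 from rfl, ofMask_and]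
      rw [show ofMask 8388607 = Finset.univ.erase none from by decide +kernel]
      ext p; simp [and_comm]
    rw [e, card_ofMask]; exact h3
  · rw [← ofMask_maskOf s, ← hm, ← ofMask_xor, ofMask_mem_Code (Nat.xor_lt_two_pow hm24 hv24')]
    set v := leaders[h] with hv'
    have he' : (v ^^^ comboT v) >>> 12 = (m ^^^ combo m) >>> 12 := Nat.eq_of_beq_eq_true he
    rw [comboT_eq] at he'
    -- the two reductions agree on the low bits as well
    have hz : ∀ n, ∀ i, i < 12 → (n ^^^ combo n).testBit i = false := by
      intro n i hi
      have key : (List.range 12).all (fun i => (List.range 12).all fun j =>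
          (basisRows.getD j 0).testBit i == decide (i = j)) = true := by decide +kernel
      have hb : ∀ (l : List ℕ) (j : ℕ),
          (∀ k, k < l.length → (l.getD k 0).testBit i = decide (i = j + k)) →
          (comboAux l j n).testBit i = (decide (j ≤ i ∧ i < j + l.length) && n.testBit i) := by
        intro l
        induction l with
        | nil => intro j _; simp [comboAux]
        | cons c l ih =>
          intro j hk
          have h0 : c.testBit i = decide (i = j) := by simpa using hk 0 (by simp)
          have h1 := ih (j + 1) (fun k hk' => by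
            have := hk (k + 1) (by simpa using hk')
            simpa [Nat.add_comm, Nat.add_left_comm] using this)
          simp only [comboAux, Nat.testBit_xor, h1, List.length_cons]
          rcases lt_trichotomy i j with hij | rfl | hij
          · have a1 : ¬(j + 1 ≤ i) := by omega
            have a2 : ¬(j ≤ i) := by omega
            cases n.testBit j <;> simp [h0, a1, a2, ne_of_lt hij]
          · cases hb' : n.testBit i <;> simp [h0, hb']
          · have a1 : j + 1 ≤ i := hij
            have a2 : j ≤ i := le_of_lt hij
            have a3 : (i < j + 1 + l.length) ↔ (i < j + (l.length + 1)) := by omega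
            cases n.testBit j <;> simp [h0, a1, a2, a3, ne_of_gt hij]
      have hlenB : basisRows.length = 12 := rfl
      rw [Nat.testBit_xor, combo, hb basisRows 0 (fun k hk => by
        have := List.all_eq_true.1 (List.all_eq_true.1 key i (List.mem_range.2 hi)) k
          (List.mem_range.2 (hlenB ▸ hk))
        simpa using this)]
      simp [hlenB, hi]
    have hall' : v ^^^ combo v = m ^^^ combo m := by
      refine Nat.eq_of_testBit_eq fun i => ?_
      by_cases hi : i < 12
      · rw [hz v i hi, hz m i hi]
      · have := congrArg (fun x => x.testBit (i - 12)) he'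
        simpa [Nat.testBit_shiftRight, show 12 + (i - 12) = i by omega] using this
    have e : m ^^^ v = combo m ^^^ combo v := by
      refine Nat.eq_of_testBit_eq fun i => ?_
      have := congrArg (fun x => x.testBit i) hall'
      simp only [Nat.testBit_xor] at this ⊢
      revert this
      cases m.testBit i <;> cases v.testBit i <;> cases (combo m).testBit i <;>
        cases (combo v).testBit i <;> simp
    rw [e]
    exact inCode_xor (hc m hm24) (hc v hv24')

theorem congr_short_eq {t t' : Finset GolayPt} (h : symmDiff t t' ∈ Code)
    (hs : t.card + t'.card ≤ 7) : t = t' := by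
  have h1 := card_cases h
  have h2 := card_symmDiff_add t t'
  exact symmDiff_eq_bot.1 (Finset.card_eq_zero.1 (by omega))

theorem congr_tetrads {t u : Finset GolayPt} (ht : t.card = 4) :
    (u.card = 4 ∧ symmDiff t u ∈ Code) ↔
      ∀ S, S ∈ sextets → t ∈ S → u ∈ S := by
  constructor
  · rintro ⟨hu, hsd⟩ S hS htS
    by_cases hne : t = u
    · exact hne ▸ htS
    have h1 := card_cases hsd
    have h2 := card_symmDiff_add t u
    have h0 : (symmDiff t u).card ≠ 0 := fun h =>
      hne (symmDiff_eq_bot.1 (Finset.card_eq_zero.1 h))
    have h8 : (symmDiff t u).card = 8 := by omega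
    obtain ⟨g, hg, hgt⟩ := exists_smul_finset (s := t) (t := ofMask (sextX.headD 0))
      (by rw [ht]; norm_num) (by rw [ht, card_ofMask]; decide +kernel)
    have hgS := sextet_unique (smul_mem_sextets hg hS) (hgt ▸ Finset.smul_mem_smul_finset htS)
    have ho : g • symmDiff t u ∈ octads := smul_mem_octads hg ⟨hsd, h8⟩
    rw [smul_symmDiff_perm, hgt] at ho
    have key : octadList.all (fun o => sextX.headD 0 &&& o != sextX.headD 0 ||
        sextX.contains (o ^^^ sextX.headD 0)) = true := by decide +kernel
    have hm := (mem_octads_iff (maskOf_lt _)).1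
      (show ofMask (maskOf (symmDiff (ofMask (sextX.headD 0)) (g • u))) ∈ octads by
        rwa [ofMask_maskOf])
    have h := List.all_eq_true.1 key _ hm
    simp only [Bool.or_eq_true, bne_iff_ne, ne_eq, List.contains_iff_mem] at h
    have hd : Disjoint (ofMask (sextX.headD 0)) (g • u) := by
      rw [← hgt, Finset.disjoint_iff_inter_eq_empty, ← Finset.card_eq_zero, ← smul_inter_perm,
        card_smul_perm]
      omega
    rcases h with h | h
    · refine absurd ((ofMask_subset_iff (show sextX.headD 0 < 2 ^ 24 by decide +kernel)).1 ?_) h
      rw [ofMask_maskOf]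
      intro p hp
      exact Finset.mem_symmDiff.2 (Or.inl ⟨hp, Finset.disjoint_left.1 hd hp⟩)
    · have : g • u ∈ S0 := by
        simp only [S0, famDec, List.mem_toFinset, List.mem_map]
        refine ⟨_, h, ?_⟩
        rw [ofMask_xor, ofMask_maskOf, symmDiff_comm, ← symmDiff_assoc, symmDiff_self]
        exact bot_symmDiff _
      rw [← hgS, Finset.smul_mem_smul_finset_iff] at this
      exact this
  · intro h
    obtain ⟨S, ⟨hS, htS⟩, -⟩ := existsUnique_sextet ht
    have hu := h S hS htS
    refine ⟨hS.2.1 u hu, ?_⟩
    by_cases hne : t = u
    · rw [hne, symmDiff_self]; exact empty_mem_code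
    have ho := hS.2.2 t htS u hu hne
    have hd : Disjoint t u := by
      rw [Finset.disjoint_iff_inter_eq_empty, ← Finset.card_eq_zero]
      have := Finset.card_union_add_card_inter t u
      rw [ho.2, hS.2.1 t htS, hS.2.1 u hu] at this
      omega
    rw [Disjoint.symmDiff_eq_sup hd]
    exact ho.1

end CfsgLib.Spor
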