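import Cfsg.Agent.Spor.MTwentyTwoIndex
import Cfsg.Agent.Spor.M24Gens
import Mathlib

/-!
The projective group over 23 elements as a maximal subgroup of the group of the code.
-/

set_option autoImplicit false
set_option linter.unusedSectionVars false
set_option linter.style.haveILetI false

namespace CfsgLib.Spor.PslTwentyThree

open Cfsg MulAction Equiv CfsgLib.Spor CfsgLib.Spor.M24Elems CfsgLib.Spor.MTwentyTwoIndex

local instance : Fact (Nat.Prime 23) := ⟨by norm_num⟩

/-- translation and multiplication by squares -/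
abbrev genA : Set (Perm GolayPt) :=
  {Equiv.optionCongr (Equiv.addRight (1 : ZMod 23))} ∪
    {g : Perm GolayPt | ∃ u : (ZMod 23)ˣ, IsSquare u ∧ g = Equiv.optionCongr (Units.mulLeft u)}

/-- with the inversion -/
abbrev genP : Set (Perm GolayPt) :=
  {Equiv.optionCongr (Equiv.addRight (1 : ZMod 23)), projInv} ∪
    {g : Perm GolayPt | ∃ u : (ZMod 23)ˣ, IsSquare u ∧ g = Equiv.optionCongr (Units.mulLeft u)}

/-- affine maps -/
def Aff (σ : Perm GolayPt) : Prop :=
  ∃ a b : ZMod 23, a ^ 11 = 1 ∧ σ none = none ∧ ∀ x, σ (some x) = some (a * x + b)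

theorem aff_of_mem {σ : Perm GolayPt} (h : σ ∈ Subgroup.closure genA) : Aff σ := by
  induction h using Subgroup.closure_induction with
  | mem s hs =>
    rcases hs with hs | ⟨u, ⟨v, hv⟩, rfl⟩
    · rw [Set.mem_singleton_iff] at hs
      subst hs
      exact ⟨1, 1, one_pow _, rfl, fun x => by simp⟩
    · refine ⟨u, 0, ?_, rfl, fun x => by simp⟩
      rw [hv, Units.val_mul, ← pow_two, ← pow_mul]
      exact ZMod.pow_card_sub_one_eq_one v.ne_zero
  | one => exact ⟨1, 0, one_pow _, rfl, fun x => by simp⟩
  | mul s t _ _ hs ht =>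
    obtain ⟨a, b, ha, h0, hs⟩ := hs
    obtain ⟨c, d, hc, h1, ht⟩ := ht
    exact ⟨a * c, a * d + b, by rw [mul_pow, ha, hc, one_mul], by rw [Perm.mul_apply, h1, h0], fun x => by
      rw [Perm.mul_apply, ht, hs]; ring_nf⟩
  | inv s _ hs =>
    obtain ⟨a, b, ha, h0, hs⟩ := hs
    refine ⟨a ^ 10, -(a ^ 10 * b), by rw [← pow_mul, show 10 * 11 = 11 * 10 from rfl, pow_mul, ha, one_pow],
      by rw [Perm.inv_eq_iff_eq, h0], fun x => ?_⟩
    rw [Perm.inv_eq_iff_eq, hs, show a * (a ^ 10 * x + -(a ^ 10 * b)) + b = a ^ 11 * (x - b) + b by ring, ha,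
      one_mul, sub_add_cancel]

theorem genT_def : genT = Equiv.optionCongr (Equiv.addRight (1 : ZMod 23)) := rfl

theorem genT_some (x : ZMod 23) : genT (some x) = some (x + 1) := by simp [genT]

theorem genT_none : genT none = none := rfl

theorem genT_pow (n : ℕ) : (genT ^ n) none = none ∧ ∀ x, (genT ^ n) (some x) = some (x + n) := by
  induction n with
  | zero => simp
  | succ n ih =>
    refine ⟨by rw [pow_succ', Perm.mul_apply, ih.1, genT_none], fun x => ?_⟩
    rw [pow_succ', Perm.mul_apply, ih.2, genT_some, Nat.cast_succ, add_assoc]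

theorem orderOf_genT : orderOf genT = 23 := by
  refine orderOf_eq_prime ?_ fun e => ?_
  · refine Equiv.ext fun p => ?_
    cases p with
    | none => exact (genT_pow 23).1
    | some x => rw [(genT_pow 23).2, show ((23 : ℕ) : ZMod 23) = 0 from ZMod.natCast_self 23, add_zero]; rfl
  · have := congrArg (fun s : Perm GolayPt => s (some 0)) e
    simp only [genT_some, Perm.one_apply, Option.some.injEq] at this
    exact absurd this (by decide)

/-- doubling -/
def genD : Perm GolayPt := Equiv.optionCongr (Units.mulLeft (Units.mk0 (2 : ZMod 23) (by decide)))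

theorem genD_mem : genD ∈ Subgroup.closure genA := by
  refine Subgroup.subset_closure (Or.inr ⟨_, ⟨Units.mk0 (5 : ZMod 23) (by decide), ?_⟩, rfl⟩)
  exact Units.ext (by decide)

theorem orderOf_genD : orderOf genD = 11 := by
  haveI : Fact (Nat.Prime 11) := ⟨by norm_num⟩
  refine orderOf_eq_prime ?_ fun e => ?_
  · refine Equiv.ext ?_
    decide +kernel
  · exact absurd (congrArg (fun s : Perm GolayPt => s (some 1)) e) (by decide +kernel)

theorem card_A : Nat.card (Subgroup.closure genA) = 253 := by
  classical
  have hle : Nat.card (Subgroup.closure genA) ≤ 253 := by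
    have hch := fun σ : Subgroup.closure genA => aff_of_mem σ.2
    choose a b ha h0 hs using hch
    let F : Subgroup.closure genA → {a : ZMod 23 // a ^ 11 = 1} × ZMod 23 := fun σ => (⟨a σ, ha σ⟩, b σ)
    have hinj : Function.Injective F := fun σ τ e => by
      simp only [F, Prod.mk.injEq, Subtype.mk.injEq] at e
      refine Subtype.ext (Equiv.ext fun p => ?_)
      cases p with
      | none => rw [h0, h0]
      | some x => rw [hs, hs, e.1, e.2]
    refine (Nat.card_le_card_of_injective F hinj).trans (le_of_eq ?_)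
    rw [Nat.card_prod, Nat.card_zmod, Nat.card_eq_fintype_card,
      show Fintype.card {a : ZMod 23 // a ^ 11 = 1} = 11 by decide +kernel]
  have h23 : 23 ∣ Nat.card (Subgroup.closure genA) :=
    orderOf_genT ▸ Subgroup.orderOf_dvd_natCard _ (Subgroup.subset_closure (Or.inl rfl))
  have h11 : 11 ∣ Nat.card (Subgroup.closure genA) := orderOf_genD ▸ Subgroup.orderOf_dvd_natCard _ genD_mem
  have : 11 * 23 ∣ Nat.card (Subgroup.closure genA) :=
    Nat.Coprime.mul_dvd_of_dvd_of_dvd (by norm_num) h11 h23
  have := Nat.le_of_dvd Nat.card_pos this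
  omega

theorem genA_le : Subgroup.closure genA ≤ M24 ⊓ stabilizer (Perm GolayPt) (none : GolayPt) := by
  refine le_inf ((Subgroup.closure_le _).2 ?_) fun σ hσ => ?_
  · rintro σ (hσ | ⟨u, hu, rfl⟩)
    · rw [Set.mem_singleton_iff] at hσ
      exact hσ ▸ genT_mem
    · exact mulLeft_mem_M24 hu
  · obtain ⟨a, b, -, h0, -⟩ := aff_of_mem hσ
    exact h0

theorem genP_le : Subgroup.closure genP ≤ M24 := by
  rw [Subgroup.closure_le]
  rintro σ ((rfl | rfl) | ⟨u, hu, rfl⟩)
  exacts [genT_mem, projInv_mem, mulLeft_mem_M24 hu]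

/-- fractional maps -/
def frac (a b c d : ZMod 23) : GolayPt → GolayPt
  | none => if c = 0 then none else some (a / c)
  | some x => if c * x + d = 0 then none else some ((a * x + b) / (c * x + d))

theorem card_P_le : Nat.card (Subgroup.closure genP) ≤ 279841 := by
  classical
  have hinv : ∀ x : ZMod 23, x ≠ 0 → -(x ^ 21) = -x⁻¹ := by decide +kernel
  have hmem : ∀ σ ∈ Subgroup.closure genP, ∃ a b c d, ∀ p, σ p = frac a b c d p := by
    intro σ hσ
    rw [← Subgroup.mem_toSubmonoid, Subgroup.closure_toSubmonoid_of_finite] at hσ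
    induction hσ using Submonoid.closure_induction_right with
    | one => exact ⟨1, 0, 0, 1, fun p => by cases p <;> simp [frac]⟩
    | mul_right s _ g hg ih =>
      obtain ⟨a, b, c, d, hs⟩ := ih
      rcases hg with (rfl | rfl) | ⟨u, -, rfl⟩
      · refine ⟨a, a + b, c, c + d, fun p => ?_⟩
        cases p with
        | none => rw [Perm.mul_apply]; exact hs none
        | some x =>
          rw [Perm.mul_apply, ← genT_def, genT_some, hs]
          simp only [frac]
          rw [show c * (x + 1) + d = c * x + (c + d) by ring, show a * (x + 1) + b = a * x + (a + b) by ring]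
      · refine ⟨b, -a, d, -c, fun p => ?_⟩
        rw [Perm.mul_apply]
        cases p with
        | none =>
          show s (some 0) = _
          rw [hs]; simp [frac]
        | some x =>
          show s (if x = 0 then none else some (-(x ^ 21))) = _
          by_cases hx : x = 0
          · rw [if_pos hx, hs, hx]
            simp [frac, neg_div_neg_eq]
          · rw [if_neg hx, hs, hinv x hx]
            simp only [frac]
            have e : c * -x⁻¹ + d = (d * x + -c) * x⁻¹ := by field_simp; ring
            by_cases h0 : d * x + -c = 0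
            · rw [if_pos h0, if_pos (by rw [e, h0, zero_mul])]
            · rw [if_neg h0, if_neg (by rw [e]; exact mul_ne_zero h0 (inv_ne_zero hx))]
              congr 1
              rw [e, show a * -x⁻¹ + b = (b * x + -a) * x⁻¹ by field_simp; ring]
              exact mul_div_mul_right _ _ (inv_ne_zero hx)
      · refine ⟨a * u, b, c * u, d, fun p => ?_⟩
        cases p with
        | none =>
          rw [Perm.mul_apply]
          show s none = _
          rw [hs]
          simp only [frac]
          by_cases hc : c = 0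
          · simp [hc]
          · rw [if_neg hc, if_neg (mul_ne_zero hc u.ne_zero), mul_div_mul_right _ _ u.ne_zero]
        | some x =>
          rw [Perm.mul_apply]
          show s (some (u * x)) = _
          rw [hs]
          simp only [frac, mul_assoc]
  choose a b c d h using fun σ : Subgroup.closure genP => hmem σ σ.2
  let F : Subgroup.closure genP → (ZMod 23 × ZMod 23) × ZMod 23 × ZMod 23 := fun σ => ((a σ, b σ), c σ, d σ)
  have hinj : Function.Injective F := fun σ τ e => by
    simp only [F, Prod.mk.injEq] at e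
    obtain ⟨⟨e1, e2⟩, e3, e4⟩ := e
    exact Subtype.ext (Equiv.ext fun p => by rw [h, h, e1, e2, e3, e4])
  refine (Nat.card_le_card_of_injective F hinj).trans (le_of_eq ?_)
  simp only [Nat.card_prod, Nat.card_zmod]

theorem coprime_pow_eq {G : Type*} [Group G] {g t : G} {j : ℕ} (ht : t * t = 1) (h : t * g * t⁻¹ = g ^ j) :
    g ^ (j * j) = g := by
  rw [pow_mul, ← h, conj_pow, ← h, show t * (t * g * t⁻¹) * t⁻¹ = t * t * g * (t * t)⁻¹ by group, ht, one_mul, inv_one,
    mul_one]

theorem inverted {p q : GolayPt} (hpq : p ≠ q) {g t : M24} (hg : g ^ 11 = 1) (hg1 : g ≠ 1)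
    (ht : orderOf t = 2) (htp : t • p = p) (htq : t • q = q) (hgp : g • p = p) (hgq : g • q = q)
    (hc : t * g * t⁻¹ = g⁻¹) : False := by
  classical
  obtain ⟨c, -, h⟩ := inv_cases t.2 (by rw [Subgroup.orderOf_coe]; exact ht)
  have h8 : fixN (t : Perm GolayPt) = 8 := by
    rcases h with h | h
    · exact h.2
    · exact absurd htp ((free_iff _).2 h.2 p)
  let S : Finset GolayPt := (Finset.univ.filter fun a => (t : Perm GolayPt) a = a) \ {p, q}
  have hS : 6 ≤ S.card := by
    have := Finset.le_card_sdiff ({p, q} : Finset GolayPt) (Finset.univ.filter fun a => (t : Perm GolayPt) a = a)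
    rw [Finset.card_pair hpq, show (Finset.univ.filter fun a => (t : Perm GolayPt) a = a).card = 8 from h8] at this
    exact this
  have honly : ∀ a, (g : Perm GolayPt) a = a → a = p ∨ a = q := by
    intro a ha
    by_contra hc'
    push Not at hc'
    have hs : ({p, q, a} : Finset GolayPt) ⊆ Finset.univ.filter fun x => (g : Perm GolayPt) x = x := by
      intro b hb
      simp only [Finset.mem_insert, Finset.mem_singleton] at hb
      rcases hb with rfl | rfl | rfl <;> refine Finset.mem_filter.2 ⟨Finset.mem_univ _, ?_⟩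
      exacts [hgp, hgq, ha]
    have := Finset.card_le_card hs
    rw [Finset.card_eq_three.2 ⟨p, q, a, hpq, hc'.1.symm, hc'.2.symm, rfl⟩,
      show (Finset.univ.filter fun x => (g : Perm GolayPt) x = x).card = 2 from fixN_eleven hg hg1] at this
    omega
  have hinj : Set.InjOn (fun z : GolayPt × Fin 11 => (g ^ z.2.val) • z.1) ↑(S ×ˢ (Finset.univ : Finset (Fin 11))) := by
    rintro ⟨a, i⟩ hai ⟨b, k⟩ hbk e
    simp only [Finset.coe_product, Set.mem_prod, Finset.mem_coe, S, Finset.mem_sdiff, Finset.mem_filter,
      Finset.mem_univ, true_and, and_true, Finset.mem_insert, Finset.mem_singleton, not_or] at hai hbk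
    change g ^ i.val • a = g ^ k.val • b at e
    obtain ⟨m, hm⟩ : ∃ m : ℕ, g ^ m • a = b := ⟨i.val + (11 - k.val), by
      rw [add_comm, pow_add, mul_smul, e, ← mul_smul, ← pow_add, show 11 - k.val + k.val = 11 by omega, hg, one_smul]⟩
    have ht' : (g⁻¹) ^ m • a = b := by
      rw [← hc, conj_pow, mul_smul, mul_smul]
      have ha' : t⁻¹ • a = a := by rw [inv_smul_eq_iff]; exact hai.1.symm
      rw [ha', hm]
      exact hbk.1
    have h2m : g ^ (2 * m) • a = a := by
      rw [two_mul, pow_add, mul_smul, hm, ← ht', inv_pow, smul_inv_smul]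
    have h11 : m % 11 = 0 := by
      by_contra hm0
      have hco : Nat.Coprime (2 * m) 11 := by
        rw [Nat.coprime_comm, (by norm_num : Nat.Prime 11).coprime_iff_not_dvd]
        omega
      have hga : g • a = a := by
        obtain ⟨j, hj⟩ := Nat.exists_mul_mod_eq_one_of_coprime hco (by norm_num)
        have : g ^ (2 * m * j) = g := by
          conv_rhs => rw [← pow_one g, ← hj.2]
          rw [← pow_eq_pow_mod _ hg]
        rw [← this]
        clear this
        generalize hh : g ^ (2 * m) = u at h2m
        rw [pow_mul, hh]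
        clear hh hj
        induction j with
        | zero => simp
        | succ j ih => rw [pow_succ, mul_smul, h2m, ih]
      exact (honly a hga).elim hai.2.1 hai.2.2
    have hab : a = b := by
      rw [← hm, pow_eq_pow_mod m hg, h11, pow_zero, one_smul]
    subst hab
    refine Prod.ext rfl (Fin.ext ?_)
    by_contra hik
    replace hik : i.val ≠ k.val := hik
    have hga : g ^ ((i.val + (11 - k.val)) % 11) • a = a := by
      rw [← pow_eq_pow_mod _ hg, add_comm, pow_add, mul_smul, e, ← mul_smul, ← pow_add,
        show 11 - k.val + k.val = 11 by omega, hg, one_smul]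
    obtain ⟨r, hr, hr0⟩ : ∃ r, r = (i.val + (11 - k.val)) % 11 ∧ r ≠ 0 := ⟨_, rfl, by omega⟩
    rw [← hr] at hga
    have hco : Nat.Coprime r 11 := by
      rw [Nat.coprime_comm, (by norm_num : Nat.Prime 11).coprime_iff_not_dvd]
      omega
    obtain ⟨j, hj⟩ := Nat.exists_mul_mod_eq_one_of_coprime hco (by norm_num)
    have hg' : g • a = a := by
      have : g ^ (r * j) = g := by
        conv_rhs => rw [← pow_one g, ← hj.2]
        rw [← pow_eq_pow_mod _ hg]
      rw [← this]
      clear this
      generalize hh : g ^ r = u at hga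
      rw [pow_mul, hh]
      clear hh hj
      induction j with
      | zero => simp
      | succ j ih => rw [pow_succ, mul_smul, hga, ih]
    exact (honly a hg').elim hai.2.1 hai.2.2
  have := Finset.card_le_card_of_injOn (t := (Finset.univ : Finset GolayPt)) _ (fun _ _ => Finset.mem_univ _) hinj
  rw [Finset.card_product, Finset.card_univ, Finset.card_univ, Fintype.card_fin, card_pts] at this
  omega

theorem eleven_normalizer (L : Subgroup M24) (hfix : ∀ h ∈ L, h • (none : GolayPt) = none) (P : Sylow 11 L)
    (hP : Nat.card P = 11) :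
    Nat.card (Subgroup.normalizer ((P : Subgroup L) : Set L)) ∣ 55 := by
  classical
  haveI : Fact (Nat.Prime 11) := ⟨by norm_num⟩
  haveI : Fact (Nat.Prime 2) := ⟨Nat.prime_two⟩
  haveI : IsCyclic (P : Subgroup L) := isCyclic_of_prime_card hP
  obtain ⟨g0, hg0⟩ := exists_prime_orderOf_dvd_card' (G := (P : Subgroup L)) 11 (by rw [hP])
  let g : M24 := g0.1.1
  have hgo : orderOf g = 11 := by rw [Subgroup.orderOf_coe, Subgroup.orderOf_coe]; exact hg0
  have hg11 : g ^ 11 = 1 := hgo ▸ pow_orderOf_eq_one g
  have hg1 : g ≠ 1 := fun e => by rw [e, orderOf_one] at hgo; norm_num at hgo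
  have hgn : g • (none : GolayPt) = none := hfix _ g0.1.2
  obtain ⟨q, hq, hqn⟩ := Finset.exists_mem_ne (s := Finset.univ.filter fun a => (g : Perm GolayPt) a = a)
    (by have := fixN_eleven hg11 hg1; rw [fixN] at this; omega) none
  have hgq : g • q = q := (Finset.mem_filter.1 hq).2
  have honly : ∀ a, g • a = a → a = none ∨ a = q := by
    intro a ha
    by_contra hc'
    push Not at hc'
    have hs : ({none, q, a} : Finset GolayPt) ⊆ Finset.univ.filter fun x => (g : Perm GolayPt) x = x := by
      intro b hb
      simp only [Finset.mem_insert, Finset.mem_singleton] at hb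
      rcases hb with rfl | rfl | rfl <;> refine Finset.mem_filter.2 ⟨Finset.mem_univ _, ?_⟩
      exacts [hgn, hgq, ha]
    have := Finset.card_le_card hs
    rw [Finset.card_eq_three.2 ⟨none, q, a, Ne.symm hqn, hc'.1.symm, hc'.2.symm, rfl⟩,
      show (Finset.univ.filter fun x => (g : Perm GolayPt) x = x).card = 2 from fixN_eleven hg11 hg1] at this
    omega
  set N := Subgroup.normalizer ((P : Subgroup L) : Set L) with hN
  have hgen : ∀ v : L, v ∈ (P : Subgroup L) → ∃ i : ℕ, g0.1 ^ i = v := by
    intro v hv
    have htop : Subgroup.zpowers g0 = ⊤ := zpowers_eq_top_of_prime_card hP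
      (fun e => by rw [e, orderOf_one] at hg0; norm_num at hg0)
    have : (⟨v, hv⟩ : (P : Subgroup L)) ∈ Submonoid.powers g0 :=
      mem_powers_iff_mem_zpowers.2 (by rw [htop]; trivial)
    obtain ⟨i, hi⟩ := this
    exact ⟨i, congrArg Subtype.val hi⟩
  have hconj : ∀ n : N, ∃ i : ℕ, (n.1.1 : M24) * g * n.1.1⁻¹ = g ^ i := fun n => by
    obtain ⟨i, hi⟩ := hgen _ ((Subgroup.mem_normalizer_iff.1 n.2 g0.1).1 g0.2)
    exact ⟨i, (congrArg Subtype.val hi).symm⟩
  have hnq : ∀ n : N, (n.1.1 : M24) • q = q := by
    intro n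
    obtain ⟨i, hi⟩ := hconj n⁻¹
    have h1 : g • ((n.1.1 : M24) • q) = (n.1.1 : M24) • q := by
      have hgi : g ^ i • q = q := by
        clear hi
        induction i with
        | zero => simp
        | succ i ih => rw [pow_succ, mul_smul, hgq, ih]
      have hi' : (n.1.1 : M24)⁻¹ * g * n.1.1 = g ^ i := by simpa using hi
      rw [← inv_smul_eq_iff, ← mul_smul, ← mul_smul, hi', hgi]
    rcases honly _ h1 with e | e
    · exact absurd (MulAction.injective (n.1.1 : M24) (e.trans (hfix _ n.1.2).symm)) hqn
    · exact e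
  -- no involutions
  have hodd : ¬ 2 ∣ Nat.card N := by
    intro h2
    obtain ⟨t, ht⟩ := exists_prime_orderOf_dvd_card' (G := N) 2 h2
    have hto : orderOf (t.1.1 : M24) = 2 := by rw [Subgroup.orderOf_coe, Subgroup.orderOf_coe]; exact ht
    have htt : (t.1.1 : M24) * t.1.1 = 1 := by rw [← pow_two, ← hto]; exact pow_orderOf_eq_one _
    obtain ⟨i, hi⟩ := hconj t
    have hii := coprime_pow_eq htt hi
    rw [pow_eq_pow_mod _ hg11] at hi
    have hmod : i * i % 11 = 1 := by
      have : g ^ (i * i) = g ^ 1 := by rw [pow_one]; exact hii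
      have h2 := (pow_eq_pow_iff_modEq).1 this
      rw [hgo] at h2
      exact h2
    have hi' : i % 11 = 1 ∨ i % 11 = 10 := by
      rw [Nat.mul_mod] at hmod
      have := Nat.mod_lt i (show 11 > 0 by norm_num)
      generalize i % 11 = r at *
      interval_cases r <;> omega
    rcases hi' with e | e <;> rw [e] at hi
    · rw [pow_one, mul_inv_eq_iff_eq_mul] at hi
      exact no_involution (Ne.symm hqn) hg11 hg1 hto hgn hgq (hfix _ t.1.2) (hnq t) hi.symm
    · refine inverted (Ne.symm hqn) hg11 hg1 hto (hfix _ t.1.2) (hnq t) hgn hgq (hi.trans ?_)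
      exact (inv_eq_of_mul_eq_one_right (by rw [← pow_succ']; exact hg11)).symm
  -- the centraliser
  let C := (Subgroup.normalizerMonoidHom (P : Subgroup L)).ker
  have hC : ∀ r : ℕ, r.Prime → r ∣ Nat.card C → r = 11 := by
    intro r hr hd
    haveI := Fact.mk hr
    obtain ⟨t, ht⟩ := exists_prime_orderOf_dvd_card' (G := C) r hd
    have hr2 : r ≠ 2 := fun e => hodd (e ▸ hd.trans (Subgroup.card_subgroup_dvd_card C))
    have hto : orderOf (t.1.1.1 : M24) = r := by
      rw [Subgroup.orderOf_coe, Subgroup.orderOf_coe, Subgroup.orderOf_coe]; exact ht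
    have hcom : Commute g (t.1.1.1 : M24) := by
      have h1 := (Subgroup.normalizerMonoidHom_ker (P : Subgroup L)).le t.2
      rw [Subgroup.mem_subgroupOf] at h1
      exact congrArg Subtype.val (Subgroup.mem_centralizer_iff.1 h1 _ g0.2)
    let S : Finset GolayPt := Finset.univ.filter fun a => (t.1.1.1 : Perm GolayPt) a = a
    have hpow : (t.1.1.1 : M24) ^ r = 1 := hto ▸ pow_orderOf_eq_one _
    have hne : (t.1.1.1 : M24) ≠ 1 := fun e => by rw [e, orderOf_one] at hto; exact hr.ne_one hto.symm
    have hS : ∀ a, (g : Perm GolayPt) a ∈ S ↔ a ∈ S := by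
      intro a
      have e := congrArg (fun u : M24 => (u : Perm GolayPt) a) hcom.eq
      simp only [Subgroup.coe_mul, Perm.mul_apply] at e
      simp only [S, Finset.mem_filter, Finset.mem_univ, true_and, ← e]
      exact (g : Perm GolayPt).injective.eq_iff
    obtain ⟨k, hk⟩ := dvd_moved (r := 11) (by norm_num) g.1 (by simpa using congrArg Subtype.val hg11) S hS
    have hfix2 : (S.filter fun a => (g : Perm GolayPt) a = a) = {none, q} := by
      ext a
      simp only [S, Finset.mem_filter, Finset.mem_univ, true_and, Finset.mem_insert, Finset.mem_singleton]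
      refine ⟨fun h => honly a h.2, ?_⟩
      rintro (rfl | rfl)
      exacts [⟨hfix _ t.1.1.2, hgn⟩, ⟨hnq t.1, hgq⟩]
    have hsum := Finset.card_filter_add_card_filter_not (s := S) (fun a => (g : Perm GolayPt) a = a)
    rw [hfix2, Finset.card_pair (Ne.symm hqn)] at hsum
    simp only [ne_eq] at hk hsum
    have hScard : S.card = fixN (t.1.1.1 : Perm GolayPt) := rfl
    by_cases h3 : r = 3
    · obtain ⟨c, -, h⟩ := tri_cases (t.1.1.1 : M24).2 (by rw [Subgroup.orderOf_coe, hto, h3])
      rcases h with h | h <;> omega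
    have h48 : ¬ r ∣ 48 := by
      intro h
      have : r ∣ 2 ^ 4 * 3 := h
      rcases hr.dvd_mul.1 this with e | e
      · exact hr2 ((Nat.prime_dvd_prime_iff_eq hr Nat.prime_two).1 (hr.dvd_of_dvd_pow e))
      · exact h3 ((Nat.prime_dvd_prime_iff_eq hr Nat.prime_three).1 e)
    have hle := fixN_le hr h48 hpow hne
    obtain ⟨j, hj⟩ := fixN_modEq hr (t.1.1.1 : Perm GolayPt) (by simpa using congrArg Subtype.val hpow)
    have hd22 : r ∣ 2 * 11 := ⟨j, by omega⟩
    rcases hr.dvd_mul.1 hd22 with e | e
    · exact absurd ((Nat.prime_dvd_prime_iff_eq hr Nat.prime_two).1 e) hr2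
    · exact (Nat.prime_dvd_prime_iff_eq hr (by norm_num)).1 e
  have hC11 : Nat.card C ∣ 11 := by
    rcases Nat.eq_zero_or_pos (Nat.card C) with h | h
    · exact absurd h Nat.card_pos.ne'
    have hpow : ∃ a, Nat.card C = 11 ^ a := ⟨_, Nat.eq_prime_pow_of_unique_prime_dvd h.ne' (fun {d} hd hdC => hC d hd hdC)⟩
    obtain ⟨a, ha⟩ := hpow
    have hdvd : Nat.card C ∣ 244823040 := by
      rw [← card_M24]
      exact ((Subgroup.card_subgroup_dvd_card C).trans (Subgroup.card_subgroup_dvd_card N)).trans (Subgroup.card_subgroup_dvd_card L)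
    rw [ha] at hdvd ⊢
    rcases a with _ | _ | a
    · exact one_dvd _
    · exact dvd_rfl
    · have h121 : 11 ^ 2 ∣ 244823040 := (pow_dvd_pow 11 (by omega : 2 ≤ a + 1 + 1)).trans hdvd
      norm_num at h121
  have hr10 : Nat.card (Subgroup.normalizerMonoidHom (P : Subgroup L)).range ∣ 10 := by
    have h3 : Nat.card (MulAut (P : Subgroup L)) = 10 := by rw [IsCyclic.card_mulAut, hP]; rfl
    exact h3 ▸ Subgroup.card_subgroup_dvd_card _
  have hmul := C.card_mul_index
  rw [Subgroup.index_ker] at hmul
  have h110 : Nat.card N ∣ 55 * 2 := by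
    rw [← hmul, show 55 * 2 = 11 * 10 from rfl]; exact mul_dvd_mul hC11 hr10
  exact (((Nat.prime_two.coprime_iff_not_dvd).2 hodd).symm).dvd_of_dvd_mul_right h110

theorem stab_lemma (L : Subgroup M24) (hfix : ∀ h ∈ L, h • (none : GolayPt) = none)
    (hA : (Subgroup.closure genA).subgroupOf M24 ≤ L) : Nat.card L = 253 ∨ Nat.card L = 10200960 := by
  classical
  haveI : Fact (Nat.Prime 11) := ⟨by norm_num⟩
  haveI : Fact (Nat.Prime 2) := ⟨Nat.prime_two⟩
  have hAle : Subgroup.closure genA ≤ M24 := genA_le.trans inf_le_left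
  have hdA : 253 ∣ Nat.card L := by
    rw [← card_A, ← Nat.card_congr (Subgroup.subgroupOfEquivOfLe hAle).toEquiv]
    exact Subgroup.card_dvd_of_le hA
  have hdL : Nat.card L ∣ 10200960 := by
    rw [← card_stab_point (none : GolayPt)]
    exact Subgroup.card_dvd_of_le hfix
  obtain ⟨k, hk⟩ := hdA
  have hk' : k ∣ 40320 := by
    rw [hk] at hdL
    exact Nat.dvd_of_mul_dvd_mul_left (by norm_num : 0 < 253) hdL
  let T : L := ⟨⟨genT, genT_mem⟩, hA (Subgroup.subset_closure (Or.inl rfl) : genT ∈ Subgroup.closure genA)⟩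
  have hTo : orderOf T = 23 := by
    rw [← Subgroup.orderOf_coe, ← Subgroup.orderOf_coe]; exact orderOf_genT
  let X := Subgroup.zpowers T
  have hX : Nat.card X = 23 := by rw [Nat.card_zpowers, hTo]
  have hcardS : Nat.card X = 23 ^ (Nat.card L).factorization 23 := by
    have hkz : ¬ 23 ∣ k := fun h => absurd (h.trans hk') (by norm_num)
    have hk0 : k ≠ 0 := fun e => by rw [e] at hk'; norm_num at hk'
    rw [hX, hk, Nat.factorization_mul (by norm_num) hk0, show (253 : ℕ) = 23 * 11 by norm_num,
      Nat.factorization_mul (by norm_num) (by norm_num)]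
    simp [Nat.Prime.factorization (by norm_num : Nat.Prime 23), Nat.factorization_eq_zero_of_not_dvd, hkz]
  let S : Sylow 23 L := Sylow.ofCard X hcardS
  set N := Subgroup.normalizer (X : Set L) with hNd
  have hmod : N.index % 23 = 1 := by
    have h := card_sylow_modEq_one 23 L
    rw [Sylow.card_eq_index_normalizer S] at h
    exact h
  -- members of the normaliser are affine
  have haff : ∀ n : N, ∃ j b : ZMod 23, j ≠ 0 ∧ ∀ x, ((n.1.1 : M24) : Perm GolayPt) (some x) = some (j * x + b) := by
    intro n
    have hmem := (Subgroup.mem_normalizer_iff.1 n.2 T).1 (Subgroup.mem_zpowers T)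
    obtain ⟨i, hi⟩ := (mem_powers_iff_mem_zpowers).2 hmem
    have hi' : genT ^ i = ((n.1.1 : M24) : Perm GolayPt) * genT * ((n.1.1 : M24) : Perm GolayPt)⁻¹ :=
      congrArg (fun u : L => ((u : M24) : Perm GolayPt)) hi
    have hn0 : ((n.1.1 : M24) : Perm GolayPt) none = none := hfix _ n.1.2
    cases h0 : ((n.1.1 : M24) : Perm GolayPt) (some 0) with
    | none => exact absurd ((((n.1.1 : M24) : Perm GolayPt)).injective (h0.trans hn0.symm)) (by simp)
    | some b =>
      have hstep : ∀ x : ℕ, ((n.1.1 : M24) : Perm GolayPt) (some (x : ZMod 23)) = some ((i : ZMod 23) * x + b) := by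
        intro x
        induction x with
        | zero => simpa using h0
        | succ x ih =>
          have e := congrArg (fun u : Perm GolayPt => u (((n.1.1 : M24) : Perm GolayPt) (some (x : ZMod 23)))) hi'
          simp only [Perm.mul_apply, Perm.inv_def, Equiv.symm_apply_apply, genT_some] at e
          rw [Nat.cast_succ, ← e, ih, (genT_pow i).2]
          congr 1
          ring
      refine ⟨i, b, fun e => ?_, fun x => ?_⟩
      · have h1 := hstep 1
        rw [e, zero_mul, zero_add] at h1
        exact absurd ((((n.1.1 : M24) : Perm GolayPt)).injective (h1.trans h0.symm)) (by simp)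
      · have := hstep x.val
        rwa [ZMod.natCast_zmod_val] at this
  have hNle : Nat.card N ≤ 506 := by
    choose j b hj hs using haff
    let F : N → {j : ZMod 23 // j ≠ 0} × ZMod 23 := fun n => (⟨j n, hj n⟩, b n)
    have hinj : Function.Injective F := fun n m e => by
      simp only [F, Prod.mk.injEq, Subtype.mk.injEq] at e
      refine Subtype.ext (Subtype.ext (Subtype.ext (Equiv.ext fun p => ?_)))
      cases p with
      | none => exact (hfix _ n.1.2).trans (hfix _ m.1.2).symm
      | some x => rw [hs, hs, e.1, e.2]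
    refine (Nat.card_le_card_of_injective F hinj).trans (le_of_eq ?_)
    rw [Nat.card_prod, Nat.card_zmod, Nat.card_eq_fintype_card,
      show Fintype.card {j : ZMod 23 // j ≠ 0} = 22 by decide +kernel]
  have hodd : ¬ 2 ∣ Nat.card N := by
    intro h2
    obtain ⟨t, ht⟩ := exists_prime_orderOf_dvd_card' (G := N) 2 h2
    have hto : orderOf ((t.1.1 : M24) : Perm GolayPt) = 2 := by
      rw [Subgroup.orderOf_coe, Subgroup.orderOf_coe, Subgroup.orderOf_coe]; exact ht
    obtain ⟨c, -, hc⟩ := inv_cases (t.1.1 : M24).2 hto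
    obtain ⟨j, b, -, hs⟩ := haff t
    have hinv : ∀ x, j * (j * x + b) + b = x := fun x => by
      have e : ((t.1.1 : M24) : Perm GolayPt) * ((t.1.1 : M24) : Perm GolayPt) = 1 := by
        rw [← pow_two, ← hto]; exact pow_orderOf_eq_one _
      have h1 := congrArg (fun u : Perm GolayPt => u (some x)) e
      simp only [Perm.mul_apply, hs, Perm.one_apply, Option.some.injEq] at h1
      exact h1
    have hb : j * b + b = 0 := by simpa using hinv 0
    have hj2 : j * j = 1 := by linear_combination hinv 1 - hb
    have hj1 : ∀ j : ZMod 23, j * j = 1 → j = 1 ∨ j = -1 := by decide +kernel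
    rcases hj1 j hj2 with rfl | rfl
    · have hb0 : ∀ b : ZMod 23, 1 * b + b = 0 → b = 0 := by decide +kernel
      obtain rfl := hb0 b hb
      refine ne_one_of_order hto (by norm_num) (Equiv.ext fun p => ?_)
      cases p with
      | none => exact hfix _ t.1.2
      | some x => rw [hs]; simp
    · have hsol : ∀ x : ZMod 23, -1 * x + b = x ↔ x = 12 * b := by
        have : ∀ x b : ZMod 23, -1 * x + b = x ↔ x = 12 * b := by decide +kernel
        exact fun x => this x b
      have hfix2 : (Finset.univ.filter fun p => ((t.1.1 : M24) : Perm GolayPt) p = p) = {none, some (12 * b)} := by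
        ext p
        simp only [Finset.mem_filter, Finset.mem_univ, true_and, Finset.mem_insert, Finset.mem_singleton]
        cases p with
        | none => exact iff_of_true (hfix _ t.1.2) (Or.inl rfl)
        | some x => rw [hs]; simp [← hsol]
      have h2' : fixN ((t.1.1 : M24) : Perm GolayPt) = 2 := by
        rw [fixN, hfix2, Finset.card_pair (by simp)]
      rcases hc with h | h <;> omega
  have hAN : 253 ∣ Nat.card N := by
    have hsub : ((Subgroup.closure genA).subgroupOf M24).subgroupOf L ≤ N := by
      intro n hn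
      have key : ∀ u : L, ((u : M24) : Perm GolayPt) ∈ Subgroup.closure genA → ∀ v ∈ X, u * v * u⁻¹ ∈ X := by
        intro u hu v hv
        obtain ⟨a, b, -, h0, hs⟩ := aff_of_mem hu
        obtain ⟨i, rfl⟩ := Subgroup.mem_zpowers_iff.1 hv
        rw [← conj_zpow]
        refine Subgroup.zpow_mem _ ?_ i
        have e : u * T * u⁻¹ = T ^ a.val := by
          rw [mul_inv_eq_iff_eq_mul]
          refine Subtype.ext (Subtype.ext (Equiv.ext fun p => ?_))
          show ((u : M24) : Perm GolayPt) (genT p) = (genT ^ a.val) (((u : M24) : Perm GolayPt) p)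
          cases p with
          | none => rw [genT_none, h0, (genT_pow _).1]
          | some x => rw [genT_some, hs, hs, (genT_pow _).2, ZMod.natCast_zmod_val]; congr 1; ring
        rw [e]
        exact Subgroup.pow_mem _ (Subgroup.mem_zpowers T) _
      rw [hNd, Subgroup.mem_normalizer_iff]
      intro v
      refine ⟨key n hn v, fun hv => ?_⟩
      have := key n⁻¹ (inv_mem hn) _ hv
      simpa [mul_assoc] using this
    rw [← card_A, ← Nat.card_congr (Subgroup.subgroupOfEquivOfLe hAle).toEquiv,
      ← Nat.card_congr (Subgroup.subgroupOfEquivOfLe hA).toEquiv]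
    exact Subgroup.card_dvd_of_le hsub
  obtain ⟨i, hi⟩ := hAN
  have hN253 : Nat.card N = 253 := by
    have : i ≤ 2 := by omega
    have hpos : 0 < Nat.card N := Nat.card_pos
    interval_cases i
    · omega
    · omega
    · exact absurd ⟨253, by omega⟩ hodd
  have hNi := N.card_mul_index
  rw [hN253, hk] at hNi
  have hkmod : k % 23 = 1 := by rw [← Nat.eq_of_mul_eq_mul_left (by norm_num : 0 < 253) hNi]; exact hmod
  have hklist : k = 1 ∨ k = 24 ∨ k = 70 ∨ k = 576 ∨ k = 1680 ∨ k = 40320 := by
    have hmem : k / 23 ∈ (Finset.range 1754).filter (fun m => (23 * m + 1) ∣ 40320) := by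
      refine Finset.mem_filter.2 ⟨Finset.mem_range.2 ?_, ?_⟩
      · have := Nat.le_of_dvd (by norm_num) hk'
        omega
      · rwa [show 23 * (k / 23) + 1 = k by omega]
    rw [show (Finset.range 1754).filter (fun m => (23 * m + 1) ∣ 40320) = {0, 1, 3, 25, 73, 1753} from by decide +kernel] at hmem
    simp only [Finset.mem_insert, Finset.mem_singleton] at hmem
    omega
  let P : Sylow 11 L := default
  have hP : Nat.card P = 11 := by
    have hk0 : k ≠ 0 := fun e => by rw [e] at hk'; norm_num at hk'
    have hkz : ¬ 11 ∣ k := fun h => absurd (h.trans hk') (by norm_num)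
    rw [P.card_eq_multiplicity, hk, Nat.factorization_mul (by norm_num) hk0, show (253 : ℕ) = 11 * 23 by norm_num,
      Nat.factorization_mul (by norm_num) (by norm_num)]
    simp [Nat.Prime.factorization (by norm_num : Nat.Prime 11), Nat.factorization_eq_zero_of_not_dvd, hkz]
  have hd55 := eleven_normalizer L hfix P hP
  have h11N : 11 ∣ Nat.card (Subgroup.normalizer ((P : Subgroup L) : Set L)) :=
    (dvd_of_eq hP.symm).trans (Subgroup.card_dvd_of_le Subgroup.le_normalizer)
  set M := Subgroup.normalizer ((P : Subgroup L) : Set L) with hMd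
  have hM : Nat.card M = 11 ∨ Nat.card M = 55 := by
    obtain ⟨u, hu⟩ := h11N
    have h5 := hd55
    rw [hu, show 55 = 11 * 5 from rfl] at h5
    have : u ∣ 5 := Nat.dvd_of_mul_dvd_mul_left (by norm_num : 0 < 11) h5
    rcases (Nat.dvd_prime (by norm_num : Nat.Prime 5)).1 this with e | e <;> omega
  have hmul := M.card_mul_index
  have hmodM : M.index % 11 = 1 := by
    have h := card_sylow_modEq_one 11 L
    rw [Sylow.card_eq_index_normalizer P] at h
    exact h
  rw [hk] at hmul ⊢
  rcases hklist with e | e | e | e | e | e <;> rw [e] at hmul ⊢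
  · left; rfl
  all_goals first
    | (right; rfl)
    | (exfalso; rcases hM with e' | e' <;> rw [e'] at hmul <;> omega)

theorem main :
    (Subgroup.closure genP ≤ M24 ∧ Nat.card ↥(Subgroup.closure genP) = 6072 ∧
      IsCoatom ((Subgroup.closure genP).subgroupOf M24)) ∧
    (Subgroup.closure genA ≤ M24 ⊓ stabilizer (Perm GolayPt) (none : GolayPt) ∧
      Nat.card ↥(Subgroup.closure genA) = 253 ∧
      IsCoatom (((Subgroup.closure genA).subgroupOf M24).subgroupOf (stabilizer M24 (none : GolayPt)))) := by
  classical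
  have hAle : Subgroup.closure genA ≤ M24 := genA_le.trans inf_le_left
  have hAP : Subgroup.closure genA ≤ Subgroup.closure genP := Subgroup.closure_mono (by
    rintro σ (h | h)
    · exact Or.inl (Or.inl h)
    · exact Or.inr h)
  have cA : Nat.card ((Subgroup.closure genA).subgroupOf M24) = 253 := by
    rw [Nat.card_congr (Subgroup.subgroupOfEquivOfLe hAle).toEquiv, card_A]
  have hAst : (Subgroup.closure genA).subgroupOf M24 ≤ stabilizer M24 (none : GolayPt) := fun h hh => (genA_le hh).2
  -- transitive overgroups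
  have hover : ∀ L : Subgroup M24, (Subgroup.closure genP).subgroupOf M24 ≤ L → Nat.card L = 6072 ∨ L = ⊤ := by
    intro L hL
    have hT : (⟨genT, genT_mem⟩ : M24) ∈ L := hL (Subgroup.subset_closure (Or.inl (Or.inl rfl)) : genT ∈ Subgroup.closure genP)
    have hI : (⟨projInv, projInv_mem⟩ : M24) ∈ L := hL (Subgroup.subset_closure (Or.inl (Or.inr rfl)) : projInv ∈ Subgroup.closure genP)
    have horb : orbit L (none : GolayPt) = Set.univ := Set.eq_univ_of_forall fun p => by
      cases p with
      | none => exact mem_orbit_self _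
      | some x =>
        refine ⟨⟨_, mul_mem (pow_mem hT x.val) hI⟩, ?_⟩
        show (genT ^ x.val) (projInv none) = some x
        rw [show projInv none = some (0 : ZMod 23) from rfl, (genT_pow _).2, ZMod.natCast_zmod_val, zero_add]
    have hcard : Nat.card (stabilizer L (none : GolayPt)) * 24 = Nat.card L := by
      rw [← (stabilizer L (none : GolayPt)).card_mul_index, index_stabilizer, horb, Set.ncard_univ,
        Nat.card_eq_fintype_card (α := GolayPt), card_pts]
    let L0 := L ⊓ stabilizer M24 (none : GolayPt)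
    have hL0 : Nat.card L0 = Nat.card (stabilizer L (none : GolayPt)) :=
      Nat.card_congr
        { toFun := fun h => ⟨⟨h.1, h.2.1⟩, h.2.2⟩
          invFun := fun h => ⟨h.1.1, ⟨h.1.2, h.2⟩⟩
          left_inv := fun h => rfl
          right_inv := fun h => rfl }
    rcases stab_lemma L0 (fun h hh => hh.2) (le_inf (fun h hh => hL (hAP hh : h.1 ∈ Subgroup.closure genP)) hAst) with e | e
    · left; omega
    · right
      refine Subgroup.eq_top_of_card_eq _ ?_
      rw [card_M24]; omega
  have cP' : Nat.card ((Subgroup.closure genP).subgroupOf M24) = Nat.card (Subgroup.closure genP) :=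
    Nat.card_congr (Subgroup.subgroupOfEquivOfLe genP_le).toEquiv
  have hP : Nat.card (Subgroup.closure genP) = 6072 := by
    rcases hover _ le_rfl with e | e
    · rw [← cP', e]
    · exfalso
      rw [e, Subgroup.card_top, card_M24] at cP'
      have := card_P_le
      omega
  refine ⟨⟨genP_le, hP, ⟨fun e => ?_, fun L hL => ?_⟩⟩, genA_le, card_A, ⟨fun e => ?_, fun L hL => ?_⟩⟩
  · rw [e, Subgroup.card_top, card_M24, hP] at cP'
    norm_num at cP'
  · refine (hover L hL.le).resolve_left fun e => hL.ne ?_
    exact Subgroup.eq_of_le_of_card_ge hL.le (by rw [e, cP', hP])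
  · have := Nat.card_congr (Subgroup.subgroupOfEquivOfLe hAst).toEquiv
    rw [e, Subgroup.card_top, card_stab_point, cA] at this
    norm_num at this
  · let L' := L.map (stabilizer M24 (none : GolayPt)).subtype
    have hc : Nat.card L' = Nat.card L := Subgroup.card_map_of_injective (Subgroup.subtype_injective _)
    have hle : (Subgroup.closure genA).subgroupOf M24 ≤ L' := fun h hh => ⟨⟨h, hAst hh⟩, hL.le hh, rfl⟩
    rcases stab_lemma L' (by rintro _ ⟨h, -, rfl⟩; exact h.2) hle with e | e
    · refine absurd (Subgroup.eq_of_le_of_card_ge hL.le ?_) hL.ne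
      rw [Nat.card_congr (Subgroup.subgroupOfEquivOfLe hAst).toEquiv, cA, ← hc, e]
    · refine Subgroup.eq_top_of_card_eq _ ?_
      rw [← hc, e, card_stab_point]

end CfsgLib.Spor.PslTwentyThree
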