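import Mathlib

/-!
A 2-subgroup of the centraliser of a transvection of SL(5, 2) with trivial centraliser apart from
the transvection, and the consequence for groups with such an involution centraliser.
-/

set_option autoImplicit false

namespace CfsgLib.Spor.TransvectionSylow

open Matrix

abbrev SL5 : Type := Matrix.SpecialLinearGroup (Fin 5) (ZMod 2)

/-- the position of a coordinate in the order 0, 2, 3, 4, 1 -/
def rk : Fin 5 → ℕ := ![0, 4, 1, 2, 3]

theorem rk_injective : Function.Injective rk := by decide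

/-- unitriangular in the order given by `rk` -/
def Uni (M : Matrix (Fin 5) (Fin 5) (ZMod 2)) : Prop := ∀ i j, rk j ≤ rk i → M i j = if i = j then 1 else 0

theorem uni_one : Uni 1 := fun i j _ => by rw [Matrix.one_apply]

theorem uni_mul {M N : Matrix (Fin 5) (Fin 5) (ZMod 2)} (hM : Uni M) (hN : Uni N) : Uni (M * N) := by
  intro i j hij
  rw [Matrix.mul_apply, Finset.sum_eq_single i (fun k _ hk => ?_) (fun h => absurd (Finset.mem_univ i) h)]
  · rw [hM i i le_rfl, hN i j hij, if_pos rfl, one_mul]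
  · by_cases h1 : rk k ≤ rk i
    · rw [hM i k h1, if_neg (Ne.symm hk), zero_mul]
    · rw [hN k j (by omega), if_neg (fun e => by subst e; omega), mul_zero]

theorem uni_pow {M : Matrix (Fin 5) (Fin 5) (ZMod 2)} (hM : Uni M) : ∀ n : ℕ, Uni (M ^ n)
  | 0 => by rw [pow_zero]; exact uni_one
  | n + 1 => by rw [pow_succ]; exact uni_mul (uni_pow hM n) hM

theorem uni_pow_eight {M : Matrix (Fin 5) (Fin 5) (ZMod 2)} (hM : Uni M) : M ^ 8 = 1 := by
  have hk : ∀ (n : ℕ) (i j : Fin 5), ((M - 1) ^ n) i j ≠ 0 → rk i + n ≤ rk j := by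
    intro n
    induction n with
    | zero =>
      intro i j h
      rw [pow_zero, Matrix.one_apply] at h
      by_cases e : i = j
      · subst e; simp
      · simp [e] at h
    | succ n ih =>
      intro i j h
      rw [pow_succ, Matrix.mul_apply] at h
      obtain ⟨k, -, hk⟩ := Finset.exists_ne_zero_of_sum_ne_zero h
      have h1 := ih i k (left_ne_zero_of_mul hk)
      have h2 : ¬rk j ≤ rk k := fun hle => right_ne_zero_of_mul hk (by
        rw [Matrix.sub_apply, hM k j hle, Matrix.one_apply, sub_self])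
      omega
  have h8 : (M - 1) ^ (2 ^ 3) = 0 := by
    ext i j
    by_contra h
    have h1 := hk _ i j h
    have h2 : ∀ k, rk k ≤ 4 := by decide
    have := h2 j
    omega
  have h := add_pow_char_pow_of_commute 2 3 (Commute.one_right (M - 1))
  rw [sub_add_cancel, h8, one_pow, zero_add] at h
  exact h

/-- the group of matrices unitriangular in the order given by `rk` -/
def uni : Subgroup SL5 where
  carrier := {x | Uni x.1}
  one_mem' := uni_one
  mul_mem' := fun ha hb => uni_mul ha hb
  inv_mem' := fun {x} hx => by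
    have h8 : x ^ 8 = 1 := Subtype.ext (by rw [Matrix.SpecialLinearGroup.coe_pow]; exact uni_pow_eight hx)
    have e : x⁻¹ = x ^ 7 := inv_eq_of_mul_eq_one_right (by rw [← pow_succ']; exact h8)
    show Uni x⁻¹.1
    rw [e, Matrix.SpecialLinearGroup.coe_pow]
    exact uni_pow hx 7

theorem uni_pgroup : IsPGroup 2 uni := fun x => ⟨3, Subtype.ext (Subtype.ext (by
  rw [Subgroup.coe_pow, Matrix.SpecialLinearGroup.coe_pow]
  exact uni_pow_eight x.2))⟩

theorem uni_transvection {i j : Fin 5} (h : rk i < rk j) : Uni (transvection i j 1) := by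
  intro a b hab
  rw [transvection, Matrix.add_apply, Matrix.one_apply, Matrix.single_apply,
    if_neg (fun e : i = a ∧ j = b => by obtain ⟨rfl, rfl⟩ := e; omega), add_zero]

theorem uni_comm {M : Matrix (Fin 5) (Fin 5) (ZMod 2)} (hM : Uni M) :
    transvection 0 1 1 * M = M * transvection 0 1 1 := by
  ext a b
  have h1 : ∀ c, M 1 c = if (1 : Fin 5) = c then 1 else 0 :=
    fun c => hM 1 c (by fin_cases c <;> decide)
  have h0 : ∀ c, M c 0 = if c = (0 : Fin 5) then 1 else 0 :=
    fun c => hM c 0 (by fin_cases c <;> decide)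
  by_cases ha : a = 0 <;> by_cases hb : b = 1
  · subst ha; subst hb
    simp [h1, h0]
  · subst ha
    simp [hb, h1, Ne.symm hb]
  · subst hb
    simp [ha, h0]
  · simp [ha, hb]

/-- the transvection as a group element -/
def elem {i j : Fin 5} (h : i ≠ j) : SL5 :=
  ⟨transvection i j 1, det_transvection_of_ne i j h 1⟩

theorem centralizer_uni {x : SL5} (hx : ∀ u ∈ uni, u * x = x * u) :
    x.1 = 1 ∨ x.1 = transvection 0 1 1 := by
  have hE : ∀ i j : Fin 5, rk i < rk j →
      transvection i j 1 * x.1 = x.1 * transvection i j 1 := fun i j h =>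
    congrArg Subtype.val (hx (elem (fun e : i = j => by subst e; omega)) (uni_transvection h))
  have hcol : ∀ a b : Fin 5, a ≠ b → b ≠ 1 → x.1 a b = 0 := by
    intro a b hab hb
    have hlt : rk b < rk 1 := (by decide : ∀ b : Fin 5, b ≠ 1 → rk b < rk 1) b hb
    have := congrFun (congrFun (hE b 1 hlt) a) 1
    rw [transvection_mul_apply_of_ne _ _ _ _ hab, mul_transvection_apply_same, one_mul] at this
    exact left_eq_add.1 this
  have hrow : ∀ a : Fin 5, a ≠ 0 → a ≠ 1 → x.1 a 1 = 0 := by
    intro a ha ha1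
    have hlt : rk 0 < rk a := (by decide : ∀ a : Fin 5, a ≠ 0 → rk 0 < rk a) a ha
    have := congrFun (congrFun (hE 0 a hlt) 0) 1
    rw [transvection_mul_apply_same, mul_transvection_apply_of_ne _ _ _ _ (Ne.symm ha1), one_mul] at this
    exact add_eq_left.1 this
  have hdiag : ∀ b : Fin 5, b ≠ 1 → x.1 b b = x.1 1 1 := by
    intro b hb
    have hlt : rk b < rk 1 := (by decide : ∀ b : Fin 5, b ≠ 1 → rk b < rk 1) b hb
    have := congrFun (congrFun (hE b 1 hlt) b) 1
    rw [transvection_mul_apply_same, mul_transvection_apply_same, one_mul, one_mul] at this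
    exact (add_left_cancel this).symm
  have hne : x.1 1 1 ≠ 0 := by
    intro h
    have hz : ∀ b, x.1 1 b = 0 := fun b => by
      by_cases hb : b = 1
      · subst hb; exact h
      · exact hcol 1 b (Ne.symm hb) hb
    have hd : x.1.det = 1 := x.2
    rw [Matrix.det_eq_zero_of_row_eq_zero 1 hz] at hd
    exact zero_ne_one hd
  have h11 : x.1 1 1 = 1 := (show ∀ t : ZMod 2, t ≠ 0 → t = 1 by decide) _ hne
  have key : ∀ t : ZMod 2, x.1 0 1 = t → x.1 = transvection 0 1 t := by
    intro t ht
    ext a b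
    rw [transvection, Matrix.add_apply, Matrix.one_apply, Matrix.single_apply]
    by_cases hab : a = b
    · subst hab
      rw [if_pos rfl, if_neg (fun e : (0 : Fin 5) = a ∧ 1 = a => absurd (e.1.trans e.2.symm) (by decide)),
        add_zero]
      by_cases ha : a = 1
      · subst ha; exact h11
      · rw [hdiag a ha, h11]
    · rw [if_neg hab, zero_add]
      by_cases hb : b = 1
      · subst hb
        by_cases ha : a = 0
        · subst ha; rw [if_pos ⟨rfl, rfl⟩, ht]
        · rw [if_neg (fun e => ha e.1.symm), hrow a ha hab]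
      · rw [if_neg (fun e => hb e.2.symm), hcol a b hab hb]
  rcases (show ∀ t : ZMod 2, t = 0 ∨ t = 1 by decide) (x.1 0 1) with h | h
  · exact Or.inl ((key 0 h).trans (transvection_zero 0 1))
  · exact Or.inr (key 1 h)

theorem not_dvd_index_aux {G : Type*} [Group G] [Finite G] (s : SL5)
    (hs : (s : Matrix (Fin 5) (Fin 5) (ZMod 2)) = transvection 0 1 1) (z : G) (hz : orderOf z = 2)
    {C : Subgroup G} (hC : C = Subgroup.centralizer ({z} : Set G))
    {D : Subgroup SL5} (hD : D = Subgroup.centralizer ({s} : Set SL5))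
    (e : C ≃* D) (T : Sylow 2 C) :
    ¬2 ∣ ((T : Subgroup C).map C.subtype).index := by
  classical
  haveI : Fact (Nat.Prime 2) := ⟨Nat.prime_two⟩
  have memC : ∀ {g : G}, g ∈ C ↔ g * z = z * g := fun {g} => by
    rw [hC]; exact Subgroup.mem_centralizer_singleton_iff
  have memD : ∀ {g : SL5}, g ∈ D ↔ g * s = s * g := fun {g} => by
    rw [hD]; exact Subgroup.mem_centralizer_singleton_iff
  have hsD : s ∈ D := memD.2 rfl
  have huD : uni ≤ D := fun u hu => memD.2 (Subtype.ext (by
    rw [Matrix.SpecialLinearGroup.coe_mul, Matrix.SpecialLinearGroup.coe_mul, hs, uni_comm hu]))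
  have hzC : z ∈ C := memC.2 rfl
  have hcomm : ∀ c : C, z * c.1 = c.1 * z := fun c => (memC.1 c.2).symm
  let K : Subgroup C := (uni.subgroupOf D).comap e.toMonoidHom
  have hK : IsPGroup 2 K :=
    (uni_pgroup.comap_of_injective D.subtype D.subtype_injective).comap_of_injective e.toMonoidHom e.injective
  obtain ⟨T₁, hT₁⟩ := hK.exists_le_sylow
  have hcent : ∀ w : C, (∀ t ∈ (T : Subgroup C), t * w = w * t) → w = 1 ∨ w = e.symm ⟨s, hsD⟩ := by
    intro w hw
    obtain ⟨g, hg⟩ := MulAction.exists_smul_eq C T₁ T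
    have key : ∀ u ∈ uni, u * (e (g⁻¹ * w * g)).1 = (e (g⁻¹ * w * g)).1 * u := by
      intro u hu
      have h1 : g * e.symm ⟨u, huD hu⟩ * g⁻¹ ∈ (T : Subgroup C) := by
        rw [← hg]
        have h2 : e.symm ⟨u, huD hu⟩ ∈ (T₁ : Subgroup C) := hT₁ (by
          show e (e.symm ⟨u, huD hu⟩) ∈ uni.subgroupOf D
          rw [MulEquiv.apply_symm_apply]
          exact hu)
        exact ⟨_, h2, rfl⟩
      have h3 := hw _ h1
      have h4 : e.symm ⟨u, huD hu⟩ * (g⁻¹ * w * g) = g⁻¹ * w * g * e.symm ⟨u, huD hu⟩ := by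
        calc e.symm ⟨u, huD hu⟩ * (g⁻¹ * w * g) = g⁻¹ * (g * e.symm ⟨u, huD hu⟩ * g⁻¹ * w) * g := by group
          _ = g⁻¹ * (w * (g * e.symm ⟨u, huD hu⟩ * g⁻¹)) * g := by rw [h3]
          _ = _ := by group
      have h5 := congrArg (fun c : C => (e c).1) h4
      simpa using h5
    rcases centralizer_uni key with h | h
    · left
      have h1 : g⁻¹ * w * g = 1 := e.injective (by rw [map_one]; exact Subtype.ext (Subtype.ext h))
      calc w = g * (g⁻¹ * w * g) * g⁻¹ := by group
        _ = 1 := by rw [h1]; group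
    · right
      have h1 : g⁻¹ * w * g = e.symm ⟨s, hsD⟩ := e.injective (by
        rw [MulEquiv.apply_symm_apply]; exact Subtype.ext (Subtype.ext (h.trans hs.symm)))
      have h2 : g * e.symm ⟨s, hsD⟩ = e.symm ⟨s, hsD⟩ * g := e.injective (by
        rw [map_mul, map_mul, MulEquiv.apply_symm_apply]
        exact Subtype.ext (memD.1 (e g).2))
      calc w = g * (g⁻¹ * w * g) * g⁻¹ := by group
        _ = e.symm ⟨s, hsD⟩ := by rw [h1, h2, mul_inv_cancel_right]
  have hz1 : (⟨z, hzC⟩ : C) ≠ 1 := fun h => by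
    have : z = 1 := congrArg Subtype.val h
    rw [this, orderOf_one] at hz
    omega
  have hzs : e.symm ⟨s, hsD⟩ = (⟨z, hzC⟩ : C) :=
    (((hcent ⟨z, hzC⟩ fun t _ => Subtype.ext (hcomm t).symm).resolve_left hz1)).symm
  have hzT : (⟨z, hzC⟩ : C) ∈ (T : Subgroup C) := by
    have hn : (Subgroup.zpowers (⟨z, hzC⟩ : C)).Normal := by
      refine ⟨fun a ha g => ?_⟩
      obtain ⟨k, rfl⟩ := ha
      have hg : Commute g (⟨z, hzC⟩ : C) := Subtype.ext (hcomm g).symm
      exact ⟨k, (by rw [(hg.zpow_right k).eq, mul_inv_cancel_right])⟩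
    have hp : IsPGroup 2 (Subgroup.zpowers (⟨z, hzC⟩ : C)) := by
      refine IsPGroup.of_card (n := 1) ?_
      rw [Nat.card_zpowers, ← orderOf_injective C.subtype C.subtype_injective]
      exact hz
    haveI := hn
    obtain ⟨Q, hQ⟩ := hp.exists_le_sylow
    obtain ⟨g, hg⟩ := MulAction.exists_smul_eq C Q T
    rw [← hg]
    exact ⟨_, hQ (Subgroup.mem_zpowers _), by
      show g * ⟨z, hzC⟩ * g⁻¹ = _
      exact Subtype.ext (by
        show g.1 * z * g.1⁻¹ = z
        rw [← hcomm g, mul_inv_cancel_right])⟩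
  intro hdvd
  obtain ⟨n, hn⟩ := T.isPGroup'.exists_card_eq
  set T' := (T : Subgroup C).map C.subtype with hT'
  have hcardT : Nat.card T' = 2 ^ n := by
    rw [hT', Subgroup.card_map_of_injective C.subtype_injective]; exact hn
  obtain ⟨H, hH, hle⟩ := Sylow.exists_subgroup_card_pow_succ (n := n) (p := 2) (G := G) (by
    rw [← T'.index_mul_card, hcardT, pow_succ, mul_comm (2 ^ n)]
    exact Nat.mul_dvd_mul_right hdvd _) hcardT
  haveI : (T'.subgroupOf H).Normal := Subgroup.normal_of_index_eq_two (by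
    have h := (T'.subgroupOf H).index_mul_card
    rw [Nat.card_congr (Subgroup.subgroupOfEquivOfLe hle).toEquiv, hcardT, hH, pow_succ, mul_comm (2 ^ n)] at h
    exact Nat.eq_of_mul_eq_mul_right (by positivity) h)
  have hHC : H ≤ C := by
    intro k hk
    have hnorm : ∀ t ∈ T', k⁻¹ * t * k ∈ T' := fun t ht => by
      have h1 := ‹(T'.subgroupOf H).Normal›.conj_mem ⟨t, hle ht⟩ ht (⟨k, hk⟩ : H)⁻¹
      simpa [Subgroup.mem_subgroupOf] using h1
    have hzT' : z ∈ T' := ⟨_, hzT, rfl⟩
    have hmemC : k * z * k⁻¹ ∈ C := by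
      rw [memC]
      have h1 := ‹(T'.subgroupOf H).Normal›.conj_mem ⟨z, hle hzT'⟩ hzT' ⟨k, hk⟩
      obtain ⟨c, -, hc⟩ := h1
      have hc' : c.1 = k * z * k⁻¹ := hc
      rw [← hc']
      exact (hcomm c).symm
    have h2 := hcent ⟨k * z * k⁻¹, hmemC⟩ fun t ht => by
      obtain ⟨c, -, hc⟩ := hnorm t.1 ⟨t, ht, rfl⟩
      have hc' : c.1 = k⁻¹ * t.1 * k := hc
      apply Subtype.ext
      show t.1 * (k * z * k⁻¹) = k * z * k⁻¹ * t.1
      have h3 := hcomm c
      rw [hc'] at h3
      calc t.1 * (k * z * k⁻¹) = k * (k⁻¹ * t.1 * k * z) * k⁻¹ := by group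
        _ = k * (z * (k⁻¹ * t.1 * k)) * k⁻¹ := by rw [h3]
        _ = _ := by group
    rw [hzs] at h2
    have hz1' : z ≠ 1 := fun h => hz1 (Subtype.ext h)
    rcases h2 with h2 | h2
    · exact absurd (conj_eq_one_iff.1 (congrArg Subtype.val h2)) hz1'
    · rw [memC]
      exact mul_inv_eq_iff_eq_mul.1 (congrArg Subtype.val h2)
  have hp : IsPGroup 2 H := IsPGroup.of_card hH
  have heq := T.is_maximal' (hp.comap_of_injective C.subtype C.subtype_injective) fun t ht =>
    (hle ⟨t, ht, rfl⟩ : (t : G) ∈ H)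
  have hmap : (H.comap C.subtype).map C.subtype = H := by
    rw [Subgroup.map_comap_eq, Subgroup.range_subtype, inf_eq_right.2 hHC]
  rw [heq] at hmap
  rw [← hmap, ← hT', hcardT, pow_succ] at hH
  have : 0 < 2 ^ n := by positivity
  omega

theorem not_dvd_index {G : Type*} [Group G] [Finite G] (s : SL5)
    (hs : (s : Matrix (Fin 5) (Fin 5) (ZMod 2)) = transvection 0 1 1) (z : G) (hz : orderOf z = 2)
    (e : (Subgroup.centralizer ({z} : Set G)) ≃* Subgroup.centralizer ({s} : Set SL5))
    (T : Sylow 2 (Subgroup.centralizer ({z} : Set G))) :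
    ¬2 ∣ ((T : Subgroup (Subgroup.centralizer ({z} : Set G))).map
      (Subgroup.subtype (Subgroup.centralizer ({z} : Set G)))).index :=
  not_dvd_index_aux s hs z hz rfl rfl e T

end CfsgLib.Spor.TransvectionSylow
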