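import Cfsg.Agent.Spor.M24Simple
import Cfsg.Agent.Spor.M24Dodecads
import Cfsg.Agent.Spor.M24Octads
import Cfsg.Agent.Spor.Cosets
import Cfsg.Agent.Spor.M24ModulesData

/-!
Invariant families of subsets closed under symmetric difference, and invariant cosets of the code.
-/

set_option autoImplicit false

namespace CfsgLib.Spor.M24Modules

open Cfsg
open scoped Pointwise

/-- a family of subsets invariant under the group and closed under symmetric difference -/
structure Inv (F : Set (Finset GolayPt)) : Prop where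
  zero : ∅ ∈ F
  add : ∀ s ∈ F, ∀ t ∈ F, symmDiff s t ∈ F
  smul : ∀ σ ∈ M24, ∀ s ∈ F, σ • s ∈ F

variable {F : Set (Finset GolayPt)}

theorem sd_cancel (s t : Finset GolayPt) : symmDiff s (symmDiff s t) = t :=
  symmDiff_symmDiff_cancel_left _ _

theorem card_symmDiff_eq (s t : Finset GolayPt) :
    (symmDiff s t).card + 2 * (s ∩ t).card = s.card + t.card := by
  have := card_symmDiff_add s t
  omega

theorem smul_compl_perm (g : Equiv.Perm GolayPt) (s : Finset GolayPt) : g • sᶜ = (g • s)ᶜ := by
  ext p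
  obtain ⟨q, rfl⟩ := g.surjective p
  simp [mem_smul_iff]

theorem empty_sd (s : Finset GolayPt) : symmDiff ∅ s = s := bot_symmDiff s

theorem sd_empty (s : Finset GolayPt) : symmDiff s ∅ = s := symmDiff_bot s

theorem code_of_octad (hF : Inv F) {o : Finset GolayPt} (ho : o ∈ octads) (hoF : o ∈ F) :
    Code ⊆ F := by
  have hoct : ∀ o' ∈ octads, o' ∈ F := by
    intro o' ho'
    obtain ⟨g, hg⟩ := octads_transitive ho ho'
    exact hg ▸ hF.smul g g.2 o hoF
  have key : ∀ (l : List ℕ), (∀ b ∈ l, ofMask b ∈ F) → ∀ acc : List ℕ, (∀ m ∈ acc, ofMask m ∈ F) →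
      ∀ m ∈ l.foldl (fun acc b => acc ++ acc.map (fun w => w ^^^ b)) acc, ofMask m ∈ F := by
    intro l
    induction l with
    | nil => intro _ acc h m hm; exact h m hm
    | cons b l ih =>
      intro hl acc h
      refine ih (fun c hc => hl c (by simp [hc])) _ fun m hm => ?_
      rcases List.mem_append.1 hm with hm | hm
      · exact h m hm
      · obtain ⟨w, hw, rfl⟩ := List.mem_map.1 hm
        rw [ofMask_xor]
        exact hF.add _ (h w hw) _ (hl b (by simp))
  intro s hs
  rw [← ofMask_maskOf s]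
  refine key basisRows (fun b hb => hoct _ (basisRows_octads b hb)) [0] ?_ _
    (mem_wordList (mem_Code_iff.1 hs))
  intro m hm
  rw [List.mem_singleton.1 hm, ofMask_zero]
  exact hF.zero

theorem dodecad_pair : (wordList.any fun m => pop m == 12 && pop (dodX &&& m) == 8) = true ∧
    (octadList.any fun m => pop (octX &&& m) == 4) = true := by decide +kernel

theorem code_of_word (hF : Inv F) {s : Finset GolayPt} (hs : s ∈ Code) (hsF : s ∈ F)
    (h0 : s ≠ ∅) (h1 : s ≠ Finset.univ) : Code ⊆ F := by
  have hcard := card_cases hs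
  have hU : Fintype.card GolayPt = 24 := by simp [GolayPt]
  have h24 : s.card ≠ 24 := fun e => h1 (Finset.eq_univ_of_card _ (by rw [e, hU]))
  have h00 : s.card ≠ 0 := fun e => h0 (Finset.card_eq_zero.1 e)
  rcases (show s.card = 8 ∨ s.card = 12 ∨ s.card = 16 by omega) with h | h | h
  · exact code_of_octad hF ⟨hs, h⟩ hsF
  · obtain ⟨m, hm, hm'⟩ := List.any_eq_true.1 dodecad_pair.1
    simp only [Bool.and_eq_true, beq_iff_eq] at hm'
    have hd : ofMask m ∈ dodecads := mem_dodecads.2
      ⟨(ofMask_mem_Code (inCode_lt (List.all_eq_true.1 wordList_check m hm))).2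
        (List.all_eq_true.1 wordList_check m hm), by rw [card_ofMask, hm'.1]⟩
    obtain ⟨c, hc⟩ := dodecads_transitive D0_mem (mem_dodecads.2 ⟨hs, h⟩)
    obtain ⟨g, hg⟩ := dodecads_transitive (mem_dodecads.2 ⟨hs, h⟩)
      (smul_mem_dodecads c.2 hd)
    have hi : (s ∩ (c : Equiv.Perm GolayPt) • ofMask m).card = 8 := by
      rw [← hc]
      show ((c : Equiv.Perm GolayPt) • D0 ∩ (c : Equiv.Perm GolayPt) • ofMask m).card = 8
      rw [← smul_inter_perm, card_smul_perm, D0, ← ofMask_and, card_ofMask, hm'.2]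
    have hsd := card_symmDiff_eq s ((c : Equiv.Perm GolayPt) • ofMask m)
    rw [hi, h, card_smul_perm, hd.2] at hsd
    refine code_of_octad hF ⟨symmDiff_mem_code hs (smul_mem_dodecads c.2 hd).1, by omega⟩
      (hF.add _ hsF _ ?_)
    rw [← hg]
    exact hF.smul g g.2 s hsF
  · have hfull : (Finset.univ : Finset GolayPt) ∈ Code := by
      rw [← ofMask_FULL]
      exact (ofMask_mem_Code (by decide +kernel)).2 (by decide +kernel)
    have ho : sᶜ ∈ octads := by
      refine ⟨?_, by rw [Finset.card_compl, hU, h]⟩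
      have := symmDiff_mem_code hfull hs
      rwa [show symmDiff (Finset.univ : Finset GolayPt) s = sᶜ from top_symmDiff s] at this
    obtain ⟨m, hm, hm'⟩ := List.any_eq_true.1 dodecad_pair.2
    simp only [beq_iff_eq] at hm'
    obtain ⟨c, hc⟩ := octads_transitive O0_mem ho
    have hm8 := (mem_octads_iff (by simpa using List.all_eq_true.1 octadList_lt m hm)).2 hm
    have ho' := smul_mem_octads c.2 hm8
    obtain ⟨g, hg⟩ := octads_transitive ho ho'
    have hi : (sᶜ ∩ (c : Equiv.Perm GolayPt) • ofMask m).card = 4 := by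
      rw [← hc]
      show ((c : Equiv.Perm GolayPt) • O0 ∩ (c : Equiv.Perm GolayPt) • ofMask m).card = 4
      rw [← smul_inter_perm, card_smul_perm, O0, ← ofMask_and, card_ofMask, hm']
    have hsd := card_symmDiff_eq sᶜ ((c : Equiv.Perm GolayPt) • ofMask m)
    rw [hi, ho.2, ho'.2] at hsd
    have hmem : symmDiff s ((g : Equiv.Perm GolayPt) • s) ∈ F :=
      hF.add _ hsF _ (hF.smul g g.2 s hsF)
    have e : symmDiff s ((g : Equiv.Perm GolayPt) • s) =
        symmDiff sᶜ ((c : Equiv.Perm GolayPt) • ofMask m) := by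
      rw [← hg]
      show _ = symmDiff sᶜ ((g : Equiv.Perm GolayPt) • sᶜ)
      rw [smul_compl_perm, compl_symmDiff_compl]
    rw [e] at hmem
    exact code_of_octad hF ⟨symmDiff_mem_code ho.1 ho'.1, by omega⟩ hmem

theorem comboT_mod (m : ℕ) : comboT m = comboT (m &&& 4095) := by
  have h1 : m &&& 4095 &&& 63 = m &&& 63 := by rw [Nat.and_assoc]; rfl
  have h2 : (m &&& 4095) >>> 6 &&& 63 = m >>> 6 &&& 63 := by
    refine Nat.eq_of_testBit_eq fun i => ?_
    rw [show (4095 : ℕ) = 2 ^ 12 - 1 by norm_num, show (63 : ℕ) = 2 ^ 6 - 1 by norm_num]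
    simp only [Nat.testBit_and, Nat.testBit_shiftRight, Nat.testBit_two_pow_sub_one]
    by_cases h : i < 6 <;> simp [h]
    omega
  rw [comboT, comboT, h1, h2]

theorem comboT_low : (List.range 4096).all (fun n => Nat.beq (Nat.land (comboT n) 4095) n) = true := by
  decide +kernel

/-- the reduced representative of a coset -/
theorem reduced (m : ℕ) (hm : m < 2 ^ 24) :
    ∃ h, h < 4096 ∧ inCode (comboT m) = true ∧ m ^^^ comboT m = h <<< 12 := by
  have hlt : m &&& 4095 < 4096 := Nat.lt_succ_of_le Nat.and_le_right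
  have hlow : comboT m &&& 4095 = m &&& 4095 := by
    rw [comboT_mod]
    exact Nat.eq_of_beq_eq_true (List.all_eq_true.1 comboT_low _ (List.mem_range.2 hlt))
  have hc : inCode (comboT m) = true := by
    rw [inCode, beq_iff_eq, comboT_mod (comboT m), hlow, ← comboT_mod]
  have hr : (m ^^^ comboT m) &&& 4095 = 0 := by
    rw [Nat.and_xor_distrib_right, hlow, Nat.xor_self]
  refine ⟨(m ^^^ comboT m) >>> 12, ?_, hc, ?_⟩
  · rw [Nat.shiftRight_eq_div_pow]
    exact Nat.div_lt_of_lt_mul (by simpa using Nat.xor_lt_two_pow hm (inCode_lt hc))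
  · rw [show (4095 : ℕ) = 2 ^ 12 - 1 by norm_num, Nat.and_two_pow_sub_one_eq_mod] at hr
    rw [Nat.shiftLeft_eq, Nat.shiftRight_eq_div_pow]
    omega

theorem stabT_check :
    (stabT.all fun x => x.2.all fun g => g.ok && (inM24 g.P && Nat.beq (g.img x.1) x.1)) = true ∧
    (stabT.map fun x => pop x.1) = [1, 2, 3, 4] ∧
    (stabT.all fun x => (List.range 4096).all fun n =>
      Nat.beq (comboT n) 0 || (Nat.beq (comboT n) 16777215 ||
        x.2.any fun g => !Nat.beq (Nat.xor (comboT n) (g.img (comboT n))) 0 &&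
          !Nat.beq (Nat.xor (comboT n) (g.img (comboT n))) 16777215)) = true := by
  decide +kernel

theorem even_of_short (hF : Inv F) {t : Finset GolayPt} (ht : 1 ≤ t.card) (ht4 : t.card ≤ 4)
    (h : ∀ g ∈ M24, symmDiff t (g • t) ∈ F) : ∀ s : Finset GolayPt, Even s.card → s ∈ F := by
  classical
  have hU : Fintype.card GolayPt = 24 := by simp [GolayPt]
  obtain ⟨a, ha⟩ := Finset.card_pos.1 ht
  obtain ⟨b, -, hb⟩ := Finset.exists_mem_notMem_of_card_lt_card (s := t) (t := Finset.univ)
    (by rw [Finset.card_univ, hU]; omega)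
  have hab : a ≠ b := fun e => hb (e ▸ ha)
  have hpair : ({a, b} : Finset GolayPt) ∈ F := by
    have hc : t.card = (insert b (t.erase a)).card := by
      rw [Finset.card_insert_of_notMem (fun h => hb (Finset.mem_of_mem_erase h)),
        Finset.card_erase_of_mem ha]
      omega
    obtain ⟨g, hg, hgt⟩ := exists_smul_finset (by omega) hc
    have := h g hg
    rw [hgt] at this
    convert this using 1
    ext p
    simp only [Finset.mem_symmDiff, Finset.mem_insert, Finset.mem_erase, Finset.mem_singleton]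
    by_cases hpa : p = a
    · subst hpa; simp [ha, hab]
    by_cases hpb : p = b
    · subst hpb; simp [hb]
    simp [hpa, hpb]
  have hpairs : ∀ p q : GolayPt, p ≠ q → ({p, q} : Finset GolayPt) ∈ F := by
    intro p q hpq
    obtain ⟨g, hg, hgt⟩ := exists_smul_finset (s := ({a, b} : Finset GolayPt)) (t := {p, q})
      (by rw [Finset.card_pair hab]; norm_num) (by rw [Finset.card_pair hab, Finset.card_pair hpq])
    exact hgt ▸ hF.smul g hg _ hpair
  have key : ∀ n : ℕ, ∀ s : Finset GolayPt, s.card = 2 * n → s ∈ F := by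
    intro n
    induction n with
    | zero => intro s hs; rw [Finset.card_eq_zero.1 hs]; exact hF.zero
    | succ n ih =>
      intro s hs
      obtain ⟨p, hp⟩ := Finset.card_pos.1 (by omega : 0 < s.card)
      obtain ⟨q, hq⟩ := Finset.card_pos.1 (by rw [Finset.card_erase_of_mem hp]; omega : 0 < (s.erase p).card)
      have hne : p ≠ q := fun e => Finset.notMem_erase p s (by rw [← e] at hq; exact hq)
      have h2 := ih ((s.erase p).erase q) (by
        rw [Finset.card_erase_of_mem hq, Finset.card_erase_of_mem hp]; omega)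
      have := hF.add _ (hpairs p q hne) _ h2
      convert this using 1
      ext r
      have hq' := Finset.mem_of_mem_erase hq
      simp only [Finset.mem_symmDiff, Finset.mem_insert, Finset.mem_erase, Finset.mem_singleton]
      by_cases hrp : r = p
      · subst hrp; simp [hp]
      by_cases hrq : r = q
      · subst hrq; simp [hq', hrp]
      simp [hrp, hrq]
  intro s hs
  obtain ⟨n, hn⟩ := hs
  exact key n s (by omega)

theorem even_of_outside (hF : Inv F) {s : Finset GolayPt} (hs : s ∈ F) (hsc : s ∉ Code) :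
    ∀ u : Finset GolayPt, Even u.card → u ∈ F := by
  classical
  obtain ⟨t, ht4, -, hc⟩ := exists_leader s
  have ht1 : 1 ≤ t.card := by
    by_contra h
    rw [Finset.card_eq_zero.1 (by omega : t.card = 0)] at hc
    exact hsc (by rwa [show symmDiff s (∅ : Finset GolayPt) = s from symmDiff_bot s] at hc)
  obtain ⟨hst, hpop, hchk⟩ := stabT_check
  obtain ⟨x, hx, hxp⟩ : ∃ x ∈ stabT, pop x.1 = t.card := by
    have : t.card ∈ stabT.map fun x => pop x.1 := by
      rw [hpop]
      simp only [List.mem_cons, List.not_mem_nil, or_false]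
      omega
    simpa using this
  obtain ⟨g, hg, hgt⟩ := exists_smul_finset (s := t) (t := ofMask x.1) (by omega)
    (by rw [card_ofMask, hxp])
  set s' := g • s
  set t' := g • t
  have hs' : s' ∈ F := hF.smul g hg s hs
  have hc' : symmDiff s' t' ∈ Code := by
    rw [← smul_symmDiff_perm]
    exact smul_mem_code hg hc
  set c := symmDiff s' t' with hcdef
  have hcc := mem_Code_iff.1 hc'
  have hst' : s' = symmDiff c t' := by rw [hcdef, symmDiff_symmDiff_cancel_right]
  have hm : maskOf c = comboT (maskOf c &&& 4095) := by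
    rw [← comboT_mod]
    exact (beq_iff_eq.1 (show (comboT (maskOf c) == maskOf c) = true from hcc)).symm
  have h0 := List.all_eq_true.1 (List.all_eq_true.1 hchk x hx) (maskOf c &&& 4095)
    (List.mem_range.2 (Nat.lt_succ_of_le Nat.and_le_right))
  simp only [← hm, natBeq, Bool.or_eq_true, beq_iff_eq, List.any_eq_true, Bool.and_eq_true,
    Bool.not_eq_true', beq_eq_false_iff_ne] at h0
  rcases h0 with h0 | h0 | ⟨G, hG, h1, h2⟩
  · refine even_of_short hF (t := t') (by rw [card_smul_perm]; exact ht1)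
      (by rw [card_smul_perm]; exact ht4) fun h hh => ?_
    have e : c = ∅ := by rw [← ofMask_maskOf c, h0, ofMask_zero]
    rw [show t' = s' by rw [hst', e]; exact (bot_symmDiff t').symm]
    exact hF.add _ hs' _ (hF.smul h hh _ hs')
  · refine even_of_short hF (t := t') (by rw [card_smul_perm]; exact ht1)
      (by rw [card_smul_perm]; exact ht4) fun h hh => ?_
    have e : c = Finset.univ := by rw [← ofMask_maskOf c, h0, show (16777215 : ℕ) = FULL from rfl, ofMask_FULL]
    have h3 := hF.add _ hs' _ (hF.smul h hh _ hs')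
    rw [hst', e, smul_symmDiff_perm,
      show h • (Finset.univ : Finset GolayPt) = Finset.univ from Finset.smul_finset_univ,
      symmDiff_symmDiff_symmDiff_comm, symmDiff_self] at h3
    simpa [empty_sd, sd_empty] using h3
  · have hPM := List.all_eq_true.1 (List.all_eq_true.1 hst x hx) G hG
    simp only [Bool.and_eq_true, natBeq, beq_iff_eq] at hPM
    obtain ⟨hok, hM, hfix0⟩ := hPM
    have hfix : G.perm • t' = t' := by
      rw [hgt, GT.smul_ofMask hok, hfix0]
    have hGM : G.perm ∈ M24 := mkPerm_mem_M24 hM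
    have hd : symmDiff c (G.perm • c) ∈ F := by
      have h3 := hF.add _ hs' _ (hF.smul _ hGM _ hs')
      rw [hst', smul_symmDiff_perm, hfix, symmDiff_symmDiff_symmDiff_comm, symmDiff_self] at h3
      simpa [empty_sd, sd_empty] using h3
    have hdm : symmDiff c (G.perm • c) = ofMask (maskOf c ^^^ G.img (maskOf c) % 2 ^ 24) := by
      conv_lhs => rw [← ofMask_maskOf c, GT.smul_ofMask hok]
      rw [ofMask_xor, ofMask_mod]
    have himg : G.img (maskOf c) % 2 ^ 24 = G.img (maskOf c) := by
      refine Nat.mod_eq_of_lt ?_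
      have p : ∀ t x : ℕ, tab t x < 2 ^ 24 := fun t x => Nat.lt_succ_of_le Nat.and_le_right
      exact Nat.or_lt_two_pow (Nat.or_lt_two_pow (Nat.or_lt_two_pow (p _ _) (p _ _)) (p _ _)) (p _ _)
    rw [himg] at hdm
    have hlt : maskOf c ^^^ G.img (maskOf c) < 2 ^ 24 :=
      Nat.xor_lt_two_pow (maskOf_lt c) (himg ▸ Nat.mod_lt _ (by norm_num))
    have hsub := code_of_word hF (symmDiff_mem_code hc' (smul_mem_code hGM hc')) hd
      (by
        intro e
        rw [hdm, ← ofMask_zero] at e
        exact h1 ((ofMask_eq_ofMask hlt (by norm_num)).1 e))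
      (by
        intro e
        rw [hdm, ← ofMask_FULL] at e
        exact h2 ((ofMask_eq_ofMask hlt (by decide +kernel)).1 e))
    refine even_of_short hF (t := t') (by rw [card_smul_perm]; exact ht1)
      (by rw [card_smul_perm]; exact ht4) fun h hh => ?_
    have htF : t' ∈ F := by
      have := hF.add _ (hsub hc') _ hs'
      rwa [hst', sd_cancel] at this
    exact hF.add _ htF _ (hF.smul h hh _ htF)

/-! ### translation to vectors -/

theorem supp_comp (σ : Equiv.Perm GolayPt) (w : GolayPt → ZMod 2) :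
    support₂ (fun p => w (σ.symm p)) = σ • support₂ w := by
  ext p
  obtain ⟨q, rfl⟩ := σ.surjective p
  rw [mem_smul_iff, mem_supp, mem_supp, Equiv.symm_apply_apply]

theorem supp_zero : support₂ (0 : GolayPt → ZMod 2) = ∅ := by
  ext p; simp [mem_supp]

theorem supp_ones : support₂ (fun _ : GolayPt => (1 : ZMod 2)) = Finset.univ := by
  ext p; simp [mem_supp]

theorem sum_eq_card (w : GolayPt → ZMod 2) : ∑ p, w p = ((support₂ w).card : ZMod 2) := by
  have h : ∀ p, w p = if w p ≠ 0 then 1 else 0 := by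
    intro p
    have : ∀ a : ZMod 2, a = if a ≠ 0 then 1 else 0 := by decide
    exact this _
  rw [Finset.sum_congr rfl fun p _ => h p, Finset.sum_boole]
  congr 2

theorem classify (W : Submodule (ZMod 2) (GolayPt → ZMod 2))
    (hW : ∀ σ ∈ M24, ∀ w ∈ W, (fun p => w (σ.symm p)) ∈ W) :
    W = ⊥ ∨ W = Submodule.span (ZMod 2) {fun _ => (1 : ZMod 2)} ∨ W = golayCode ∨
      (W : Set (GolayPt → ZMod 2)) = {w | ∑ p, w p = 0} ∨ W = ⊤ := by
  classical
  let F : Set (Finset GolayPt) := support₂ '' (W : Set (GolayPt → ZMod 2))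
  have hmem : ∀ w, support₂ w ∈ F ↔ w ∈ W := fun w => supp_injective.mem_set_image
  have hF : Inv F := by
    refine ⟨⟨0, W.zero_mem, supp_zero⟩, ?_, ?_⟩
    · rintro _ ⟨v, hv, rfl⟩ _ ⟨w, hw, rfl⟩
      exact ⟨v + w, W.add_mem hv hw, supp_add v w⟩
    · rintro σ hσ _ ⟨w, hw, rfl⟩
      exact ⟨_, hW σ hσ w hw, supp_comp σ w⟩
  have two : ∀ a : ZMod 2, a = 0 ∨ a = 1 := by decide
  by_cases hle : W ≤ golayCode
  · by_cases hall : ∀ w ∈ W, w = 0 ∨ w = fun _ => 1
    · by_cases h1 : (fun _ : GolayPt => (1 : ZMod 2)) ∈ W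
      · refine Or.inr (Or.inl (le_antisymm (fun w hw => ?_) ?_))
        · rcases hall w hw with rfl | rfl
          · exact Submodule.zero_mem _
          · exact Submodule.subset_span rfl
        · rw [Submodule.span_le, Set.singleton_subset_iff]
          exact h1
      · refine Or.inl ((Submodule.eq_bot_iff W).2 fun w hw => ?_)
        rcases hall w hw with h | h
        · exact h
        · exact absurd (h ▸ hw) h1
    · push Not at hall
      obtain ⟨w, hw, h0, h1⟩ := hall
      refine Or.inr (Or.inr (Or.inl (le_antisymm hle fun v hv => (hmem v).1 ?_)))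
      refine code_of_word hF (mem_code_iff.1 (hle hw)) ((hmem w).2 hw) ?_ ?_ (mem_code_iff.1 hv)
      · intro e; exact h0 (supp_injective (e.trans supp_zero.symm))
      · intro e; exact h1 (supp_injective (e.trans supp_ones.symm))
  · obtain ⟨s, hs, hsc⟩ := SetLike.not_le_iff_exists.1 hle
    have heven := even_of_outside hF ((hmem s).2 hs) fun h => hsc (mem_code_iff.2 h)
    have hev : ∀ w : GolayPt → ZMod 2, ∑ p, w p = 0 → w ∈ W := by
      intro w hw
      rw [sum_eq_card, ZMod.natCast_eq_zero_iff_even] at hw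
      exact (hmem w).1 (heven _ hw)
    by_cases hodd : ∃ v ∈ W, ∑ p, v p ≠ 0
    · obtain ⟨v, hv, hv0⟩ := hodd
      refine Or.inr (Or.inr (Or.inr (Or.inr (Submodule.eq_top_iff'.2 fun w => ?_))))
      rcases two (∑ p, w p) with h | h
      · exact hev w h
      · have : w - v ∈ W := hev _ (by
          simp only [Pi.sub_apply, Finset.sum_sub_distrib, h, (two _).resolve_left hv0, sub_self])
        simpa using W.add_mem this hv
    · push Not at hodd
      exact Or.inr (Or.inr (Or.inr (Or.inl (Set.ext fun w => ⟨hodd w, hev w⟩))))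

theorem irreducible :
    (fun _ : GolayPt => (1 : ZMod 2)) ∈ golayCode ∧
      ∀ W : Submodule (ZMod 2) (GolayPt → ZMod 2), (fun _ => (1 : ZMod 2)) ∈ W → W ≤ golayCode →
        (∀ σ ∈ M24, ∀ w ∈ W, (fun p => w (σ.symm p)) ∈ W) →
        W = Submodule.span (ZMod 2) {fun _ => (1 : ZMod 2)} ∨ W = golayCode := by
  refine ⟨Submodule.subset_span (Or.inr rfl), fun W h1 hle hW => ?_⟩
  have hpair : ∀ w : GolayPt → ZMod 2, (support₂ w).card = 2 → w ∉ W := by
    intro w hw hm
    have := card_cases (mem_code_iff.1 (hle hm))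
    omega
  have hw2 : ∃ w : GolayPt → ZMod 2, (support₂ w).card = 2 := by
    refine ⟨fun p => if p ∈ ofMask 3 then 1 else 0, ?_⟩
    have e : support₂ (fun p : GolayPt => if p ∈ ofMask 3 then (1 : ZMod 2) else 0) = ofMask 3 := by
      ext p; simp [mem_supp]
    rw [e, card_ofMask]
    decide +kernel
  obtain ⟨w, hw⟩ := hw2
  rcases classify W hW with h | h | h | h | h
  · exfalso
    rw [h, Submodule.mem_bot] at h1
    exact one_ne_zero (congrFun h1 none)
  · exact Or.inl h
  · exact Or.inr h
  · refine absurd ?_ (hpair w hw)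
    show w ∈ (W : Set (GolayPt → ZMod 2))
    rw [h, Set.mem_setOf_eq, sum_eq_card, hw]
    rfl
  · exact absurd (h ▸ Submodule.mem_top) (hpair w hw)

/-! ### cosets fixed by a word stabiliser -/

/-- the check for one word and generators of its stabiliser -/
def cosetB (u : ℕ) (gs : List GT) : Bool :=
  gs.all (fun g => g.ok && (inM24 g.P && Nat.beq (g.img u) u)) &&
    (List.range 4096).all fun h => Nat.beq h 0 ||
      gs.any fun g => !inCode (Nat.xor (Nat.shiftLeft h 12) (g.img (Nat.shiftLeft h 12)))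

theorem coset_check : cosetB 0 (chainTop m24Chain) = true ∧
    cosetB FULL (chainTop m24Chain) = true ∧
    cosetB octX (chainTop octStab) = true ∧
    cosetB (FULL ^^^ octX) (chainTop octStab) = true ∧
    cosetB dodX (chainTop dodStab) = true := by decide +kernel

theorem moved_coset {u : ℕ} {gs : List GT} (h : cosetB u gs = true) {g : Equiv.Perm GolayPt}
    (hg : g ∈ M24) {U S : Finset GolayPt} (hU : g • U = ofMask u) (hS : S ∉ Code) :
    ∃ σ ∈ M24, σ • U = U ∧ symmDiff (σ • S) S ∉ Code := by
  simp only [cosetB, Bool.and_eq_true, List.all_eq_true, List.mem_range, Bool.or_eq_true,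
    List.any_eq_true, Bool.not_eq_true', natBeq, beq_iff_eq] at h
  obtain ⟨hgs, hcase⟩ := h
  have hgS : g • S ∉ Code := fun hh => hS (by
    have := smul_mem_code (inv_mem hg) hh
    rwa [inv_smul_smul] at this)
  obtain ⟨k, hk, hcm, hr⟩ := reduced _ (maskOf_lt (g • S))
  have hc : symmDiff (g • S) (ofMask (k <<< 12)) ∈ Code := by
    rw [← ofMask_maskOf (g • S), ← ofMask_xor, ← hr,
      show maskOf (g • S) ^^^ (maskOf (g • S) ^^^ comboT (maskOf (g • S))) =
        comboT (maskOf (g • S)) by rw [← Nat.xor_assoc, Nat.xor_self, Nat.zero_xor]]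
    exact (ofMask_mem_Code (inCode_lt hcm)).2 hcm
  have hk0 : k ≠ 0 := by
    rintro rfl
    refine hgS ?_
    rwa [show (0 : ℕ) <<< 12 = 0 from rfl, ofMask_zero, sd_empty] at hc
  obtain ⟨G, hG, hmove⟩ := (hcase k hk).resolve_left hk0
  obtain ⟨hok, hM, hGu⟩ := hgs G hG
  have hm : k <<< 12 < 2 ^ 24 := by rw [Nat.shiftLeft_eq]; omega
  refine ⟨g⁻¹ * G.perm * g, mul_mem (mul_mem (inv_mem hg) (mkPerm_mem_M24 hM)) hg, ?_, ?_⟩
  · rw [mul_smul, mul_smul, hU, GT.smul_ofMask hok, hGu, ← hU, inv_smul_smul]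
  · intro hcon
    have h1 := smul_mem_code hg hcon
    rw [smul_symmDiff_perm, mul_smul, mul_smul, smul_inv_smul] at h1
    have h2 := smul_mem_code (σ := G.perm) (mkPerm_mem_M24 hM) hc
    rw [smul_symmDiff_perm] at h2
    have h3 := symmDiff_mem_code (symmDiff_mem_code h1 h2) hc
    rw [symmDiff_symmDiff_symmDiff_comm (G.perm • g • S) (g • S), symmDiff_self, bot_symmDiff,
      symmDiff_comm (g • S) (G.perm • ofMask (k <<< 12)), symmDiff_assoc,
      symmDiff_symmDiff_cancel_left, GT.smul_ofMask hok, ← ofMask_xor, Nat.xor_comm] at h3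
    have hlt : G.img (k <<< 12) < 2 ^ 24 := by
      have p : ∀ t x : ℕ, tab t x < 2 ^ 24 := fun t x => Nat.lt_succ_of_le Nat.and_le_right
      exact Nat.or_lt_two_pow (Nat.or_lt_two_pow (Nat.or_lt_two_pow (p _ _) (p _ _)) (p _ _)) (p _ _)
    exact Bool.noConfusion
      (((ofMask_mem_Code (Nat.xor_lt_two_pow hm hlt)).1 h3).symm.trans hmove)

theorem word_coset (u : GolayPt → ZMod 2) (hu : u ∈ golayCode) (w : GolayPt → ZMod 2)
    (hw : w ∉ golayCode) :
    ∃ σ ∈ M24, (fun p => u (σ.symm p)) = u ∧ (fun p => w (σ.symm p)) - w ∉ golayCode := by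
  obtain ⟨c1, c2, c3, c4, c5⟩ := coset_check
  have hU := mem_code_iff.1 hu
  have hS : support₂ w ∉ Code := fun h => hw (mem_code_iff.2 h)
  have hcard := card_cases hU
  have hfull : Fintype.card GolayPt = 24 := by simp [GolayPt]
  have hC : ∀ s t : Finset GolayPt, s ∈ Code → t ∈ Code → symmDiff s t ∈ Code :=
    fun _ _ => symmDiff_mem_code
  obtain ⟨σ, hσ, h1, h2⟩ : ∃ σ ∈ M24, σ • support₂ u = support₂ u ∧
      symmDiff (σ • support₂ w) (support₂ w) ∉ Code := by
    rcases (show (support₂ u).card = 0 ∨ (support₂ u).card = 8 ∨ (support₂ u).card = 12 ∨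
        (support₂ u).card = 16 ∨ (support₂ u).card = 24 by omega) with h | h | h | h | h
    · exact moved_coset c1 (one_mem _) (by rw [one_smul, Finset.card_eq_zero.1 h, ofMask_zero]) hS
    · obtain ⟨g, hg⟩ := octads_transitive (mem_octads.2 ⟨hU, h⟩) O0_mem
      exact moved_coset c3 g.2 hg hS
    · obtain ⟨g, hg⟩ := dodecads_transitive (mem_dodecads.2 ⟨hU, h⟩) D0_mem
      exact moved_coset c5 g.2 hg hS
    · have hcF : (support₂ u)ᶜ ∈ octads := by
        refine ⟨?_, by rw [Finset.card_compl, hfull, h]⟩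
        rw [show (support₂ u)ᶜ = symmDiff Finset.univ (support₂ u) from (top_symmDiff _).symm]
        refine hC _ _ ?_ hU
        show (Finset.univ : Finset GolayPt) ∈ Code
        rw [← supp_ones]
        exact ⟨_, Submodule.subset_span (Or.inr rfl), rfl⟩
      obtain ⟨g, hg⟩ := octads_transitive hcF O0_mem
      refine moved_coset c4 g.2 ?_ hS
      have hg' : (g : Equiv.Perm GolayPt) • (support₂ u)ᶜ = O0 := hg
      rw [← compl_compl (support₂ u), ofMask_xor, ofMask_FULL,
        show symmDiff (Finset.univ : Finset GolayPt) (ofMask octX) = (ofMask octX)ᶜ from top_symmDiff _,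
        smul_compl_perm, hg', O0]
    · exact moved_coset c2 (one_mem _)
        (by rw [one_smul, ofMask_FULL]; exact Finset.eq_univ_of_card _ (by rw [h, hfull])) hS
  refine ⟨σ, hσ, supp_injective ((supp_comp σ u).trans h1), fun hcon => h2 ?_⟩
  have e : (fun p => w (σ.symm p)) - w = (fun p => w (σ.symm p)) + w := by
    funext p
    have : ∀ a b : ZMod 2, a - b = a + b := by decide
    exact this _ _
  rw [e, mem_code_iff, supp_add, supp_comp] at hcon
  exact hcon

end CfsgLib.Spor.M24Modules
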