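import Cfsg.Agent.Spor.M24Elems
import Cfsg.Agent.Spor.FamilyTools
import Cfsg.Agent.Spor.M24Sextets
import Cfsg.Agent.Spor.M24Trios
import Cfsg.Agent.Spor.M24Dodecads

/-!
Consequences of the classification of the small elements: fixed points, invariant structures,
the centraliser of the free involution and the normaliser of an element of order seven.
-/

set_option autoImplicit false

namespace CfsgLib.Spor.M24Elems

open Cfsg
open scoped Pointwise

/-- the number of fixed points -/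
def fixN (g : Equiv.Perm GolayPt) : ℕ := (Finset.univ.filter fun p => g p = p).card

theorem fix_conj (c g : Equiv.Perm GolayPt) :
    (Finset.univ.filter fun p => (c * g * c⁻¹) p = p) =
      c • Finset.univ.filter fun p => g p = p := by
  ext q
  obtain ⟨p, rfl⟩ := c.surjective q
  rw [mem_smul_iff, Finset.mem_filter, Finset.mem_filter]
  simp

theorem fixN_conj (c g : Equiv.Perm GolayPt) : fixN (c * g * c⁻¹) = fixN g := by
  rw [fixN, fix_conj, Finset.card_smul_finset, fixN]

theorem apply_eq_iff {P : ℕ} (h : okP P = true) {i : ℕ} (hi : i < 24) :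
    mkPerm P (pt i) = pt i ↔ app P i = i := by
  constructor
  · intro e
    have := congrArg num e
    rwa [num_mkPerm h, num_pt hi] at this
  · intro e
    exact num_injective (by rw [num_mkPerm h, num_pt hi, e])

theorem fixN_mkPerm {P : ℕ} (h : okP P = true) :
    fixN (mkPerm P) = (List.range 24).countP (fun i => app P i == i) := by
  have e : (Finset.univ.filter fun p => mkPerm P p = p) =
      ((List.range 24).filter fun i => app P i == i).toFinset.image pt := by
    ext p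
    simp only [Finset.mem_filter, Finset.mem_univ, true_and, Finset.mem_image, List.mem_toFinset,
      List.mem_filter, List.mem_range, beq_iff_eq]
    constructor
    · intro hp
      refine ⟨num p, ⟨num_lt p, ?_⟩, pt_num p⟩
      rw [← apply_eq_iff h (num_lt p), pt_num]
      exact hp
    · rintro ⟨i, ⟨hi, he⟩, rfl⟩
      exact (apply_eq_iff h hi).2 he
  rw [fixN, e, Finset.card_image_of_injOn, List.toFinset_card_of_nodup (List.nodup_range.filter _),
    List.countP_eq_length_filter]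
  intro i hi j hj he
  simp only [List.coe_toFinset, Set.mem_setOf_eq, List.mem_filter, List.mem_range] at hi hj
  have := congrArg num he
  rwa [num_pt hi.1, num_pt hj.1] at this

theorem rep_check :
    (inM24 repT8 && inM24 repT0 && inM24 repR6 && inM24 repR0 && inM24 repS) = true ∧
    ((List.range 24).countP fun i => app repT8 i == i) = 8 ∧
    ((List.range 24).countP fun i => app repT0 i == i) = 0 ∧
    ((List.range 24).countP fun i => app repR6 i == i) = 6 ∧
    ((List.range 24).countP fun i => app repR0 i == i) = 0 ∧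
    ((List.range 24).all fun i => app repT8 (app repT8 i) == i && app repT0 (app repT0 i) == i &&
      app repR6 (app repR6 (app repR6 i)) == i && app repR0 (app repR0 (app repR0 i)) == i) = true ∧
    octadList.contains ((List.range 24).foldl
      (fun acc i => if app repT8 i == i then acc ||| (1 <<< i) else acc) 0) = true := by
  decide +kernel

theorem rep_mem : inM24 repT8 = true ∧ inM24 repT0 = true ∧ inM24 repR6 = true ∧
    inM24 repR0 = true ∧ inM24 repS = true := by
  have h := rep_check.1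
  simp only [Bool.and_eq_true] at h
  exact ⟨h.1.1.1.1, h.1.1.1.2, h.1.1.2, h.1.2, h.2⟩

theorem fixN_T8 : fixN (mkPerm repT8) = 8 :=
  (fixN_mkPerm (inM24_ok rep_mem.1)).trans rep_check.2.1

theorem fixN_T0 : fixN (mkPerm repT0) = 0 :=
  (fixN_mkPerm (inM24_ok rep_mem.2.1)).trans rep_check.2.2.1

theorem fixN_R6 : fixN (mkPerm repR6) = 6 :=
  (fixN_mkPerm (inM24_ok rep_mem.2.2.1)).trans rep_check.2.2.2.1

theorem fixN_R0 : fixN (mkPerm repR0) = 0 :=
  (fixN_mkPerm (inM24_ok rep_mem.2.2.2.1)).trans rep_check.2.2.2.2.1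

theorem fix_T8_octad : (Finset.univ.filter fun p => mkPerm repT8 p = p) ∈ octads := by
  have h := rep_check.2.2.2.2.2.2
  rw [List.contains_iff_mem] at h
  set m := (List.range 24).foldl (fun acc i => if app repT8 i == i then acc ||| (1 <<< i) else acc) 0
    with hm
  have e : (Finset.univ.filter fun p => mkPerm repT8 p = p) = ofMask m := by
    ext p
    rw [Finset.mem_filter, mem_ofMask, hm, testBit_foldl_lor (fun i => i) (fun i => app repT8 i == i)]
    simp only [Finset.mem_univ, true_and, List.mem_range, beq_iff_eq, Nat.zero_testBit,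
      Bool.false_eq_true, false_or]
    constructor
    · intro hp
      exact ⟨num p, num_lt p, by rw [← num_mkPerm (inM24_ok rep_mem.1), hp], rfl⟩
    · rintro ⟨i, -, he, rfl⟩
      exact num_injective (by rw [num_mkPerm (inM24_ok rep_mem.1), he])
  rw [e]
  exact (mem_octads_iff (by simpa using List.all_eq_true.1 octadList_lt m h)).2 h

theorem orderOf_mkPerm {P p : ℕ} [Fact p.Prime] (h : okP P = true) (n : fixN (mkPerm P) ≠ 24)
    (hp : mkPerm P ^ p = 1) : orderOf (mkPerm P) = p := by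
  refine orderOf_eq_prime hp fun e => n ?_
  rw [fixN, e]
  have : Fintype.card GolayPt = 24 := by simp [GolayPt]
  simpa using this

theorem pow_reps : mkPerm repT8 ^ 2 = 1 ∧ mkPerm repT0 ^ 2 = 1 ∧ mkPerm repR6 ^ 3 = 1 ∧
    mkPerm repR0 ^ 3 = 1 := by
  obtain ⟨h8, h0, h6, h00, -⟩ := rep_mem
  have h := rep_check.2.2.2.2.2.1
  simp only [List.all_eq_true, Bool.and_eq_true, beq_iff_eq, List.mem_range] at h
  refine ⟨?_, ?_, ?_, ?_⟩ <;> refine perm_ext fun i hi => ?_
  · rw [pow_two, img_mul, img_mkPerm (inM24_ok h8) hi,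
      img_mkPerm (inM24_ok h8) (app_lt (inM24_ok h8) hi), img_one hi, (h i hi).1.1.1]
  · rw [pow_two, img_mul, img_mkPerm (inM24_ok h0) hi,
      img_mkPerm (inM24_ok h0) (app_lt (inM24_ok h0) hi), img_one hi, (h i hi).1.1.2]
  · rw [pow_succ, pow_two, img_mul, img_mul, img_mkPerm (inM24_ok h6) hi,
      img_mkPerm (inM24_ok h6) (app_lt (inM24_ok h6) hi),
      img_mkPerm (inM24_ok h6) (app_lt (inM24_ok h6) (app_lt (inM24_ok h6) hi)), img_one hi,
      (h i hi).1.2]
  · rw [pow_succ, pow_two, img_mul, img_mul, img_mkPerm (inM24_ok h00) hi,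
      img_mkPerm (inM24_ok h00) (app_lt (inM24_ok h00) hi),
      img_mkPerm (inM24_ok h00) (app_lt (inM24_ok h00) (app_lt (inM24_ok h00) hi)), img_one hi,
      (h i hi).2]

theorem ne_one_of_order {g : Equiv.Perm GolayPt} {n : ℕ} (h : orderOf g = n) (hn : n ≠ 1) :
    g ≠ 1 := fun e => hn (by rw [← h, e, orderOf_one])

theorem inv_cases {g : Equiv.Perm GolayPt} (hg : g ∈ M24) (h2 : orderOf g = 2) :
    ∃ c ∈ M24, c * g * c⁻¹ = mkPerm repT8 ∧ fixN g = 8 ∨
      c * g * c⁻¹ = mkPerm repT0 ∧ fixN g = 0 := by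
  obtain ⟨c, hc, h⟩ := inv_classify hg (by rw [← pow_two, ← h2, pow_orderOf_eq_one])
    (ne_one_of_order h2 (by norm_num))
  refine ⟨c, hc, ?_⟩
  rcases h with h | h
  · exact Or.inl ⟨h, by rw [← fixN_conj c g, h, fixN_T8]⟩
  · exact Or.inr ⟨h, by rw [← fixN_conj c g, h, fixN_T0]⟩

theorem tri_cases {g : Equiv.Perm GolayPt} (hg : g ∈ M24) (h3 : orderOf g = 3) :
    ∃ c ∈ M24, c * g * c⁻¹ = mkPerm repR6 ∧ fixN g = 6 ∨
      c * g * c⁻¹ = mkPerm repR0 ∧ fixN g = 0 := by
  obtain ⟨c, hc, h⟩ := tri_classify hg (by rw [← h3, pow_orderOf_eq_one])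
    (ne_one_of_order h3 (by norm_num))
  refine ⟨c, hc, ?_⟩
  rcases h with h | h
  · exact Or.inl ⟨h, by rw [← fixN_conj c g, h, fixN_R6]⟩
  · exact Or.inr ⟨h, by rw [← fixN_conj c g, h, fixN_R0]⟩

theorem free_iff (g : Equiv.Perm GolayPt) : (∀ p, g p ≠ p) ↔ fixN g = 0 := by
  simp [fixN, Finset.filter_eq_empty_iff]

theorem conj_eq_conj {c d g h r : Equiv.Perm GolayPt} (hg : c * g * c⁻¹ = r) (hh : d * h * d⁻¹ = r) :
    d⁻¹ * c * g * (d⁻¹ * c)⁻¹ = h := by
  subst hg
  calc d⁻¹ * c * g * (d⁻¹ * c)⁻¹ = d⁻¹ * (c * g * c⁻¹) * d := by group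
    _ = d⁻¹ * (d * h * d⁻¹) * d := by rw [hh]
    _ = h := by group

theorem involution_classes :
    (∀ g ∈ M24, orderOf g = 2 → (Finset.univ.filter fun p => g p = p) ∈ octads ∨ ∀ p, g p ≠ p) ∧
    (∃ g ∈ M24, orderOf g = 2 ∧ (Finset.univ.filter fun p => g p = p) ∈ octads) ∧
    (∃ g ∈ M24, orderOf g = 2 ∧ ∀ p, g p ≠ p) ∧
    ∀ g ∈ M24, ∀ h ∈ M24, orderOf g = 2 → orderOf h = 2 →
      ((∀ p, g p ≠ p) ↔ (∀ p, h p ≠ p)) → ∃ k ∈ M24, k * g * k⁻¹ = h := by
  haveI : Fact (Nat.Prime 2) := ⟨Nat.prime_two⟩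
  obtain ⟨h8, h0, -⟩ := rep_mem
  refine ⟨fun g hg h2 => ?_, ?_, ?_, fun g hg h hh hg2 hh2 hiff => ?_⟩
  · obtain ⟨c, hc, ⟨e, -⟩ | ⟨-, e⟩⟩ := inv_cases hg h2
    · left
      have := fix_T8_octad
      rw [← e, fix_conj] at this
      have := smul_mem_octads (inv_mem hc) this
      rwa [inv_smul_smul] at this
    · exact Or.inr ((free_iff g).2 e)
  · exact ⟨_, mkPerm_mem_M24 h8,
      orderOf_mkPerm (inM24_ok h8) (by rw [fixN_T8]; norm_num) pow_reps.1, fix_T8_octad⟩
  · exact ⟨_, mkPerm_mem_M24 h0,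
      orderOf_mkPerm (inM24_ok h0) (by rw [fixN_T0]; norm_num) pow_reps.2.1, (free_iff _).2 fixN_T0⟩
  · rw [free_iff, free_iff] at hiff
    obtain ⟨c, hc, ec⟩ := inv_cases hg hg2
    obtain ⟨d, hd, ed⟩ := inv_cases hh hh2
    refine ⟨d⁻¹ * c, mul_mem (inv_mem hd) hc, ?_⟩
    rcases ec with ⟨e, n⟩ | ⟨e, n⟩ <;> rcases ed with ⟨e', n'⟩ | ⟨e', n'⟩
    · exact conj_eq_conj e e'
    · rw [n, n'] at hiff; simp at hiff
    · rw [n, n'] at hiff; simp at hiff
    · exact conj_eq_conj e e'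

theorem order_three_classes :
    (∀ X : Subgroup ↥M24, Nat.card X = 3 →
      {p : GolayPt | ∀ x ∈ X, ((x : ↥M24) : Equiv.Perm GolayPt) p = p}.ncard = 6 ∨
      {p : GolayPt | ∀ x ∈ X, ((x : ↥M24) : Equiv.Perm GolayPt) p = p}.ncard = 0) ∧
    (∃ X : Subgroup ↥M24, Nat.card X = 3 ∧
      {p : GolayPt | ∀ x ∈ X, ((x : ↥M24) : Equiv.Perm GolayPt) p = p}.ncard = 6) ∧
    (∃ X : Subgroup ↥M24, Nat.card X = 3 ∧
      {p : GolayPt | ∀ x ∈ X, ((x : ↥M24) : Equiv.Perm GolayPt) p = p}.ncard = 0) ∧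
    ∀ X Y : Subgroup ↥M24, Nat.card X = 3 → Nat.card Y = 3 →
      {p : GolayPt | ∀ x ∈ X, ((x : ↥M24) : Equiv.Perm GolayPt) p = p}.ncard =
        {p : GolayPt | ∀ x ∈ Y, ((x : ↥M24) : Equiv.Perm GolayPt) p = p}.ncard →
      ∃ k : ↥M24, MulAut.conj k • X = Y := by
  haveI : Fact (Nat.Prime 3) := ⟨Nat.prime_three⟩
  have hfix : ∀ x : ↥M24, {p : GolayPt | ∀ y ∈ Subgroup.zpowers x,
      ((y : ↥M24) : Equiv.Perm GolayPt) p = p}.ncard = fixN x := by
    intro x
    have e : {p : GolayPt | ∀ y ∈ Subgroup.zpowers x, ((y : ↥M24) : Equiv.Perm GolayPt) p = p} =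
        ↑(Finset.univ.filter fun p => (x : Equiv.Perm GolayPt) p = p) := by
      ext p
      simp only [Set.mem_setOf_eq, Finset.coe_filter, Finset.mem_univ, true_and]
      refine ⟨fun h => h x (Subgroup.mem_zpowers x), fun h y hy => ?_⟩
      have hle : Subgroup.zpowers x ≤ MulAction.stabilizer ↥M24 p :=
        Subgroup.zpowers_le.2 h
      exact hle hy
    rw [e, Set.ncard_coe_finset, fixN]
  have hgen : ∀ X : Subgroup ↥M24, Nat.card X = 3 → ∃ x : ↥M24, X = Subgroup.zpowers x ∧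
      orderOf (x : Equiv.Perm GolayPt) = 3 := by
    intro X hX
    haveI : Finite X := Nat.finite_of_card_ne_zero (by rw [hX]; norm_num)
    obtain ⟨x, hx, h1⟩ := (Subgroup.nontrivial_iff_exists_ne_one X).1
      (Finite.one_lt_card_iff_nontrivial.1 (by rw [hX]; norm_num))
    have ho : orderOf x = 3 := by
      refine orderOf_eq_prime ?_ h1
      have := pow_card_eq_one' (x := (⟨x, hx⟩ : X))
      rw [hX] at this
      exact congrArg Subtype.val this
    refine ⟨x, (Subgroup.eq_of_le_of_card_ge (Subgroup.zpowers_le.2 hx) ?_).symm, ?_⟩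
    · rw [hX, Nat.card_zpowers, ho]
    · rw [Subgroup.orderOf_coe, ho]
  have hex : ∀ P : ℕ, inM24 P = true → fixN (mkPerm P) ≠ 24 → mkPerm P ^ 3 = 1 →
      ∃ X : Subgroup ↥M24, Nat.card X = 3 ∧
        {p : GolayPt | ∀ x ∈ X, ((x : ↥M24) : Equiv.Perm GolayPt) p = p}.ncard =
          fixN (mkPerm P) := by
    intro P hP hn h3
    refine ⟨Subgroup.zpowers ⟨mkPerm P, mkPerm_mem_M24 hP⟩, ?_, hfix _⟩
    rw [Nat.card_zpowers, ← Subgroup.orderOf_coe]
    exact orderOf_mkPerm (inM24_ok hP) hn h3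
  obtain ⟨-, -, h6, h0, -⟩ := rep_mem
  refine ⟨fun X hX => ?_, ?_, ?_, fun X Y hX hY he => ?_⟩
  · obtain ⟨x, rfl, hx⟩ := hgen X hX
    rw [hfix]
    obtain ⟨c, -, ⟨-, e⟩ | ⟨-, e⟩⟩ := tri_cases x.2 hx
    · exact Or.inl e
    · exact Or.inr e
  · obtain ⟨X, hX, e⟩ := hex _ h6 (by rw [fixN_R6]; norm_num) pow_reps.2.2.1
    exact ⟨X, hX, e.trans fixN_R6⟩
  · obtain ⟨X, hX, e⟩ := hex _ h0 (by rw [fixN_R0]; norm_num) pow_reps.2.2.2
    exact ⟨X, hX, e.trans fixN_R0⟩
  · obtain ⟨x, rfl, hx⟩ := hgen X hX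
    obtain ⟨y, rfl, hy⟩ := hgen Y hY
    rw [hfix, hfix] at he
    obtain ⟨c, hc, ec⟩ := tri_cases x.2 hx
    obtain ⟨d, hd, ed⟩ := tri_cases y.2 hy
    refine ⟨⟨d⁻¹ * c, mul_mem (inv_mem hd) hc⟩, ?_⟩
    have key : MulAut.conj (⟨d⁻¹ * c, mul_mem (inv_mem hd) hc⟩ : ↥M24) x = y := by
      apply Subtype.ext
      show d⁻¹ * c * x * (d⁻¹ * c)⁻¹ = (y : Equiv.Perm GolayPt)
      rcases ec with ⟨e, n⟩ | ⟨e, n⟩ <;> rcases ed with ⟨e', n'⟩ | ⟨e', n'⟩
      · exact conj_eq_conj e e'
      · rw [n, n'] at he; omega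
      · rw [n, n'] at he; omega
      · exact conj_eq_conj e e'
    rw [← key]
    exact MonoidHom.map_zpowers (MulAut.conj _).toMonoidHom x

/-! ### invariant structures -/

theorem ncard_fix_conj {X : Type*} [MulAction (Equiv.Perm GolayPt) X] (C : Set X)
    (hC : ∀ σ ∈ M24, ∀ x ∈ C, σ • x ∈ C) {c : Equiv.Perm GolayPt} (hc : c ∈ M24)
    {g r : Equiv.Perm GolayPt} (e : c * g * c⁻¹ = r) :
    {x | x ∈ C ∧ g • x = x}.ncard = {x | x ∈ C ∧ r • x = x}.ncard := by
  have h : {x | x ∈ C ∧ r • x = x} = c • {x | x ∈ C ∧ g • x = x} := by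
    ext x
    rw [Set.mem_smul_set_iff_inv_smul_mem, Set.mem_setOf_eq, Set.mem_setOf_eq, ← e, mul_smul,
      mul_smul, smul_eq_iff_eq_inv_smul]
    refine and_congr_left fun _ => ⟨hC _ (inv_mem hc) x, fun h => ?_⟩
    have := hC c hc _ h
    rwa [smul_inv_smul] at this
  rw [h, Set.ncard_smul_set]

theorem ncard_fam_fixed {a : List ℕ} {gs : List GT} {toks : List ℕ}
    (horb : famK.orbOK gs a toks = true) {C : Set (Finset (Finset GolayPt))}
    (hC : C = {y | y ∈ (famK.orb gs a toks).map famK.dec}) {R n : ℕ} (hR : okP R = true)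
    (h : ((famK.orb gs a toks).all (fun l => l.all fun m => decide (m < 2 ^ 24)) &&
      ((famK.orb gs a toks).countP fun l => l.all fun m => l.contains (imgP R m % 2 ^ 24)) == n)
        = true) :
    {x | x ∈ C ∧ mkPerm R • x = x}.ncard = n := by
  classical
  simp only [Bool.and_eq_true, List.all_eq_true, decide_eq_true_eq, beq_iff_eq] at h
  obtain ⟨hlt, hcount⟩ := h
  obtain ⟨hnd, -, -⟩ := Kind.orb_facts famK horb
  have e : {x | x ∈ C ∧ mkPerm R • x = x} =
      ↑(((famK.orb gs a toks).map famK.dec).filter fun y => decide (mkPerm R • y = y)).toFinset := by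
    ext y
    simp [hC, List.mem_filter]
  rw [e, Set.ncard_coe_finset, List.toFinset_card_of_nodup (hnd.filter _),
    ← List.countP_eq_length_filter, List.countP_map, ← hcount]
  refine List.countP_congr fun l hl => ?_
  simp only [Function.comp_apply, decide_eq_true_eq, List.all_eq_true, List.contains_iff_mem]
  show mkPerm R • famDec l = famDec l ↔ _
  constructor
  · intro hfix m hm
    have : mkPerm R • ofMask m ∈ famDec l := by
      rw [← hfix]
      exact Finset.smul_mem_smul_finset (List.mem_toFinset.2 (List.mem_map.2 ⟨m, hm, rfl⟩))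
    simp only [famDec, List.mem_toFinset, List.mem_map] at this
    obtain ⟨m', hm', he⟩ := this
    rw [smul_ofMask hR] at he
    rw [← mask_mod_eq he, Nat.mod_eq_of_lt (hlt l hl m' hm')]
    exact hm'
  · intro hall
    refine Finset.eq_of_subset_of_card_le ?_ (by rw [Finset.card_smul_finset])
    intro s hs
    obtain ⟨t, ht, rfl⟩ := Finset.mem_smul_finset.1 hs
    simp only [famDec, List.mem_toFinset, List.mem_map] at ht ⊢
    obtain ⟨m, hm, rfl⟩ := ht
    exact ⟨_, hall m hm, by rw [ofMask_mod, smul_ofMask hR]⟩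

theorem ncard_word_fixed {R w n : ℕ} (hR : okP R = true)
    (h : (wordList.countP fun m => pop m == w && imgP R m % 2 ^ 24 == m) = n) :
    {s | s ∈ Code ∧ (s.card = w ∧ mkPerm R • s = s)}.ncard = n := by
  rw [ncard_filter_code _ (fun m => pop m == w && imgP R m % 2 ^ 24 == m) fun m hm => ?_, h]
  rw [card_ofMask, smul_ofMask hR, Bool.and_eq_true, beq_iff_eq, beq_iff_eq]
  refine and_congr_right fun _ => ⟨fun e => ?_, fun e => ?_⟩
  · rw [mask_mod_eq e, Nat.mod_eq_of_lt (inCode_lt hm)]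
  · conv_rhs => rw [← e]
    rw [ofMask_mod]

theorem octads_fixed {R n : ℕ} (hR : okP R = true)
    (h : (wordList.countP fun m => pop m == 8 && imgP R m % 2 ^ 24 == m) = n) :
    {o | o ∈ octads ∧ mkPerm R • o = o}.ncard = n := by
  rw [← ncard_word_fixed hR h]
  exact congrArg Set.ncard (Set.ext fun o => and_assoc)

theorem dodecads_fixed {R n : ℕ} (hR : okP R = true)
    (h : (wordList.countP fun m => pop m == 12 && imgP R m % 2 ^ 24 == m) = n) :
    {d | d ∈ dodecads ∧ mkPerm R • d = d}.ncard = n := by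
  rw [← ncard_word_fixed hR h]
  exact congrArg Set.ncard (Set.ext fun d => by simp only [Set.mem_setOf_eq, mem_dodecads, and_assoc])

theorem sextets_fixed {R n : ℕ} (hR : okP R = true)
    (h : ((famK.orb (chainTop m24Chain) sextX sextToks).all (fun l => l.all fun m => decide (m < 2 ^ 24)) &&
      ((famK.orb (chainTop m24Chain) sextX sextToks).countP fun l =>
        l.all fun m => l.contains (imgP R m % 2 ^ 24)) == n) = true) :
    {S | S ∈ sextets ∧ mkPerm R • S = S}.ncard = n :=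
  ncard_fam_fixed sext_orbOK (sextets_eq_orbit.trans sext_exact.2.2) hR h

theorem trios_fixed {R n : ℕ} (hR : okP R = true)
    (h : ((famK.orb (chainTop m24Chain) trioX trioToks).all (fun l => l.all fun m => decide (m < 2 ^ 24)) &&
      ((famK.orb (chainTop m24Chain) trioX trioToks).countP fun l =>
        l.all fun m => l.contains (imgP R m % 2 ^ 24)) == n) = true) :
    {T | T ∈ trios ∧ mkPerm R • T = T}.ncard = n :=
  ncard_fam_fixed trio_orbOK (trios_eq_orbit.trans trio_exact.2.2) hR h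

theorem word_counts :
    (wordList.countP fun m => pop m == 8 && imgP repT8 m % 2 ^ 24 == m) = 71 ∧
    (wordList.countP fun m => pop m == 8 && imgP repT0 m % 2 ^ 24 == m) = 15 ∧
    (wordList.countP fun m => pop m == 8 && imgP repR6 m % 2 ^ 24 == m) = 21 ∧
    (wordList.countP fun m => pop m == 12 && imgP repR6 m % 2 ^ 24 == m) = 20 := by
  decide +kernel

theorem involution_octad_counts {g : Equiv.Perm GolayPt} (hg : g ∈ M24) (h2 : orderOf g = 2)
    (h8 : fixN g = 8) :
    {o : Finset GolayPt | o ∈ octads ∧ g • o = o}.ncard = 71 ∧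
    {T : Finset (Finset GolayPt) | T ∈ trios ∧ g • T = T}.ncard = 99 ∧
    {S : Finset (Finset GolayPt) | S ∈ sextets ∧ g • S = S}.ncard = 91 := by
  obtain ⟨c, hc, ⟨e, -⟩ | ⟨-, e⟩⟩ := inv_cases hg h2
  · have hok := inM24_ok rep_mem.1
    rw [ncard_fix_conj octads (fun σ hσ _ => smul_mem_octads hσ) hc e,
      ncard_fix_conj trios (fun σ hσ _ => smul_mem_trios hσ) hc e,
      ncard_fix_conj sextets (fun σ hσ _ => smul_mem_sextets hσ) hc e]
    exact ⟨octads_fixed hok word_counts.1, trios_fixed hok (by decide +kernel),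
      sextets_fixed hok (by decide +kernel)⟩
  · rw [h8] at e; omega

theorem involution_free_counts {g : Equiv.Perm GolayPt} (hg : g ∈ M24) (h2 : orderOf g = 2)
    (h0 : fixN g = 0) :
    {o : Finset GolayPt | o ∈ octads ∧ g • o = o}.ncard = 15 ∧
    {T : Finset (Finset GolayPt) | T ∈ trios ∧ g • T = T}.ncard = 75 ∧
    {S : Finset (Finset GolayPt) | S ∈ sextets ∧ g • S = S}.ncard = 51 := by
  obtain ⟨c, hc, ⟨-, e⟩ | ⟨e, -⟩⟩ := inv_cases hg h2
  · rw [h0] at e; omega
  · have hok := inM24_ok rep_mem.2.1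
    rw [ncard_fix_conj octads (fun σ hσ _ => smul_mem_octads hσ) hc e,
      ncard_fix_conj trios (fun σ hσ _ => smul_mem_trios hσ) hc e,
      ncard_fix_conj sextets (fun σ hσ _ => smul_mem_sextets hσ) hc e]
    exact ⟨octads_fixed hok word_counts.2.1, trios_fixed hok (by decide +kernel),
      sextets_fixed hok (by decide +kernel)⟩

theorem tri_six_counts {g : Equiv.Perm GolayPt} (hg : g ∈ M24) (h3 : orderOf g = 3)
    (h6 : fixN g = 6) :
    {o : Finset GolayPt | o ∈ octads ∧ g • o = o}.ncard = 21 ∧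
    {T : Finset (Finset GolayPt) | T ∈ trios ∧ g • T = T}.ncard = 15 ∧
    {S : Finset (Finset GolayPt) | S ∈ sextets ∧ g • S = S}.ncard = 16 ∧
    {d : Finset GolayPt | d ∈ dodecads ∧ g • d = d}.ncard = 20 := by
  obtain ⟨c, hc, ⟨e, -⟩ | ⟨-, e⟩⟩ := tri_cases hg h3
  · have hok := inM24_ok rep_mem.2.2.1
    rw [ncard_fix_conj octads (fun σ hσ _ => smul_mem_octads hσ) hc e,
      ncard_fix_conj trios (fun σ hσ _ => smul_mem_trios hσ) hc e,
      ncard_fix_conj sextets (fun σ hσ _ => smul_mem_sextets hσ) hc e,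
      ncard_fix_conj dodecads (fun σ hσ _ => smul_mem_dodecads hσ) hc e]
    exact ⟨octads_fixed hok word_counts.2.2.1, trios_fixed hok (by decide +kernel),
      sextets_fixed hok (by decide +kernel), dodecads_fixed hok word_counts.2.2.2⟩
  · rw [h6] at e; omega

theorem tri_free_counts {g : Equiv.Perm GolayPt} (hg : g ∈ M24) (h3 : orderOf g = 3)
    (h0 : fixN g = 0) :
    {S : Finset (Finset GolayPt) | S ∈ sextets ∧ g • S = S}.ncard = 7 ∧
    {T : Finset (Finset GolayPt) | T ∈ trios ∧ g • T = T}.ncard = 15 := by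
  obtain ⟨c, hc, ⟨-, e⟩ | ⟨e, -⟩⟩ := tri_cases hg h3
  · rw [h0] at e; omega
  · have hok := inM24_ok rep_mem.2.2.2.1
    rw [ncard_fix_conj trios (fun σ hσ _ => smul_mem_trios hσ) hc e,
      ncard_fix_conj sextets (fun σ hσ _ => smul_mem_sextets hσ) hc e]
    exact ⟨sextets_fixed hok (by decide +kernel), trios_fixed hok (by decide +kernel)⟩

end CfsgLib.Spor.M24Elems
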