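import Cfsg.Agent.Spor.CocycleVanish

/-!
Certificates for three small orthogonal groups.
-/

set_option autoImplicit false
set_option Elab.async false

namespace CfsgLib.Spor.CocycleData

open CfsgLib.Spor.CocycleVanish

/-- reflection word of the first generator -/
def wM1 : List ℕ := [5, 12, 12, 10, 6, 12, 13, 5, 12, 6]

/-- relators -/
def relM1 : List (List ℕ) := [[1, 0, 1, 0, 1, 0], [1, 0, 1, 1, 0, 1, 1, 0, 1]]

/-- preimages under the first generator minus one -/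
def invM1 : List ℕ := [0, 12, 14, 2, 11, 7, 5, 9, 15, 3, 1, 13, 4, 8, 10, 6]

/-- conjugation tree of the transvections -/
def ordM1 : List (ℕ × ℕ × ℕ) := [(13, 0, 0), (6, 0, 0), (9, 0, 1), (4, 1, 1), (14, 0, 2), (5, 1, 2), (8, 0, 3), (3, 1, 3), (12, 0, 4), (10, 1, 4)]

/-- the form on masks -/
def qM1 (m : ℕ) : Bool := (m.testBit 0 && m.testBit 1) ^^ (m.testBit 2 || m.testBit 3)

/-- positions of the coordinates -/
def posM1 : (Fin 1 ⊕ Fin 1) ⊕ Fin 2 → ℕ := fun i => Sum.elim (Sum.elim (fun _ => 0) (fun _ => 1)) (fun k => 2 + k.val) i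

/-- reflection word of the first generator -/
def wM2 : List ℕ := [18, 31, 13, 57, 25, 48, 49, 14, 54, 5]

/-- relators -/
def relM2 : List (List ℕ) := [[1, 0, 0, 1, 1, 0, 0, 1, 1, 0, 0, 1, 1, 0, 0, 1, 1, 0, 0, 1, 1, 0, 0, 1], [0, 0, 1, 0, 1, 1, 0, 0, 1, 0, 1, 1, 0, 0, 1, 0, 1, 1, 0, 0, 1, 0, 1, 1], [0, 1, 1, 1, 0, 0, 0, 1, 1, 1, 0, 0, 0, 1, 1, 1, 0, 0], [0, 1, 0, 1, 1, 1, 0, 0, 1, 0, 1, 1, 1, 0, 0, 1, 0, 1, 1, 1, 0, 0, 1, 0, 1, 1, 1, 0, 0, 1, 0, 1, 1, 1, 0]]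

/-- preimages under the first generator minus one -/
def invM2 : List ℕ := [0, 42, 4, 46, 38, 12, 34, 8, 13, 39, 9, 35, 43, 1, 47, 5, 37, 15, 33, 11, 3, 41, 7, 45, 40, 2, 44, 6, 14, 36, 10, 32, 48, 26, 52, 30, 22, 60, 18, 56, 61, 23, 57, 19, 27, 49, 31, 53, 21, 63, 17, 59, 51, 25, 55, 29, 24, 50, 28, 54, 62, 20, 58, 16]

/-- conjugation tree of the transvections -/
def ordM2 : List (ℕ × ℕ × ℕ) := [(20, 0, 0), (41, 0, 0), (60, 0, 1), (40, 1, 1), (25, 0, 2), (36, 1, 2), (48, 0, 3), (13, 1, 3), (44, 0, 4), (17, 1, 4), (57, 0, 5), (16, 1, 5), (5, 0, 7), (56, 1, 7), (54, 0, 8), (11, 1, 8), (35, 0, 9), (10, 1, 9), (19, 0, 10), (7, 1, 10), (47, 0, 11), (31, 0, 13), (34, 1, 13), (24, 0, 15), (49, 1, 15), (33, 0, 20), (32, 0, 23), (52, 1, 23), (28, 0, 24), (51, 0, 25), (63, 0, 26), (22, 1, 26), (38, 0, 28), (50, 1, 28), (14, 0, 30), (18, 0, 34)]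

/-- the form on masks -/
def qM2 (m : ℕ) : Bool := ((m.testBit 0 && m.testBit 2) ^^ (m.testBit 1 && m.testBit 3)) ^^ (m.testBit 4 || m.testBit 5)

/-- positions of the coordinates -/
def posM2 : (Fin 2 ⊕ Fin 2) ⊕ Fin 2 → ℕ := fun i => Sum.elim (Sum.elim (fun j => j.val) (fun j => 2 + j.val)) (fun k => 4 + k.val) i

/-- reflection word of the first generator -/
def wP4 : List ℕ := [57, 101, 209, 21, 248, 81, 62, 202]

/-- relators -/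
def relP4 : List (List ℕ) := [[0, 0, 1, 0, 0, 1, 0, 0, 1, 0, 0, 1, 0, 0, 1, 0, 0, 1, 0, 0, 1, 0, 0, 1, 0, 0, 1], [0, 1, 1, 0, 1, 1, 0, 1, 1, 0, 1, 1, 0, 1, 1, 0, 1, 1, 0, 1, 1, 0, 1, 1, 0, 1, 1], [1, 1, 0, 0, 1, 1, 0, 0, 1, 1, 0, 0, 1, 1, 0, 0, 1, 1, 0, 0, 1, 1, 0, 0, 1, 1, 0, 0, 1, 1, 0, 0, 1, 1, 0, 0, 1, 1, 0, 0], [1, 1, 0, 0, 1, 1, 1, 0, 0, 1, 1, 1, 0, 0, 1, 1, 1, 0, 0, 1, 1, 1, 0, 0, 1, 1, 1, 0, 0, 1], [1, 1, 1, 1, 0, 1, 0, 1, 1, 1, 1, 0, 1, 0, 1, 1, 1, 1, 0, 1, 0, 1, 1, 1, 1, 0, 1, 0, 1, 1, 1, 1, 0, 1, 0, 1, 1, 1, 1, 0, 1, 0, 1, 1, 1, 1, 0, 1, 0, 1, 1, 1, 1, 0, 1, 0, 1, 1, 1, 1, 0, 1, 0, 1, 1, 1, 1, 0, 1, 0]]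

/-- preimages under the first generator minus one -/
def invP4 : List ℕ := [0, 108, 92, 48, 61, 81, 97, 13, 12, 96, 80, 60, 49, 93, 109, 1, 94, 50, 2, 110, 99, 15, 63, 83, 82, 62, 14, 98, 111, 3, 51, 95, 45, 65, 113, 29, 16, 124, 76, 32, 33, 77, 125, 17, 28, 112, 64, 44, 115, 31, 47, 67, 78, 34, 18, 126, 127, 19, 35, 79, 66, 46, 30, 114, 187, 215, 231, 139, 134, 234, 218, 182, 183, 219, 235, 135, 138, 230, 214, 186, 229, 137, 185, 213, 216, 180, 132, 232, 233, 133, 181, 217, 212, 184, 136, 228, 150, 250, 202, 166, 171, 199, 247, 155, 154, 246, 198, 170, 167, 203, 251, 151, 200, 164, 148, 248, 245, 153, 169, 197, 196, 168, 152, 244, 249, 149, 165, 201, 119, 27, 43, 71, 74, 38, 22, 122, 123, 23, 39, 75, 70, 42, 26, 118, 41, 69, 117, 25, 20, 120, 72, 36, 37, 73, 121, 21, 24, 116, 68, 40, 90, 54, 6, 106, 103, 11, 59, 87, 86, 58, 10, 102, 107, 7, 55, 91,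 4, 104, 88, 52, 57, 85, 101, 9, 8, 100, 84, 56, 53, 89, 105, 5, 204, 160, 144, 252, 241, 157, 173, 193, 192, 172, 156, 240, 253, 145, 161, 205, 146, 254, 206, 162, 175, 195, 243, 159, 158, 242, 194, 174, 163, 207, 255, 147, 225, 141, 189, 209, 220, 176, 128, 236, 237, 129, 177, 221, 208, 188, 140, 224, 191, 211, 227, 143, 130, 238, 222, 178, 179, 223, 239, 131, 142, 226, 210, 190]

/-- conjugation tree of the transvections -/
def ordP4 : List (ℕ × ℕ × ℕ) := [(181, 0, 0), (239, 0, 0), (21, 0, 1), (142, 0, 2), (114, 0, 3), (199, 1, 3), (77, 0, 4), (23, 1, 4), (162, 0, 5), (248, 1, 5), (100, 0, 6), (62, 1, 6), (158, 0, 7), (196, 1, 7), (113, 0, 8), (43, 1, 8), (139, 0, 9), (209, 1, 9), (221, 0, 10), (50, 1, 10), (39, 0, 11), (200, 1, 11), (70, 0, 12), (169, 1, 12), (188, 0, 13), (83, 1, 13), (54, 0, 18), (35, 0, 19), (173, 0, 20), (184, 0, 21), (202, 0,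 22), (127, 1, 22), (223, 0, 23), (106, 1, 23), (81, 0, 24), (228, 1, 24), (68, 0, 25), (241, 1, 25), (151, 0, 26), (34, 1, 26), (25, 0, 27), (172, 1, 27), (107, 0, 28), (229, 0, 29), (168, 0, 30), (242, 1, 30), (71, 0, 31), (29, 1, 31), (38, 0, 32), (124, 1, 32), (201, 0, 33), (147, 1, 33), (84, 0, 34), (187, 1, 34), (218, 0, 36), (53, 1, 36), (138, 0, 40), (101, 1, 40), (163, 0, 48), (76, 1, 48), (89, 0, 49), (182, 1, 49), (238, 0, 52), (91, 1, 52), (251, 0, 53), (78, 1, 53), (156, 0, 54), (137, 0, 55), (198, 0, 56), (211, 0, 57), (27, 0, 62), (244, 1, 62), (149, 0, 64), (122, 1, 64), (86, 0, 66), (227, 1, 66), (216, 0, 67), (109, 1, 67), (154, 0, 70), (47, 1, 70), (143, 0, 71), (58, 1, 71), (232, 0, 72), (253, 0, 73), (254, 0, 74), (17, 1, 74), (140, 0, 76), (214, 1, 76), (99, 0, 77), (57, 1, 77), (191, 0, 82), (49, 0, 83), (98, 0, 86), (141, 1, 86),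 (152, 0, 87), (119, 1, 87), (79, 0, 90), (61, 0, 91), (136, 1, 91), (121, 0, 92), (108, 0, 93), (226, 0, 94), (247, 0, 95), (116, 0, 96), (31, 0, 101), (145, 0, 102), (233, 0, 103), (92, 1, 103), (46, 0, 104), (177, 0, 106), (94, 1, 106), (19, 0, 108), (166, 1, 108), (42, 0, 111), (197, 1, 111), (167, 0, 113), (178, 0, 114), (203, 0, 115), (69, 0, 116), (212, 0, 118)]

/-- the form on masks -/
def qP4 (m : ℕ) : Bool := ((m.testBit 0 && m.testBit 4) ^^ (m.testBit 1 && m.testBit 5)) ^^ ((m.testBit 2 && m.testBit 6) ^^ (m.testBit 3 && m.testBit 7))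

/-- positions of the coordinates -/
def posP4 : Fin 4 ⊕ Fin 4 → ℕ := fun i => Sum.elim (fun j => j.val) (fun j => 4 + j.val) i

/-- the isometries in dimension four -/
def elM1 : List (List ℕ) := [
  [1, 2, 4, 8],
  [2, 1, 4, 8],
  [1, 2, 4, 12],
  [1, 7, 4, 13],
  [7, 2, 4, 14],
  [1, 2, 12, 8],
  [1, 11, 13, 8],
  [11, 2, 14, 8],
  [1, 2, 8, 4],
  [1, 15, 9, 5],
  [15, 2, 10, 6],
  [2, 1, 4, 12],
  [2, 7, 4, 14],
  [7, 1, 4, 13],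
  [2, 1, 12, 8],
  [2, 11, 14, 8],
  [11, 1, 13, 8],
  [2, 1, 8, 4],
  [2, 15, 10, 6],
  [15, 1, 9, 5],
  [1, 7, 4, 9],
  [7, 2, 4, 10],
  [1, 2, 8, 12],
  [1, 15, 9, 12],
  [15, 2, 10, 12],
  [1, 2, 12, 4],
  [1, 11, 13, 5],
  [11, 2, 14, 6],
  [1, 7, 9, 13],
  [1, 11, 8, 13],
  [11, 7, 14, 13],
  [1, 7, 13, 4],
  [1, 15, 12, 5],
  [15, 7, 10, 3],
  [7, 2, 10, 14],
  [7, 11, 13, 14],
  [11, 2, 8, 14],
  [7, 2, 14, 4],
  [7, 15, 9, 3],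
  [15, 2, 12, 6],
  [1, 11, 5, 8],
  [11, 2, 6, 8],
  [15, 11, 3, 6],
  [11, 15, 3, 5],
  [1, 15, 5, 9],
  [15, 2, 6, 10],
  [2, 7, 4, 10],
  [7, 1, 4, 9],
  [2, 1, 8, 12],
  [2, 15, 10, 12],
  [15, 1, 9, 12],
  [2, 1, 12, 4],
  [2, 11, 14, 6],
  [11, 1, 13, 5],
  [2, 7, 10, 14],
  [2, 11, 8, 14],
  [11, 7, 13, 14],
  [2, 7, 14, 4],
  [2, 15, 12, 6],
  [15, 7, 9, 3],
  [7, 1, 9, 13],
  [7, 11, 14, 13],
  [11, 1, 8, 13],
  [7, 1, 13, 4],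
  [7, 15, 10, 3],
  [15, 1, 12, 5],
  [2, 11, 6, 8],
  [11, 1, 5, 8],
  [15, 11, 3, 5],
  [11, 15, 3, 6],
  [2, 15, 6, 10],
  [15, 1, 5, 9],
  [1, 7, 13, 9],
  [1, 15, 12, 9],
  [15, 7, 10, 9],
  [1, 7, 9, 4],
  [1, 11, 8, 5],
  [11, 7, 14, 3],
  [7, 2, 14, 10],
  [7, 15, 9, 10],
  [15, 2, 12, 10],
  [7, 2, 10, 4],
  [7, 11, 13, 3],
  [11, 2, 8, 6],
  [1, 15, 5, 12],
  [15, 2, 6, 12],
  [1, 11, 5, 13],
  [11, 2, 6, 14],
  [11, 7, 3, 13],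
  [15, 11, 6, 3],
  [11, 15, 6, 5],
  [15, 7, 3, 10],
  [7, 11, 3, 14],
  [15, 11, 5, 6],
  [11, 15, 5, 3],
  [7, 15, 3, 9],
  [2, 7, 14, 10],
  [2, 15, 12, 10],
  [15, 7, 9, 10],
  [2, 7, 10, 4],
  [2, 11, 8, 6],
  [11, 7, 13, 3],
  [7, 1, 13, 9],
  [7, 15, 10, 9],
  [15, 1, 12, 9],
  [7, 1, 9, 4],
  [7, 11, 14, 3],
  [11, 1, 8, 5],
  [2, 15, 6, 12],
  [15, 1, 5, 12],
  [2, 11, 6, 14],
  [11, 1, 5, 13],
  [11, 7, 3, 14],
  [15, 11, 5, 3],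
  [11, 15, 5, 6],
  [15, 7, 3, 9],
  [7, 11, 3, 13],
  [15, 11, 6, 5],
  [11, 15, 6, 3],
  [7, 15, 3, 10]]

/-- their parents -/
def parM1 : List (ℕ × ℕ) := [(0, 0), (0, 3), (0, 4), (0, 5), (0, 6), (0, 8), (0, 9), (0, 10), (0, 12), (0, 13), (0, 14), (1, 4), (1, 5), (1, 6), (1, 8), (1, 9), (1, 10), (1, 12), (1, 13), (1, 14), (2, 5), (2, 6), (2, 8), (2, 9), (2, 10), (2, 12), (2, 13), (2, 14), (3, 8), (3, 9), (3, 10), (3, 12), (3, 13), (3, 14), (4, 8), (4, 9), (4, 10), (4, 12), (4, 13), (4, 14), (5, 9), (5, 10), (6, 14), (7, 13), (8, 13), (8, 14), (11, 5), (11, 6), (11, 8), (11, 9), (11, 10), (11, 12), (11, 13), (11, 14), (12, 8), (12, 9), (12, 10), (12, 12), (12, 13), (12, 14), (13, 8), (13, 9), (13, 10), (13, 12), (13, 13), (13, 14), (14, 9), (14, 10), (15, 14), (16, 13), (17, 13), (17, 14), (20, 8), (20, 9), (20, 10), (20, 12), (20, 13), (20, 14), (21,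 8), (21, 9), (21, 10), (21, 12), (21, 13), (21, 14), (22, 9), (22, 10), (25, 13), (25, 14), (28, 10), (29, 14), (30, 13), (31, 14), (34, 9), (35, 14), (36, 13), (37, 13), (46, 8), (46, 9), (46, 10), (46, 12), (46, 13), (46, 14), (47, 8), (47, 9), (47, 10), (47, 12), (47, 13), (47, 14), (48, 9), (48, 10), (51, 13), (51, 14), (54, 10), (55, 14), (56, 13), (57, 14), (60, 9), (61, 14), (62, 13), (63, 13)]

theorem chkM1 : bitsB 4 qM1 = true ∧ certB 4 qM1 13 wM1 invM1 relM1 ordM1 = true := by decide +kernel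

theorem formM1 : ∀ m : Fin 16, Cfsg.quadFormMinus 1 (ZMod 2) 1 1 (toV posM1 m.val) = if qM1 m.val then 1 else 0 := by decide +kernel

theorem encM1 : ∀ m : Fin 16, (fun v => (if v (.inl (.inl 0)) = 1 then 1 else 0) + (if v (.inl (.inr 0)) = 1 then 2 else 0) + (if v (.inr 0) = 1 then 4 else 0) + (if v (.inr 1) = 1 then 8 else 0) : ((Fin 1 ⊕ Fin 1) ⊕ Fin 2 → ZMod 2) → ℕ) (toV posM1 m.val) = m.val := by decide +kernel

theorem surjM1 (v : (Fin 1 ⊕ Fin 1) ⊕ Fin 2 → ZMod 2) : ∃ m, m < 2 ^ 4 ∧ toV posM1 m = v := by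
  have hi : Function.Injective (fun m : Fin 16 => (toV posM1 m.val : (Fin 1 ⊕ Fin 1) ⊕ Fin 2 → ZMod 2)) := fun a b h =>
    Fin.ext ((encM1 a).symm.trans ((congrArg (fun v => (if v (.inl (.inl 0)) = 1 then 1 else 0) + (if v (.inl (.inr 0)) = 1 then 2 else 0) + (if v (.inr 0) = 1 then 4 else 0) + (if v (.inr 1) = 1 then 8 else 0) : ((Fin 1 ⊕ Fin 1) ⊕ Fin 2 → ZMod 2) → ℕ) h).trans (encM1 b)))
  obtain ⟨⟨m, hm⟩, e⟩ := ((Fintype.bijective_iff_injective_and_card _).2 ⟨hi, by simp⟩).2 v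
  exact ⟨m, hm, e⟩

theorem chkM2 : bitsB 6 qM2 = true ∧ certB 6 qM2 20 wM2 invM2 relM2 ordM2 = true := by decide +kernel

theorem formM2 : ∀ m : Fin 64, Cfsg.quadFormMinus 2 (ZMod 2) 1 1 (toV posM2 m.val) = if qM2 m.val then 1 else 0 := by decide +kernel

theorem encM2 : ∀ m : Fin 64, (fun v => (if v (.inl (.inl 0)) = 1 then 1 else 0) + (if v (.inl (.inl 1)) = 1 then 2 else 0) + (if v (.inl (.inr 0)) = 1 then 4 else 0) + (if v (.inl (.inr 1)) = 1 then 8 else 0) + (if v (.inr 0) = 1 then 16 else 0) + (if v (.inr 1) = 1 then 32 else 0) : ((Fin 2 ⊕ Fin 2) ⊕ Fin 2 → ZMod 2) → ℕ) (toV posM2 m.val) = m.val := by decide +kernel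

theorem surjM2 (v : (Fin 2 ⊕ Fin 2) ⊕ Fin 2 → ZMod 2) : ∃ m, m < 2 ^ 6 ∧ toV posM2 m = v := by
  have hi : Function.Injective (fun m : Fin 64 => (toV posM2 m.val : (Fin 2 ⊕ Fin 2) ⊕ Fin 2 → ZMod 2)) := fun a b h =>
    Fin.ext ((encM2 a).symm.trans ((congrArg (fun v => (if v (.inl (.inl 0)) = 1 then 1 else 0) + (if v (.inl (.inl 1)) = 1 then 2 else 0) + (if v (.inl (.inr 0)) = 1 then 4 else 0) + (if v (.inl (.inr 1)) = 1 then 8 else 0) + (if v (.inr 0) = 1 then 16 else 0) + (if v (.inr 1) = 1 then 32 else 0) : ((Fin 2 ⊕ Fin 2) ⊕ Fin 2 → ZMod 2) → ℕ) h).trans (encM2 b)))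
  obtain ⟨⟨m, hm⟩, e⟩ := ((Fintype.bijective_iff_injective_and_card _).2 ⟨hi, by simp⟩).2 v
  exact ⟨m, hm, e⟩

theorem chkP4 : bitsB 8 qP4 = true ∧ certB 8 qP4 181 wP4 invP4 relP4 ordP4 = true := by decide +kernel

theorem formP4 : ∀ m : Fin 256, Cfsg.quadFormPlus 4 (ZMod 2) (toV posP4 m.val) = if qP4 m.val then 1 else 0 := by decide +kernel

theorem encP4 : ∀ m : Fin 256, (fun v => (if v (.inl 0) = 1 then 1 else 0) + (if v (.inl 1) = 1 then 2 else 0) + (if v (.inl 2) = 1 then 4 else 0) + (if v (.inl 3) = 1 then 8 else 0) + (if v (.inr 0) = 1 then 16 else 0) + (if v (.inr 1) = 1 then 32 else 0) + (if v (.inr 2) = 1 then 64 else 0) + (if v (.inr 3) = 1 then 128 else 0) : (Fin 4 ⊕ Fin 4 → ZMod 2) → ℕ) (toV posP4 m.val) = m.val := by decide +kernel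

theorem surjP4 (v : Fin 4 ⊕ Fin 4 → ZMod 2) : ∃ m, m < 2 ^ 8 ∧ toV posP4 m = v := by
  have hi : Function.Injective (fun m : Fin 256 => (toV posP4 m.val : Fin 4 ⊕ Fin 4 → ZMod 2)) := fun a b h =>
    Fin.ext ((encP4 a).symm.trans ((congrArg (fun v => (if v (.inl 0) = 1 then 1 else 0) + (if v (.inl 1) = 1 then 2 else 0) + (if v (.inl 2) = 1 then 4 else 0) + (if v (.inl 3) = 1 then 8 else 0) + (if v (.inr 0) = 1 then 16 else 0) + (if v (.inr 1) = 1 then 32 else 0) + (if v (.inr 2) = 1 then 64 else 0) + (if v (.inr 3) = 1 then 128 else 0) : (Fin 4 ⊕ Fin 4 → ZMod 2) → ℕ) h).trans (encP4 b)))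
  obtain ⟨⟨m, hm⟩, e⟩ := ((Fintype.bijective_iff_injective_and_card _).2 ⟨hi, by simp⟩).2 v
  exact ⟨m, hm, e⟩

theorem chk4 : fourB qM1 elM1 parM1 = true := by decide +kernel

end CfsgLib.Spor.CocycleData
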