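import Cfsg.Prelude.Def_MonsterType
import Cfsg.Agent.Spor.LeechForm

/-!
An elementary abelian subgroup of order `2^13` in the extraspecial group of a group of Monster type.
-/

set_option autoImplicit false

namespace CfsgLib.Spor

open Cfsg

section Form

variable {Q : Type*} [Group Q]

open scoped Classical in
/-- the sign of an element -/
noncomputable def eps (c : Q) : ZMod 2 := if c = 1 then 0 else 1

theorem eps_eq_zero {c : Q} : eps c = 0 ↔ c = 1 := by
  unfold eps; split <;> simp_all

theorem eps_mul (hZ : Nat.card (Subgroup.center Q) = 2) {a b : Q} (ha : a ∈ Subgroup.center Q)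
    (hb : b ∈ Subgroup.center Q) : eps (a * b) = eps a + eps b := by
  by_cases h1 : a = 1
  · subst h1; rw [one_mul, eps_eq_zero.2 rfl, zero_add]
  by_cases h2 : b = 1
  · subst h2; rw [mul_one, eps_eq_zero.2 rfl, add_zero]
  have key : (⟨a, ha⟩ : Subgroup.center Q) = ⟨b, hb⟩ := by
    obtain ⟨u, hu, huniq⟩ := Nat.card_eq_two_iff' (1 : Subgroup.center Q) |>.1 hZ
    rw [huniq ⟨a, ha⟩ (by simpa [Subtype.ext_iff] using h1), huniq ⟨b, hb⟩ (by simpa [Subtype.ext_iff] using h2)]
  have hab : a = b := congrArg Subtype.val key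
  subst hab
  have hsq : a * a = 1 := by
    have h3 : (⟨a, ha⟩ : Subgroup.center Q) ^ Nat.card (Subgroup.center Q) = 1 := pow_card_eq_one'
    rw [hZ, pow_two] at h3
    exact congrArg Subtype.val h3
  simp [eps, hsq, h1, CharTwo.add_self_eq_zero]

/-- commutator -/
def kom (x y : Q) : Q := x * y * x⁻¹ * y⁻¹

theorem kom_mem (hab : ∀ x y : Q ⧸ Subgroup.center Q, x * y = y * x) (x y : Q) :
    kom x y ∈ Subgroup.center Q := by
  rw [← QuotientGroup.eq_one_iff]
  simp only [kom, QuotientGroup.mk_mul, QuotientGroup.mk_inv]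
  rw [hab (x : Q ⧸ Subgroup.center Q) y]
  group

theorem kom_mul_right (hab : ∀ x y : Q ⧸ Subgroup.center Q, x * y = y * x) (x y y' : Q) :
    kom x (y * y') = kom x y * kom x y' := by
  have h := Subgroup.mem_center_iff.1 (kom_mem hab x y') y
  have e : kom x (y * y') = kom x y * (y * kom x y' * y⁻¹) := by simp only [kom]; group
  rw [e, h]; group

theorem kom_congr {x x' y y' : Q} (hx : x⁻¹ * x' ∈ Subgroup.center Q)
    (hy : y⁻¹ * y' ∈ Subgroup.center Q) : kom x' y' = kom x y := by
  obtain ⟨c, hc, rfl⟩ : ∃ c, c ∈ Subgroup.center Q ∧ x' = x * c := ⟨_, hx, by group⟩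
  obtain ⟨d, hd, rfl⟩ : ∃ d, d ∈ Subgroup.center Q ∧ y' = y * d := ⟨_, hy, by group⟩
  have hc' := Subgroup.mem_center_iff.1 hc
  have hd' := Subgroup.mem_center_iff.1 hd
  simp only [kom, mul_inv_rev]
  calc x * c * (y * d) * (c⁻¹ * x⁻¹) * (d⁻¹ * y⁻¹)
      = x * (c * (y * d)) * (c⁻¹ * x⁻¹) * (d⁻¹ * y⁻¹) := by group
    _ = x * ((y * d) * c) * (c⁻¹ * x⁻¹) * (d⁻¹ * y⁻¹) := by rw [hc' (y * d)]
    _ = x * y * (d * x⁻¹) * (d⁻¹ * y⁻¹) := by group
    _ = x * y * (x⁻¹ * d) * (d⁻¹ * y⁻¹) := by rw [hd' x⁻¹]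
    _ = x * y * x⁻¹ * y⁻¹ := by group

theorem mul_sq (hab : ∀ x y : Q ⧸ Subgroup.center Q, x * y = y * x) (x y : Q) :
    x * y * (x * y) = kom y x * (x * x * (y * y)) := by
  have h := Subgroup.mem_center_iff.1 (kom_mem hab y x) x
  calc x * y * (x * y) = x * kom y x * (x * y * y) := by simp only [kom]; group
    _ = kom y x * x * (x * y * y) := by rw [h]
    _ = _ := by group

theorem sq_congr (hZ : Nat.card (Subgroup.center Q) = 2) {x x' : Q}
    (hx : x⁻¹ * x' ∈ Subgroup.center Q) : x' * x' = x * x := by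
  obtain ⟨c, hc, rfl⟩ : ∃ c, c ∈ Subgroup.center Q ∧ x' = x * c := ⟨_, hx, by group⟩
  have hsq : c * c = 1 := by
    have h3 : (⟨c, hc⟩ : Subgroup.center Q) ^ Nat.card (Subgroup.center Q) = 1 := pow_card_eq_one'
    rw [hZ, pow_two] at h3
    exact congrArg Subtype.val h3
  calc x * c * (x * c) = x * (c * x) * c := by group
    _ = x * (x * c) * c := by rw [Subgroup.mem_center_iff.1 hc x]
    _ = x * x * (c * c) := by group
    _ = _ := by rw [hsq, mul_one]

end Form

/-- the twelve vectors -/
def plusGen (i : Fin 12) : leechLattice :=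
  if i.val = 11 then leight none else lpair none (pt (12 + i.val))

/-- their combinations -/
def plusVec (s : Fin 12 → ZMod 2) : leechLattice := ∑ i, (s i).val • plusGen i

theorem plusVec_coord (s : Fin 12 → ZMod 2) :
    (∀ j : Fin 11, ((plusVec s : leechLattice) : GolayPt → ℤ) (pt (12 + j.val)) = 4 * ((s j.castSucc).val : ℤ)) ∧
    (∀ i : Fin 12, ((plusVec s : leechLattice) : GolayPt → ℤ) (pt i.val) = 0) ∧
    ((plusVec s : leechLattice) : GolayPt → ℤ) none =
      4 * (∑ j : Fin 11, ((s j.castSucc).val : ℤ)) + 8 * ((s 11).val : ℤ) := by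
  have e : ∀ p, ((plusVec s : leechLattice) : GolayPt → ℤ) p =
      (∑ i, ((s i).val : ℤ) * ((plusGen i : leechLattice) : GolayPt → ℤ) p) := by
    intro p
    rw [plusVec, AddSubgroup.val_finsetSum, Finset.sum_apply]
    refine Finset.sum_congr rfl fun i _ => ?_
    rw [AddSubgroup.coe_nsmul, Pi.smul_apply, nsmul_eq_mul]
  refine ⟨fun j => ?_, fun i => ?_, ?_⟩
  · rw [e]
    rw [Finset.sum_eq_single j.castSucc]
    · have hg : ((plusGen j.castSucc : leechLattice) : GolayPt → ℤ) (pt (12 + j.val)) = 4 := by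
        revert j; decide +kernel
      rw [hg]; ring
    · intro b _ hb
      have hg : ((plusGen b : leechLattice) : GolayPt → ℤ) (pt (12 + j.val)) = 0 := by
        revert hb; revert b; revert j; decide +kernel
      rw [hg]; ring
    · intro h; exact absurd (Finset.mem_univ _) h
  · rw [e]
    refine Finset.sum_eq_zero fun b _ => ?_
    have hg : ((plusGen b : leechLattice) : GolayPt → ℤ) (pt i.val) = 0 := by
      revert b; revert i; decide +kernel
    rw [hg]; ring
  · rw [e, Fin.sum_univ_castSucc]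
    have hg : ∀ j : Fin 11, ((plusGen j.castSucc : leechLattice) : GolayPt → ℤ) none = 4 := by
      decide +kernel
    have hg' : ((plusGen (Fin.last 11) : leechLattice) : GolayPt → ℤ) none = 8 := by decide +kernel
    rw [hg', Finset.sum_congr rfl fun j _ => by rw [hg j], ← Finset.sum_mul]
    show _ = 4 * _ + 8 * ((s (Fin.last 11)).val : ℤ)
    ring

theorem plusVec_not_double (s : Fin 12 → ZMod 2) (w : leechLattice) (h : plusVec s = w + w) :
    s = 0 := by
  obtain ⟨hT, h0, hn⟩ := plusVec_coord s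
  have hh : ∀ p, ((plusVec s : leechLattice) : GolayPt → ℤ) p = 2 * (w : GolayPt → ℤ) p := by
    intro p; rw [h, AddSubgroup.coe_add, Pi.add_apply]; ring
  obtain ⟨m, hm, hsum, hword⟩ := mem_leechLattice.1 w.2
  have hm2 : (2 : ℤ) ∣ m := by
    have a1 := hm (pt 0)
    have a2 := hh (pt 0)
    have a3 : _ = (0 : ℤ) := h0 0
    simp only [Fin.val_zero] at a3
    omega
  -- the word vanishes on the first twelve numbers
  have hw0 : ∀ i : Fin 12, halfWord (w : GolayPt → ℤ) m (pt i.val) = halfWord 0 m (pt i.val) := by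
    intro i
    have a1 := hh (pt i.val)
    rw [h0 i] at a1
    simp only [halfWord, Pi.zero_apply]
    congr 3; omega
  -- shift the word so that it vanishes there
  set u : GolayPt → ZMod 2 := halfWord (w : GolayPt → ℤ) m + fun _ => ((m / 2 : ℤ) : ZMod 2) with hu
  have hu_mem : u ∈ golayCode := by
    refine Submodule.add_mem _ hword ?_
    have e : (fun _ => ((m / 2 : ℤ) : ZMod 2) : GolayPt → ZMod 2) = ((m / 2 : ℤ) : ZMod 2) • 1 := by
      funext p; simp
    rw [e]; exact Submodule.smul_mem _ _ one_mem_golayCode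
  have huval : ∀ p, u p = (((w : GolayPt → ℤ) p / 2 : ℤ) : ZMod 2) := by
    intro p
    have a1 := hm p
    simp only [hu, halfWord, Pi.add_apply]
    rw [← Int.cast_add]
    congr 1; omega
  have huzero : u = 0 := by
    have hc := inCode_maskOf_of_mem hu_mem
    have hlow : ∀ i, i < 12 → (maskOf (support₂ u)).testBit i = false := by
      intro i hi
      rw [testBit_maskOf]
      have a1 := hh (pt i)
      rw [h0 ⟨i, hi⟩] at a1
      simp only [mem_supp, huval]
      have : (w : GolayPt → ℤ) (pt i) = 0 := by omega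
      simp [this]
    have hz : maskOf (support₂ u) = 0 := by
      rw [← inCode_iff.1 hc, combo]
      have : comboAux basisRows 0 (maskOf (support₂ u)) = comboAux basisRows 0 0 := by
        refine comboAux_congr _ _ _ _ fun i _ hi => ?_
        rw [hlow i (by simpa [basisRows] using hi), Nat.zero_testBit]
      rw [this]; decide +kernel
    have h2 : support₂ u = ∅ := by rw [← ofMask_maskOf (support₂ u), hz, ofMask_zero]
    funext p
    by_contra hp
    have := mem_supp.2 hp
    rw [h2] at this
    exact absurd this (by simp)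
  have heven : ∀ p, (2 : ℤ) ∣ (w : GolayPt → ℤ) p / 2 := by
    intro p
    have a1 := huval p
    rw [huzero, Pi.zero_apply] at a1
    exact (ZMod.intCast_zmod_eq_zero_iff_dvd _ 2).1 a1.symm
  have hlast : ∀ j : Fin 11, s j.castSucc = 0 := by
    intro j
    have a1 := hh (pt (12 + j.val))
    rw [hT j] at a1
    have a2 := heven (pt (12 + j.val))
    have a3 : (s j.castSucc).val < 2 := ZMod.val_lt _
    have : (s j.castSucc).val = 0 := by omega
    exact (ZMod.val_eq_zero _).1 this
  have hfirst : ∀ p, p ≠ none → (w : GolayPt → ℤ) p = 0 := by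
    intro p hp
    have hp2 : num p < 23 := by
      cases p with
      | none => exact absurd rfl hp
      | some x => rw [num_some]; exact ZMod.val_lt x
    have a1 := hh p
    rw [← pt_num p] at a1
    by_cases h12 : num p < 12
    · rw [h0 ⟨num p, h12⟩, pt_num] at a1; omega
    · have e : num p = 12 + (num p - 12) := by omega
      rw [e, hT ⟨num p - 12, by omega⟩, hlast, ← e, pt_num, ZMod.val_zero] at a1
      omega
  have hsum' : (∑ i, (w : GolayPt → ℤ) i) = (w : GolayPt → ℤ) none :=
    Finset.sum_eq_single none (fun p _ hp => hfirst p hp) (fun h => absurd (Finset.mem_univ _) h)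
  rw [hsum'] at hsum
  have hnone := hh none
  rw [hn, Finset.sum_eq_zero (fun j _ => by rw [hlast j, ZMod.val_zero]; rfl)] at hnone
  have a2 := heven none
  have a3 : (s 11).val < 2 := ZMod.val_lt _
  have h11 : (s 11).val = 0 := by omega
  funext i
  rcases Fin.eq_castSucc_or_eq_last i with ⟨j, rfl⟩ | rfl
  · exact hlast j
  · exact (ZMod.val_eq_zero _).1 h11

theorem InvForm.plusVec_zero {q : leechLattice → ZMod 2}
    {f : leechLattice → leechLattice → ZMod 2} (h : InvForm q f) (s : Fin 12 → ZMod 2) :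
    q (plusVec s) = 0 := by
  obtain ⟨h8, hp, hm, he⟩ := h.values
  have hne : ∀ i : Fin 12, i.val ≠ 11 → (none : GolayPt) ≠ pt (12 + i.val) := by decide +kernel
  have hpt : ∀ i j : Fin 12, i.val ≠ 11 → j.val ≠ 11 → i ≠ j → pt (12 + i.val) ≠ pt (12 + j.val) := by
    decide +kernel
  have hq : ∀ i, q (plusGen i) = 0 := by
    intro i; unfold plusGen; split
    · exact h8 _
    · exact hp _ _ (hne i ‹_›)
  have hf : ∀ i j, f (plusGen i) (plusGen j) = 0 := by
    intro i j
    by_cases hij : i = j
    · rw [hij, h.f_self]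
    unfold plusGen
    split <;> split
    · exact h.f_self _
    · rw [h.f_comm]; exact he _ _ _ (hne j ‹_›)
    · exact he _ _ _ (hne i ‹_›)
    · exact hm _ _ _ (hne i ‹_›) (hne j ‹_›) (hpt i j ‹_› ‹_› hij)
  have hfz : ∀ u, f u 0 = 0 := fun u => by simpa using h.f_double u 0
  have hfn : ∀ (u v : leechLattice) (n : ℕ), f u v = 0 → f u (n • v) = 0 := by
    intro u v n hv
    induction n with
    | zero => rw [zero_nsmul, hfz]
    | succ k ih => rw [succ_nsmul, h.biadd, ih, hv, add_zero]
  have hqn : ∀ (v : leechLattice) (n : ℕ), q v = 0 → q (n • v) = 0 := by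
    intro v n hv
    induction n with
    | zero => rw [zero_nsmul, h.zero]
    | succ k ih => rw [succ_nsmul, h.add, ih, hv, h.f_comm, hfn v v k (h.f_self v), add_zero, add_zero]
  rw [plusVec]
  suffices hs : ∀ S : Finset (Fin 12), q (∑ i ∈ S, (s i).val • plusGen i) = 0 ∧
      ∀ j, f (plusGen j) (∑ i ∈ S, (s i).val • plusGen i) = 0 from (hs Finset.univ).1
  intro S
  induction S using Finset.induction with
  | empty => exact ⟨by rw [Finset.sum_empty]; exact h.zero, fun j => by rw [Finset.sum_empty]; exact hfz _⟩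
  | insert i S hi ih =>
    rw [Finset.sum_insert hi]
    refine ⟨?_, fun j => by rw [h.biadd, hfn _ _ _ (hf j i), ih.2 j, add_zero]⟩
    rw [h.add, hqn _ _ (hq i), ih.1, h.f_comm, hfn _ _ _ (by rw [h.f_comm]; exact ih.2 i), add_zero,
      add_zero]

/-- The extraspecial group of a group of Monster type is of plus type. -/
theorem exists_plus {G : Type*} [Group G] [Finite G] {z : G}
    {Q : Subgroup (Subgroup.centralizer ({z} : Set G))} [Q.Normal] (hM : Cfsg.IsOfMonsterType z Q) :
    ∃ E : Subgroup Q, Cfsg.IsElementaryAbelian 2 E ∧ Nat.card E = 2 ^ 13 := by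
  obtain ⟨⟨-, -, hex, hcard, -⟩, e, ψ, hadd, hsur, hker, hact⟩ := hM
  have hZ : Nat.card (Subgroup.center Q) = 2 := hex.2
  have hab : ∀ x y : Q ⧸ Subgroup.center Q, x * y = y * x := by
    intro x y
    obtain ⟨u, rfl⟩ := hsur x
    obtain ⟨v, rfl⟩ := hsur y
    rw [← hadd, ← hadd, add_comm]
  have hψ0 : ψ 0 = 1 := (hker 0).2 ⟨0, by simp⟩
  have hψd : ∀ w, ψ (w + w) = 1 := fun w => (hker _).2 ⟨w, rfl⟩
  set L : leechLattice → Q := fun v => (ψ v).out with hL
  have hLmk : ∀ v, (L v : Q ⧸ Subgroup.center Q) = ψ v := fun v => QuotientGroup.out_eq' _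
  have hsq : ∀ x : Q, x * x ∈ Subgroup.center Q := by
    intro x
    obtain ⟨v, hv⟩ := hsur (x : Q ⧸ Subgroup.center Q)
    rw [← QuotientGroup.eq_one_iff, QuotientGroup.mk_mul, ← hv, ← hadd, hψd]
  have hsqrep : ∀ (v : leechLattice) (x : Q), ψ v = x → x * x = L v * L v := fun v x hx =>
    sq_congr hZ (QuotientGroup.eq.1 ((hLmk v).trans hx))
  let q : leechLattice → ZMod 2 := fun v => eps (L v * L v)
  let f : leechLattice → leechLattice → ZMod 2 := fun u v => eps (kom (L v) (L u))
  have hInv : InvForm q f := by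
    refine ⟨fun u v => ?_, fun u v w => ?_, fun u => ?_, fun g u => ?_⟩
    · have h1 := hsqrep (u + v) (L u * L v) (by rw [QuotientGroup.mk_mul, hLmk, hLmk, hadd])
      show eps (L (u + v) * L (u + v)) = _
      rw [← h1, mul_sq hab, eps_mul hZ (kom_mem hab _ _) (mul_mem (hsq _) (hsq _)),
        eps_mul hZ (hsq _) (hsq _), add_comm]
    · have h1 : (L v * L w)⁻¹ * L (v + w) ∈ Subgroup.center Q := by
        apply QuotientGroup.eq.1
        rw [QuotientGroup.mk_mul, hLmk, hLmk, hLmk, hadd]
      show eps (kom (L (v + w)) (L u)) = _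
      rw [kom_congr (x := L v * L w) (y := L u) h1 (by rw [inv_mul_cancel]; exact one_mem _)]
      have e1 : ∀ a b : Q, kom a b = (kom b a)⁻¹ := fun a b => by simp only [kom]; group
      have e2 : ∀ c : Q, c ∈ Subgroup.center Q → c⁻¹ = c := by
        intro c hc
        have h3 : (⟨c, hc⟩ : Subgroup.center Q) ^ Nat.card (Subgroup.center Q) = 1 := pow_card_eq_one'
        rw [hZ, pow_two] at h3
        exact inv_eq_of_mul_eq_one_left (congrArg Subtype.val h3)
      have e3 : ∀ a b : Q, kom a b = kom b a := fun a b => by rw [e1, e2 _ (kom_mem hab _ _)]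
      rw [e3, kom_mul_right hab, eps_mul hZ (kom_mem hab _ _) (kom_mem hab _ _), e3 (L u), e3 (L u)]
    · have h1 := hsqrep (u + u) 1 (by rw [hψd, QuotientGroup.mk_one])
      show eps (L (u + u) * L (u + u)) = 0
      rw [← h1, eps_eq_zero, mul_one]
    · obtain ⟨c, hc⟩ := QuotientGroup.mk_surjective (e.symm (QuotientGroup.mk g : Cfsg.Spor.Co1))
      have h1 := hact c g (by rw [hc, MulEquiv.apply_symm_apply]) u (L u) (hLmk u).symm
      have h2 := hsqrep (g • u) _ h1
      show eps (L (g • u) * L (g • u)) = eps (L u * L u)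
      rw [← h2]
      have e1 : ∀ a : Q, (⟨c * (a : Subgroup.centralizer ({z} : Set G)) * c⁻¹,
          (inferInstance : Q.Normal).conj_mem _ a.2 c⟩ : Q) = MulAut.conjNormal c a := fun a =>
        Subtype.ext (MulAut.conjNormal_apply c a).symm
      rw [e1, ← map_mul]
      unfold eps
      by_cases h3 : L u * L u = 1
      · rw [if_pos h3, if_pos (by rw [h3, map_one])]
      · rw [if_neg h3, if_neg fun h4 => h3 ((MulAut.conjNormal c).injective (h4.trans (map_one _).symm))]
  let Φ : Multiplicative (Fin 12 → ZMod 2) →* Q ⧸ Subgroup.center Q :=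
    MonoidHom.mk' (fun s => ψ (plusVec s.toAdd)) (by
      intro a b
      have e1 : ∀ i, ψ ((a.toAdd i + b.toAdd i).val • plusGen i) =
          ψ ((a.toAdd i).val • plusGen i + (b.toAdd i).val • plusGen i) := by
        intro i
        generalize a.toAdd i = x
        generalize b.toAdd i = y
        have h11 : ψ ((0 : ℕ) • plusGen i) = ψ (1 • plusGen i + 1 • plusGen i) := by
          rw [zero_nsmul, hψ0, hψd]
        rcases (by revert x; decide : x = 0 ∨ x = 1) with rfl | rfl <;>
          rcases (by revert y; decide : y = 0 ∨ y = 1) with rfl | rfl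
        · simp
        · simp
        · simp
        · exact h11
      have e2 : ∀ (S : Finset (Fin 12)), ψ (∑ i ∈ S, (a.toAdd i + b.toAdd i).val • plusGen i) =
          ψ (∑ i ∈ S, ((a.toAdd i).val • plusGen i + (b.toAdd i).val • plusGen i)) := by
        intro S
        induction S using Finset.induction with
        | empty => simp
        | insert i S hi ih => rw [Finset.sum_insert hi, Finset.sum_insert hi, hadd, hadd, e1, ih]
      rw [← hadd]; simp only [plusVec]
      rw [← Finset.sum_add_distrib, ← e2]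
      rfl)
  have hΦinj : Function.Injective Φ := by
    rw [injective_iff_map_eq_one]
    intro s hs
    obtain ⟨w, hw⟩ := (hker _).1 hs
    exact Multiplicative.toAdd.injective (plusVec_not_double s.toAdd w hw)
  refine ⟨Φ.range.comap (QuotientGroup.mk' (Subgroup.center Q)), ?_, ?_⟩
  · have hsq1 : ∀ x : Q, x ∈ Φ.range.comap (QuotientGroup.mk' (Subgroup.center Q)) → x * x = 1 := by
      intro x hx
      obtain ⟨s, hs⟩ := hx
      have h1 := hsqrep (plusVec s.toAdd) x hs
      have h2 := hInv.plusVec_zero s.toAdd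
      rw [h1]; exact eps_eq_zero.1 h2
    refine ⟨⟨⟨fun a b => Subtype.ext ?_⟩⟩, fun a ha => ?_⟩
    · have ha := hsq1 _ a.2
      have hb := hsq1 _ b.2
      have hab' := hsq1 _ (mul_mem a.2 b.2)
      show (a : Q) * b = b * a
      calc (a : Q) * b = ((b : Q) * b) * ((a : Q) * b) * ((a : Q) * a) := by rw [ha, hb, one_mul, mul_one]
        _ = (b : Q) * (((b : Q) * a) * ((b : Q) * a)) * (a : Q) := by group
        _ = (b : Q) * a := by rw [hsq1 _ (mul_mem b.2 a.2), mul_one]
    · rw [pow_two]; first | exact hsq1 _ ha | exact Subtype.ext (hsq1 _ a.2)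
  · have h1 := Subgroup.card_eq_card_quotient_mul_card_subgroup (Subgroup.center Q)
    have h2 := (Φ.range.comap (QuotientGroup.mk' (Subgroup.center Q))).card_mul_index
    rw [Subgroup.index_comap_of_surjective _ (QuotientGroup.mk'_surjective _)] at h2
    have h3 := Φ.range.card_mul_index
    have h4 : Nat.card Φ.range = 2 ^ 12 := by
      rw [← Nat.card_congr (MonoidHom.ofInjective hΦinj).toEquiv]
      simp [Nat.card_eq_fintype_card]
    rw [hcard, hZ] at h1
    rw [hcard] at h2
    rw [h4] at h3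
    have h5 : 0 < Φ.range.index := Nat.pos_of_ne_zero Subgroup.index_ne_zero_of_finite
    nlinarith

end CfsgLib.Spor
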