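import Cfsg.Agent.Solv.Basic
import Cfsg.Agent.Spor.Fischer.ExtraPairing
import Cfsg.Agent.Solv.FittingBasic

/-!
Orthogonality of the conjugates of the centre of a large extraspecial subgroup is symmetric.
-/

set_option autoImplicit false

namespace CfsgLib.Spor.LargeSymm

open scoped commutatorElement
open CfsgLib.Fischer

variable {G : Type*} [Group G] [Finite G]

theorem pCoreOf_conj {p : ℕ} (m a : G) {w : G}
    (hw : w ∈ (Cfsg.pCore p (Subgroup.centralizer ({a} : Set G))).map (Subgroup.centralizer ({a} : Set G)).subtype) :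
    m * w * m⁻¹ ∈ (Cfsg.pCore p (Subgroup.centralizer ({m * a * m⁻¹} : Set G))).map
      (Subgroup.centralizer ({m * a * m⁻¹} : Set G)).subtype := by
  obtain ⟨u, hu, rfl⟩ := hw
  have hto : ∀ c : G, c ∈ Subgroup.centralizer ({a} : Set G) →
      m * c * m⁻¹ ∈ Subgroup.centralizer ({m * a * m⁻¹} : Set G) := fun c hc => by
    rw [Subgroup.mem_centralizer_singleton_iff] at hc ⊢
    calc m * c * m⁻¹ * (m * a * m⁻¹) = m * (c * a) * m⁻¹ := by group
      _ = m * (a * c) * m⁻¹ := by rw [hc]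
      _ = m * a * m⁻¹ * (m * c * m⁻¹) := by group
  have hfrom : ∀ c : G, c ∈ Subgroup.centralizer ({m * a * m⁻¹} : Set G) →
      m⁻¹ * c * m ∈ Subgroup.centralizer ({a} : Set G) := fun c hc => by
    rw [Subgroup.mem_centralizer_singleton_iff] at hc ⊢
    calc m⁻¹ * c * m * a = m⁻¹ * (c * (m * a * m⁻¹)) * m := by group
      _ = m⁻¹ * (m * a * m⁻¹ * c) * m := by rw [hc]
      _ = a * (m⁻¹ * c * m) := by group
  let φ : Subgroup.centralizer ({a} : Set G) ≃* Subgroup.centralizer ({m * a * m⁻¹} : Set G) :=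
    { toFun := fun c => ⟨m * c.1 * m⁻¹, hto c.1 c.2⟩
      invFun := fun c => ⟨m⁻¹ * c.1 * m, hfrom c.1 c.2⟩
      left_inv := fun c => Subtype.ext (show m⁻¹ * (m * c.1 * m⁻¹) * m = c.1 by group)
      right_inv := fun c => Subtype.ext (show m * (m⁻¹ * c.1 * m) * m⁻¹ = c.1 by group)
      map_mul' := fun c d => Subtype.ext
        (show m * (c.1 * d.1) * m⁻¹ = m * c.1 * m⁻¹ * (m * d.1 * m⁻¹) by group) }
  haveI := CfsgLib.Solv.pCore_normal (G := Subgroup.centralizer ({a} : Set G)) (p := p)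
  haveI : ((Cfsg.pCore p (Subgroup.centralizer ({a} : Set G))).map φ.toMonoidHom).Normal :=
    Subgroup.Normal.map inferInstance _ φ.surjective
  exact ⟨φ u, CfsgLib.Solv.le_pCore ((CfsgLib.Solv.pCore_isPGroup (Subgroup.centralizer ({a} : Set G)) p).map
    φ.toMonoidHom) ⟨u, hu, rfl⟩, rfl⟩

theorem le_pCoreOf (Q : Subgroup G) (z : G) (hQ : IsPGroup 2 Q) (hQC : Q ≤ Subgroup.centralizer ({z} : Set G))
    (hN : Subgroup.centralizer ({z} : Set G) ≤ Subgroup.normalizer (Q : Set G)) :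
    Q ≤ (Cfsg.pCore 2 (Subgroup.centralizer ({z} : Set G))).map (Subgroup.centralizer ({z} : Set G)).subtype := by
  intro x hx
  haveI : (Q.subgroupOf (Subgroup.centralizer ({z} : Set G))).Normal :=
    ⟨fun u hu c => (Subgroup.mem_normalizer_iff.1 (hN c.2) u.1).1 hu⟩
  exact ⟨⟨x, hQC hx⟩, CfsgLib.Solv.le_pCore (hQ.of_equiv (Subgroup.subgroupOfEquivOfLe hQC).symm) hx, rfl⟩

theorem sq_central {E : Type*} [Group E] [Finite E] (hE : Cfsg.IsExtraspecial 2 E) (q : E) :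
    q * q ∈ Subgroup.center E := by
  haveI : Fact (Nat.Prime 2) := ⟨Nat.prime_two⟩
  have h := CfsgLib.Solv.pow_mem_frattini hE.1.1 q
  rwa [hE.1.2.1, pow_two] at h

/-- the involution `x` of `Q` and `z` are exchanged by an element -/
theorem exists_swap_centralizer (Q : Subgroup G) (z x g : G) (hE : Cfsg.IsExtraspecial 2 Q)
    (hQC : Q ≤ Subgroup.centralizer ({z} : Set G))
    (hN : Subgroup.centralizer ({z} : Set G) ≤ Subgroup.normalizer (Q : Set G))
    (hC : Subgroup.centralizer (Q : Set G) ≤ Q) (hz : orderOf z = 2) (hxQ : x ∈ Q) (hxg : g * z * g⁻¹ = x)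
    (hne : x ≠ z) :
    ∃ m q : G, q ∈ Q ∧ q * x * q⁻¹ = x * z ∧ m * z * m⁻¹ = x ∧ m * x * m⁻¹ = z ∧
      ∀ c : G, (∀ r ∈ Q ⊓ Subgroup.centralizer ({x} : Set G), r * c = c * r) →
        c = 1 ∨ c = z ∨ c = x ∨ c = x * z := by
  classical
  haveI : Fact (Nat.Prime 2) := ⟨Nat.prime_two⟩
  have hz1 : z ≠ 1 := fun e => by rw [e, orderOf_one] at hz; norm_num at hz
  have hz2 : z * z = 1 := by rw [← pow_two, ← hz]; exact pow_orderOf_eq_one z
  have hzc : z ∈ Subgroup.centralizer (Q : Set G) := fun q hq =>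
    Subgroup.mem_centralizer_singleton_iff.1 (hQC hq)
  have hzQ : z ∈ Q := hC hzc
  have hzQc : ∀ q : Q, q * (⟨z, hzQ⟩ : Q) = ⟨z, hzQ⟩ * q := fun q => Subtype.ext (hzc q.1 q.2)
  have hcent : ∀ w : Q, w ∈ Subgroup.center Q → w.1 = 1 ∨ w.1 = z := by
    intro w hw
    by_cases h1 : w = 1
    · left; rw [h1]; rfl
    · right
      exact congrArg (fun t : Subgroup.center Q => (t.1 : Q).1) (Extra.center_cases hE ⟨w, hw⟩
        ⟨⟨z, hzQ⟩, Subgroup.mem_center_iff.2 hzQc⟩ (fun e => h1 (congrArg Subtype.val e))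
        (fun e => hz1 (congrArg (fun t : Subgroup.center Q => (t.1 : Q).1) e)))
  have hcomm : ∀ a ∈ Q, ∀ b ∈ Q, a * b * a⁻¹ = b ∨ a * b * a⁻¹ = b * z := by
    intro a ha b hb
    have h : a * b * a⁻¹ * b⁻¹ = 1 ∨ a * b * a⁻¹ * b⁻¹ = z := by
      rcases hcent ⁅(⟨a, ha⟩ : Q), (⟨b, hb⟩ : Q)⁆ (Extra.comm_mem hE _ _) with e | e
      · exact Or.inl e
      · exact Or.inr e
    rcases h with e | e
    · exact Or.inl (mul_inv_eq_one.1 e)
    · right
      rw [mul_inv_eq_iff_eq_mul] at e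
      rw [e]
      exact (hzc b hb).symm
  have hx2 : x * x = 1 := by
    rw [← hxg, show g * z * g⁻¹ * (g * z * g⁻¹) = g * (z * z) * g⁻¹ by group, hz2]; group
  have hx1 : x ≠ 1 := fun e => hz1 (by
    rw [← hxg] at e
    calc z = g⁻¹ * (g * z * g⁻¹) * g := by group
      _ = 1 := by rw [e]; group)
  -- an element moving `x`
  obtain ⟨q0, hq0, hq0x⟩ : ∃ q ∈ Q, q * x * q⁻¹ = x * z := by
    by_contra hall
    push Not at hall
    have : (⟨x, hxQ⟩ : Q) ∈ Subgroup.center Q := Subgroup.mem_center_iff.2 fun q => Subtype.ext (by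
      show q.1 * x = x * q.1
      exact mul_inv_eq_iff_eq_mul.1 ((hcomm q.1 q.2 x hxQ).resolve_right (hall q.1 q.2)))
    rcases hcent _ this with e | e
    · exact hx1 e
    · exact hne e
  set V : Subgroup G := Subgroup.centralizer ({z} : Set G) ⊓ Subgroup.centralizer ({x} : Set G) with hV
  set R : Subgroup G := Q ⊓ Subgroup.centralizer ({x} : Set G) with hR
  have hRsplit : ∀ q ∈ Q, q ∈ R ∨ q0⁻¹ * q ∈ R := by
    intro q hq
    rcases hcomm q hq x hxQ with e | e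
    · exact Or.inl ⟨hq, Subgroup.mem_centralizer_singleton_iff.2 (mul_inv_eq_iff_eq_mul.1 e)⟩
    · right
      refine ⟨Q.mul_mem (Q.inv_mem hq0) hq, Subgroup.mem_centralizer_singleton_iff.2 (mul_inv_eq_iff_eq_mul.1 ?_)⟩
      rw [show q0⁻¹ * q * x * (q0⁻¹ * q)⁻¹ = q0⁻¹ * (q * x * q⁻¹) * q0 by group, e, ← hq0x]
      group
  have hxc : ∀ r ∈ R, r * x = x * r := fun r hr => Subgroup.mem_centralizer_singleton_iff.1 hr.2
  have hinQ : ∀ y ∈ Q, (∀ r ∈ R, r * y = y * r) → y = 1 ∨ y = z ∨ y = x ∨ y = x * z := by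
    intro y hy hr
    have hall : ∀ w ∈ Q, (∀ r ∈ R, r * w = w * r) → q0 * w * q0⁻¹ = w → w = 1 ∨ w = z := by
      intro w hw hwr hwq
      refine hcent ⟨w, hw⟩ (Subgroup.mem_center_iff.2 fun q => Subtype.ext ?_)
      show q.1 * w = w * q.1
      rcases hRsplit q.1 q.2 with h | h
      · exact hwr _ h
      · have h1 := hwr _ h
        have h2 := mul_inv_eq_iff_eq_mul.1 hwq
        calc q.1 * w = q0 * (q0⁻¹ * q.1 * w) := by group
          _ = q0 * w * (q0⁻¹ * q.1) := by rw [h1]; group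
          _ = w * q.1 := by rw [h2]; group
    rcases hcomm q0 hq0 y hy with e | e
    · rcases hall y hy hr e with h | h
      · exact Or.inl h
      · exact Or.inr (Or.inl h)
    · have hyx : ∀ r ∈ R, r * (x * y) = x * y * r := fun r hrR => by
        rw [← mul_assoc, hxc r hrR, mul_assoc, hr r hrR, mul_assoc]
      have hfix : q0 * (x * y) * q0⁻¹ = x * y := by
        rw [show q0 * (x * y) * q0⁻¹ = q0 * x * q0⁻¹ * (q0 * y * q0⁻¹) by group, hq0x, e,
          show x * z * (y * z) = x * (z * y) * z by group, ← hzc y hy,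
          show x * (y * z) * z = x * y * (z * z) by group, hz2, mul_one]
      have hxi : x * (x * y) = y := by rw [← mul_assoc, hx2, one_mul]
      rcases hall (x * y) (mul_mem hxQ hy) hyx hfix with h | h <;> rw [h] at hxi
      · exact Or.inr (Or.inr (Or.inl (by rw [mul_one] at hxi; exact hxi.symm)))
      · exact Or.inr (Or.inr (Or.inr hxi.symm))
  have hzR : z ∈ R := ⟨hzQ, Subgroup.mem_centralizer_singleton_iff.2 (hzc x hxQ).symm⟩
  have hCR : ∀ c : G, (∀ r ∈ R, r * c = c * r) → c = 1 ∨ c = z ∨ c = x ∨ c = x * z := by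
    intro c hc
    have hcz : c ∈ Subgroup.centralizer ({z} : Set G) :=
      Subgroup.mem_centralizer_singleton_iff.2 (hc z hzR).symm
    have hcq : c * q0 * c⁻¹ ∈ Q := (Subgroup.mem_normalizer_iff.1 (hN hcz) q0).1 hq0
    have hw : q0⁻¹ * (c * q0 * c⁻¹) ∈ Q := mul_mem (inv_mem hq0) hcq
    have hwr : ∀ r ∈ R, r * (q0⁻¹ * (c * q0 * c⁻¹)) = q0⁻¹ * (c * q0 * c⁻¹) * r := by
      intro r hr
      have hrn : q0 * r * q0⁻¹ ∈ R := by
        refine ⟨Q.mul_mem (Q.mul_mem hq0 hr.1) (Q.inv_mem hq0), ?_⟩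
        rcases hcomm q0 hq0 r hr.1 with e | e <;> rw [e]
        · exact hr.2
        · exact mul_mem hr.2 hzR.2
      have h1 : c * r * c⁻¹ = r := by rw [← hc r hr, mul_inv_cancel_right]
      have h2 : c * (q0 * r * q0⁻¹) * c⁻¹ = q0 * r * q0⁻¹ := by rw [← hc _ hrn, mul_inv_cancel_right]
      calc r * (q0⁻¹ * (c * q0 * c⁻¹)) = q0⁻¹ * (q0 * r * q0⁻¹) * (c * q0 * c⁻¹) := by group
        _ = q0⁻¹ * (c * (q0 * r * q0⁻¹) * c⁻¹) * (c * q0 * c⁻¹) := by rw [h2]
        _ = q0⁻¹ * (c * q0 * c⁻¹) * (c * r * c⁻¹) := by group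
        _ = _ := by rw [h1]
    have hback : ∀ d : G, d ∈ Q → (∀ r ∈ R, r * d = d * r) → d = 1 ∨ d = z ∨ d = x ∨ d = x * z := hinQ
    have hcenQ : ∀ d : G, (∀ r ∈ R, r * d = d * r) → d * q0 * d⁻¹ = q0 → d ∈ Q := by
      intro d hd hdq
      refine hC fun q hq => ?_
      rcases hRsplit q hq with h | h
      · exact hd q h
      · have h1 := hd _ h
        have h2 := mul_inv_eq_iff_eq_mul.1 hdq
        calc q * d = q0 * (q0⁻¹ * q * d) := by group
          _ = q0 * d * (q0⁻¹ * q) := by rw [h1]; group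
          _ = d * q := by rw [← h2]; group
    have hsq : (q0 * q0 = 1 ∨ q0 * q0 = z) := hcent ((⟨q0, hq0⟩ : Q) * ⟨q0, hq0⟩) (sq_central hE _)
    have hfix : c * (q0 * q0) * c⁻¹ = q0 * q0 := by
      rcases hsq with e | e <;> rw [e]
      · group
      · rw [← hc z hzR, mul_inv_cancel_right]
    have hbad : ∀ w : G, w ∈ Q → q0 * w * q0⁻¹ = w * z → w * w = 1 → c * q0 * c⁻¹ ≠ q0 * w := by
      intro w hwQ hw1 hw2 e
      have h3 : c * (q0 * q0) * c⁻¹ = q0 * q0 * z := by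
        rw [show c * (q0 * q0) * c⁻¹ = c * q0 * c⁻¹ * (c * q0 * c⁻¹) by group, e]
        have h4 : w * q0 = q0 * w * z := by
          rw [mul_inv_eq_iff_eq_mul.1 hw1, show w * z * q0 * z = w * (z * q0) * z by group, ← hzc q0 hq0,
            show w * (q0 * z) * z = w * q0 * (z * z) by group, hz2, mul_one]
        calc q0 * w * (q0 * w) = q0 * (w * q0) * w := by group
          _ = q0 * q0 * w * (z * w) := by rw [h4]; group
          _ = q0 * q0 * (w * w) * z := by rw [← hzc w hwQ]; group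
          _ = _ := by rw [hw2, mul_one]
      exact hz1 (left_eq_mul.1 (hfix.symm.trans h3))
    have hxz2 : x * z * (x * z) = 1 := by
      rw [show x * z * (x * z) = x * (z * x) * z by group, ← hzc x hxQ,
        show x * (x * z) * z = (x * x) * (z * z) by group, hx2, hz2, mul_one]
    rcases hinQ _ hw hwr with e | e | e | e
    · exact hback c (hcenQ c hc (inv_mul_eq_one.1 e).symm) hc
    · have e' : c * q0 * c⁻¹ = q0 * z := inv_mul_eq_iff_eq_mul.1 e
      have hxd : ∀ r ∈ R, r * (x * c) = x * c * r := fun r hr => by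
        rw [← mul_assoc, hxc r hr, mul_assoc, hc r hr, mul_assoc]
      have hxq : x * q0 * x⁻¹ = q0 * z := by
        rcases hcomm x hxQ q0 hq0 with h | h
        · exfalso
          have h' := mul_inv_eq_iff_eq_mul.1 h
          rw [← h', mul_inv_cancel_right] at hq0x
          exact hz1 (left_eq_mul.1 hq0x)
        · exact h
      have hd : (x * c) * q0 * (x * c)⁻¹ = q0 := by
        rw [show x * c * q0 * (x * c)⁻¹ = x * (c * q0 * c⁻¹) * x⁻¹ by group, e',
          show x * (q0 * z) * x⁻¹ = x * q0 * x⁻¹ * (x * z * x⁻¹) by group, hxq, hzc x hxQ,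
          mul_inv_cancel_right, show q0 * z * z = q0 * (z * z) by group, hz2, mul_one]
      have hcQ : c ∈ Q := by
        have := mul_mem (inv_mem hxQ) (hcenQ _ hxd hd)
        rwa [inv_mul_cancel_left] at this
      exact hback c hcQ hc
    · exact absurd (inv_mul_eq_iff_eq_mul.1 e) (hbad x hxQ hq0x hx2)
    · refine absurd (inv_mul_eq_iff_eq_mul.1 e) (hbad (x * z) (mul_mem hxQ hzQ) ?_ hxz2)
      rw [show q0 * (x * z) * q0⁻¹ = q0 * x * q0⁻¹ * (q0 * z * q0⁻¹) by group, hq0x, hzc q0 hq0,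
        mul_inv_cancel_right]
  have hRV : R ≤ V := fun r hr => ⟨hQC hr.1, hr.2⟩
  have hRp : IsPGroup 2 R := fun r => by
    obtain ⟨k, hk⟩ := hE.1.1 ⟨r.1, r.2.1⟩
    exact ⟨k, Subtype.ext (by simpa using congrArg Subtype.val hk)⟩
  obtain ⟨T, hT⟩ := (hRp.of_equiv (Subgroup.subgroupOfEquivOfLe hRV).symm).exists_le_sylow
  obtain ⟨a, ha⟩ := T.isPGroup'.exists_card_eq
  set T' : Subgroup G := (T : Subgroup V).map V.subtype with hT'
  have hT'c : Nat.card T' = 2 ^ a := by rw [hT', Subgroup.card_map_of_injective V.subtype_injective, ha]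
  have hT'V : T' ≤ V := Subgroup.map_subtype_le _
  have hRT : R ≤ T' := fun r hr => ⟨⟨r, hRV hr⟩, hT hr, rfl⟩
  have hmax : ¬2 ^ (a + 1) ∣ Nat.card V := by
    have h := T.card_eq_multiplicity
    rw [ha] at h
    intro hd
    have := (Nat.Prime.pow_dvd_iff_le_factorization Nat.prime_two Nat.card_pos.ne').1 hd
    have := Nat.pow_right_injective le_rfl h
    omega
  -- the centraliser of `z` has a larger 2-part
  let H1 : Subgroup G :=
    { carrier := {h | h ∈ Subgroup.centralizer ({z} : Set G) ∧ (h * x * h⁻¹ = x ∨ h * x * h⁻¹ = x * z)}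
      one_mem' := ⟨one_mem _, Or.inl (by group)⟩
      mul_mem' := by
        rintro u v ⟨hu, hu'⟩ ⟨hv, hv'⟩
        have hzu : u * z * u⁻¹ = z := mul_inv_eq_iff_eq_mul.2 (Subgroup.mem_centralizer_singleton_iff.1 hu)
        refine ⟨mul_mem hu hv, ?_⟩
        rw [show u * v * x * (u * v)⁻¹ = u * (v * x * v⁻¹) * u⁻¹ by group]
        rcases hv' with e | e <;> rw [e]
        · exact hu'
        · rw [show u * (x * z) * u⁻¹ = u * x * u⁻¹ * (u * z * u⁻¹) by group, hzu]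
          rcases hu' with e' | e' <;> rw [e']
          · exact Or.inr rfl
          · exact Or.inl (by rw [mul_assoc, hz2, mul_one])
      inv_mem' := by
        rintro u ⟨hu, hu'⟩
        have hzu : u⁻¹ * z * u = z := by
          rw [mul_assoc, ← Subgroup.mem_centralizer_singleton_iff.1 hu, inv_mul_cancel_left]
        refine ⟨inv_mem hu, ?_⟩
        rw [inv_inv]
        rcases hu' with e | e
        · left
          calc u⁻¹ * x * u = u⁻¹ * (u * x * u⁻¹) * u := by rw [e]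
            _ = x := by group
        · right
          calc u⁻¹ * x * u = u⁻¹ * (x * z * z) * u := by rw [mul_assoc x, hz2, mul_one]
            _ = u⁻¹ * (u * x * u⁻¹ * z) * u := by rw [e]
            _ = x * (u⁻¹ * z * u) := by group
            _ = x * z := by rw [hzu] }
  have hVH : V ≤ H1 := fun v hv =>
    ⟨hv.1, Or.inl (mul_inv_eq_iff_eq_mul.2 (Subgroup.mem_centralizer_singleton_iff.1 hv.2))⟩
  have hVH2 : (V.subgroupOf H1).index = 2 := by
    refine Subgroup.index_eq_two_iff.2 ⟨⟨q0, hQC hq0, Or.inr hq0x⟩, fun b => ?_⟩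
    have hmem : ∀ b : H1, b ∈ V.subgroupOf H1 ↔ b.1 * x * b.1⁻¹ = x := fun b =>
      ⟨fun h => mul_inv_eq_iff_eq_mul.2 (Subgroup.mem_centralizer_singleton_iff.1 h.2),
        fun h => ⟨b.2.1, Subgroup.mem_centralizer_singleton_iff.2 (mul_inv_eq_iff_eq_mul.1 h)⟩⟩
    rw [hmem, hmem]
    show Xor' ((b.1 * q0) * x * (b.1 * q0)⁻¹ = x) (b.1 * x * b.1⁻¹ = x)
    rw [show b.1 * q0 * x * (b.1 * q0)⁻¹ = b.1 * (q0 * x * q0⁻¹) * b.1⁻¹ by group, hq0x,
      show b.1 * (x * z) * b.1⁻¹ = b.1 * x * b.1⁻¹ * (b.1 * z * b.1⁻¹) by group,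
      mul_inv_eq_iff_eq_mul.2 (Subgroup.mem_centralizer_singleton_iff.1 b.2.1)]
    rcases b.2.2 with e | e <;> rw [e]
    · exact Or.inr ⟨rfl, fun h => hz1 (left_eq_mul.1 h.symm)⟩
    · exact Or.inl ⟨by rw [mul_assoc, hz2, mul_one], fun h => hz1 (left_eq_mul.1 h.symm)⟩
  have hcz : Nat.card (Subgroup.centralizer ({z} : Set G)) = Nat.card (Subgroup.centralizer ({x} : Set G)) := by
    refine Nat.card_congr ((MulAut.conj g).toEquiv.subtypeEquiv fun c => ?_)
    show c ∈ Subgroup.centralizer ({z} : Set G) ↔ g * c * g⁻¹ ∈ Subgroup.centralizer ({x} : Set G)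
    rw [Subgroup.mem_centralizer_singleton_iff, Subgroup.mem_centralizer_singleton_iff, ← hxg]
    constructor
    · intro h
      calc g * c * g⁻¹ * (g * z * g⁻¹) = g * (c * z) * g⁻¹ := by group
        _ = g * (z * c) * g⁻¹ := by rw [h]
        _ = _ := by group
    · intro h
      calc c * z = g⁻¹ * (g * c * g⁻¹ * (g * z * g⁻¹)) * g := by group
        _ = g⁻¹ * (g * z * g⁻¹ * (g * c * g⁻¹)) * g := by rw [h]
        _ = _ := by group
  have hdiv : 2 ^ (a + 1) ∣ Nat.card (Subgroup.centralizer ({x} : Set G)) := by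
    rw [← hcz]
    have hH1 : Nat.card H1 = 2 * Nat.card V := by
      rw [← (V.subgroupOf H1).index_mul_card, hVH2, Nat.card_congr (Subgroup.subgroupOfEquivOfLe hVH).toEquiv]
    refine dvd_trans ?_ (Subgroup.card_dvd_of_le (show H1 ≤ Subgroup.centralizer ({z} : Set G) from fun h hh => hh.1))
    rw [hH1, pow_succ']
    exact mul_dvd_mul_left 2 (hT'c ▸ Subgroup.card_dvd_of_le hT'V)
  set C := Subgroup.centralizer ({x} : Set G)
  have hTC : T' ≤ C := fun t ht => (hT'V ht).2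
  obtain ⟨K, hKc, hTK⟩ := Sylow.exists_subgroup_card_pow_succ (G := C) hdiv (H := T'.subgroupOf C)
    (by rw [Nat.card_congr (Subgroup.subgroupOfEquivOfLe hTC).toEquiv, hT'c])
  have hidx : ((T'.subgroupOf C).subgroupOf K).index = 2 := by
    have h := ((T'.subgroupOf C).subgroupOf K).index_mul_card
    rw [Nat.card_congr (Subgroup.subgroupOfEquivOfLe hTK).toEquiv, hKc,
      Nat.card_congr (Subgroup.subgroupOfEquivOfLe hTC).toEquiv, hT'c, pow_succ'] at h
    exact Nat.eq_of_mul_eq_mul_right (by positivity) h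
  have hnorm := Subgroup.normal_of_index_eq_two hidx
  obtain ⟨n, hnK, hnz⟩ : ∃ n : C, n ∈ K ∧ n.1 * z * n.1⁻¹ ≠ z := by
    by_contra hall
    push Not at hall
    apply hmax
    have hKV : K.map C.subtype ≤ V := by
      rintro _ ⟨k, hk, rfl⟩
      exact ⟨Subgroup.mem_centralizer_singleton_iff.2 (mul_inv_eq_iff_eq_mul.1 (hall k hk)), k.2⟩
    have h := Subgroup.card_dvd_of_le hKV
    rwa [Subgroup.card_map_of_injective C.subtype_injective, hKc] at h
  have hconj : ∀ t ∈ T', n.1 * t * n.1⁻¹ ∈ T' := fun t ht =>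
    hnorm.conj_mem ⟨⟨t, hTC ht⟩, hTK ht⟩ ht ⟨n, hnK⟩
  have hconj' : ∀ t ∈ T', n.1⁻¹ * t * n.1 ∈ T' := fun t ht => by
    have h := hnorm.conj_mem ⟨⟨t, hTC ht⟩, hTK ht⟩ ht ⟨n⁻¹, inv_mem hnK⟩
    have h' : n.1⁻¹ * t * (n.1⁻¹)⁻¹ ∈ T' := h
    rwa [inv_inv] at h'
  have hnzc : ∀ r ∈ R, r * (n.1 * z * n.1⁻¹) = n.1 * z * n.1⁻¹ * r := by
    intro r hr
    have h1 := Subgroup.mem_centralizer_singleton_iff.1 (hT'V (hconj' r (hRT hr))).1
    calc r * (n.1 * z * n.1⁻¹) = n.1 * ((n.1⁻¹ * r * n.1) * z) * n.1⁻¹ := by group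
      _ = n.1 * (z * (n.1⁻¹ * r * n.1)) * n.1⁻¹ := by rw [h1]
      _ = _ := by group
  have hnx : n.1 * x * n.1⁻¹ = x := mul_inv_eq_iff_eq_mul.2 (Subgroup.mem_centralizer_singleton_iff.1 n.2)
  have hnz' : n.1 * z * n.1⁻¹ = x * z := by
    rcases hCR _ hnzc with e | e | e | e
    · exact absurd (conj_eq_one_iff.1 e) hz1
    · exact absurd e hnz
    · exfalso
      refine hne (Eq.symm ?_)
      exact mul_left_cancel (mul_right_cancel (e.trans hnx.symm))
    · exact e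
  have hqz : q0 * z * q0⁻¹ = z := by rw [hzc q0 hq0, mul_inv_cancel_right]
  refine ⟨q0 * n.1 * q0, q0, hq0, hq0x, ?_, ?_, hCR⟩
  · rw [show q0 * n.1 * q0 * z * (q0 * n.1 * q0)⁻¹ = q0 * (n.1 * (q0 * z * q0⁻¹) * n.1⁻¹) * q0⁻¹ by group, hqz,
      hnz', show q0 * (x * z) * q0⁻¹ = q0 * x * q0⁻¹ * (q0 * z * q0⁻¹) by group, hq0x, hqz, mul_assoc, hz2,
      mul_one]
  · rw [show q0 * n.1 * q0 * x * (q0 * n.1 * q0)⁻¹ = q0 * (n.1 * (q0 * x * q0⁻¹) * n.1⁻¹) * q0⁻¹ by group, hq0x,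
      show n.1 * (x * z) * n.1⁻¹ = n.1 * x * n.1⁻¹ * (n.1 * z * n.1⁻¹) by group, hnx, hnz',
      show q0 * (x * (x * z)) * q0⁻¹ = q0 * (x * x) * z * q0⁻¹ by group, hx2, mul_one, hqz]

/-- the involution `x` of `Q` and `z` are exchanged by an element -/
theorem exists_swap (Q : Subgroup G) (z x g : G) (hE : Cfsg.IsExtraspecial 2 Q)
    (hQC : Q ≤ Subgroup.centralizer ({z} : Set G))
    (hN : Subgroup.centralizer ({z} : Set G) ≤ Subgroup.normalizer (Q : Set G))
    (hC : Subgroup.centralizer (Q : Set G) ≤ Q) (hz : orderOf z = 2) (hxQ : x ∈ Q) (hxg : g * z * g⁻¹ = x)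
    (hne : x ≠ z) :
    ∃ m q : G, q ∈ Q ∧ q * x * q⁻¹ = x * z ∧ m * z * m⁻¹ = x ∧ m * x * m⁻¹ = z := by
  obtain ⟨m, q, h1, h2, h3, h4, -⟩ := exists_swap_centralizer Q z x g hE hQC hN hC hz hxQ hxg hne
  exact ⟨m, q, h1, h2, h3, h4⟩

end CfsgLib.Spor.LargeSymm
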