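import Cfsg.Agent.Spor.LargeSymm
import Cfsg.Agent.S1265

/-!
Simplicity from a large extraspecial subgroup with irreducible simple quotient.
-/

set_option autoImplicit false

namespace CfsgLib.Spor.LargeSimple

open scoped commutatorElement

variable {G : Type*} [Group G] [Finite G]

theorem odd_eq_one {R : Subgroup G} (hR : IsPGroup 2 R) {N : Subgroup G} (hN : Odd (Nat.card N)) {u : G}
    (hu : u ∈ R) (hu' : u ∈ N) : u = 1 := by
  obtain ⟨k, hk⟩ := hR ⟨u, hu⟩
  have h1 : u ^ Nat.card N = 1 := congrArg Subtype.val (pow_card_eq_one' (x := (⟨u, hu'⟩ : N)))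
  exact orderOf_eq_one_iff.1 (Nat.eq_one_of_dvd_coprimes
    (Nat.Coprime.pow_left k (Nat.coprime_two_left.2 hN)) (orderOf_dvd_of_pow_eq_one (congrArg Subtype.val hk))
    (orderOf_dvd_of_pow_eq_one h1))

theorem inverts {y : G} (hy : y * y = 1) (N : Subgroup G) [N.Normal] (h : ∀ n ∈ N, y * n = n * y → n = 1) :
    ∀ n ∈ N, y * n * y⁻¹ = n⁻¹ := by
  intro n hn
  let σ : N →* N := MonoidHom.mk' (fun u => ⟨y * u * y⁻¹, (inferInstance : N.Normal).conj_mem _ u.2 y⟩)
    fun u v => Subtype.ext (by simp only [Subgroup.coe_mul]; group)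
  have h2 : ⇑σ = fun u : N => u⁻¹ := by
    refine MonoidHom.FixedPointFree.coe_eq_inv_of_involutive (fun u hu => Subtype.ext ?_) fun u => ?_
    · exact h u u.2 (mul_inv_eq_iff_eq_mul.1 (congrArg Subtype.val hu))
    · refine Subtype.ext ?_
      have hyi : y⁻¹ = y := inv_eq_of_mul_eq_one_right hy
      show y * (y * (u : G) * y⁻¹) * y⁻¹ = u
      rw [hyi, show y * (y * (u : G) * y) * y = (y * y) * u * (y * y) by group, hy, one_mul, mul_one]
  exact congrArg Subtype.val (congrFun h2 ⟨n, hn⟩)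

theorem z_mem (z : G) (hz : orderOf z = 2) (H : Subgroup G) (hH : ∀ c, c ∈ H ↔ c * z = z * c)
    (Q : Subgroup H) [Q.Normal] (hF : Cfsg.generalizedFittingSubgroup ↥H = Q) (hQ : Cfsg.IsExtraspecial 2 ↥Q)
    (N : Subgroup G) [N.Normal] (ht : ∃ t ∈ N, z * t = t * z ∧ t ≠ 1) : z ∈ N := by
  classical
  haveI : Fact (Nat.Prime 2) := ⟨Nat.prime_two⟩
  have hz1 : z ≠ 1 := fun e => by rw [e, orderOf_one] at hz; norm_num at hz
  have hz2 : z * z = 1 := by rw [← pow_two, ← hz]; exact pow_orderOf_eq_one z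
  have hcq : ∀ c : H, (∀ q ∈ Q, q * c = c * q) → c ∈ Q := fun c hc => by
    have h := Cfsg.Agent.S1265.result (G := H)
    rw [hF] at h
    exact h hc
  let zH : H := ⟨z, (hH _).2 rfl⟩
  have hzc : ∀ c : H, c * zH = zH * c := fun c => Subtype.ext ((hH _).1 c.2)
  have hzQ : zH ∈ Q := hcq zH fun q _ => hzc q
  have hcent : ∀ w : Q, w ∈ Subgroup.center Q → w.1 = 1 ∨ w.1 = zH := by
    intro w hw
    by_cases h1 : w = 1
    · left; rw [h1]; rfl
    · right
      exact congrArg (fun t : Subgroup.center Q => (t.1 : Q).1) (CfsgLib.Fischer.Extra.center_cases hQ ⟨w, hw⟩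
        ⟨⟨zH, hzQ⟩, Subgroup.mem_center_iff.2 fun q => Subtype.ext (hzc q.1)⟩
        (fun e => h1 (congrArg Subtype.val e))
        (fun e => hz1 (congrArg (fun t : Subgroup.center Q => ((t.1 : Q).1 : G)) e)))
  obtain ⟨t, htN, htz, ht1⟩ := ht
  set M := N.subgroupOf H with hM
  set W := M ⊓ Q with hW
  have hWn : W.Normal := inferInstance
  obtain ⟨w, hwW, hw1⟩ : ∃ w ∈ W, w ≠ 1 := by
    by_contra hall
    push Not at hall
    let tH : H := ⟨t, (hH _).2 htz.symm⟩
    have htM : tH ∈ M := htN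
    have htQ : tH ∈ Q := hcq tH fun q hq => by
      have h1 : q * tH * q⁻¹ * tH⁻¹ ∈ W := by
        refine Subgroup.mem_inf.2 ⟨mul_mem ((inferInstance : M.Normal).conj_mem _ htM q) (inv_mem htM), ?_⟩
        rw [show q * tH * q⁻¹ * tH⁻¹ = q * (tH * q⁻¹ * tH⁻¹) by group]
        exact mul_mem hq ((inferInstance : Q.Normal).conj_mem _ (inv_mem hq) tH)
      exact mul_inv_eq_iff_eq_mul.1 (mul_inv_eq_one.1 (hall _ h1))
    exact ht1 (congrArg Subtype.val (hall tH (Subgroup.mem_inf.2 ⟨htM, htQ⟩)))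
  have hzW : zH ∈ W := by
    by_cases hc : ∀ q : Q, q * (⟨w, hwW.2⟩ : Q) = ⟨w, hwW.2⟩ * q
    · rcases hcent _ (Subgroup.mem_center_iff.2 hc) with e | e
      · exact absurd e hw1
      · rw [← e]; exact hwW
    · push Not at hc
      obtain ⟨q, hq⟩ := hc
      have h1 : q.1 * w * q.1⁻¹ * w⁻¹ ∈ W := mul_mem (hWn.conj_mem _ hwW q.1) (inv_mem hwW)
      rcases hcent _ (CfsgLib.Fischer.Extra.comm_mem hQ q ⟨w, hwW.2⟩) with e | e
      · exact absurd (mul_inv_eq_iff_eq_mul.1 (mul_inv_eq_one.1 (Subtype.ext e))) hq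
      · rwa [show q.1 * w * q.1⁻¹ * w⁻¹ = zH from e] at h1
  exact hzW.1

theorem top_of_le (z : G) (hz : orderOf z = 2) (H : Subgroup G) (hH : ∀ c, c ∈ H ↔ c * z = z * c)
    (Q : Subgroup H) [Q.Normal] (hF : Cfsg.generalizedFittingSubgroup ↥H = Q) (hQ : Cfsg.IsExtraspecial 2 ↥Q)
    (N : Subgroup G) [N.Normal] (hHN : ∀ c : H, c.1 ∈ N) : N = ⊤ := by
  classical
  haveI : Fact (Nat.Prime 2) := ⟨Nat.prime_two⟩
  have hz1 : z ≠ 1 := fun e => by rw [e, orderOf_one] at hz; norm_num at hz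
  have hz2 : z * z = 1 := by rw [← pow_two, ← hz]; exact pow_orderOf_eq_one z
  have hcq : ∀ c : H, (∀ q ∈ Q, q * c = c * q) → c ∈ Q := fun c hc => by
    have h := Cfsg.Agent.S1265.result (G := H)
    rw [hF] at h
    exact h hc
  let zH : H := ⟨z, (hH _).2 rfl⟩
  have hzc : ∀ c : H, c * zH = zH * c := fun c => Subtype.ext ((hH _).1 c.2)
  have hzQ : zH ∈ Q := hcq zH fun q _ => hzc q
  have hcent : ∀ w : Q, w ∈ Subgroup.center Q → w.1 = 1 ∨ w.1 = zH := by
    intro w hw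
    by_cases h1 : w = 1
    · left; rw [h1]; rfl
    · right
      exact congrArg (fun t : Subgroup.center Q => (t.1 : Q).1) (CfsgLib.Fischer.Extra.center_cases hQ ⟨w, hw⟩
        ⟨⟨zH, hzQ⟩, Subgroup.mem_center_iff.2 fun q => Subtype.ext (hzc q.1)⟩
        (fun e => h1 (congrArg Subtype.val e))
        (fun e => hz1 (congrArg (fun t : Subgroup.center Q => ((t.1 : Q).1 : G)) e)))
  obtain ⟨S, hS⟩ := (hQ.1.1 : IsPGroup 2 Q).exists_le_sylow
  obtain ⟨a, ha⟩ := S.isPGroup'.exists_card_eq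
  set T := (S : Subgroup H).map H.subtype with hT
  have hTc : Nat.card T = 2 ^ a := by rw [hT, Subgroup.card_map_of_injective H.subtype_injective, ha]
  have hnorm : ∀ n : G, (∀ u ∈ T, n * u * n⁻¹ ∈ T ∧ n⁻¹ * u * n ∈ T) → n ∈ H := by
    intro n hn
    have hw' : ∀ u : H, u ∈ (S : Subgroup H) → u.1 * (n * z * n⁻¹) = n * z * n⁻¹ * u.1 := by
      intro u hu
      obtain ⟨v, -, hv⟩ := (hn u.1 ⟨u, hu, rfl⟩).2
      have h1 := (hH _).1 v.2
      have hv' : v.1 = n⁻¹ * u.1 * n := hv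
      rw [hv'] at h1
      calc u.1 * (n * z * n⁻¹) = n * ((n⁻¹ * u.1 * n) * z) * n⁻¹ := by group
        _ = n * (z * (n⁻¹ * u.1 * n)) * n⁻¹ := by rw [h1]
        _ = _ := by group
    have hmem : n * z * n⁻¹ ∈ H := (hH _).2 (hw' zH (hS hzQ)).symm
    have hQw : (⟨_, hmem⟩ : H) ∈ Q := hcq _ fun q hq => Subtype.ext (hw' q (hS hq))
    rcases hcent ⟨_, hQw⟩ (Subgroup.mem_center_iff.2 fun q => Subtype.ext (Subtype.ext (hw' q.1 (hS q.2)))) with e | e
    · exact absurd (conj_eq_one_iff.1 (congrArg Subtype.val e)) hz1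
    · exact (hH _).2 (mul_inv_eq_iff_eq_mul.1 (congrArg Subtype.val e))
  have hmax : ¬2 ^ (a + 1) ∣ Nat.card G := by
    intro hd
    obtain ⟨K, hKc, hTK⟩ := Sylow.exists_subgroup_card_pow_succ hd hTc
    have hidx : (T.subgroupOf K).index = 2 := by
      have h := (T.subgroupOf K).index_mul_card
      rw [Nat.card_congr (Subgroup.subgroupOfEquivOfLe hTK).toEquiv, hKc, hTc, pow_succ'] at h
      exact Nat.eq_of_mul_eq_mul_right (by positivity) h
    have hn' := Subgroup.normal_of_index_eq_two hidx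
    have hKH : K ≤ H := fun k hk => hnorm k fun u hu => by
      refine ⟨hn'.conj_mem ⟨u, hTK hu⟩ hu ⟨k, hk⟩, ?_⟩
      have h := hn'.conj_mem ⟨u, hTK hu⟩ hu ⟨k⁻¹, inv_mem hk⟩
      have h' : k⁻¹ * u * (k⁻¹)⁻¹ ∈ T := h
      rwa [inv_inv] at h'
    have h2 := Subgroup.card_dvd_of_le hKH
    rw [hKc] at h2
    have h3 := (Nat.Prime.pow_dvd_iff_le_factorization Nat.prime_two Nat.card_pos.ne').1 h2
    have h4 := S.card_eq_multiplicity
    rw [ha] at h4
    have := Nat.pow_right_injective le_rfl h4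
    omega
  obtain ⟨P, hP⟩ := (IsPGroup.of_card hTc : IsPGroup 2 T).exists_le_sylow
  obtain ⟨b, hb⟩ := P.isPGroup'.exists_card_eq
  have hab : b ≤ a := by
    by_contra hba
    exact hmax ((pow_dvd_pow 2 (show a + 1 ≤ b by omega)).trans (hb ▸ Subgroup.card_subgroup_dvd_card _))
  have hPT : (P : Subgroup G) = T := (Subgroup.eq_of_le_of_card_ge hP (by
    rw [hTc, hb]; exact Nat.pow_le_pow_right (by norm_num) hab)).symm
  have hPN : (P : Subgroup G) ≤ N := by
    rw [hPT]; rintro _ ⟨c, -, rfl⟩; exact hHN c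
  have h1 := Sylow.normalizer_sup_eq_top (P.subtype hPN)
  rw [Sylow.coe_subtype, Subgroup.subgroupOf_map_subtype, inf_eq_left.2 hPN] at h1
  have hle : Subgroup.normalizer ((P : Subgroup G) : Set G) ≤ N := fun n hn => by
    refine hHN ⟨n, hnorm n fun u hu => ?_⟩
    rw [← hPT] at hu ⊢
    refine ⟨(Subgroup.mem_normalizer_iff.1 hn u).1 hu, ?_⟩
    have := (Subgroup.mem_normalizer_iff.1 (inv_mem hn) u).1 hu
    rwa [inv_inv] at this
  rwa [sup_eq_right.2 hle] at h1


theorem isSimple (z : G) (hz : orderOf z = 2) (H : Subgroup G) (hH : ∀ c, c ∈ H ↔ c * z = z * c)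
    (Q : Subgroup H) [Q.Normal]
    (hF : Cfsg.generalizedFittingSubgroup ↥H = Q)
    (hQ : Cfsg.IsExtraspecial 2 ↥Q)
    (hnwc : ∃ g : G, (∃ hq : g * z * g⁻¹ ∈ H, (⟨g * z * g⁻¹, hq⟩ : H) ∈ Q) ∧ g * z * g⁻¹ ≠ z)
    (hsimp : IsSimpleGroup (↥H ⧸ Q))
    (hirr : ∀ W : Subgroup H, W.Normal → W ≤ Q → (W = Q ∨ ∀ x ∈ W, (x : G) ∈ Subgroup.zpowers z))
    (hwcl : Subgroup.closure {x : H | IsConj z (x : G)} ≠ Q) :
    IsSimpleGroup G := by
  classical
  haveI : Fact (Nat.Prime 2) := ⟨Nat.prime_two⟩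
  have hz1 : z ≠ 1 := fun e => by rw [e, orderOf_one] at hz; norm_num at hz
  have hz2 : z * z = 1 := by rw [← pow_two, ← hz]; exact pow_orderOf_eq_one z
  have hcq : ∀ c : H, (∀ q ∈ Q, q * c = c * q) → c ∈ Q := fun c hc => by
    have h := Cfsg.Agent.S1265.result (G := H)
    rw [hF] at h
    exact h hc
  let zH : H := ⟨z, (hH _).2 rfl⟩
  have hzc : ∀ c : H, c * zH = zH * c := fun c => Subtype.ext ((hH _).1 c.2)
  have hzQ : zH ∈ Q := hcq zH fun q _ => hzc q
  have hcent : ∀ w : Q, w ∈ Subgroup.center Q → w.1 = 1 ∨ w.1 = zH := by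
    intro w hw
    by_cases h1 : w = 1
    · left; rw [h1]; rfl
    · right
      exact congrArg (fun t : Subgroup.center Q => (t.1 : Q).1) (CfsgLib.Fischer.Extra.center_cases hQ ⟨w, hw⟩
        ⟨⟨zH, hzQ⟩, Subgroup.mem_center_iff.2 fun q => Subtype.ext (hzc q.1)⟩
        (fun e => h1 (congrArg Subtype.val e))
        (fun e => hz1 (congrArg (fun t : Subgroup.center Q => ((t.1 : Q).1 : G)) e)))
  have hQp : IsPGroup 2 (Q.map H.subtype) := hQ.1.1.map _
  obtain ⟨g, ⟨hxH, hxQ⟩, hxz⟩ := hnwc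
  set x := g * z * g⁻¹ with hxdef
  let xH : H := ⟨x, hxH⟩
  have hx2 : x * x = 1 := by
    rw [hxdef, show g * z * g⁻¹ * (g * z * g⁻¹) = g * (z * z) * g⁻¹ by group, hz2]; group
  have hx1 : x ≠ 1 := fun e => hz1 (conj_eq_one_iff.1 e)
  have hxzp : x ∉ Subgroup.zpowers z := by
    intro h
    rw [mem_zpowers_iff_mem_range_orderOf, hz] at h
    simp only [Finset.mem_image, Finset.mem_range] at h
    obtain ⟨k, hk, e⟩ := h
    interval_cases k
    · exact hx1 (by rw [← e, pow_zero])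
    · exact hxz (by rw [← e, pow_one])
  obtain ⟨q0, hq0, hq0x⟩ : ∃ q : G, q ∈ Q.map H.subtype ∧ q * x * q⁻¹ = x * z := by
    by_contra hall
    push Not at hall
    have hxc : (⟨xH, hxQ⟩ : Q) ∈ Subgroup.center Q := Subgroup.mem_center_iff.2 fun q => by
      rcases hcent _ (CfsgLib.Fischer.Extra.comm_mem hQ q ⟨xH, hxQ⟩) with e | e
      · exact mul_inv_eq_iff_eq_mul.1 (mul_inv_eq_one.1 (Subtype.ext e))
      · exfalso
        refine hall q.1.1 ⟨q.1, q.2, rfl⟩ ?_
        have e' : q.1.1 * x * q.1.1⁻¹ * x⁻¹ = z := congrArg Subtype.val e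
        rw [mul_inv_eq_iff_eq_mul.1 e']
        exact ((hH _).1 hxH).symm
    rcases hcent _ hxc with e | e
    · exact hx1 (congrArg Subtype.val e)
    · exact hxz (congrArg Subtype.val e)
  haveI : Nontrivial G := ⟨⟨z, 1, hz1⟩⟩
  refine ⟨fun N hNn => ?_⟩
  haveI := hNn
  by_cases hN0 : N = ⊥
  · exact Or.inl hN0
  right
  set M := N.subgroupOf H with hM
  -- an element of the centraliser in `N`
  obtain ⟨t, htN, htz, ht1⟩ : ∃ t ∈ N, z * t = t * z ∧ t ≠ 1 := by
    by_contra hall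
    push Not at hall
    have hfree : ∀ (a : G), ∀ n ∈ N, (a * z * a⁻¹) * n = n * (a * z * a⁻¹) → n = 1 := by
      intro a n hn e
      have h1 := hall (a⁻¹ * n * a) (by simpa using hNn.conj_mem n hn a⁻¹) (by
        calc z * (a⁻¹ * n * a) = a⁻¹ * ((a * z * a⁻¹) * n) * a := by group
          _ = a⁻¹ * (n * (a * z * a⁻¹)) * a := by rw [e]
          _ = _ := by group)
      calc n = a * (a⁻¹ * n * a) * a⁻¹ := by group
        _ = 1 := by rw [h1]; group
    have hodd : Odd (Nat.card N) := by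
      rw [← Nat.not_even_iff_odd]
      intro he
      obtain ⟨s, hs⟩ := exists_prime_orderOf_dvd_card' 2 he.two_dvd
      have hs2 : s.1 * s.1 = 1 := by
        have h := pow_orderOf_eq_one s
        rw [hs, pow_two] at h
        exact congrArg Subtype.val h
      have hi := inverts hz2 N hall s.1 s.2
      rw [inv_eq_of_mul_eq_one_right hs2] at hi
      have h1 := hall s.1 s.2 (mul_inv_eq_iff_eq_mul.1 hi)
      rw [show s = 1 from Subtype.ext h1, orderOf_one] at hs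
      norm_num at hs
    refine hN0 ((Subgroup.eq_bot_iff_forall _).2 fun n hn => ?_)
    have i1 := inverts hz2 N hall n hn
    have i2 := inverts hx2 N (hfree g) _ (inv_mem hn)
    rw [inv_inv] at i2
    refine hfree (q0 * g) n hn ?_
    have e : q0 * g * z * (q0 * g)⁻¹ = x * z := by
      rw [← hq0x, hxdef]; group
    rw [e]
    refine mul_inv_eq_iff_eq_mul.1 ?_
    rw [show x * z * n * (x * z)⁻¹ = x * (z * n * z⁻¹) * x⁻¹ by group, i1, i2]
  set W := M ⊓ Q with hW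
  have hWn : W.Normal := inferInstance
  have hzN : z ∈ N := z_mem z hz H hH Q hF hQ N ⟨t, htN, htz, ht1⟩
  have hWQ : W = Q := by
    rcases hirr W hWn inf_le_right with h | h
    · exact h
    · exact absurd (h xH (Subgroup.mem_inf.2 ⟨hNn.conj_mem z hzN g, hxQ⟩)) hxzp
  have hQM : Q ≤ M := hWQ ▸ inf_le_left
  haveI : (M.map (QuotientGroup.mk' Q)).Normal :=
    Subgroup.Normal.map inferInstance _ (QuotientGroup.mk'_surjective Q)
  rcases IsSimpleGroup.eq_bot_or_eq_top_of_normal (M.map (QuotientGroup.mk' Q)) inferInstance with hb | ht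
  · exfalso
    have hMQ : M ≤ Q := fun m hm => by
      have h1 : QuotientGroup.mk' Q m ∈ M.map (QuotientGroup.mk' Q) := ⟨m, hm, rfl⟩
      rw [hb, Subgroup.mem_bot] at h1
      exact (QuotientGroup.eq_one_iff m).1 h1
    set C := Subgroup.closure {x : H | IsConj z (x : G)} with hC
    have hCQ : C ≤ Q := (Subgroup.closure_le _).2 fun c hc => by
      obtain ⟨a, ha⟩ := isConj_iff.1 hc
      exact hMQ (show c.1 ∈ N from ha ▸ hNn.conj_mem z hzN a)
    have hCn : C.Normal := by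
      refine ⟨fun c hc a => ?_⟩
      have hle : C ≤ C.comap (MulAut.conj a).toMonoidHom := (Subgroup.closure_le _).2 fun c hc => by
        refine Subgroup.subset_closure ?_
        exact IsConj.trans hc (isConj_iff.2 ⟨a.1, rfl⟩)
      exact hle hc
    rcases hirr C hCn hCQ with h | h
    · exact hwcl h
    · exact hxzp (h xH (Subgroup.subset_closure (isConj_iff.2 ⟨g, rfl⟩)))
  · have hHN : ∀ c : H, c.1 ∈ N := fun c => by
      have h1 : QuotientGroup.mk' Q c ∈ M.map (QuotientGroup.mk' Q) := ht ▸ Subgroup.mem_top _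
      obtain ⟨m, hm, e⟩ := h1
      have h2 : m⁻¹ * c ∈ Q := QuotientGroup.eq.1 e
      have h3 := mul_mem hm (hQM h2)
      rwa [mul_inv_cancel_left] at h3
    exact top_of_le z hz H hH Q hF hQ N hHN

end CfsgLib.Spor.LargeSimple
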