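import Cfsg.Agent.Spor.HeisenbergTwo
import Cfsg.Agent.S5427
import Mathlib

/-!
From a coordinate description of the centraliser of an involution to the extraspecial core.
-/

set_option autoImplicit false
set_option linter.unusedSectionVars false

namespace CfsgLib.Spor.HeisenbergTwo

open Matrix

/-- over two elements an involutory matrix sends any non-zero vector to any other -/
theorem gl_trans {n : ℕ} (x y : Fin n → ZMod 2) (hx : x ≠ 0) (hy : y ≠ 0) :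
    ∃ g : GL (Fin n) (ZMod 2), (g : Matrix (Fin n) (Fin n) (ZMod 2)) *ᵥ x = y := by
  classical
  by_cases hxy : x = y
  · exact ⟨1, by simp [hxy]⟩
  have hw : ∃ w : Fin n → ZMod 2, w ⬝ᵥ x = 1 ∧ w ⬝ᵥ y = 1 := by
    obtain ⟨i, hi⟩ : ∃ i, x i ≠ 0 := by by_contra h; push Not at h; exact hx (funext h)
    have hi1 : x i = 1 := (zmod2 _).resolve_left hi
    rcases zmod2 (y i) with h | h
    · obtain ⟨j, hj⟩ : ∃ j, y j ≠ 0 := by by_contra h'; push Not at h'; exact hy (funext h')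
      have hj1 : y j = 1 := (zmod2 _).resolve_left hj
      rcases zmod2 (x j) with h' | h'
      · exact ⟨Pi.single i 1 + Pi.single j 1, by rw [add_dotProduct]; simp [hi1, h'],
          by rw [add_dotProduct]; simp [h, hj1]⟩
      · exact ⟨Pi.single j 1, by simp [h'], by simp [hj1]⟩
    · exact ⟨Pi.single i 1, by simp [hi1], by simp [h]⟩
  obtain ⟨w, hwx, hwy⟩ := hw
  set d := x + y with hd
  have hwd : w ⬝ᵥ d = 0 := by rw [hd, dotProduct_add, hwx, hwy]; exact CharTwo.add_self_eq_zero _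
  set A : Matrix (Fin n) (Fin n) (ZMod 2) := 1 + vecMulVec d w with hA
  have hA2 : A * A = 1 := by
    have h : ∀ M : Matrix (Fin n) (Fin n) (ZMod 2), M + M = 0 := fun M => by
      ext i j; exact CharTwo.add_self_eq_zero _
    have hv : vecMulVec d w * vecMulVec d w = 0 := by
      rw [vecMulVec_mul_vecMulVec, hwd]; simp
    rw [hA, add_mul, mul_add, one_mul, mul_add, mul_one, hv, add_zero, one_mul, add_assoc, h, add_zero]
  refine ⟨⟨A, A, hA2, hA2⟩, ?_⟩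
  show A *ᵥ x = y
  rw [hA, add_mulVec, one_mulVec, vecMulVec_mulVec, hwx]
  funext i
  simp [hd, ← add_assoc, CharTwo.add_self_eq_zero]

/-- the conclusions shared by the two model centralisers -/
theorem pack {G H : Type*} [Group G] [Finite G] [Group H] [Finite H] {n : ℕ} (hn : 1 ≤ n)
    (ι : X n →* G) (hι : Function.Injective ι) (κ : H →* G) (hκ : Function.Injective κ)
    (ρ : H →* GL (Fin n) (ZMod 2)) (hρ : Function.Injective ρ)
    (htr : ∀ x y : Fin n → ZMod 2, x ≠ 0 → y ≠ 0 → ∃ h, ((ρ h : GL (Fin n) (ZMod 2)) : Matrix (Fin n) (Fin n) (ZMod 2)) *ᵥ x = y)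
    (C : Subgroup G) (hC : ∀ c, c ∈ C ↔ c * ι ⟨1, 0, 0⟩ = ι ⟨1, 0, 0⟩ * c)
    (hκC : ∀ h, κ h ∈ C) (hdec : ∀ c ∈ C, ∃ x h, c = ι x * κ h)
    (hconj : ∀ h x, ∃ y, κ h * ι x * (κ h)⁻¹ = ι y ∧
      y.v = ((ρ h : GL (Fin n) (ZMod 2)) : Matrix (Fin n) (Fin n) (ZMod 2)) *ᵥ x.v)
    (Q : Subgroup G) (hQ : Q = (Cfsg.pCore 2 ↥C).map C.subtype) :
    Q = ι.range ∧ Cfsg.IsExtraspecial 2 ↥Q ∧ Nat.card ↥Q = 2 ^ (2 * n + 1) ∧
    (∃ E : Subgroup G, E ≤ Q ∧ Cfsg.IsElementaryAbelian 2 E ∧ Nat.card ↥E = 2 ^ (n + 1)) ∧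
    Subgroup.centralizer (Q : Set G) = (Subgroup.center ↥Q).map Q.subtype ∧
    Subgroup.centralizer (((Subgroup.center ↥Q).map Q.subtype : Subgroup G) : Set G) ≤ Subgroup.normalizer (Q : Set G) ∧
    (∀ w, w ∈ (Subgroup.center ↥Q).map Q.subtype ↔ w = 1 ∨ w = ι ⟨1, 0, 0⟩) ∧
    (∃ K : Subgroup G, K ≤ C ∧ Q ⊓ K = ⊥ ∧ Q ⊔ K = C ∧ Nonempty (↥K ≃* H)) := by
  haveI : Fact (Nat.Prime 2) := ⟨Nat.prime_two⟩
  have hz : (⟨1, 0, 0⟩ : X n) ∈ Subgroup.center (X n) := mem_center.2 ⟨rfl, rfl⟩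
  have hQC : ι.range ≤ C := by
    rintro _ ⟨x, rfl⟩
    rw [hC, ← map_mul, ← map_mul, Subgroup.mem_center_iff.1 hz x]
  have hnorm : C ≤ Subgroup.normalizer (ι.range : Set G) := by
    intro c hc
    obtain ⟨x, h, rfl⟩ := hdec c hc
    refine mul_mem (Subgroup.le_normalizer ⟨x, rfl⟩) ?_
    rw [Subgroup.mem_normalizer_iff]
    intro w
    constructor
    · rintro ⟨y, rfl⟩
      obtain ⟨y', hy', -⟩ := hconj h y
      exact ⟨y', hy'.symm⟩
    · rintro ⟨y, hy⟩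
      obtain ⟨y', hy', -⟩ := hconj h⁻¹ y
      refine ⟨y', ?_⟩
      rw [← hy', map_inv, hy]
      group
  have hQp : IsPGroup 2 ι.range :=
    (IsPGroup.of_card card_X).of_equiv (MonoidHom.ofInjective hι)
  have hQ' : Q = ι.range := hQ.trans (core_eq C ι.range κ hQC hnorm hQp hκC hκ
    (fun c hc => by
      obtain ⟨x, h, e⟩ := hdec c hc
      exact ⟨ι x, ⟨x, rfl⟩, h, e⟩)
    fun N hN hN2 => @no_two_normal n H _ _ ρ hρ htr N hN hN2)
  subst hQ'
  have hdisj : ∀ h, κ h ∈ ι.range → h = 1 := by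
    rintro h ⟨x, hx⟩
    refine hρ ?_
    rw [map_one]
    refine Units.ext (Matrix.ext_of_mulVec_single fun i => ?_)
    obtain ⟨y, hy, hyv⟩ := hconj h ⟨0, Pi.single i 1, 0⟩
    rw [← hx, ← map_inv, ← map_mul, ← map_mul] at hy
    rw [← hyv, ← hι hy, Units.val_one, Matrix.one_mulVec]
    show x.v + Pi.single i 1 + x.v = Pi.single i 1
    rw [add_right_comm, vec_two, zero_add]
  have hcen : ∀ w, w ∈ (Subgroup.center ↥ι.range).map ι.range.subtype ↔ w = 1 ∨ w = ι ⟨1, 0, 0⟩ := by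
    intro w
    constructor
    · rintro ⟨⟨_, x, rfl⟩, hx, rfl⟩
      have hxc : x ∈ Subgroup.center (X n) := Subgroup.mem_center_iff.2 fun y => hι (by
        simpa using congrArg Subtype.val (Subgroup.mem_center_iff.1 hx ⟨ι y, y, rfl⟩))
      obtain ⟨hv, ha⟩ := mem_center.1 hxc
      rcases zmod2 x.s with h | h
      · left
        show ι x = 1
        rw [show x = 1 from X.ext h hv ha, map_one]
      · right
        show ι x = _
        rw [show x = ⟨1, 0, 0⟩ from X.ext h hv ha]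
    · rintro (rfl | rfl)
      · exact one_mem _
      · refine ⟨⟨_, ⟨_, rfl⟩⟩, Subgroup.mem_center_iff.2 ?_, rfl⟩
        rintro ⟨_, y, rfl⟩
        refine Subtype.ext ?_
        show ι y * ι _ = ι _ * ι y
        rw [← map_mul, ← map_mul, Subgroup.mem_center_iff.1 hz y]
  refine ⟨rfl, Cfsg.Agent.S5427.extra_equiv (MonoidHom.ofInjective hι).symm (extra hn), ?_, ?_, ?_, ?_, hcen, ?_⟩
  · rw [← Nat.card_congr (MonoidHom.ofInjective hι).toEquiv, card_X]
  · refine ⟨(half n).map ι, ?_, ⟨?_, ?_⟩, ?_⟩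
    · rintro _ ⟨x, -, rfl⟩; exact ⟨x, rfl⟩
    · exact ⟨⟨fun a b => by
        obtain ⟨_, x, hx, rfl⟩ := a
        obtain ⟨_, y, hy, rfl⟩ := b
        refine Subtype.ext ?_
        show ι x * ι y = ι y * ι x
        rw [← map_mul, ← map_mul]
        exact congrArg ι (congrArg Subtype.val (half_elem.1.1.is_comm.comm ⟨x, hx⟩ ⟨y, hy⟩))⟩⟩
    · rintro _ ⟨x, hx, rfl⟩
      rw [← map_pow, half_elem.1.2 x hx, map_one]
    · rw [Subgroup.card_map_of_injective hι, half_elem.2]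
  · refine le_antisymm (fun c hc => ?_) ?_
    · have hcC : c ∈ C := (hC c).2 (Subgroup.mem_centralizer_iff.1 hc _ ⟨_, rfl⟩).symm
      obtain ⟨x, h, rfl⟩ := hdec c hcC
      have hh : h = 1 := hρ (by
        rw [map_one]
        refine Units.ext (Matrix.ext_of_mulVec_single fun i => ?_)
        obtain ⟨y, hy, hyv⟩ := hconj h ⟨0, Pi.single i 1, 0⟩
        have h1 := Subgroup.mem_centralizer_iff.1 hc (ι ⟨0, Pi.single i 1, 0⟩) ⟨_, rfl⟩
        have h2 : ι x * ι y * (ι x)⁻¹ = ι ⟨0, Pi.single i 1, 0⟩ := by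
          rw [← hy, show ι x * (κ h * ι ⟨0, Pi.single i 1, 0⟩ * (κ h)⁻¹) * (ι x)⁻¹ =
            ι x * κ h * ι ⟨0, Pi.single i 1, 0⟩ * (ι x * κ h)⁻¹ by group, ← h1, mul_inv_cancel_right]
        rw [← map_inv, ← map_mul, ← map_mul] at h2
        rw [← hyv, Units.val_one, Matrix.one_mulVec]
        have h3 : x.v + y.v + x.v = Pi.single i 1 := congrArg X.v (hι h2)
        rw [add_right_comm, vec_two, zero_add] at h3
        exact h3)
      subst hh
      rw [map_one, mul_one] at hc ⊢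
      refine ⟨⟨ι x, x, rfl⟩, Subgroup.mem_center_iff.2 fun q => Subtype.ext ?_, rfl⟩
      exact Subgroup.mem_centralizer_iff.1 hc _ q.2
    · rintro _ ⟨q, hq, rfl⟩
      exact Subgroup.mem_centralizer_iff.2 fun y hy => congrArg Subtype.val (Subgroup.mem_center_iff.1 hq ⟨y, hy⟩)
  · intro c hc
    exact hnorm ((hC c).2 (Subgroup.mem_centralizer_iff.1 hc _ ((hcen _).2 (Or.inr rfl))).symm)
  · refine ⟨κ.range, ?_, ?_, ?_, ⟨(MonoidHom.ofInjective hκ).symm⟩⟩
    · rintro _ ⟨h, rfl⟩; exact hκC h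
    · rw [Subgroup.eq_bot_iff_forall]
      rintro _ ⟨h1, h, rfl⟩
      rw [hdisj h h1, map_one]
    · refine le_antisymm (sup_le hQC ?_) fun c hc => ?_
      · rintro _ ⟨h, rfl⟩; exact hκC h
      · obtain ⟨x, h, rfl⟩ := hdec c hc
        exact Subgroup.mul_mem_sup ⟨x, rfl⟩ ⟨h, rfl⟩

end CfsgLib.Spor.HeisenbergTwo
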