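import Cfsg.Agent.Spor.LargeSymm
import Cfsg.Prelude.Def_MonsterType

/-!
The pair of large extraspecial subgroups belonging to two orthogonal conjugates of the central involution.
-/

set_option autoImplicit false

namespace CfsgLib.Spor.LargePair

open scoped commutatorElement

variable {G : Type*} [Group G] [Finite G]

/-- the data attached to two orthogonal conjugates `z`, `x` of the central involution -/
structure Pair (Q P : Subgroup G) (z x q0 q1 : G) : Prop where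
  q0_mem : q0 ∈ Q
  q1_mem : q1 ∈ P
  q0_z : q0 * z * q0⁻¹ = z
  q0_x : q0 * x * q0⁻¹ = x * z
  q1_z : q1 * z * q1⁻¹ = x * z
  q1_x : q1 * x * q1⁻¹ = x
  z_two : z * z = 1
  x_two : x * x = 1
  z_ne : z ≠ 1
  x_ne : x ≠ 1
  ne : x ≠ z
  z_mem : z ∈ Q
  x_mem : x ∈ Q
  z_mem' : z ∈ P
  x_mem' : x ∈ P
  commQ : ∀ q ∈ Q, q * z = z * q
  commP : ∀ p ∈ P, p * x = x * p
  derQ : ∀ a ∈ Q, ∀ b ∈ Q, a * b * a⁻¹ * b⁻¹ = 1 ∨ a * b * a⁻¹ * b⁻¹ = z
  derP : ∀ a ∈ P, ∀ b ∈ P, a * b * a⁻¹ * b⁻¹ = 1 ∨ a * b * a⁻¹ * b⁻¹ = x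
  sqQ : ∀ a ∈ Q, a * a = 1 ∨ a * a = z
  sqP : ∀ a ∈ P, a * a = 1 ∨ a * a = x
  normQ : ∀ c, c * z * c⁻¹ = z → ∀ q ∈ Q, c * q * c⁻¹ ∈ Q
  normP : ∀ c, c * x * c⁻¹ = x → ∀ p ∈ P, c * p * c⁻¹ ∈ P
  center : ∀ c : G, (∀ r ∈ Q ⊓ Subgroup.centralizer ({x} : Set G), r * c = c * r) →
    c = 1 ∨ c = z ∨ c = x ∨ c = x * z
  twoQ : IsPGroup 2 Q
  twoP : IsPGroup 2 P
  move : q0 * q1 * q0⁻¹ ∈ P.map (MulAut.conj q0).toMonoidHom
  same : P.map (MulAut.conj q0).toMonoidHom = Q.map (MulAut.conj q1).toMonoidHom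

theorem exists_pair (Q : Subgroup G) (hQ : Cfsg.IsLargeExtraspecial Q) (z : G)
    (hz : ((Subgroup.center ↥Q).map Q.subtype) = Subgroup.zpowers z) (hz2 : orderOf z = 2) (g : G)
    (hgH : g ∉ Subgroup.centralizer ({z} : Set G)) (hgQ : g * z * g⁻¹ ∈ Q) :
    ∃ q0 q1, Pair Q (Q.map (MulAut.conj g).toMonoidHom) z (g * z * g⁻¹) q0 q1 := by
  classical
  obtain ⟨hE, hC, hN, -⟩ := hQ
  set x := g * z * g⁻¹ with hxdef
  have hzz : z * z = 1 := by rw [← pow_two, ← hz2]; exact pow_orderOf_eq_one z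
  have hzc : z ∈ (Subgroup.center ↥Q).map Q.subtype := hz ▸ Subgroup.mem_zpowers z
  have hzQ : z ∈ Q := Subgroup.map_subtype_le _ hzc
  have hz1 : z ≠ 1 := fun e => by rw [e, orderOf_one] at hz2; norm_num at hz2
  have hcases : ∀ w ∈ Subgroup.zpowers z, w = 1 ∨ w = z := fun w hw => by
    rw [mem_zpowers_iff_mem_range_orderOf, hz2] at hw
    simp only [Finset.mem_image, Finset.mem_range] at hw
    obtain ⟨k, hk, rfl⟩ := hw
    interval_cases k <;> simp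
  have hcomm : ∀ q ∈ Q, q * z = z * q := fun q hq => by
    obtain ⟨zc, hzc', e⟩ := hzc
    rw [← e]
    exact congrArg Subtype.val (Subgroup.mem_center_iff.1 hzc' ⟨q, hq⟩)
  have hQC : Q ≤ Subgroup.centralizer ({z} : Set G) := fun q hq =>
    Subgroup.mem_centralizer_singleton_iff.2 (hcomm q hq)
  have hN' : Subgroup.centralizer ({z} : Set G) ≤ Subgroup.normalizer (Q : Set G) := fun c hc => hN fun w hw => by
    rcases hcases w (hz ▸ hw) with rfl | rfl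
    · rw [one_mul, mul_one]
    · exact (Subgroup.mem_centralizer_singleton_iff.1 hc).symm
  have hCQ : Subgroup.centralizer (Q : Set G) ≤ Q := by rw [hC]; exact Subgroup.map_subtype_le _
  have hne : x ≠ z := fun e => hgH (Subgroup.mem_centralizer_singleton_iff.2 (mul_inv_eq_iff_eq_mul.1 e))
  obtain ⟨m, q0, hq0, hq0x, hm1, hm2, hCR⟩ :=
    LargeSymm.exists_swap_centralizer Q z x g hE hQC hN' hCQ hz2 hgQ hxdef.symm hne
  have hnormQ : ∀ c, c * z * c⁻¹ = z → ∀ q ∈ Q, c * q * c⁻¹ ∈ Q := fun c hc q hq =>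
    (Subgroup.mem_normalizer_iff.1 (hN' (Subgroup.mem_centralizer_singleton_iff.2 (mul_inv_eq_iff_eq_mul.1 hc))) q).1 hq
  have hsame : ∀ a b : G, a * z * a⁻¹ = b * z * b⁻¹ →
      Q.map (MulAut.conj a).toMonoidHom ≤ Q.map (MulAut.conj b).toMonoidHom := by
    rintro a b hab _ ⟨q, hq, rfl⟩
    refine ⟨b⁻¹ * a * q * (b⁻¹ * a)⁻¹, hnormQ _ ?_ q hq, ?_⟩
    · calc b⁻¹ * a * z * (b⁻¹ * a)⁻¹ = b⁻¹ * (a * z * a⁻¹) * b := by group
        _ = z := by rw [hab]; group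
    · show b * (b⁻¹ * a * q * (b⁻¹ * a)⁻¹) * b⁻¹ = a * q * a⁻¹
      group
  have hPeq : Q.map (MulAut.conj g).toMonoidHom = Q.map (MulAut.conj m).toMonoidHom :=
    le_antisymm (hsame g m hm1.symm) (hsame m g hm1)
  set P := Q.map (MulAut.conj g).toMonoidHom with hP
  have hderQ : ∀ a ∈ Q, ∀ b ∈ Q, a * b * a⁻¹ * b⁻¹ = 1 ∨ a * b * a⁻¹ * b⁻¹ = z := fun a ha b hb =>
    hcases _ (hz ▸ ⟨_, CfsgLib.Fischer.Extra.comm_mem hE (⟨a, ha⟩ : Q) ⟨b, hb⟩, rfl⟩)
  have hsqQ : ∀ a ∈ Q, a * a = 1 ∨ a * a = z := fun a ha =>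
    hcases _ (hz ▸ ⟨_, LargeSymm.sq_central hE (⟨a, ha⟩ : Q), rfl⟩)
  have hqz : q0 * z * q0⁻¹ = z := mul_inv_eq_iff_eq_mul.2 (hcomm q0 hq0)
  have hgP : ∀ p ∈ P, ∃ q ∈ Q, p = g * q * g⁻¹ := by
    rintro _ ⟨q, hq, rfl⟩; exact ⟨q, hq, rfl⟩
  have hzx : z * x = x * z := (hcomm x hgQ).symm
  refine ⟨q0, m * q0 * m⁻¹, hq0, hPeq ▸ ⟨q0, hq0, rfl⟩, hqz, hq0x, ?_, ?_, hzz, ?_, hz1, ?_, hne, hzQ, hgQ, ?_,
    ⟨z, hzQ, rfl⟩, hcomm, ?_, hderQ, ?_, hsqQ, ?_, hnormQ, ?_, hCR, hE.1.1, hE.1.1.map _, ?_, ?_⟩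
  · calc m * q0 * m⁻¹ * z * (m * q0 * m⁻¹)⁻¹ = m * q0 * m⁻¹ * (m * x * m⁻¹) * (m * q0 * m⁻¹)⁻¹ := by rw [hm2]
      _ = m * (q0 * x * q0⁻¹) * m⁻¹ := by group
      _ = (m * x * m⁻¹) * (m * z * m⁻¹) := by rw [hq0x]; group
      _ = x * z := by rw [hm1, hm2, hzx]
  · calc m * q0 * m⁻¹ * x * (m * q0 * m⁻¹)⁻¹ = m * q0 * m⁻¹ * (m * z * m⁻¹) * (m * q0 * m⁻¹)⁻¹ := by rw [hm1]
      _ = m * (q0 * z * q0⁻¹) * m⁻¹ := by group
      _ = x := by rw [hqz, hm1]
  · rw [hxdef, show g * z * g⁻¹ * (g * z * g⁻¹) = g * (z * z) * g⁻¹ by group, hzz]; group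
  · exact fun e => hz1 (conj_eq_one_iff.1 e)
  · rw [hPeq]
    exact ⟨x, hgQ, hm2⟩
  · intro p hp
    obtain ⟨q, hq, rfl⟩ := hgP p hp
    rw [hxdef, show g * q * g⁻¹ * (g * z * g⁻¹) = g * (q * z) * g⁻¹ by group, hcomm q hq]
    group
  · intro a ha b hb
    obtain ⟨a', ha', rfl⟩ := hgP a ha
    obtain ⟨b', hb', rfl⟩ := hgP b hb
    rw [show g * a' * g⁻¹ * (g * b' * g⁻¹) * (g * a' * g⁻¹)⁻¹ * (g * b' * g⁻¹)⁻¹ =
      g * (a' * b' * a'⁻¹ * b'⁻¹) * g⁻¹ by group]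
    rcases hderQ a' ha' b' hb' with e | e <;> rw [e]
    · left; group
    · exact Or.inr rfl
  · intro a ha
    obtain ⟨a', ha', rfl⟩ := hgP a ha
    rw [show g * a' * g⁻¹ * (g * a' * g⁻¹) = g * (a' * a') * g⁻¹ by group]
    rcases hsqQ a' ha' with e | e <;> rw [e]
    · left; group
    · exact Or.inr rfl
  · intro c hc p hp
    obtain ⟨q, hq, rfl⟩ := hgP p hp
    refine ⟨g⁻¹ * c * g * q * (g⁻¹ * c * g)⁻¹, hnormQ _ ?_ q hq, ?_⟩
    · calc g⁻¹ * c * g * z * (g⁻¹ * c * g)⁻¹ = g⁻¹ * (c * (g * z * g⁻¹) * c⁻¹) * g := by group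
        _ = g⁻¹ * (g * z * g⁻¹) * g := by rw [← hxdef, hc]
        _ = z := by group
    · show g * (g⁻¹ * c * g * q * (g⁻¹ * c * g)⁻¹) * g⁻¹ = c * (g * q * g⁻¹) * c⁻¹
      group
  · exact ⟨m * q0 * m⁻¹, hPeq ▸ ⟨q0, hq0, rfl⟩, rfl⟩
  · have hl : P.map (MulAut.conj q0).toMonoidHom = Q.map (MulAut.conj (q0 * g)).toMonoidHom := by
      rw [hP, Subgroup.map_map]; congr 1; ext q
      show q0 * (g * q * g⁻¹) * q0⁻¹ = q0 * g * q * (q0 * g)⁻¹
      group
    rw [hl]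
    have e : q0 * g * z * (q0 * g)⁻¹ = m * q0 * m⁻¹ * z * (m * q0 * m⁻¹)⁻¹ := by
      rw [show q0 * g * z * (q0 * g)⁻¹ = q0 * (g * z * g⁻¹) * q0⁻¹ by group, ← hxdef, hq0x]
      calc x * z = (m * z * m⁻¹) * (m * x * m⁻¹) := by rw [hm1, hm2]
        _ = m * (z * x) * m⁻¹ := by group
        _ = m * (q0 * x * q0⁻¹) * m⁻¹ := by rw [hzx, hq0x]
        _ = m * q0 * m⁻¹ * (m * x * m⁻¹) * (m * q0 * m⁻¹)⁻¹ := by group
        _ = _ := by rw [hm2]
    exact le_antisymm (hsame _ _ e) (hsame _ _ e.symm)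

variable {Q P : Subgroup G} {z x q0 q1 : G}

/-- the centraliser of the four-group -/
def cv (z x : G) : Subgroup G := Subgroup.centralizer ({z} : Set G) ⊓ Subgroup.centralizer ({x} : Set G)

theorem mem_cv {c : G} : c ∈ cv z x ↔ c * z * c⁻¹ = z ∧ c * x * c⁻¹ = x := by
  rw [cv, Subgroup.mem_inf, Subgroup.mem_centralizer_singleton_iff, Subgroup.mem_centralizer_singleton_iff,
    mul_inv_eq_iff_eq_mul, mul_inv_eq_iff_eq_mul]

theorem Pair.zx (h : Pair Q P z x q0 q1) : z * x = x * z := (h.commQ x h.x_mem).symm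

/-- the four-group -/
theorem Pair.closure_four (h : Pair Q P z x q0 q1) {w : G} (hw : w ∈ Subgroup.closure ({z, x} : Set G)) :
    w = 1 ∨ w = z ∨ w = x ∨ w = x * z := by
  have a1 : x * z * z = x := by rw [mul_assoc, h.z_two, mul_one]
  have a2 : z * (x * z) = x := by rw [← mul_assoc, h.zx, a1]
  have a3 : x * (x * z) = z := by rw [← mul_assoc, h.x_two, one_mul]
  have a4 : x * z * x = z := by rw [mul_assoc, h.zx, a3]
  have a5 : x * z * (x * z) = 1 := by rw [← mul_assoc, a4, h.z_two]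
  have h1 : z⁻¹ = z := inv_eq_of_mul_eq_one_right h.z_two
  have h2 : x⁻¹ = x := inv_eq_of_mul_eq_one_right h.x_two
  refine Subgroup.closure_induction (p := fun w _ => w = 1 ∨ w = z ∨ w = x ∨ w = x * z) ?_ (Or.inl rfl) ?_ ?_ hw
  · rintro u (rfl | hu)
    · exact Or.inr (Or.inl rfl)
    · exact Or.inr (Or.inr (Or.inl hu))
  · rintro u v - - (rfl | rfl | rfl | rfl) (rfl | rfl | rfl | rfl) <;>
      simp [h.z_two, h.x_two, h.zx, a1, a2, a3, a4, a5]
  · rintro u - (rfl | rfl | rfl | rfl) <;> simp [h1, h2, h.zx]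

theorem Pair.centralizer_closure (h : Pair Q P z x q0 q1) :
    Subgroup.centralizer ((Subgroup.closure ({z, x} : Set G) : Subgroup G) : Set G) = cv z x := by
  ext c
  constructor
  · intro hc
    exact ⟨Subgroup.mem_centralizer_singleton_iff.2 (hc z (Subgroup.subset_closure (Or.inl rfl))).symm,
      Subgroup.mem_centralizer_singleton_iff.2 (hc x (Subgroup.subset_closure (Or.inr rfl))).symm⟩
  · rintro ⟨hc1, hc2⟩ w hw
    rw [SetLike.mem_coe] at hw
    have e1 := Subgroup.mem_centralizer_singleton_iff.1 hc1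
    have e2 := Subgroup.mem_centralizer_singleton_iff.1 hc2
    rcases h.closure_four hw with rfl | rfl | rfl | rfl
    · rw [one_mul, mul_one]
    · exact e1.symm
    · exact e2.symm
    · rw [← mul_assoc c, e2, mul_assoc x c, e1, ← mul_assoc]

/-- the centraliser of `x` in `Q` -/
def sideQ (Q : Subgroup G) (x : G) : Subgroup G := Q ⊓ Subgroup.centralizer ({x} : Set G)

/-- the centraliser of `z` in `P` -/
def sideP (P : Subgroup G) (z : G) : Subgroup G := P ⊓ Subgroup.centralizer ({z} : Set G)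

theorem Pair.sideQ_le (h : Pair Q P z x q0 q1) : sideQ Q x ≤ cv z x :=
  fun a ha => ⟨Subgroup.mem_centralizer_singleton_iff.2 (h.commQ a ha.1), ha.2⟩

theorem Pair.sideP_le (h : Pair Q P z x q0 q1) : sideP P z ≤ cv z x :=
  fun a ha => ⟨ha.2, Subgroup.mem_centralizer_singleton_iff.2 (h.commP a ha.1)⟩

theorem Pair.inf_eq (h : Pair Q P z x q0 q1) : sideP P z ⊓ sideQ Q x = Q ⊓ P := by
  ext a
  constructor
  · rintro ⟨⟨h1, -⟩, h2, -⟩; exact ⟨h2, h1⟩
  · rintro ⟨h1, h2⟩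
    exact ⟨⟨h2, Subgroup.mem_centralizer_singleton_iff.2 (h.commQ a h1)⟩, h1,
      Subgroup.mem_centralizer_singleton_iff.2 (h.commP a h2)⟩

theorem Pair.norm_side (h : Pair Q P z x q0 q1) {c : G} (hc : c ∈ cv z x) :
    (∀ a ∈ sideQ Q x, c * a * c⁻¹ ∈ sideQ Q x) ∧ ∀ b ∈ sideP P z, c * b * c⁻¹ ∈ sideP P z := by
  constructor
  · intro a ha
    exact ⟨h.normQ c (mem_cv.1 hc).1 a ha.1,
      (mul_mem (mul_mem hc (h.sideQ_le ha)) (inv_mem hc) : c * a * c⁻¹ ∈ cv z x).2⟩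
  · intro b hb
    exact ⟨h.normP c (mem_cv.1 hc).2 b hb.1,
      (mul_mem (mul_mem hc (h.sideP_le hb)) (inv_mem hc) : c * b * c⁻¹ ∈ cv z x).1⟩

/-- the two-group generated by the two centralisers -/
def core (Q P : Subgroup G) (z x : G) : Subgroup G := sideP P z ⊔ sideQ Q x

theorem Pair.core_le (h : Pair Q P z x q0 q1) : core Q P z x ≤ cv z x := sup_le h.sideP_le h.sideQ_le

theorem Pair.core_norm (h : Pair Q P z x q0 q1) {c : G} (hc : c ∈ cv z x) :
    ∀ r ∈ core Q P z x, c * r * c⁻¹ ∈ core Q P z x := by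
  have : core Q P z x ≤ (core Q P z x).comap (MulAut.conj c).toMonoidHom := sup_le
    (fun b hb => Subgroup.mem_sup_left ((h.norm_side hc).2 b hb))
    (fun a ha => Subgroup.mem_sup_right ((h.norm_side hc).1 a ha))
  exact fun r hr => this hr

theorem Pair.mem_core (h : Pair Q P z x q0 q1) {r : G} (hr : r ∈ core Q P z x) :
    ∃ a ∈ sideQ Q x, ∃ b ∈ sideP P z, r = a * b := by
  let T : Subgroup G :=
    { carrier := {r | ∃ a ∈ sideQ Q x, ∃ b ∈ sideP P z, r = a * b}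
      one_mem' := ⟨1, one_mem _, 1, one_mem _, (mul_one 1).symm⟩
      mul_mem' := by
        rintro _ _ ⟨a, ha, b, hb, rfl⟩ ⟨a', ha', b', hb', rfl⟩
        exact ⟨a * (b * a' * b⁻¹), mul_mem ha ((h.norm_side (h.sideP_le hb)).1 a' ha'), b * b',
          mul_mem hb hb', by group⟩
      inv_mem' := by
        rintro _ ⟨a, ha, b, hb, rfl⟩
        have := (h.norm_side (inv_mem (h.sideP_le hb))).1 a⁻¹ (inv_mem ha)
        exact ⟨_, this, b⁻¹, inv_mem hb, by group⟩ }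
  exact (sup_le (fun b hb => ⟨1, one_mem _, b, hb, (one_mul b).symm⟩)
    (fun a ha => ⟨a, ha, 1, one_mem _, (mul_one a).symm⟩) : core Q P z x ≤ T) hr

theorem Pair.meet_mem (h : Pair Q P z x q0 q1) {w : G} (hw : w = 1 ∨ w = z ∨ w = x ∨ w = x * z) :
    w ∈ Q ⊓ P := by
  rcases hw with rfl | rfl | rfl | rfl
  · exact one_mem _
  · exact ⟨h.z_mem, h.z_mem'⟩
  · exact ⟨h.x_mem, h.x_mem'⟩
  · exact mul_mem (show x ∈ Q ⊓ P from ⟨h.x_mem, h.x_mem'⟩) ⟨h.z_mem, h.z_mem'⟩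

theorem Pair.meet_elementary (h : Pair Q P z x q0 q1) : Cfsg.IsElementaryAbelian 2 (Q ⊓ P) := by
  refine ⟨⟨⟨fun a b => Subtype.ext ?_⟩⟩, fun a ha => ?_⟩
  · have h1 := h.derQ a.1 a.2.1 b.1 b.2.1
    have h2 := h.derP a.1 a.2.2 b.1 b.2.2
    have : a.1 * b.1 * a.1⁻¹ * b.1⁻¹ = 1 := by
      rcases h1 with e | e
      · exact e
      rcases h2 with e' | e'
      · exact e'
      exact absurd (e'.symm.trans e) h.ne
    exact mul_inv_eq_iff_eq_mul.1 (mul_inv_eq_one.1 this)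
  · rw [pow_two]
    rcases h.sqQ a ha.1 with e | e
    · exact e
    rcases h.sqP a ha.2 with e' | e'
    · exact e'
    exact absurd (e'.symm.trans e) h.ne

theorem Pair.core_sq (h : Pair Q P z x q0 q1) {r : G} (hr : r ∈ core Q P z x) : r * r ∈ Q ⊓ P := by
  obtain ⟨a, ha, b, hb, rfl⟩ := h.mem_core hr
  rw [show a * b * (a * b) = (a * a) * (a⁻¹ * b * a * b⁻¹) * (b * b) by group]
  refine mul_mem (mul_mem ?_ ?_) ?_
  · exact h.meet_mem (by rcases h.sqQ a ha.1 with e | e <;> simp [e])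
  · refine Subgroup.mem_inf.2 ⟨?_, ?_⟩
    · rw [show a⁻¹ * b * a * b⁻¹ = a⁻¹ * (b * a * b⁻¹) by group]
      exact Q.mul_mem (Q.inv_mem ha.1) ((h.norm_side (h.sideP_le hb)).1 a ha).1
    · have := ((h.norm_side (inv_mem (h.sideQ_le ha))).2 b hb).1
      rw [inv_inv] at this
      exact P.mul_mem this (P.inv_mem hb.1)
  · exact h.meet_mem (by rcases h.sqP b hb.1 with e | e <;> simp [e])

theorem Pair.meet_norm (h : Pair Q P z x q0 q1) {c : G} (hc : c ∈ cv z x) :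
    ∀ e ∈ Q ⊓ P, c * e * c⁻¹ ∈ Q ⊓ P :=
  fun e he => ⟨h.normQ c (mem_cv.1 hc).1 e he.1, h.normP c (mem_cv.1 hc).2 e he.2⟩

theorem Pair.core_comm (h : Pair Q P z x q0 q1) {u v : G} (hu : u ∈ core Q P z x) (hv : v ∈ core Q P z x) :
    u * v * u⁻¹ * v⁻¹ ∈ Q ⊓ P := by
  rw [show u * v * u⁻¹ * v⁻¹ =
    (u * v * (u * v)) * (v⁻¹ * (u * u)⁻¹ * v⁻¹⁻¹) * (v * v)⁻¹ by group]
  exact mul_mem (mul_mem (h.core_sq (mul_mem hu hv))
    (h.meet_norm (inv_mem (h.core_le hv)) _ (inv_mem (h.core_sq hu)))) (inv_mem (h.core_sq hv))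

theorem Pair.four_le (h : Pair Q P z x q0 q1) {w : G} (hw : w = 1 ∨ w = z ∨ w = x ∨ w = x * z) :
    w ∈ core Q P z x := by
  have hw' := h.meet_mem hw
  rw [← h.inf_eq] at hw'
  exact Subgroup.mem_sup_left hw'.1

theorem Pair.center_core (h : Pair Q P z x q0 q1) {c : G} :
    (c ∈ core Q P z x ∧ ∀ r ∈ core Q P z x, r * c = c * r) ↔ c ∈ Subgroup.closure ({z, x} : Set G) := by
  constructor
  · rintro ⟨-, hc⟩
    rcases h.center c (fun r hr => hc r (Subgroup.mem_sup_right hr)) with rfl | rfl | rfl | rfl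
    · exact one_mem _
    · exact Subgroup.subset_closure (Or.inl rfl)
    · exact Subgroup.subset_closure (Or.inr rfl)
    · exact mul_mem (Subgroup.subset_closure (Or.inr rfl)) (Subgroup.subset_closure (Or.inl rfl))
  · intro hc
    refine ⟨h.four_le (h.closure_four hc), fun r hr => ?_⟩
    have hr' := h.core_le hr
    rw [← h.centralizer_closure] at hr'
    exact (hr' c hc).symm

theorem Pair.comm_meet (h : Pair Q P z x q0 q1) {y e : G} (hy : y ∈ Q ∨ y ∈ P) (he : e ∈ Q ⊓ P) :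
    y * e * y⁻¹ * e⁻¹ ∈ Subgroup.closure ({z, x} : Set G) := by
  rcases hy with hy | hy
  · rcases h.derQ y hy e he.1 with e' | e' <;> rw [e']
    · exact one_mem _
    · exact Subgroup.subset_closure (Or.inl rfl)
  · rcases h.derP y hy e he.2 with e' | e' <;> rw [e']
    · exact one_mem _
    · exact Subgroup.subset_closure (Or.inr rfl)

theorem Pair.core_meet (h : Pair Q P z x q0 q1) {r e : G} (hr : r ∈ core Q P z x) (he : e ∈ Q ⊓ P) :
    r * e * r⁻¹ * e⁻¹ ∈ Subgroup.closure ({z, x} : Set G) := by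
  obtain ⟨a, ha, b, hb, rfl⟩ := h.mem_core hr
  have he' := h.meet_norm (h.sideP_le hb) e he
  rw [show a * b * e * (a * b)⁻¹ * e⁻¹ =
    (a * (b * e * b⁻¹) * a⁻¹ * (b * e * b⁻¹)⁻¹) * (b * e * b⁻¹ * e⁻¹) by group]
  exact mul_mem (h.comm_meet (Or.inl ha.1) he') (h.comm_meet (Or.inr hb.1) he)

theorem Pair.normalizer_mem (h : Pair Q P z x q0 q1) {u : G} :
    (u * z * u⁻¹ ∈ Subgroup.closure ({z, x} : Set G) ∧ u * x * u⁻¹ ∈ Subgroup.closure ({z, x} : Set G)) ↔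
      u ∈ Subgroup.normalizer ((Subgroup.closure ({z, x} : Set G) : Subgroup G) : Set G) := by
  set V := Subgroup.closure ({z, x} : Set G)
  constructor
  · rintro ⟨h1, h2⟩
    have hle : V.map (MulAut.conj u).toMonoidHom ≤ V := by
      rw [Subgroup.map_le_iff_le_comap, Subgroup.closure_le]
      rintro w (rfl | rfl)
      · exact h1
      · exact h2
    have heq : V.map (MulAut.conj u).toMonoidHom = V := Subgroup.eq_of_le_of_card_ge hle (by
      rw [Subgroup.card_map_of_injective (f := (MulAut.conj u).toMonoidHom) (MulAut.conj u).injective])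
    rw [Subgroup.mem_normalizer_iff]
    intro w
    constructor
    · intro hw; exact hle ⟨w, hw, rfl⟩
    · intro hw
      rw [← heq] at hw
      obtain ⟨w', hw', e⟩ := hw
      rw [← (MulAut.conj u).injective e]
      exact hw'
  · intro hu
    exact ⟨(Subgroup.mem_normalizer_iff.1 hu z).1 (Subgroup.subset_closure (Or.inl rfl)),
      (Subgroup.mem_normalizer_iff.1 hu x).1 (Subgroup.subset_closure (Or.inr rfl))⟩

theorem Pair.sup_le_normalizer (h : Pair Q P z x q0 q1) :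
    Q ⊔ P ≤ Subgroup.normalizer ((Subgroup.closure ({z, x} : Set G) : Subgroup G) : Set G) := by
  have hz : z ∈ Subgroup.closure ({z, x} : Set G) := Subgroup.subset_closure (Or.inl rfl)
  have hx : x ∈ Subgroup.closure ({z, x} : Set G) := Subgroup.subset_closure (Or.inr rfl)
  refine sup_le (fun q hq => h.normalizer_mem.1 ⟨?_, ?_⟩) fun p hp => h.normalizer_mem.1 ⟨?_, ?_⟩
  · rwa [h.commQ q hq, mul_inv_cancel_right]
  · rcases h.derQ q hq x h.x_mem with e | e <;> rw [mul_inv_eq_iff_eq_mul] at e <;> rw [e]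
    · rwa [one_mul]
    · exact mul_mem hz hx
  · rcases h.derP p hp z h.z_mem' with e | e <;> rw [mul_inv_eq_iff_eq_mul] at e <;> rw [e]
    · rwa [one_mul]
    · exact mul_mem hx hz
  · rwa [h.commP p hp, mul_inv_cancel_right]

theorem Pair.commutator_le (h : Pair Q P z x q0 q1) : ⁅Q ⊔ P, Q ⊓ P⁆ ≤ Subgroup.closure ({z, x} : Set G) := by
  set V := Subgroup.closure ({z, x} : Set G)
  rw [Subgroup.commutator_le]
  have key : ∀ y ∈ Q ⊔ P, ∀ e ∈ Q ⊓ P, y * e * y⁻¹ * e⁻¹ ∈ V := by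
    intro y hy
    rw [Subgroup.sup_eq_closure] at hy
    have hnorm : ∀ u ∈ Subgroup.closure ((Q : Set G) ∪ (P : Set G)), ∀ w ∈ V, u * w * u⁻¹ ∈ V := fun u hu w hw =>
      (Subgroup.mem_normalizer_iff.1 (h.sup_le_normalizer (by rwa [Subgroup.sup_eq_closure])) w).1 hw
    have hVE : ∀ v ∈ V, v ∈ Q ⊓ P := fun v hv => h.meet_mem (h.closure_four hv)
    refine Subgroup.closure_induction (p := fun u _ => ∀ e ∈ Q ⊓ P, u * e * u⁻¹ * e⁻¹ ∈ V) ?_ ?_ ?_ ?_ hy
    · exact fun u hu e he => h.comm_meet hu he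
    · intro e _; simp [one_mem]
    · intro u v hu hv ihu ihv e he
      have h1 := ihv e he
      have hve : v * e * v⁻¹ ∈ Q ⊓ P := by
        rw [show v * e * v⁻¹ = (v * e * v⁻¹ * e⁻¹) * e by group]
        exact mul_mem (hVE _ h1) he
      rw [show u * v * e * (u * v)⁻¹ * e⁻¹ =
        (u * (v * e * v⁻¹) * u⁻¹ * (v * e * v⁻¹)⁻¹) * (v * e * v⁻¹ * e⁻¹) by group]
      exact mul_mem (ihu _ hve) h1
    · intro u hu ih e he
      have h1 := hnorm u⁻¹ (inv_mem hu) _ (inv_mem (ih e he))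
      rw [show u⁻¹ * (u * e * u⁻¹ * e⁻¹)⁻¹ * u⁻¹⁻¹ = u⁻¹ * e * u⁻¹⁻¹ * e⁻¹ by group] at h1
      exact h1
  exact fun y hy e he => key y hy e he

theorem Pair.split_Q (h : Pair Q P z x q0 q1) {q : G} (hq : q ∈ Q) :
    q ∈ sideQ Q x ∨ q0⁻¹ * q ∈ sideQ Q x := by
  rcases h.derQ q hq x h.x_mem with e | e <;> rw [mul_inv_eq_iff_eq_mul] at e
  · rw [one_mul] at e
    exact Or.inl ⟨hq, Subgroup.mem_centralizer_singleton_iff.2 (mul_inv_eq_iff_eq_mul.1 e)⟩
  · refine Or.inr ⟨Q.mul_mem (Q.inv_mem h.q0_mem) hq,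
      Subgroup.mem_centralizer_singleton_iff.2 (mul_inv_eq_iff_eq_mul.1 ?_)⟩
    rw [show q0⁻¹ * q * x * (q0⁻¹ * q)⁻¹ = q0⁻¹ * (q * x * q⁻¹) * q0 by group, e, h.zx, ← h.q0_x]
    group

theorem Pair.split_P (h : Pair Q P z x q0 q1) {p : G} (hp : p ∈ P) :
    p ∈ sideP P z ∨ q1⁻¹ * p ∈ sideP P z := by
  rcases h.derP p hp z h.z_mem' with e | e <;> rw [mul_inv_eq_iff_eq_mul] at e
  · rw [one_mul] at e
    exact Or.inl ⟨hp, Subgroup.mem_centralizer_singleton_iff.2 (mul_inv_eq_iff_eq_mul.1 e)⟩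
  · refine Or.inr ⟨P.mul_mem (P.inv_mem h.q1_mem) hp,
      Subgroup.mem_centralizer_singleton_iff.2 (mul_inv_eq_iff_eq_mul.1 ?_)⟩
    rw [show q1⁻¹ * p * z * (q1⁻¹ * p)⁻¹ = q1⁻¹ * (p * z * p⁻¹) * q1 by group, e, ← h.q1_z]
    group

theorem Pair.core_le_sup (_h : Pair Q P z x q0 q1) : core Q P z x ≤ Q ⊔ P :=
  sup_le (inf_le_left.trans le_sup_right) (inf_le_left.trans le_sup_left)

theorem Pair.cv_conj (h : Pair Q P z x q0 q1) {u c : G}
    (hu : u ∈ Subgroup.normalizer ((Subgroup.closure ({z, x} : Set G) : Subgroup G) : Set G)) (hc : c ∈ cv z x) :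
    u * c * u⁻¹ ∈ cv z x := by
  rw [← h.centralizer_closure] at hc ⊢
  intro w hw
  have hw' : u⁻¹ * w * u ∈ Subgroup.closure ({z, x} : Set G) := by
    have := (Subgroup.mem_normalizer_iff.1 (inv_mem hu) w).1 hw
    rwa [inv_inv] at this
  calc w * (u * c * u⁻¹) = u * ((u⁻¹ * w * u) * c) * u⁻¹ := by group
    _ = u * (c * (u⁻¹ * w * u)) * u⁻¹ := by rw [hc _ hw']
    _ = _ := by group

theorem Pair.gen_norm (h : Pair Q P z x q0 q1) {y : G} (hy : y ∈ Q ∨ y ∈ P) :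
    ∀ r ∈ core Q P z x, y * r * y⁻¹ ∈ core Q P z x := by
  have hyN := h.sup_le_normalizer (show y ∈ Q ⊔ P from hy.elim Subgroup.mem_sup_left Subgroup.mem_sup_right)
  have hle : core Q P z x ≤ (core Q P z x).comap (MulAut.conj y).toMonoidHom := by
    refine sup_le (fun b hb => ?_) fun a ha => ?_
    · show y * b * y⁻¹ ∈ core Q P z x
      rcases hy with hy | hy
      · have hcv := h.cv_conj hyN (h.sideP_le hb)
        have h1 : y * b * y⁻¹ * b⁻¹ ∈ sideQ Q x := by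
          refine ⟨?_, (mul_mem hcv (inv_mem (h.sideP_le hb)) : y * b * y⁻¹ * b⁻¹ ∈ cv z x).2⟩
          rw [show y * b * y⁻¹ * b⁻¹ = y * (b * y⁻¹ * b⁻¹) by group]
          exact Q.mul_mem hy (h.normQ b (mem_cv.1 (h.sideP_le hb)).1 _ (Q.inv_mem hy))
        rw [show y * b * y⁻¹ = (y * b * y⁻¹ * b⁻¹) * b by group]
        exact mul_mem (Subgroup.mem_sup_right h1) (Subgroup.mem_sup_left hb)
      · exact Subgroup.mem_sup_left ⟨P.mul_mem (P.mul_mem hy hb.1) (P.inv_mem hy),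
          (h.cv_conj hyN (h.sideP_le hb)).1⟩
    · show y * a * y⁻¹ ∈ core Q P z x
      rcases hy with hy | hy
      · exact Subgroup.mem_sup_right ⟨Q.mul_mem (Q.mul_mem hy ha.1) (Q.inv_mem hy),
          (h.cv_conj hyN (h.sideQ_le ha)).2⟩
      · have hcv := h.cv_conj hyN (h.sideQ_le ha)
        have h1 : y * a * y⁻¹ * a⁻¹ ∈ sideP P z := by
          refine ⟨?_, (mul_mem hcv (inv_mem (h.sideQ_le ha)) : y * a * y⁻¹ * a⁻¹ ∈ cv z x).1⟩
          rw [show y * a * y⁻¹ * a⁻¹ = y * (a * y⁻¹ * a⁻¹) by group]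
          exact P.mul_mem hy (h.normP a (mem_cv.1 (h.sideQ_le ha)).2 _ (P.inv_mem hy))
        rw [show y * a * y⁻¹ = (y * a * y⁻¹ * a⁻¹) * a by group]
        exact mul_mem (Subgroup.mem_sup_left h1) (Subgroup.mem_sup_right ha)
  exact fun r hr => hle hr

theorem Pair.core_normal (h : Pair Q P z x q0 q1) : ((core Q P z x).subgroupOf (Q ⊔ P)).Normal := by
  constructor
  intro r hr u
  have hu : u.1 ∈ Subgroup.closure ((Q : Set G) ∪ (P : Set G)) := Subgroup.sup_eq_closure Q P ▸ u.2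
  have key : ∀ r ∈ core Q P z x, u.1 * r * u.1⁻¹ ∈ core Q P z x := by
    refine Subgroup.closure_induction'' (p := fun v _ => ∀ r ∈ core Q P z x, v * r * v⁻¹ ∈ core Q P z x)
      ?_ ?_ ?_ ?_ hu
    · exact fun v hv => h.gen_norm hv
    · exact fun v hv => h.gen_norm (hv.imp Q.inv_mem P.inv_mem)
    · intro r hr; simpa using hr
    · intro a b _ _ iha ihb r hr
      rw [show a * b * r * (a * b)⁻¹ = a * (b * r * b⁻¹) * a⁻¹ by group]
      exact iha _ (ihb r hr)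
  exact key r.1 hr

theorem Pair.sup_inf_cv (h : Pair Q P z x q0 q1) : (Q ⊔ P) ⊓ cv z x = core Q P z x := by
  refine le_antisymm ?_ (le_inf h.core_le_sup h.core_le)
  rintro u ⟨huX, hucv⟩
  set X := Q ⊔ P with hX
  haveI := h.core_normal
  let π := QuotientGroup.mk' ((core Q P z x).subgroupOf X)
  let a0 : X := ⟨q0, Subgroup.mem_sup_left h.q0_mem⟩
  let a1 : X := ⟨q1, Subgroup.mem_sup_right h.q1_mem⟩
  have hπ : ∀ v : X, π v = 1 ↔ v.1 ∈ core Q P z x := fun v => QuotientGroup.eq_one_iff v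
  have ha : π a0 * π a0 = 1 := by
    rw [← map_mul, hπ]
    exact h.four_le (by rcases h.sqQ q0 h.q0_mem with e | e <;> simp [a0, e])
  have hb : π a1 * π a1 = 1 := by
    rw [← map_mul, hπ]
    exact h.four_le (by rcases h.sqP q1 h.q1_mem with e | e <;> simp [a1, e])
  have habba : π a0 * π a1 * π a0 = π a1 * π a0 * π a1 := by
    obtain ⟨q', hq', e⟩ : ∃ q' ∈ Q, q1 * q' * q1⁻¹ = q0 * q1 * q0⁻¹ := by
      have hm := h.move
      rw [h.same] at hm
      obtain ⟨q', hq', e⟩ := hm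
      exact ⟨q', hq', e⟩
    have hinv : ∀ t : X ⧸ (core Q P z x).subgroupOf X, t * t = 1 → t⁻¹ = t := fun t ht =>
      inv_eq_of_mul_eq_one_right ht
    have e' : π a1 * π ⟨q', Subgroup.mem_sup_left hq'⟩ * (π a1)⁻¹ = π a0 * π a1 * (π a0)⁻¹ := by
      rw [← map_inv, ← map_inv, ← map_mul, ← map_mul, ← map_mul, ← map_mul]
      exact congrArg π (Subtype.ext e)
    rw [hinv _ ha, hinv _ hb] at e'
    rcases h.split_Q hq' with g1 | g1
    · exfalso
      rw [(hπ ⟨q', Subgroup.mem_sup_left hq'⟩).2 (Subgroup.mem_sup_right g1), mul_one, hb] at e'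
      have hb1 : π a1 = 1 := by
        calc π a1 = π a0 * π a0 * π a1 * (π a0 * π a0) := by rw [ha, one_mul, mul_one]
          _ = π a0 * (π a0 * π a1 * π a0) * π a0 := by group
          _ = 1 := by rw [← e', mul_one, ha]
      have h2 := (mem_cv.1 (h.core_le ((hπ a1).1 hb1))).1
      rw [h.q1_z] at h2
      exact h.x_ne (mul_eq_right.1 h2)
    · have hq'' : π ⟨q', Subgroup.mem_sup_left hq'⟩ = π a0 := by
        refine (inv_mul_eq_one.1 ?_).symm
        rw [← map_inv, ← map_mul, hπ]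
        exact Subgroup.mem_sup_right g1
      rw [hq''] at e'
      exact e'.symm
  obtain ⟨a, haeq⟩ : ∃ a, a = π a0 := ⟨_, rfl⟩
  obtain ⟨b, hbeq⟩ : ∃ b, b = π a1 := ⟨_, rfl⟩
  rw [← haeq] at ha habba
  rw [← hbeq] at hb habba
  have hgen : ∀ v : G, ∀ hv : v ∈ X, π ⟨v, hv⟩ = 1 ∨ π ⟨v, hv⟩ = a ∨ π ⟨v, hv⟩ = b ∨ π ⟨v, hv⟩ = a * b ∨
      π ⟨v, hv⟩ = b * a ∨ π ⟨v, hv⟩ = a * b * a := by
    intro v hv
    have hv' := hv
    rw [hX, Subgroup.sup_eq_closure] at hv'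
    have step : ∀ y, ∀ hy : y ∈ X, (y ∈ Q ∨ y ∈ P) → π ⟨y, hy⟩ = 1 ∨ π ⟨y, hy⟩ = a ∨ π ⟨y, hy⟩ = b := by
      intro y hy hy'
      rcases hy' with hy' | hy'
      · rcases h.split_Q hy' with g1 | g1
        · exact Or.inl ((hπ _).2 (Subgroup.mem_sup_right g1))
        · refine Or.inr (Or.inl ?_)
          rw [haeq]
          refine (inv_mul_eq_one.1 ?_).symm
          rw [← map_inv, ← map_mul, hπ]
          exact Subgroup.mem_sup_right g1
      · rcases h.split_P hy' with g1 | g1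
        · exact Or.inl ((hπ _).2 (Subgroup.mem_sup_left g1))
        · refine Or.inr (Or.inr ?_)
          rw [hbeq]
          refine (inv_mul_eq_one.1 ?_).symm
          rw [← map_inv, ← map_mul, hπ]
          exact Subgroup.mem_sup_left g1
    have c1 : a * (a * b) = b := by rw [← mul_assoc, ha, one_mul]
    have c2 : a * (b * a) = a * b * a := (mul_assoc _ _ _).symm
    have c3 : a * (a * b * a) = b * a := by rw [← mul_assoc, c1]
    have c4 : b * (a * b) = a * b * a := by rw [← mul_assoc, ← habba]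
    have c5 : b * (b * a) = a := by rw [← mul_assoc, hb, one_mul]
    have c6 : b * (a * b * a) = a * b := by
      rw [habba, ← mul_assoc, ← mul_assoc, hb, one_mul]
    refine Subgroup.closure_induction_left (s := (Q : Set G) ∪ (P : Set G))
      (p := fun v hv => π ⟨v, by rw [hX, Subgroup.sup_eq_closure]; exact hv⟩ = 1 ∨ π ⟨v, by rw [hX, Subgroup.sup_eq_closure]; exact hv⟩ = a ∨ π ⟨v, by rw [hX, Subgroup.sup_eq_closure]; exact hv⟩ = b ∨ π ⟨v, by rw [hX, Subgroup.sup_eq_closure]; exact hv⟩ = a * b ∨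
        π ⟨v, by rw [hX, Subgroup.sup_eq_closure]; exact hv⟩ = b * a ∨ π ⟨v, by rw [hX, Subgroup.sup_eq_closure]; exact hv⟩ = a * b * a) ?_ ?_ ?_ hv'
    · exact Or.inl (map_one π)
    · intro y hy w hw ih
      have hy' : y ∈ X := hy.elim Subgroup.mem_sup_left Subgroup.mem_sup_right
      have hw' : w ∈ X := by rw [hX, Subgroup.sup_eq_closure]; exact hw
      rw [show (⟨y * w, _⟩ : X) = ⟨y, hy'⟩ * ⟨w, hw'⟩ from rfl, map_mul]
      rcases step y hy' hy with e | e | e <;> rw [e] <;>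
        rcases ih with i | i | i | i | i | i <;> rw [i] <;>
        simp [ha, hb, c1, c2, c3, c4, c5, c6]
    · intro y hy w hw ih
      have hy' : y⁻¹ ∈ X := inv_mem (hy.elim Subgroup.mem_sup_left Subgroup.mem_sup_right : y ∈ X)
      have hw' : w ∈ X := by rw [hX, Subgroup.sup_eq_closure]; exact hw
      rw [show (⟨y⁻¹ * w, _⟩ : X) = ⟨y⁻¹, hy'⟩ * ⟨w, hw'⟩ from rfl, map_mul]
      rcases step y⁻¹ hy' (hy.imp Q.inv_mem P.inv_mem) with e | e | e <;> rw [e] <;>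
        rcases ih with i | i | i | i | i | i <;> rw [i] <;>
        simp [ha, hb, c1, c2, c3, c4, c5, c6]
  have hrep : ∀ w : X, π ⟨u, huX⟩ = π w → w.1 ∈ cv z x := by
    intro w hw
    have h1 : (⟨u, huX⟩ : X)⁻¹ * w ∈ (core Q P z x).subgroupOf X := QuotientGroup.eq.1 hw
    have h2 := mul_mem hucv (h.core_le h1)
    have h3 : u * (u⁻¹ * w.1) ∈ cv z x := h2
    rwa [mul_inv_cancel_left] at h3
  have hxz1 : x * z ≠ z := fun e => h.x_ne (mul_eq_right.1 e)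
  have hxz2 : x * z ≠ x := fun e => h.z_ne (mul_eq_left.1 e)
  have e01 : q0 * (x * z) * q0⁻¹ = x := by
    rw [show q0 * (x * z) * q0⁻¹ = (q0 * x * q0⁻¹) * (q0 * z * q0⁻¹) by group, h.q0_x, h.q0_z, mul_assoc,
      h.z_two, mul_one]
  have e10 : q1 * (x * z) * q1⁻¹ = z := by
    rw [show q1 * (x * z) * q1⁻¹ = (q1 * x * q1⁻¹) * (q1 * z * q1⁻¹) by group, h.q1_x, h.q1_z, ← mul_assoc,
      h.x_two, one_mul]
  rcases hgen u huX with e | e | e | e | e | e
  · exact (hπ ⟨u, huX⟩).1 e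
  · have h1 := (mem_cv.1 (hrep a0 (e.trans haeq))).2
    exact absurd (h.q0_x.symm.trans h1) hxz2
  · have h1 := (mem_cv.1 (hrep a1 (e.trans hbeq))).1
    exact absurd (h.q1_z.symm.trans h1) hxz1
  · have h1 := (mem_cv.1 (hrep (a0 * a1) (by rw [e, map_mul, haeq, hbeq]))).2
    rw [show (a0 * a1 : X).1 = q0 * q1 from rfl,
      show q0 * q1 * x * (q0 * q1)⁻¹ = q0 * (q1 * x * q1⁻¹) * q0⁻¹ by group, h.q1_x, h.q0_x] at h1
    exact absurd h1 hxz2
  · have h1 := (mem_cv.1 (hrep (a1 * a0) (by rw [e, map_mul, haeq, hbeq]))).2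
    rw [show (a1 * a0 : X).1 = q1 * q0 from rfl,
      show q1 * q0 * x * (q1 * q0)⁻¹ = q1 * (q0 * x * q0⁻¹) * q1⁻¹ by group, h.q0_x, e10] at h1
    exact absurd h1.symm h.ne
  · have h1 := (mem_cv.1 (hrep (a0 * a1 * a0) (by rw [e, map_mul, map_mul, haeq, hbeq]))).1
    rw [show (a0 * a1 * a0 : X).1 = q0 * q1 * q0 from rfl,
      show q0 * q1 * q0 * z * (q0 * q1 * q0)⁻¹ = q0 * (q1 * (q0 * z * q0⁻¹) * q1⁻¹) * q0⁻¹ by group, h.q0_z,
      h.q1_z, e01] at h1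
    exact absurd h1 h.ne

/-- the three involutions -/
def pts (z x : G) : Fin 3 → G := ![z, x, x * z]

theorem Pair.pts_injective (h : Pair Q P z x q0 q1) : Function.Injective (pts z x) := by
  have hxz1 : x * z ≠ z := fun e => h.x_ne (mul_eq_right.1 e)
  have hxz2 : x * z ≠ x := fun e => h.z_ne (mul_eq_left.1 e)
  intro i j
  fin_cases i <;> fin_cases j <;> simp [pts, h.ne, h.x_ne, h.z_ne, Ne.symm h.ne, hxz1, hxz2, Ne.symm hxz1, Ne.symm hxz2]

theorem Pair.exists_hom (h : Pair Q P z x q0 q1) :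
    ∃ f : Subgroup.normalizer ((Subgroup.closure ({z, x} : Set G) : Subgroup G) : Set G) →* Equiv.Perm (Fin 3),
      (∀ u, f u = 1 ↔ u.1 ∈ cv z x) ∧ ∀ σ, ∃ u, u.1 ∈ Q ⊔ P ∧ f u = σ := by
  classical
  set V := Subgroup.closure ({z, x} : Set G) with hV
  set N := Subgroup.normalizer (V : Set G) with hN
  have hptsV : ∀ i, pts z x i ∈ V := fun i => by
    fin_cases i
    · exact Subgroup.subset_closure (Or.inl rfl)
    · exact Subgroup.subset_closure (Or.inr rfl)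
    · exact mul_mem (Subgroup.subset_closure (Or.inr rfl)) (Subgroup.subset_closure (Or.inl rfl))
  have hex : ∀ (u : N) i, ∃ j, u.1 * pts z x i * u.1⁻¹ = pts z x j := by
    intro u i
    rcases h.closure_four ((Subgroup.mem_normalizer_iff.1 u.2 _).1 (hptsV i)) with e | e | e | e
    · exfalso
      have hi : pts z x i = 1 := conj_eq_one_iff.1 e
      fin_cases i
      · exact h.z_ne hi
      · exact h.x_ne hi
      · refine h.ne ?_
        have hi' : x * z = 1 := hi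
        calc x = x * (z * z) := by rw [h.z_two, mul_one]
          _ = z := by rw [← mul_assoc, hi', one_mul]
    · exact ⟨0, e⟩
    · exact ⟨1, e⟩
    · exact ⟨2, e⟩
  choose F hF using hex
  have hFinj : ∀ u, Function.Injective (F u) := fun u i j e =>
    h.pts_injective (mul_left_cancel (mul_right_cancel (by rw [hF, hF, e] :
      u.1 * pts z x i * u.1⁻¹ = u.1 * pts z x j * u.1⁻¹)))
  let f0 : N → Equiv.Perm (Fin 3) := fun u => Equiv.ofBijective (F u) (Finite.injective_iff_bijective.1 (hFinj u))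
  have hf0 : ∀ (u : N) (σ : Equiv.Perm (Fin 3)), (∀ i, u.1 * pts z x i * u.1⁻¹ = pts z x (σ i)) → f0 u = σ :=
    fun u σ hσ => Equiv.ext fun i => h.pts_injective ((hF u i).symm.trans (hσ i))
  let f : N →* Equiv.Perm (Fin 3) := MonoidHom.mk' f0 fun u v => hf0 (u * v) _ fun i => by
    show u.1 * v.1 * pts z x i * (u.1 * v.1)⁻¹ = pts z x (F u (F v i))
    rw [← hF u (F v i), ← hF v i]
    group
  refine ⟨f, fun u => ?_, fun σ => ?_⟩
  · constructor
    · intro hu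
      have hall : ∀ i, u.1 * pts z x i * u.1⁻¹ = pts z x i := fun i => by
        rw [hF, show F u i = f0 u i from rfl, show f0 u = 1 from hu]
        rfl
      exact mem_cv.2 ⟨hall 0, hall 1⟩
    · intro hu
      obtain ⟨h1, h2⟩ := mem_cv.1 hu
      refine hf0 u 1 fun i => ?_
      fin_cases i
      · exact h1
      · exact h2
      · show u.1 * (x * z) * u.1⁻¹ = x * z
        rw [show u.1 * (x * z) * u.1⁻¹ = (u.1 * x * u.1⁻¹) * (u.1 * z * u.1⁻¹) by group, h1, h2]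
  · let a0 : N := ⟨q0, h.sup_le_normalizer (Subgroup.mem_sup_left h.q0_mem)⟩
    let a1 : N := ⟨q1, h.sup_le_normalizer (Subgroup.mem_sup_right h.q1_mem)⟩
    have f0a : f a0 = Equiv.swap 1 2 := hf0 a0 _ fun i => by
      fin_cases i
      · exact h.q0_z
      · exact h.q0_x
      · show q0 * (x * z) * q0⁻¹ = x
        rw [show q0 * (x * z) * q0⁻¹ = (q0 * x * q0⁻¹) * (q0 * z * q0⁻¹) by group, h.q0_x, h.q0_z, mul_assoc,
          h.z_two, mul_one]
    have f1a : f a1 = Equiv.swap 0 2 := hf0 a1 _ fun i => by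
      fin_cases i
      · exact h.q1_z
      · exact h.q1_x
      · show q1 * (x * z) * q1⁻¹ = z
        rw [show q1 * (x * z) * q1⁻¹ = (q1 * x * q1⁻¹) * (q1 * z * q1⁻¹) by group, h.q1_x, h.q1_z, ← mul_assoc,
          h.x_two, one_mul]
    have six : ∀ σ : Equiv.Perm (Fin 3), σ = 1 ∨ σ = Equiv.swap 1 2 ∨ σ = Equiv.swap 0 2 ∨
        σ = Equiv.swap 1 2 * Equiv.swap 0 2 ∨ σ = Equiv.swap 0 2 * Equiv.swap 1 2 ∨
        σ = Equiv.swap 1 2 * Equiv.swap 0 2 * Equiv.swap 1 2 := by decide +kernel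
    have m0 : q0 ∈ Q ⊔ P := Subgroup.mem_sup_left h.q0_mem
    have m1 : q1 ∈ Q ⊔ P := Subgroup.mem_sup_right h.q1_mem
    rcases six σ with rfl | rfl | rfl | rfl | rfl | rfl
    · exact ⟨1, one_mem _, map_one f⟩
    · exact ⟨a0, m0, f0a⟩
    · exact ⟨a1, m1, f1a⟩
    · exact ⟨a0 * a1, mul_mem m0 m1, by rw [map_mul, f0a, f1a]⟩
    · exact ⟨a1 * a0, mul_mem m1 m0, by rw [map_mul, f0a, f1a]⟩
    · exact ⟨a0 * a1 * a0, mul_mem (mul_mem m0 m1) m0, by rw [map_mul, map_mul, f0a, f1a]⟩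

theorem Pair.core_two (h : Pair Q P z x q0 q1) : IsPGroup 2 (core Q P z x) := by
  intro r
  obtain ⟨a, ha, b, hb, e⟩ := h.mem_core r.2
  have hsq := h.core_sq r.2
  refine ⟨2, Subtype.ext ?_⟩
  have h2 := h.meet_elementary.2 _ hsq
  show r.1 ^ 2 ^ 2 = 1
  rw [show (2 : ℕ) ^ 2 = 2 * 2 from rfl, pow_mul, pow_two r.1]
  exact h2

end CfsgLib.Spor.LargePair
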