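import Cfsg.Agent.Perm.ExtraTwoRank
import Cfsg.Agent.Spor.Fischer.ExtraPairing
import Cfsg.Prelude.Def_Classical
import Cfsg.Prelude.Def_KGroupFacts
import Mathlib

/-!
The outer automorphisms of an extraspecial 2-group as the isometries of its quadratic form.
-/

set_option autoImplicit false
set_option linter.unusedSectionVars false
set_option linter.style.haveILetI false

namespace CfsgLib.Spor.ExtraOuter

open Matrix CfsgLib.Perm.ExtraTwo

variable {ι : Type} [Fintype ι] [DecidableEq ι]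

/-- pairs of a scalar and a vector with the product twisted by a bilinear form -/
@[ext] structure Tw (B : Matrix ι ι (ZMod 2)) where
  s : ZMod 2
  v : ι → ZMod 2

variable {B : Matrix ι ι (ZMod 2)}

/-- the form -/
def beta (B : Matrix ι ι (ZMod 2)) (v w : ι → ZMod 2) : ZMod 2 := v ⬝ᵥ B *ᵥ w

theorem beta_add_left (u v w : ι → ZMod 2) : beta B (u + v) w = beta B u w + beta B v w := add_dotProduct _ _ _
theorem beta_add_right (u v w : ι → ZMod 2) : beta B u (v + w) = beta B u v + beta B u w := by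
  simp [beta, mulVec_add, dotProduct_add]

instance : Mul (Tw B) := ⟨fun x y => ⟨x.s + y.s + beta B x.v y.v, x.v + y.v⟩⟩
instance : One (Tw B) := ⟨⟨0, 0⟩⟩
instance : Inv (Tw B) := ⟨fun x => ⟨x.s + beta B x.v x.v, x.v⟩⟩

theorem mul_def (x y : Tw B) : x * y = ⟨x.s + y.s + beta B x.v y.v, x.v + y.v⟩ := rfl

theorem vec_two (v : ι → ZMod 2) : v + v = 0 := by ext i; exact CharTwo.add_self_eq_zero _

theorem beta_zero_left (v : ι → ZMod 2) : beta B 0 v = 0 := zero_dotProduct _
theorem beta_zero_right (v : ι → ZMod 2) : beta B v 0 = 0 := by simp [beta]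

instance : Group (Tw B) where
  mul_assoc x y z := by
    refine Tw.ext ?_ (add_assoc _ _ _)
    show x.s + y.s + beta B x.v y.v + z.s + beta B (x.v + y.v) z.v = x.s + (y.s + z.s + beta B y.v z.v) + beta B x.v (y.v + z.v)
    rw [beta_add_left, beta_add_right]; ring
  one_mul x := by
    refine Tw.ext ?_ (zero_add _)
    show 0 + x.s + beta B 0 x.v = x.s
    rw [beta_zero_left, zero_add, add_zero]
  mul_one x := by
    refine Tw.ext ?_ (add_zero _)
    show x.s + 0 + beta B x.v 0 = x.s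
    rw [beta_zero_right, add_zero, add_zero]
  inv_mul_cancel x := by
    refine Tw.ext ?_ (vec_two _)
    show x.s + beta B x.v x.v + x.s + beta B x.v x.v = 0
    linear_combination (x.s + beta B x.v x.v) * (CharTwo.two_eq_zero : (2 : ZMod 2) = 0)

/-- coordinates -/
def coords : Tw B ≃ ZMod 2 × (ι → ZMod 2) where
  toFun x := (x.s, x.v)
  invFun p := ⟨p.1, p.2⟩
  left_inv _ := rfl
  right_inv _ := rfl

instance : Finite (Tw B) := Finite.of_equiv _ coords.symm

theorem card_tw : Nat.card (Tw B) = 2 ^ (Fintype.card ι + 1) := by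
  rw [Nat.card_congr coords, Nat.card_prod, Nat.card_zmod, Nat.card_fun, Nat.card_zmod, Nat.card_eq_fintype_card (α := ι),
    pow_succ']

/-- nondegeneracy -/
def Nondeg (B : Matrix ι ι (ZMod 2)) : Prop := ∀ v, (∀ w, beta B v w = beta B w v) → v = 0

theorem mem_center (hB : Nondeg B) {x : Tw B} : x ∈ Subgroup.center (Tw B) ↔ x.v = 0 := by
  constructor
  · intro h
    refine hB _ fun w => ?_
    have h1 : (0 : ZMod 2) + x.s + beta B w x.v = x.s + 0 + beta B x.v w :=
      congrArg Tw.s (Subgroup.mem_center_iff.1 h ⟨0, w⟩)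
    linear_combination h1.symm
  · intro h
    refine Subgroup.mem_center_iff.2 fun y => Tw.ext ?_ (add_comm _ _)
    show y.s + x.s + beta B y.v x.v = x.s + y.s + beta B x.v y.v
    rw [h, beta_zero_left, beta_zero_right]; ring

theorem card_center (hB : Nondeg B) : Nat.card (Subgroup.center (Tw B)) = 2 := by
  rw [Nat.card_congr (show Subgroup.center (Tw B) ≃ ZMod 2 from
    { toFun := fun x => x.1.s
      invFun := fun c => ⟨⟨c, 0⟩, (mem_center hB).2 rfl⟩
      left_inv := fun x => Subtype.ext (Tw.ext rfl ((mem_center hB).1 x.2).symm)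
      right_inv := fun c => rfl }), Nat.card_zmod]

theorem comm_center (hB : Nondeg B) : commutator (Tw B) ≤ Subgroup.center (Tw B) := by
  rw [commutator_def, Subgroup.commutator_le]
  intro x _ y _
  rw [mem_center hB]
  show x.v + y.v + x.v + y.v = 0
  rw [show x.v + y.v + x.v + y.v = (x.v + y.v) + (x.v + y.v) by abel]
  exact vec_two _

/-- sign of a scalar -/
def chi (a : ZMod 2) : ℤ := if a = 0 then 1 else -1

theorem chi_add : ∀ a b : ZMod 2, chi (a + b) = chi a * chi b := by decide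

theorem excess_tw (Q : (ι → ZMod 2) → ZMod 2) (hQ : ∀ v, beta B v v = Q v) :
    excess (Tw B) = 2 * ∑ v, chi (Q v) := by
  classical
  haveI : Fintype (Tw B) := Fintype.ofEquiv _ coords.symm
  have h : Nat.card {x : Tw B // x ^ 2 = 1} = 2 * (Finset.univ.filter fun v => Q v = 0).card := by
    have e : {x : Tw B // x ^ 2 = 1} ≃ ZMod 2 × {v // Q v = 0} :=
      { toFun := fun x => (x.1.s, ⟨x.1.v, by
          have := congrArg Tw.s x.2
          rw [pow_two] at this
          change x.1.s + x.1.s + beta B x.1.v x.1.v = 0 at this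
          rwa [CharTwo.add_self_eq_zero, zero_add, hQ] at this⟩)
        invFun := fun p => ⟨⟨p.1, p.2.1⟩, by
          rw [pow_two]
          refine Tw.ext ?_ (vec_two _)
          show p.1 + p.1 + beta B p.2.1 p.2.1 = 0
          rw [CharTwo.add_self_eq_zero, zero_add, hQ, p.2.2]⟩
        left_inv := fun x => rfl
        right_inv := fun p => rfl }
    rw [Nat.card_congr e, Nat.card_prod, Nat.card_zmod, Nat.card_eq_fintype_card, Fintype.card_subtype]
  rw [excess, h, card_tw]
  have h2 : ∑ v, chi (Q v) = 2 * ((Finset.univ.filter fun v => Q v = 0).card : ℤ) - 2 ^ Fintype.card ι := by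
    have hp : ∀ v, chi (Q v) = 2 * (if Q v = 0 then 1 else 0) - 1 := fun v => by
      unfold chi; split_ifs <;> norm_num
    rw [Finset.sum_congr rfl (fun v _ => hp v), Finset.sum_sub_distrib, ← Finset.mul_sum, Finset.sum_boole]
    simp
  rw [h2]
  push_cast
  ring

section induced

variable (hB : Nondeg B) (Q : (ι → ZMod 2) → ZMod 2) (hQ : ∀ v, beta B v v = Q v)

include hB in
theorem map_v (φ : MulAut (Tw B)) (x : Tw B) : (φ x).v = (φ ⟨0, x.v⟩).v := by
  have hx : x = ⟨x.s, 0⟩ * ⟨0, x.v⟩ := by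
    refine Tw.ext ?_ (zero_add _).symm
    show x.s = x.s + 0 + beta B 0 x.v
    rw [beta_zero_left, add_zero, add_zero]
  have hc : (φ ⟨x.s, 0⟩).v = 0 := (mem_center hB).1 (by
    have : (⟨x.s, 0⟩ : Tw B) ∈ Subgroup.center (Tw B) := (mem_center hB).2 rfl
    refine Subgroup.mem_center_iff.2 fun g => ?_
    obtain ⟨h, rfl⟩ := φ.surjective g
    rw [← map_mul, ← map_mul, Subgroup.mem_center_iff.1 this h])
  conv_lhs => rw [hx]
  rw [map_mul]
  show (φ ⟨x.s, 0⟩).v + (φ ⟨0, x.v⟩).v = _
  rw [hc, zero_add]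

/-- the induced linear map -/
def lin (hB : Nondeg B) (φ : MulAut (Tw B)) : (ι → ZMod 2) →ₗ[ZMod 2] (ι → ZMod 2) :=
  AddMonoidHom.toZModLinearMap 2
    (AddMonoidHom.mk' (fun v => (φ ⟨0, v⟩).v) fun v w => by
      have h1 := map_v hB φ ((⟨0, v⟩ : Tw B) * ⟨0, w⟩)
      rw [map_mul] at h1
      exact h1.symm)

theorem lin_apply (hB : Nondeg B) (φ : MulAut (Tw B)) (v : ι → ZMod 2) : lin hB φ v = (φ ⟨0, v⟩).v := rfl

/-- the hom to matrices -/
def toM (hB : Nondeg B) : MulAut (Tw B) →* Matrix ι ι (ZMod 2) where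
  toFun φ := LinearMap.toMatrixAlgEquiv' (lin hB φ)
  map_one' := by
    rw [show lin hB 1 = 1 from LinearMap.ext fun v => rfl, map_one]
  map_mul' φ ψ := by
    rw [← map_mul]
    congr 1
    refine LinearMap.ext fun v => ?_
    exact map_v hB φ (ψ ⟨0, v⟩)

theorem toM_mulVec (hB : Nondeg B) (φ : MulAut (Tw B)) (v : ι → ZMod 2) : toM hB φ *ᵥ v = (φ ⟨0, v⟩).v := by
  show LinearMap.toMatrixAlgEquiv' (lin hB φ) *ᵥ v = _
  rw [← Matrix.toLinAlgEquiv'_apply, Matrix.toLinAlgEquiv'_toMatrixAlgEquiv']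
  rfl

include hQ in
theorem toM_isom (hB : Nondeg B) (φ : MulAut (Tw B)) (v : ι → ZMod 2) : Q (toM hB φ *ᵥ v) = Q v := by
  rw [toM_mulVec]
  have sq : ∀ x : Tw B, x * x = ⟨Q x.v, 0⟩ := fun x => by
    refine Tw.ext ?_ (vec_two _)
    show x.s + x.s + beta B x.v x.v = Q x.v
    rw [CharTwo.add_self_eq_zero, zero_add, hQ]
  have zfix : ∀ c : ZMod 2, φ ⟨c, 0⟩ = ⟨c, 0⟩ := by
    intro c
    fin_cases c
    · exact map_one φ
    · have h0 : (φ ⟨1, 0⟩).v = 0 := by
        rw [map_v hB]
        show (φ 1).v = 0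
        rw [map_one]; rfl
      refine Tw.ext ?_ h0
      rcases (show ∀ c : ZMod 2, c = 0 ∨ c = 1 by decide) (φ ⟨1, 0⟩).s with e | e
      · have : φ ⟨1, 0⟩ = φ 1 := by rw [map_one]; exact Tw.ext e h0
        exact absurd (congrArg Tw.s (φ.injective this)) (show (1 : ZMod 2) ≠ 0 by decide)
      · exact e
  have h1 := congrArg φ (sq ⟨0, v⟩)
  rw [map_mul, sq, zfix] at h1
  exact congrArg Tw.s h1

/-- the hom to isometries -/
def toIso (hB : Nondeg B) : MulAut (Tw B) →* Cfsg.isometryGroup (ZMod 2) Q :=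
  (toM hB).toHomUnits.codRestrict _ fun φ => fun u _ => toM_isom Q hQ hB φ u

theorem bil (g : Matrix ι ι (ZMod 2)) (v w : ι → ZMod 2) :
    beta (gᵀ * B * g) v w = beta B (g *ᵥ v) (g *ᵥ w) := by
  rw [beta, beta, ← Matrix.mulVec_mulVec, ← Matrix.mulVec_mulVec, Matrix.dotProduct_mulVec, Matrix.vecMul_transpose]

include hQ in
theorem toIso_surjective (hB : Nondeg B) : Function.Surjective (toIso Q hQ hB) := by
  classical
  rintro ⟨g, hg⟩
  let M : Matrix ι ι (ZMod 2) := g
  let C := Mᵀ * B * M + B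
  have hC : ∀ v w, beta C v w = beta B (M *ᵥ v) (M *ᵥ w) + beta B v w := fun v w => by
    rw [← bil]; simp [beta, C, Matrix.add_mulVec, dotProduct_add]
  have h0 : ∀ v, beta C v v = 0 := fun v => by
    rw [hC, hQ, hQ]
    have : Q (M *ᵥ v) = Q v := hg v 0
    rw [this, CharTwo.add_self_eq_zero]
  have hent : ∀ i j, C i j = beta C (Pi.single i 1) (Pi.single j 1) := fun i j => by
    simp [beta, Matrix.mulVec_single, single_dotProduct]
  have hdiag : ∀ i, C i i = 0 := fun i => by rw [hent]; exact h0 _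
  have hsym : ∀ i j, C i j = C j i := fun i j => by
    have h := h0 (Pi.single i 1 + Pi.single j 1)
    rw [beta_add_left, beta_add_right, beta_add_right, h0, h0, zero_add, add_zero, ← hent, ← hent] at h
    exact CharTwo.add_eq_zero.1 h
  let e := Fintype.equivFin ι
  let f : (ι → ZMod 2) → ZMod 2 := fun v => ∑ i, ∑ j, if e i < e j then C i j * v i * v j else 0
  have hf : ∀ v w, f (v + w) = f v + f w + beta C v w := by
    intro v w
    have hb : beta C v w = ∑ i, ∑ j, ((if e i < e j then C i j * v i * w j else 0) + (if e j < e i then C i j * v i * w j else 0)) := by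
      simp only [beta, dotProduct, mulVec, Finset.mul_sum]
      refine Finset.sum_congr rfl fun i _ => Finset.sum_congr rfl fun j _ => ?_
      rcases lt_trichotomy (e i) (e j) with h | h | h
      · rw [if_pos h, if_neg (not_lt.2 h.le), add_zero]; ring
      · have : i = j := e.injective h
        subst this
        simp [hdiag]
      · rw [if_neg (not_lt.2 h.le), if_pos h, zero_add]; ring
    rw [hb]
    simp only [Finset.sum_add_distrib]
    rw [Finset.sum_comm (f := fun i j => if e j < e i then C i j * v i * w j else 0)]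
    simp only [f, ← Finset.sum_add_distrib]
    refine Finset.sum_congr rfl fun i _ => Finset.sum_congr rfl fun j _ => ?_
    split_ifs with h
    · rw [hsym j i, Pi.add_apply, Pi.add_apply]; ring
    · simp
  let N : Matrix ι ι (ZMod 2) := (g⁻¹ : GL ι (ZMod 2))
  have hMN : M * N = 1 := by simp [M, N]
  have hNM : N * M = 1 := by simp [M, N]
  let φ : MulAut (Tw B) :=
    { toFun := fun x => ⟨x.s + f x.v, M *ᵥ x.v⟩
      invFun := fun x => ⟨x.s + f (N *ᵥ x.v), N *ᵥ x.v⟩
      left_inv := fun x => by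
        refine Tw.ext ?_ ?_
        · show x.s + f x.v + f (N *ᵥ (M *ᵥ x.v)) = x.s
          rw [Matrix.mulVec_mulVec, hNM, Matrix.one_mulVec, add_assoc, CharTwo.add_self_eq_zero, add_zero]
        · show N *ᵥ (M *ᵥ x.v) = x.v
          rw [Matrix.mulVec_mulVec, hNM, Matrix.one_mulVec]
      right_inv := fun x => by
        refine Tw.ext ?_ ?_
        · show x.s + f (N *ᵥ x.v) + f (N *ᵥ x.v) = x.s
          rw [add_assoc, CharTwo.add_self_eq_zero, add_zero]
        · show M *ᵥ (N *ᵥ x.v) = x.v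
          rw [Matrix.mulVec_mulVec, hMN, Matrix.one_mulVec]
      map_mul' := fun x y => by
        refine Tw.ext ?_ (Matrix.mulVec_add _ _ _)
        show x.s + y.s + beta B x.v y.v + f (x.v + y.v) = x.s + f x.v + (y.s + f y.v) + beta B (M *ᵥ x.v) (M *ᵥ y.v)
        rw [hf, hC]
        linear_combination (beta B x.v y.v) * (CharTwo.two_eq_zero : (2 : ZMod 2) = 0) }
  refine ⟨φ, Subtype.ext (Units.ext ?_)⟩
  show toM hB φ = M
  refine Matrix.ext_of_mulVec_single fun i => ?_
  rw [toM_mulVec]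
  rfl

include hQ in
theorem out_equiv {E : Type*} [Group E] [Finite E] (hE : Cfsg.IsExtraspecial 2 E) (hB : Nondeg B)
    (hcard : Nat.card E = Nat.card (Tw B)) (hexc : excess E = excess (Tw B)) :
    Nonempty (Cfsg.Out E ≃* Cfsg.isometryGroup (ZMod 2) Q) := by
  classical
  obtain ⟨⟨hp, hf, hc⟩, hZ⟩ := id hE
  obtain ⟨z, hz, hz1⟩ := exists_gen_center hZ
  obtain ⟨w, hw, hw1⟩ := exists_gen_center (card_center hB)
  obtain ⟨φ, -⟩ := iso_of_excess _ E (Tw B) rfl hcard.symm hZ hc.le (card_center hB) (comm_center hB) hexc z hz hz1 w hw hw1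
  let Ψ : MulAut E →* Cfsg.isometryGroup (ZMod 2) Q := (toIso Q hQ hB).comp (MulAut.congr φ).toMonoidHom
  have hs : Function.Surjective Ψ := (toIso_surjective Q hQ hB).comp (MulAut.congr φ).surjective
  have hone : ∀ α : MulAut E, Ψ α = 1 ↔ ∀ x : Tw B, (φ (α (φ.symm x))).v = x.v := by
    intro α
    constructor
    · intro h x
      have h1 : toM hB (MulAut.congr φ α) = 1 := congrArg (fun u : Cfsg.isometryGroup (ZMod 2) Q => (u.1 : Matrix ι ι (ZMod 2))) h
      have h2 := toM_mulVec hB (MulAut.congr φ α) x.v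
      rw [h1, Matrix.one_mulVec] at h2
      exact (map_v hB (MulAut.congr φ α) x).trans h2.symm
    · intro h
      refine Subtype.ext (Units.ext (Matrix.ext_of_mulVec_single fun i => ?_))
      show toM hB (MulAut.congr φ α) *ᵥ _ = (1 : Matrix ι ι (ZMod 2)) *ᵥ _
      rw [toM_mulVec, Matrix.one_mulVec]
      exact h ⟨0, _⟩
  have hker : Ψ.ker = Cfsg.Inn E := by
    ext α
    rw [MonoidHom.mem_ker, hone, MonoidHom.mem_range]
    constructor
    · intro h
      obtain ⟨u, hu⟩ := CfsgLib.Fischer.Extra.inner_of_central hE α fun x => by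
        have h1 : φ (α x * x⁻¹) ∈ Subgroup.center (Tw B) := by
          rw [mem_center hB, map_mul, map_inv]
          show (φ (α x)).v + (φ x).v = 0
          have := h (φ x)
          rw [φ.symm_apply_apply] at this
          rw [this]
          exact vec_two _
        refine Subgroup.mem_center_iff.2 fun g => φ.injective ?_
        rw [map_mul φ g, map_mul φ (α x * x⁻¹) g]
        exact Subgroup.mem_center_iff.1 h1 (φ g)
      exact ⟨u, MulEquiv.ext fun x => (hu x).symm⟩
    · rintro ⟨u, rfl⟩ x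
      rw [MulAut.conj_apply, map_mul, map_mul, map_inv, φ.apply_symm_apply]
      show (φ u).v + x.v + (φ u).v = x.v
      rw [add_comm (φ u).v x.v, add_assoc, vec_two, add_zero]
  exact ⟨(QuotientGroup.quotientMulEquivOfEq hker.symm).trans (QuotientGroup.quotientKerEquivOfSurjective Ψ hs)⟩

end induced

section models

/-- hyperbolic pairs -/
def Bplus (n : ℕ) : Matrix (Fin n ⊕ Fin n) (Fin n ⊕ Fin n) (ZMod 2) := Matrix.fromBlocks 0 1 0 0

/-- the anisotropic binary form -/
def Btwo : Matrix (Fin 2) (Fin 2) (ZMod 2) := !![1, 1; 0, 1]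

/-- hyperbolic pairs and an anisotropic plane -/
def Bminus (m : ℕ) : Matrix ((Fin m ⊕ Fin m) ⊕ Fin 2) ((Fin m ⊕ Fin m) ⊕ Fin 2) (ZMod 2) :=
  Matrix.fromBlocks (Bplus m) 0 0 Btwo

theorem beta_plus (n : ℕ) (v w : Fin n ⊕ Fin n → ZMod 2) : beta (Bplus n) v w = ∑ i, v (.inl i) * w (.inr i) := by
  simp [beta, Bplus, dotProduct, Matrix.fromBlocks_mulVec, Fintype.sum_sum_type]

theorem beta_minus (m : ℕ) (v w : (Fin m ⊕ Fin m) ⊕ Fin 2 → ZMod 2) : beta (Bminus m) v w =
    (∑ i, v (.inl (.inl i)) * w (.inl (.inr i))) + (v (.inr 0) * (w (.inr 0) + w (.inr 1)) + v (.inr 1) * w (.inr 1)) := by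
  have h : beta (Bminus m) v w = beta (Bplus m) (v ∘ Sum.inl) (w ∘ Sum.inl) + beta Btwo (v ∘ Sum.inr) (w ∘ Sum.inr) := by
    simp [beta, Bminus, dotProduct, Matrix.fromBlocks_mulVec, Fintype.sum_sum_type]
  rw [h, beta_plus]
  congr 1
  simp [beta, Btwo, dotProduct, Matrix.mulVec, Fin.sum_univ_two, mul_add]

theorem nondeg_plus (n : ℕ) : Nondeg (Bplus n) := by
  intro v h
  funext j
  rcases j with i | i
  · have := h (Pi.single (.inr i) 1)
    rw [beta_plus, beta_plus] at this
    simpa [Pi.single_apply] using this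
  · have := h (Pi.single (.inl i) 1)
    rw [beta_plus, beta_plus] at this
    simpa [Pi.single_apply] using this.symm

theorem nondeg_minus (m : ℕ) : Nondeg (Bminus m) := by
  intro v h
  funext j
  rcases j with (i | i) | k
  · have := h (Pi.single (.inl (.inr i)) 1)
    rw [beta_minus, beta_minus] at this
    simpa [Pi.single_apply] using this
  · have := h (Pi.single (.inl (.inl i)) 1)
    rw [beta_minus, beta_minus] at this
    simpa [Pi.single_apply] using this.symm
  · fin_cases k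
    · have := h (Pi.single (.inr 1) 1)
      rw [beta_minus, beta_minus] at this
      simpa [Pi.single_apply] using this
    · have := h (Pi.single (.inr 0) 1)
      rw [beta_minus, beta_minus] at this
      simpa [Pi.single_apply] using this.symm

theorem sum_chi_plus : ∀ n : ℕ, ∑ v : Fin n ⊕ Fin n → ZMod 2, chi (Cfsg.quadFormPlus n (ZMod 2) v) = 2 ^ n := by
  intro n
  have hchi : ∀ (s : Finset (Fin n)) (f : Fin n → ZMod 2), chi (∑ i ∈ s, f i) = ∏ i ∈ s, chi (f i) := by
    intro s f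
    classical
    induction s using Finset.induction with
    | empty => rfl
    | insert a s ha ih => rw [Finset.sum_insert ha, Finset.prod_insert ha, chi_add, ih]
  let e : (Fin n → ZMod 2 × ZMod 2) ≃ (Fin n ⊕ Fin n → ZMod 2) :=
    (Equiv.arrowProdEquivProdArrow (Fin n) (fun _ => ZMod 2) (fun _ => ZMod 2)).trans (Equiv.sumArrowEquivProdArrow _ _ _).symm
  rw [← e.sum_comp]
  have : ∀ u : Fin n → ZMod 2 × ZMod 2, chi (Cfsg.quadFormPlus n (ZMod 2) (e u)) = ∏ i, chi ((u i).1 * (u i).2) := fun u => by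
    rw [Cfsg.quadFormPlus, hchi]
    rfl
  rw [Finset.sum_congr rfl fun u _ => this u, ← Fintype.prod_sum (fun (_ : Fin n) (p : ZMod 2 × ZMod 2) => chi (p.1 * p.2))]
  have h2 : ∑ p : ZMod 2 × ZMod 2, chi (p.1 * p.2) = 2 := by decide
  rw [Finset.prod_const, Finset.card_univ, Fintype.card_fin, h2]

theorem sum_chi_minus (m : ℕ) :
    ∑ v : (Fin m ⊕ Fin m) ⊕ Fin 2 → ZMod 2, chi (Cfsg.quadFormMinus m (ZMod 2) 1 1 v) = -2 ^ (m + 1) := by
  let e := (Equiv.sumArrowEquivProdArrow (Fin m ⊕ Fin m) (Fin 2) (ZMod 2)).symm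
  rw [← e.sum_comp, Fintype.sum_prod_type]
  have : ∀ u w, chi (Cfsg.quadFormMinus m (ZMod 2) 1 1 (e (u, w))) =
      chi (Cfsg.quadFormPlus m (ZMod 2) u) * chi (w 0 ^ 2 + 1 * w 0 * w 1 + 1 * w 1 ^ 2) := fun u w => by
    rw [← chi_add]; rfl
  rw [Finset.sum_congr rfl fun u _ => Finset.sum_congr rfl fun w _ => this u w, ← Finset.sum_mul_sum, sum_chi_plus]
  have h2 : ∑ w : Fin 2 → ZMod 2, chi (w 0 ^ 2 + 1 * w 0 * w 1 + 1 * w 1 ^ 2) = -2 := by decide
  rw [h2]
  ring

theorem main {E : Type*} [Group E] [Finite E] (hE : Cfsg.IsExtraspecial 2 E) (n : ℕ) (hn : 1 ≤ n)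
    (hcard : Nat.card E = 2 ^ (2 * n + 1)) :
    ((∃ A : Subgroup E, Cfsg.IsElementaryAbelian 2 A ∧ Nat.card ↥A = 2 ^ (n + 1)) →
        Nonempty (Cfsg.Out E ≃* Cfsg.isometryGroup (ZMod 2) (Cfsg.quadFormPlus n (ZMod 2)))) ∧
      ((¬ ∃ A : Subgroup E, Cfsg.IsElementaryAbelian 2 A ∧ Nat.card ↥A = 2 ^ (n + 1)) →
        Nonempty (Cfsg.Out E ≃* Cfsg.isometryGroup (ZMod 2) (Cfsg.quadFormMinus (n - 1) (ZMod 2) 1 1))) := by
  constructor
  · rintro ⟨A, hA, hAc⟩
    have hq : ∀ v, beta (Bplus n) v v = Cfsg.quadFormPlus n (ZMod 2) v := fun v => beta_plus n v v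
    refine out_equiv _ hq hE (nondeg_plus n) ?_ ?_
    · rw [hcard, card_tw, Fintype.card_sum, Fintype.card_fin, two_mul]
    · rw [excess_of_elab hE hcard hA hAc, excess_tw _ hq, sum_chi_plus, pow_succ]; ring
  · intro hno
    have hq : ∀ v, beta (Bminus (n - 1)) v v = Cfsg.quadFormMinus (n - 1) (ZMod 2) 1 1 v := fun v => by
      rw [beta_minus, Cfsg.quadFormMinus]; ring
    refine out_equiv _ hq hE (nondeg_minus _) ?_ ?_
    · rw [hcard, card_tw, Fintype.card_sum, Fintype.card_sum, Fintype.card_fin, Fintype.card_fin]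
      congr 1; omega
    · rw [excess_tw _ hq, sum_chi_minus, Nat.sub_add_cancel hn]
      obtain ⟨⟨-, -, hc⟩, hZ⟩ := id hE
      rcases excess_eq n E hcard hZ hc.le with h | ⟨-, h⟩
      · obtain ⟨A, hA, -, hA'⟩ := exists_elab n E hcard hZ hc.le
        exact absurd ⟨A, hA, le_antisymm (card_abelian_le hE hcard A hA.1) (hA' h)⟩ hno
      · rw [h, pow_succ]; ring

end models

end CfsgLib.Spor.ExtraOuter
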