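import Cfsg.Agent.Spor.M24Classes
import Cfsg.Prelude.Def_Spor_Mathieu

/-!
The dodecad of squares.
-/

set_option autoImplicit false

namespace CfsgLib.Spor.SquareDod

open Cfsg
open scoped Pointwise

theorem sq_eq : Spor.squareDodecad = ofMask (genRows.getD 0 0) := (supp_qrWord 0).symm

theorem sq_mem : Spor.squareDodecad ∈ dodecads := by
  refine mem_dodecads.2 ⟨?_, ?_⟩
  · rw [sq_eq]; exact gen_mem_code (by norm_num)
  · rw [sq_eq]; decide +kernel

theorem zero_mem : (some 0 : GolayPt) ∈ Spor.squareDodecad := by rw [sq_eq]; decide +kernel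

theorem none_notMem : (none : GolayPt) ∉ Spor.squareDodecad := by rw [sq_eq]; decide +kernel

theorem mem_M11 {g : Equiv.Perm GolayPt} :
    g ∈ Spor.M11 ↔ g ∈ M24 ∧ g • Spor.squareDodecad = Spor.squareDodecad ∧ g (some 0) = some 0 := by
  simp [Spor.M11, Spor.M12, MulAction.mem_stabilizer_iff, and_assoc]

theorem compl_dod {d : Finset GolayPt} (hd : d ∈ dodecads) : (Finset.univ \ d) ∈ dodecads := by
  rw [mem_dodecads] at hd ⊢
  rw [← Finset.compl_eq_univ_sdiff]
  refine ⟨compl_mem_code hd.1, ?_⟩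
  have h24 : Fintype.card GolayPt = 24 := by decide
  rw [Finset.card_compl, h24, hd.2]

end CfsgLib.Spor.SquareDod
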