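import Cfsg.Agent.Spor.LeechHS
import Cfsg.Prelude.Def_Spor_Conway

/-!
The representation of degree 23 over the field with 13 elements of the stabiliser of `(4, 4, 0, ..., 0)`.
-/

set_option autoImplicit false

namespace CfsgLib.Spor.Co2Mod13

open Cfsg MulAction Matrix CfsgLib.Spor CfsgLib.Spor.LeechFacts CfsgLib.Spor.LeechCount CfsgLib.Spor.LeechModTwo
  CfsgLib.Spor.LeechCross CfsgLib.Spor.LeechStab CfsgLib.Spor.LeechHS CfsgLib.Spor.LeechPairs CfsgLib.Spor.LeechCensus

/-- coordinates modulo 13 -/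
def red (v : leechLattice) : GolayPt → ZMod 13 := fun i => (v.1 i : ZMod 13)

/-- the matrix of an automorphism on the coordinates modulo 13 -/
noncomputable def mat (g : Co0) : Matrix GolayPt GolayPt (ZMod 13) :=
  Matrix.of fun i j => 5 * red (g • eightL j) i

theorem forty : (5 : ZMod 13) * 8 = 1 := by decide

theorem mat_red (g : Co0) (v : leechLattice) : mat g *ᵥ red v = red (g • v) := by
  funext i
  have h := congrArg (fun t : ℤ => (t : ZMod 13)) (congrFun (eight_zsmul g v) i)
  simp only [Pi.smul_apply, smul_eq_mul, Finset.sum_apply, Int.cast_mul, Int.cast_sum, Int.cast_ofNat] at h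
  show ∑ j, 5 * red (g • eightL j) i * red v j = red (g • v) i
  have e : red (g • v) i = 5 * (8 * ((g • v).1 i : ZMod 13)) := by rw [← mul_assoc, forty, one_mul]; rfl
  rw [e, h, Finset.mul_sum]
  exact Finset.sum_congr rfl fun j _ => by show 5 * ((g • eightL j).1 i : ZMod 13) * (v.1 j : ZMod 13) = _; ring

theorem red_eight (j i : GolayPt) : red (eightL j) i = if i = j then 8 else 0 := by
  show (((eightL j).1 i : ℤ) : ZMod 13) = _
  rw [eightL_val, Pi.single_apply]
  split <;> simp

theorem mat_one : mat 1 = 1 := by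
  ext i j
  show 5 * red ((1 : Co0) • eightL j) i = (1 : Matrix GolayPt GolayPt (ZMod 13)) i j
  rw [one_smul, red_eight, Matrix.one_apply]
  split
  · exact forty
  · ring

theorem mat_mul (g h : Co0) : mat (g * h) = mat g * mat h := by
  ext i j
  show 5 * red ((g * h) • eightL j) i = ∑ k, mat g i k * (5 * red (h • eightL j) k)
  rw [mul_smul, ← mat_red g (h • eightL j)]
  show 5 * ∑ k, mat g i k * red (h • eightL j) k = _
  rw [Finset.mul_sum]
  exact Finset.sum_congr rfl fun k _ => by ring

/-- the functional kept by the stabiliser -/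
def phi (x : GolayPt → ZMod 13) : ZMod 13 := x none + x (some 0)

theorem phi_mat {g : Co0} (hg : g • Spor.leechU = Spor.leechU) (x : GolayPt → ZMod 13) :
    phi (mat g *ᵥ x) = phi x := by
  have key : ∀ j, mat g none j + mat g (some 0) j =
      (if j = none then 1 else 0) + (if j = some 0 then 1 else 0) := by
    intro j
    have h : dotInt Spor.vecU (g • eightL j).1 = dotInt Spor.vecU (eightL j).1 := by
      have h1 := smul_dot g Spor.leechU (eightL j)
      rw [hg] at h1
      exact h1
    rw [LeechHS.dot_U, LeechHS.dot_U, eightL_val, Pi.single_apply, Pi.single_apply] at h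
    simp only [eq_comm (a := (none : GolayPt)) (b := j), eq_comm (a := (some 0 : GolayPt)) (b := j)] at h
    have h2 : (g • eightL j).1 none + (g • eightL j).1 (some 0) =
        (if j = none then 8 else 0) + (if j = some 0 then 8 else 0) := by omega
    have h3 := congrArg (fun t : ℤ => (5 : ZMod 13) * (t : ZMod 13)) h2
    simp only [Int.cast_add, apply_ite (Int.cast : ℤ → ZMod 13), Int.cast_ofNat, Int.cast_zero, mul_add, mul_ite,
      mul_zero, forty] at h3
    exact h3
  show (∑ j, mat g none j * x j) + ∑ j, mat g (some 0) j * x j = _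
  rw [← Finset.sum_add_distrib, Finset.sum_congr rfl fun j _ => show mat g none j * x j + mat g (some 0) j * x j =
    (if j = none then x j else 0) + (if j = some 0 then x j else 0) by
      rw [← add_mul, key]; split_ifs <;> ring, Finset.sum_add_distrib, Finset.sum_ite_eq', Finset.sum_ite_eq',
    if_pos (Finset.mem_univ _), if_pos (Finset.mem_univ _)]
  rfl

/-- the indices of the smaller space -/
abbrev Idx : Type := {j : GolayPt // j ≠ some 0}

/-- a basis of the kernel of the functional -/
def bvec (j : Idx) : GolayPt → ZMod 13 :=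
  fun i => (if i = j.1 then 1 else 0) - (if j.1 = none ∧ i = some 0 then 1 else 0)

theorem phi_bvec : ∀ j : Idx, phi (bvec j) = 0 := by decide +kernel

theorem expand {x : GolayPt → ZMod 13} (hx : phi x = 0) : x = ∑ k : Idx, x k.1 • bvec k := by
  funext i
  rw [Finset.sum_apply]
  simp only [Pi.smul_apply, smul_eq_mul, bvec, mul_sub, mul_ite, mul_one, mul_zero, Finset.sum_sub_distrib]
  by_cases hi : i = some 0
  · subst hi
    rw [Finset.sum_eq_zero (fun k _ => if_neg (Ne.symm k.2)), Finset.sum_eq_single (⟨none, by simp⟩ : Idx)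
      (fun k _ hk => if_neg (fun e => hk (Subtype.ext e.1))) (fun h => absurd (Finset.mem_univ _) h), if_pos ⟨rfl, rfl⟩,
      zero_sub]
    exact eq_neg_of_add_eq_zero_right hx
  · rw [Finset.sum_eq_single (⟨i, hi⟩ : Idx) (fun k _ hk => if_neg (fun e => hk (Subtype.ext e.symm)))
      (fun h => absurd (Finset.mem_univ _) h), if_pos rfl, Finset.sum_eq_zero (fun k _ => if_neg (fun e => hi e.2)),
      sub_zero]

/-- the matrix on the smaller space -/
noncomputable def small (g : Co0) : Matrix Idx Idx (ZMod 13) :=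
  Matrix.of fun i j => (mat g *ᵥ bvec j) i.1

theorem small_one : small 1 = 1 := by
  ext i j
  show (mat 1 *ᵥ bvec j) i.1 = (1 : Matrix Idx Idx (ZMod 13)) i j
  rw [mat_one, Matrix.one_mulVec, bvec, Matrix.one_apply, if_neg (fun e : j.1 = none ∧ i.1 = some 0 => i.2 e.2),
    sub_zero]
  exact if_congr (Subtype.ext_iff.symm) rfl rfl

theorem small_mul {g h : Co0} (hh : h • Spor.leechU = Spor.leechU) : small (g * h) = small g * small h := by
  ext i j
  show (mat (g * h) *ᵥ bvec j) i.1 = ∑ k, small g i k * small h k j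
  rw [mat_mul, ← Matrix.mulVec_mulVec]
  have hy : phi (mat h *ᵥ bvec j) = 0 := by rw [phi_mat hh, phi_bvec]
  conv_lhs => rw [expand hy, Matrix.mulVec_sum]
  rw [Finset.sum_apply]
  refine Finset.sum_congr rfl fun k _ => ?_
  rw [Matrix.mulVec_smul, Pi.smul_apply, smul_eq_mul, mul_comm]
  rfl

theorem five_ne : (5 : ZMod 13) ≠ 0 := by decide

theorem mat_injective {g h : Co0} (e : mat g = mat h) : g = h := by
  haveI : Fact (Nat.Prime 13) := ⟨by norm_num⟩
  refine ext_eight fun j => ?_
  have hd : ∀ i, (13 : ℤ) ∣ (g • eightL j - h • eightL j).1 i := by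
    intro i
    have h1 : (5 : ZMod 13) * red (g • eightL j) i = 5 * red (h • eightL j) i := congrFun (congrFun e i) j
    have h2 : ((g • eightL j).1 i : ZMod 13) = ((h • eightL j).1 i : ZMod 13) :=
      mul_left_cancel₀ five_ne h1
    rw [ZMod.intCast_eq_intCast_iff_dvd_sub] at h2
    rw [AddSubgroup.coe_sub, Pi.sub_apply]
    obtain ⟨t, ht⟩ := h2
    exact ⟨-t, by push_cast at ht; linarith⟩
  have hn : ∀ k : Co0, sqNorm (k • eightL j).1 = 64 := fun k => (smul_norm k _).trans (norm_eightL j)
  have hle : sqNorm (g • eightL j - h • eightL j).1 ≤ 256 := by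
    have h1 : ∀ i, (g • eightL j - h • eightL j).1 i ^ 2 ≤ 2 * (g • eightL j).1 i ^ 2 + 2 * (h • eightL j).1 i ^ 2 :=
      fun i => by rw [AddSubgroup.coe_sub, Pi.sub_apply]; nlinarith [sq_nonneg ((g • eightL j).1 i + (h • eightL j).1 i)]
    refine (Finset.sum_le_sum fun i _ => h1 i).trans ?_
    rw [Finset.sum_add_distrib, ← Finset.mul_sum, ← Finset.mul_sum]
    show 2 * sqNorm (g • eightL j).1 + 2 * sqNorm (h • eightL j).1 ≤ 256
    rw [hn, hn]
    norm_num
  by_contra hne
  obtain ⟨y, hy⟩ : ∃ y, y = g • eightL j - h • eightL j := ⟨_, rfl⟩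
  rw [← hy] at hd hle
  have hy0 : y.1 ≠ 0 := fun e' => hne (sub_eq_zero.1 (hy.symm.trans (Subtype.ext e')))
  obtain ⟨i, hi⟩ : ∃ i, y.1 i ≠ 0 := by
    by_contra hall
    push Not at hall
    exact hy0 (funext hall)
  have hbig : ∀ l, y.1 l ≠ 0 → 169 ≤ y.1 l ^ 2 := fun l hl => by
    obtain ⟨t, ht⟩ := hd l
    have : t ≠ 0 := fun e' => hl (by rw [ht, e', mul_zero])
    have ht1 : 1 ≤ t ^ 2 := by
      have := Int.one_le_abs this
      nlinarith [sq_abs t]
    rw [ht]; nlinarith
  have hone : ∀ l, l ≠ i → y.1 l = 0 := by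
    intro l hl
    by_contra hl0
    have h2 : y.1 i ^ 2 + y.1 l ^ 2 ≤ sqNorm y.1 := by
      rw [← Finset.sum_pair (f := fun i => y.1 i ^ 2) (Ne.symm hl)]
      exact Finset.sum_le_sum_of_subset_of_nonneg (Finset.subset_univ _) fun _ _ _ => sq_nonneg _
    have := hbig i hi
    have := hbig l hl0
    omega
  have hsq : sqNorm y.1 = y.1 i ^ 2 :=
    Finset.sum_eq_single i (fun l _ hl => by rw [hone l hl]; ring) (fun h' => absurd (Finset.mem_univ _) h')
  have hlo := hbig i hi
  obtain ⟨t, ht⟩ := hd i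
  have h16 := norm_dvd y.2
  rw [hsq] at h16 hle
  rw [ht] at h16 hle hlo
  have ht2 : t ^ 2 = 1 := by nlinarith
  rw [show (13 * t) ^ 2 = 169 * t ^ 2 by ring, ht2] at h16
  norm_num at h16

theorem to_gl {X J F : Type*} [Group X] [CommRing F] [Fintype J] [DecidableEq J] {n : ℕ} (hJ : Fintype.card J = n)
    (f : X →* Matrix J J F) (hf : Function.Injective f) : ∃ k : X →* GL (Fin n) F, Function.Injective k := by
  refine ⟨((Matrix.reindexAlgEquiv F F (Fintype.equivFinOfCardEq hJ)).toMulEquiv.toMonoidHom.comp f).toHomUnits,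
    fun g h hgh => hf ?_⟩
  exact (Matrix.reindexAlgEquiv F F (Fintype.equivFinOfCardEq hJ)).injective (congrArg Units.val hgh)

theorem exists_rep : ∃ f : ↥Cfsg.Spor.Co2 →* GL (Fin 23) (ZMod 13), Function.Injective f := by
  let ι : ↥Cfsg.Spor.Co2 →* Co0 := Subgroup.inclusion inf_le_left
  have hU : ∀ g, ι g • Spor.leechU = Spor.leechU := fun g => g.2.2
  let f0 : ↥Cfsg.Spor.Co2 →* Matrix Idx Idx (ZMod 13) :=
    { toFun := fun g => small (ι g)
      map_one' := by rw [map_one ι, small_one]
      map_mul' := fun g h => by rw [map_mul ι, small_mul (hU h)] }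
  refine to_gl (J := Idx) (by rw [Fintype.card_subtype_compl, Fintype.card_subtype_eq]; rfl) f0 fun g h hgh => ?_
  have h2 : small (ι g) = small (ι h) := hgh
  have h3 : ∀ j : Idx, mat (ι g) *ᵥ bvec j = mat (ι h) *ᵥ bvec j := by
    intro j
    have hg' : phi (mat (ι g) *ᵥ bvec j) = 0 := by rw [phi_mat (hU g), phi_bvec]
    have hh' : phi (mat (ι h) *ᵥ bvec j) = 0 := by rw [phi_mat (hU h), phi_bvec]
    rw [expand hg', expand hh']
    exact Finset.sum_congr rfl fun k _ => congrArg (· • bvec k) (congrFun (congrFun h2 k) j)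
  have hu : mat (ι g) *ᵥ red Spor.leechU = mat (ι h) *ᵥ red Spor.leechU := by
    rw [mat_red, mat_red, hU, hU]
  have hcol : ∀ c : GolayPt, mat (ι g) *ᵥ Pi.single c 1 = mat (ι h) *ᵥ Pi.single c 1 := by
    intro c
    have hdec : (Pi.single none 1 : GolayPt → ZMod 13) = (7 : ZMod 13) • bvec ⟨none, by simp⟩ + (5 : ZMod 13) • red Spor.leechU ∧
        (Pi.single (some 0) 1 : GolayPt → ZMod 13) = (-7 : ZMod 13) • bvec ⟨none, by simp⟩ + (5 : ZMod 13) • red Spor.leechU := by
      have hr : red Spor.leechU = fun l => ((Spor.vecU l : ℤ) : ZMod 13) := rfl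
      rw [hr]
      decide +kernel
    by_cases hn : c = none
    · subst hn
      rw [hdec.1, Matrix.mulVec_add, Matrix.mulVec_add, Matrix.mulVec_smul, Matrix.mulVec_smul, Matrix.mulVec_smul,
        Matrix.mulVec_smul, h3, hu]
    by_cases h0 : c = some 0
    · subst h0
      rw [hdec.2, Matrix.mulVec_add, Matrix.mulVec_add, Matrix.mulVec_smul, Matrix.mulVec_smul, Matrix.mulVec_smul,
        Matrix.mulVec_smul, h3, hu]
    have hb : (Pi.single c 1 : GolayPt → ZMod 13) = bvec ⟨c, h0⟩ := by
      funext i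
      simp [bvec, Pi.single_apply, hn]
    rw [hb, h3]
  have hm : mat (ι g) = mat (ι h) := by
    ext i c
    have := congrFun (hcol c) i
    rwa [Matrix.mulVec_single, Matrix.mulVec_single, MulOpposite.op_one, one_smul, one_smul, Matrix.col_apply,
      Matrix.col_apply] at this
  exact Subgroup.inclusion_injective inf_le_left (mat_injective hm)

end CfsgLib.Spor.Co2Mod13
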