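import Cfsg.Agent.Solv.FittingBasic
import Cfsg.Agent.Solv.Basic
import Cfsg.Agent.Fus.CoreBasic
import Cfsg.Prelude.Def_MonsterType
import Mathlib

/-!
The plus type extraspecial 2-group in coordinates, and centralisers split over it by a linear group.
-/

set_option autoImplicit false
set_option linter.unusedSectionVars false

namespace CfsgLib.Spor.HeisenbergTwo

open Matrix
open scoped commutatorElement

/-- coordinates: a centre entry and two dual vectors -/
@[ext] structure X (n : ℕ) where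
  s : ZMod 2
  v : Fin n → ZMod 2
  a : Fin n → ZMod 2

variable {n : ℕ}

instance : Mul (X n) := ⟨fun x y => ⟨x.s + y.s + x.a ⬝ᵥ y.v, x.v + y.v, x.a + y.a⟩⟩
instance : One (X n) := ⟨⟨0, 0, 0⟩⟩
instance : Inv (X n) := ⟨fun x => ⟨x.s + x.a ⬝ᵥ x.v, x.v, x.a⟩⟩

theorem mul_def (x y : X n) : x * y = ⟨x.s + y.s + x.a ⬝ᵥ y.v, x.v + y.v, x.a + y.a⟩ := rfl

theorem zmod2 : ∀ c : ZMod 2, c = 0 ∨ c = 1 := by decide

theorem vec_two (v : Fin n → ZMod 2) : v + v = 0 := by ext i; exact CharTwo.add_self_eq_zero _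

instance : Group (X n) where
  mul_assoc x y z := by
    refine X.ext ?_ (add_assoc _ _ _) (add_assoc _ _ _)
    show x.s + y.s + x.a ⬝ᵥ y.v + z.s + (x.a + y.a) ⬝ᵥ z.v = x.s + (y.s + z.s + y.a ⬝ᵥ z.v) + x.a ⬝ᵥ (y.v + z.v)
    rw [add_dotProduct, dotProduct_add]; ring
  one_mul x := by
    refine X.ext ?_ (zero_add _) (zero_add _)
    show 0 + x.s + (0 : Fin n → ZMod 2) ⬝ᵥ x.v = x.s
    simp
  mul_one x := by
    refine X.ext ?_ (add_zero _) (add_zero _)
    show x.s + 0 + x.a ⬝ᵥ (0 : Fin n → ZMod 2) = x.s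
    simp
  inv_mul_cancel x := by
    refine X.ext ?_ (vec_two _) (vec_two _)
    show x.s + x.a ⬝ᵥ x.v + x.s + x.a ⬝ᵥ x.v = 0
    exact CharTwo.add_self_eq_zero _ |> (add_assoc (x.s + x.a ⬝ᵥ x.v) x.s _).trans

/-- coordinates -/
def coords : X n ≃ ZMod 2 × (Fin n → ZMod 2) × (Fin n → ZMod 2) where
  toFun x := (x.s, x.v, x.a)
  invFun p := ⟨p.1, p.2.1, p.2.2⟩
  left_inv _ := rfl
  right_inv _ := rfl

instance : Finite (X n) := Finite.of_equiv _ coords.symm

theorem card_X : Nat.card (X n) = 2 ^ (2 * n + 1) := by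
  rw [Nat.card_congr coords]
  simp only [Nat.card_prod, Nat.card_fun, Nat.card_zmod, Nat.card_eq_fintype_card (α := Fin n), Fintype.card_fin]
  ring

theorem mem_center {x : X n} : x ∈ Subgroup.center (X n) ↔ x.v = 0 ∧ x.a = 0 := by
  classical
  constructor
  · intro h
    have key : ∀ y : X n, y.a ⬝ᵥ x.v = x.a ⬝ᵥ y.v := fun y => by
      have h1 : y.s + x.s + y.a ⬝ᵥ x.v = x.s + y.s + x.a ⬝ᵥ y.v := congrArg X.s (Subgroup.mem_center_iff.1 h y)
      linear_combination h1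
    constructor
    · funext i
      have h1 := key ⟨0, 0, Pi.single i 1⟩
      simpa using h1
    · funext i
      have h1 := key ⟨0, Pi.single i 1, 0⟩
      simpa using h1.symm
  · rintro ⟨hv, ha⟩
    refine Subgroup.mem_center_iff.2 fun y => X.ext ?_ (add_comm _ _) (add_comm _ _)
    show y.s + x.s + y.a ⬝ᵥ x.v = x.s + y.s + x.a ⬝ᵥ y.v
    rw [hv, ha]; simp; ring

theorem extra (hn : 1 ≤ n) : Cfsg.IsExtraspecial 2 (X n) := by
  classical
  haveI : Fact (Nat.Prime 2) := ⟨Nat.prime_two⟩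
  have hp : IsPGroup 2 (X n) := IsPGroup.of_card card_X
  have hcomm : commutator (X n) ≤ Subgroup.center (X n) := by
    rw [commutator_def, Subgroup.commutator_le]
    intro x _ y _
    rw [mem_center]
    refine ⟨?_, ?_⟩
    · show x.v + y.v + x.v + y.v = 0
      rw [show x.v + y.v + x.v + y.v = (x.v + y.v) + (x.v + y.v) by abel]; exact vec_two _
    · show x.a + y.a + x.a + y.a = 0
      rw [show x.a + y.a + x.a + y.a = (x.a + y.a) + (x.a + y.a) by abel]; exact vec_two _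
  let e : Fin n → ZMod 2 := Pi.single ⟨0, hn⟩ 1
  have hee : e ⬝ᵥ e = 1 := by simp [e]
  have hinv : ∀ x : X n, x⁻¹ = ⟨x.s + x.a ⬝ᵥ x.v, x.v, x.a⟩ := fun _ => rfl
  have hw : ⁅(⟨0, 0, e⟩ : X n), (⟨0, e, 0⟩ : X n)⁆ = (⟨1, 0, 0⟩ : X n) := by
    simp [commutatorElement_def, mul_def, hinv, hee, vec_two]
  have hz2 := zmod2
  have heq : commutator (X n) = Subgroup.center (X n) := by
    refine le_antisymm hcomm fun x hx => ?_
    rw [mem_center] at hx
    rcases hz2 x.s with h | h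
    · rw [show x = 1 from X.ext h hx.1 hx.2]; exact one_mem _
    · rw [show x = ⟨1, 0, 0⟩ from X.ext h hx.1 hx.2, ← hw]
      exact Subgroup.commutator_mem_commutator (Subgroup.mem_top _) (Subgroup.mem_top _)
  refine ⟨⟨hp, le_antisymm ?_ ?_, heq⟩, ?_⟩
  · refine CfsgLib.Solv.frattini_le_of_elementary (p := 2) _ hcomm fun x => ?_
    rw [mem_center, pow_two]
    exact ⟨vec_two x.v, vec_two x.a⟩
  · rw [← heq]; exact CfsgLib.Solv.commutator_le_frattini hp
  · rw [Nat.card_congr (show Subgroup.center (X n) ≃ ZMod 2 from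
      { toFun := fun x => x.1.s
        invFun := fun c => ⟨⟨c, 0, 0⟩, mem_center.2 ⟨rfl, rfl⟩⟩
        left_inv := fun x => Subtype.ext (X.ext rfl (mem_center.1 x.2).1.symm (mem_center.1 x.2).2.symm)
        right_inv := fun c => rfl }), Nat.card_zmod]

/-- the elements with vanishing second vector -/
def half (n : ℕ) : Subgroup (X n) where
  carrier := {x | x.a = 0}
  one_mem' := rfl
  mul_mem' := fun {x y} hx hy => by
    show x.a + y.a = 0
    rw [hx, hy, add_zero]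
  inv_mem' := fun hx => hx

theorem half_elem : Cfsg.IsElementaryAbelian 2 (half n) ∧ Nat.card (half n) = 2 ^ (n + 1) := by
  refine ⟨⟨⟨⟨fun x y => Subtype.ext (X.ext ?_ (add_comm _ _) (add_comm _ _))⟩⟩, fun x hx => ?_⟩, ?_⟩
  · show x.1.s + y.1.s + x.1.a ⬝ᵥ y.1.v = y.1.s + x.1.s + y.1.a ⬝ᵥ x.1.v
    rw [show x.1.a = 0 from x.2, show y.1.a = 0 from y.2]; simp; ring
  · rw [pow_two]
    refine X.ext ?_ (vec_two _) (vec_two _)
    show x.s + x.s + x.a ⬝ᵥ x.v = 0
    rw [show x.a = 0 from hx, zero_dotProduct, CharTwo.add_self_eq_zero, add_zero]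
  · rw [Nat.card_congr (show half n ≃ ZMod 2 × (Fin n → ZMod 2) from
      { toFun := fun x => (x.1.s, x.1.v)
        invFun := fun p => ⟨⟨p.1, p.2, 0⟩, rfl⟩
        left_inv := fun x => Subtype.ext (X.ext rfl rfl x.2.symm)
        right_inv := fun p => rfl })]
    simp [pow_succ']

/-- a group acting faithfully and transitively on the non-zero vectors has no non-trivial normal 2-subgroup -/
theorem no_two_normal {H : Type*} [Group H] [Finite H] (ρ : H →* GL (Fin n) (ZMod 2)) (hρ : Function.Injective ρ)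
    (htr : ∀ x y : Fin n → ZMod 2, x ≠ 0 → y ≠ 0 → ∃ h, ((ρ h : GL (Fin n) (ZMod 2)) : Matrix (Fin n) (Fin n) (ZMod 2)) *ᵥ x = y)
    (N : Subgroup H) [N.Normal] (hN : IsPGroup 2 N) : N = ⊥ := by
  classical
  haveI : Fact (Nat.Prime 2) := ⟨Nat.prime_two⟩
  letI : MulAction N (Fin n → ZMod 2) :=
    { smul := fun h x => ((ρ h.1 : GL (Fin n) (ZMod 2)) : Matrix (Fin n) (Fin n) (ZMod 2)) *ᵥ x
      one_smul := fun x => by show ((ρ 1 : GL (Fin n) (ZMod 2)) : Matrix (Fin n) (Fin n) (ZMod 2)) *ᵥ x = x; simp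
      mul_smul := fun g h x => by
        show ((ρ (g.1 * h.1) : GL (Fin n) (ZMod 2)) : Matrix (Fin n) (Fin n) (ZMod 2)) *ᵥ x = _
        rw [map_mul, Units.val_mul, ← Matrix.mulVec_mulVec]; rfl }
  rcases Nat.eq_zero_or_pos n with rfl | hn
  · refine (Subgroup.eq_bot_iff_forall _).2 fun h _ => hρ ?_
    exact Units.ext (Subsingleton.elim _ _)
  have hfix : ∃ x : Fin n → ZMod 2, x ≠ 0 ∧ ∀ h : N, h • x = x := by
    by_contra hall
    push Not at hall
    have h1 := hN.card_modEq_card_fixedPoints (Fin n → ZMod 2)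
    have h2 : Nat.card (MulAction.fixedPoints N (Fin n → ZMod 2)) = 1 := by
      rw [Nat.card_eq_one_iff_unique]
      refine ⟨⟨fun x y => ?_⟩, ⟨⟨0, fun h => Matrix.mulVec_zero _⟩⟩⟩
      have hz : ∀ w : MulAction.fixedPoints N (Fin n → ZMod 2), w.1 = 0 := fun w => by
        by_contra hne
        obtain ⟨h, hh⟩ := hall w.1 hne
        exact hh (w.2 h)
      exact Subtype.ext ((hz x).trans (hz y).symm)
    rw [h2, Nat.card_fun, Nat.card_zmod, Nat.card_eq_fintype_card (α := Fin n), Fintype.card_fin] at h1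
    obtain ⟨k, rfl⟩ : ∃ k, n = k + 1 := ⟨n - 1, by omega⟩
    rw [Nat.ModEq, Nat.pow_mod] at h1
    simp at h1
  obtain ⟨x, hx, hfx⟩ := hfix
  refine (Subgroup.eq_bot_iff_forall _).2 fun h hh => hρ ?_
  rw [map_one]
  refine Units.ext (Matrix.ext_of_mulVec_single fun i => ?_)
  rw [Units.val_one, Matrix.one_mulVec]
  obtain ⟨g, hg⟩ := htr x (Pi.single i 1) hx (by simp)
  have h1 := hfx ⟨g⁻¹ * h * g, by simpa using (inferInstance : N.Normal).conj_mem h hh g⁻¹⟩
  have h1' : ((ρ (g⁻¹ * h * g) : GL (Fin n) (ZMod 2)) : Matrix (Fin n) (Fin n) (ZMod 2)) *ᵥ x = x := h1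
  rw [map_mul, map_mul, Units.val_mul, Units.val_mul, ← Matrix.mulVec_mulVec, ← Matrix.mulVec_mulVec, hg] at h1'
  have h2 := congrArg (fun y => ((ρ g : GL (Fin n) (ZMod 2)) : Matrix (Fin n) (Fin n) (ZMod 2)) *ᵥ y) h1'
  simp only [Matrix.mulVec_mulVec, hg] at h2
  rw [← mul_assoc, ← Units.val_mul, ← map_mul, mul_inv_cancel, map_one, Units.val_one, one_mul] at h2
  exact h2

/-- the largest normal 2-subgroup of a split centraliser -/
theorem core_eq {G H : Type*} [Group G] [Finite G] [Group H] [Finite H] (C Q0 : Subgroup G) (κ : H →* G)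
    (hQC : Q0 ≤ C) (hQn : C ≤ Subgroup.normalizer (Q0 : Set G)) (hQp : IsPGroup 2 Q0) (hκC : ∀ h, κ h ∈ C)
    (hκ : Function.Injective κ) (hdec : ∀ c ∈ C, ∃ q ∈ Q0, ∃ h, c = q * κ h)
    (hno : ∀ N : Subgroup H, N.Normal → IsPGroup 2 N → N = ⊥) :
    (Cfsg.pCore 2 ↥C).map C.subtype = Q0 := by
  haveI : Fact (Nat.Prime 2) := ⟨Nat.prime_two⟩
  haveI hn : (Q0.subgroupOf C).Normal := (Subgroup.normal_subgroupOf_iff_le_normalizer hQC).2 hQn
  have hQle : Q0.subgroupOf C ≤ Cfsg.pCore 2 ↥C :=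
    CfsgLib.Solv.le_pCore (hQp.of_equiv (Subgroup.subgroupOfEquivOfLe hQC).symm)
  refine le_antisymm ?_ fun q hq => ⟨⟨q, hQC hq⟩, hQle hq, rfl⟩
  rintro _ ⟨c, hc, rfl⟩
  let κC : H →* C := κ.codRestrict C hκC
  have hcn : (Cfsg.pCore 2 ↥C).Normal := CfsgLib.Fus.normal_pCore 2
  haveI := hcn
  have hbot := hno ((Cfsg.pCore 2 ↥C).comap κC) inferInstance
    ((CfsgLib.Fus.isPGroup_pCore (G := ↥C) (p := 2)).comap_of_injective κC
      (fun a b h => hκ (congrArg Subtype.val h)))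
  obtain ⟨q, hq, h, e⟩ := hdec c.1 c.2
  have hh : κC h ∈ Cfsg.pCore 2 ↥C := by
    have : κC h = (⟨q, hQC hq⟩ : C)⁻¹ * c := Subtype.ext (by
      show κ h = q⁻¹ * c.1
      rw [e, inv_mul_cancel_left])
    rw [this]
    exact mul_mem (inv_mem (hQle hq)) hc
  have h1 : h = 1 := Subgroup.mem_bot.1 (hbot ▸ hh)
  rw [h1, map_one, mul_one] at e
  show c.1 ∈ Q0
  rw [e]; exact hq

end CfsgLib.Spor.HeisenbergTwo
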