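import Cfsg.Agent.Spor.SixData
import Cfsg.Agent.Spor.StabConj

/-!
Six-point sets in the 24 points.
-/

set_option autoImplicit false

namespace CfsgLib.Spor

open Cfsg
open scoped Pointwise

theorem six_pops : pop sixInX = 6 ∧ pop sixOutX = 6 ∧ sixInX &&& octX = sixInX ∧
    pop (sixOutX &&& octX) = 5 ∧ sixP < 24 ∧ octX.testBit sixP = false ∧
    (sixOutX &&& octX) ||| 2 ^ sixP = sixOutX ∧ transOK octC octX 5 = true ∧
    ((octC.take 6).map fun l => l.base % 24).foldr (fun i a => 2 ^ i ||| a) 0 = sixInX ∧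
    ((octC.take 5).map fun l => l.base % 24).foldr (fun i a => 2 ^ i ||| a) 0 = sixOutX &&& octX := by
  decide +kernel

theorem mem_foldr_two_pow {p : GolayPt} : ∀ l : List ℕ, (∀ i ∈ l, i < 24) →
    (p ∈ ofMask (l.foldr (fun i a => 2 ^ i ||| a) 0) ↔ ∃ i ∈ l, pt i = p)
  | [], _ => by simp [ofMask_zero]
  | i :: l, h => by
    rw [List.foldr_cons, ofMask_or, Finset.mem_union, ofMask_two_pow (h i List.mem_cons_self),
      mem_foldr_two_pow l fun j hj => h j (List.mem_cons_of_mem _ hj)]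
    simp [eq_comm]

theorem fix_take_iff {σ : Equiv.Perm GolayPt} (ls : List Level) {m : ℕ}
    (hm : (ls.map fun l => l.base % 24).foldr (fun i a => 2 ^ i ||| a) 0 = m) :
    (∀ l ∈ ls, σ (pt l.base) = pt l.base) ↔ ∀ p ∈ ofMask m, σ p = p := by
  have hlt : ∀ i ∈ ls.map (fun l => l.base % 24), i < 24 := fun i hi => by
    obtain ⟨l, -, rfl⟩ := List.mem_map.1 hi; exact Nat.mod_lt _ (by norm_num)
  have hpt : ∀ n, pt (n % 24) = pt n := fun n => by
    simp only [pt]
    congr 1
    exact Fin.ext (by simp [Fin.val_ofNat])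
  subst hm
  constructor
  · intro h p hp
    obtain ⟨i, hi, rfl⟩ := (mem_foldr_two_pow _ hlt).1 hp
    obtain ⟨l, hl, rfl⟩ := List.mem_map.1 hi
    rw [hpt]; exact h l hl
  · intro h l hl
    refine h _ ((mem_foldr_two_pow _ hlt).2 ⟨l.base % 24, List.mem_map.2 ⟨l, hl, rfl⟩, hpt _⟩)

theorem octC_chainOK : chainOK octC = true := by
  have := octC_ok.1; simp only [transOK, Bool.and_eq_true] at this; exact this.1.1.1.1.1

theorem stab_O0_of_five {σ : Equiv.Perm GolayPt} (hσ : σ ∈ M24) {s : Finset GolayPt}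
    (h5 : 5 ≤ s.card) (hs : s ⊆ O0) (hfix : ∀ p ∈ s, σ p = p) :
    σ ∈ gtGroup (chainTop octStab) := by
  rw [← stab_O0_eq]
  refine Subgroup.mem_inf.2 ⟨hσ, MulAction.mem_stabilizer_iff.2
    (octad_ext (smul_mem_octads hσ O0_mem) O0_mem (le_trans h5 (Finset.card_le_card ?_)))⟩
  intro p hp
  refine Finset.mem_inter.2 ⟨?_, hs hp⟩
  rw [← hfix p hp]
  exact mem_smul_iff.2 (hs hp)

/-- pointwise fixer of a set of points in the automorphism group of the code -/
abbrev pfix (E : Finset GolayPt) : Subgroup (Equiv.Perm GolayPt) :=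
  M24 ⊓ fixingSubgroup (Equiv.Perm GolayPt) (E : Set GolayPt)

theorem mem_pfix {E : Finset GolayPt} {g : Equiv.Perm GolayPt} :
    g ∈ pfix E ↔ g ∈ M24 ∧ ∀ p ∈ E, g p = p := mem_octFix

theorem pfix_sixIn : Nat.card ↥(pfix (ofMask sixInX)) = 16 := by
  rw [← (card_octFix O0_mem).1]
  congr 2
  apply le_antisymm
  · intro σ hσ
    obtain ⟨hM, hfix⟩ := mem_pfix.1 hσ
    have hO := stab_O0_of_five hM (s := ofMask sixInX) (by rw [card_ofMask, six_pops.1]; norm_num)
      (ofMask_subset six_pops.2.2.1) hfix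
    show σ ∈ octFix O0
    rw [octFix_O0]
    obtain ⟨h1, -⟩ := chain_levels_all octC _ octC_chainOK octC_sub octC_card 6 octTail_check.2.2.2.2.1
    exact (h1 σ).2 ⟨hO, (fix_take_iff _ six_pops.2.2.2.2.2.2.2.2.1).2 hfix⟩
  · intro σ hσ
    obtain ⟨hM, hfix⟩ := mem_octFix.1 hσ
    exact mem_pfix.2 ⟨hM, fun p hp => hfix p (ofMask_subset six_pops.2.2.1 hp)⟩

theorem pfix_sixOut : Nat.card ↥(pfix (ofMask sixOutX)) = 3 := by
  obtain ⟨-, -, -, h5, hp24, hpO, hor, -, -, hfold⟩ := six_pops
  obtain ⟨h1, h2⟩ := chain_levels_all octC _ octC_chainOK octC_sub octC_card 5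
    (le_trans (by norm_num) octTail_check.2.2.2.2.1)
  set G5 := gtGroup (chainTop (octC.drop 5)) with hG5
  have hcard : Nat.card G5 = 48 := h2.trans (by decide +kernel)
  have hsubO : ofMask (sixOutX &&& octX) ⊆ O0 := by
    rw [ofMask_and]; exact Finset.inter_subset_right
  have hmem : ∀ σ, σ ∈ G5 ↔ σ ∈ M24 ∧ ∀ p ∈ ofMask (sixOutX &&& octX), σ p = p := by
    intro σ
    rw [h1, fix_take_iff _ hfold]
    refine ⟨fun h => ⟨?_, h.2⟩, fun h => ⟨stab_O0_of_five h.1 (by rw [card_ofMask, h5]) hsubO h.2, h.2⟩⟩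
    have := h.1
    rw [← stab_O0_eq] at this
    exact this.1
  have hout : pt sixP ∉ O0 := by
    rw [O0, pt_mem_iff hp24, hpO]; simp
  have horb : MulAction.orbit G5 (pt sixP) = ↑(O0ᶜ) := by
    apply Set.Subset.antisymm
    · rintro _ ⟨g, rfl⟩
      have hg := ((h1 g).1 g.2).1
      rw [← stab_O0_eq] at hg
      simp only [Finset.coe_compl, Set.mem_compl_iff, Finset.mem_coe]
      show (g : Equiv.Perm GolayPt) (pt sixP) ∉ O0
      rw [← MulAction.mem_stabilizer_iff.1 hg.2]
      exact fun h => hout (mem_smul_iff.1 h)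
    · intro q hq
      simp only [Finset.coe_compl, Set.mem_compl_iff, Finset.mem_coe] at hq
      obtain ⟨k, hk, hkq⟩ := (octFix_sharp O0_mem hout hq).1
      have hk5 : k ∈ G5 := (hmem k).2 ⟨(mem_octFix.1 hk).1, fun p hp => (mem_octFix.1 hk).2 p (hsubO hp)⟩
      exact ⟨⟨k, hk5⟩, hkq⟩
  have h3 := ncard_orbit_mul_card (G := G5) (pt sixP)
  rw [horb, Set.ncard_coe_finset, Finset.card_compl, O0_mem.2, hcard] at h3
  have e : Nat.card (MulAction.stabilizer G5 (pt sixP)) = Nat.card ↥(pfix (ofMask sixOutX)) := by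
    refine Nat.card_congr
      { toFun := fun g => ⟨(g.1 : Equiv.Perm GolayPt), mem_pfix.2 ⟨((hmem _).1 g.1.2).1, ?_⟩⟩
        invFun := fun g => ⟨⟨g.1, (hmem _).2 ⟨(mem_pfix.1 g.2).1, ?_⟩⟩, ?_⟩
        left_inv := fun _ => rfl
        right_inv := fun _ => rfl }
    · intro p hp
      rw [← hor, ofMask_or, Finset.mem_union, ofMask_two_pow hp24, Finset.mem_singleton] at hp
      rcases hp with hp | rfl
      · exact ((hmem _).1 g.1.2).2 p hp
      · exact g.2
    · intro p hp
      refine (mem_pfix.1 g.2).2 p ?_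
      rw [← hor, ofMask_or]; exact Finset.mem_union_left _ hp
    · refine MulAction.mem_stabilizer_iff.2 ((mem_pfix.1 g.2).2 _ ?_)
      rw [← hor, ofMask_or, ofMask_two_pow hp24]; exact Finset.mem_union_right _ (Finset.mem_singleton_self _)
  rw [← e]
  have h24 : Fintype.card GolayPt = 24 := by simp
  rw [h24] at h3
  omega
where
  pt_mem_iff {i m : ℕ} (hi : i < 24) : (pt i ∈ ofMask m) = (m.testBit i = true) :=
    propext (by rw [mem_ofMask, num_pt hi])

/-- a set of six points with chain data -/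
theorem six_core {A n : ℕ} {ls : List Level} (hA : pop A = 6) (h : transOK ls A 6 = true)
    (hM : ((chainTop ls).all fun g => inM24 g.P) = true) (hn : chainSize ls = 720 * n)
    (hfix : Nat.card ↥(pfix (ofMask A)) = n) :
    Nat.card ↥(M24 ⊓ MulAction.stabilizer (Equiv.Perm GolayPt) (ofMask A)) = 720 * n ∧
      ∀ e : Equiv.Perm ↥(ofMask A), ∃ g ∈ M24, ∀ p : ↥(ofMask A), g (p : GolayPt) = e p := by
  have h' := h
  simp only [transOK, Bool.and_eq_true, List.all_eq_true] at h'
  obtain ⟨⟨⟨⟨⟨hok, -⟩, hAinv⟩, -⟩, -⟩, -⟩ := h'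
  have htok : ∀ t ∈ chainTop ls, t.ok = true := by
    intro t ht
    cases ls with
    | nil => simp [chainTop] at ht
    | cons l ls =>
      cases ls with
      | nil => simp only [chainOK, Level.ok, Bool.and_eq_true, List.all_eq_true] at hok
               exact hok.1.1 t ht
      | cons a b => simp only [chainOK, Level.ok, Bool.and_eq_true, List.all_eq_true] at hok
                    exact hok.1.1.1.1 t ht
  set H := M24 ⊓ MulAction.stabilizer (Equiv.Perm GolayPt) (ofMask A) with hH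
  have hsub : gtGroup (chainTop ls) ≤ H := gtGroup_le fun t ht =>
    Subgroup.mem_inf.2 ⟨mkPerm_mem_M24 (List.all_eq_true.1 hM t ht), MulAction.mem_stabilizer_iff.2
      (by rw [GT.smul_ofMask (htok t ht), Nat.eq_of_beq_eq_true (hAinv t ht)])⟩
  let f := restrictHom H (ofMask A) (fun g hg => MulAction.mem_stabilizer_iff.1 hg.2)
  have hker : Nat.card f.ker = n := by
    rw [← hfix]
    refine Nat.card_congr
      { toFun := fun g => ⟨g.1, mem_pfix.2 ⟨g.1.2.1, fun p hp => ?_⟩⟩
        invFun := fun g => ⟨⟨g.1, Subgroup.mem_inf.2 ⟨(mem_pfix.1 g.2).1,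
          MulAction.mem_stabilizer_iff.2 ?_⟩⟩, ?_⟩
        left_inv := fun _ => rfl
        right_inv := fun _ => rfl }
    · exact congrArg (fun t : Equiv.Perm ↥(ofMask A) => ((t ⟨p, hp⟩ : ↥(ofMask A)) : GolayPt))
        (MonoidHom.mem_ker.1 g.2)
    · rw [smul_eq_image]
      exact (Finset.image_congr fun p hp => (mem_pfix.1 g.2).2 p hp).trans Finset.image_id
    · rw [MonoidHom.mem_ker]
      exact Equiv.ext fun p => Subtype.ext ((mem_pfix.1 g.2).2 p p.2)
  have hidx := Subgroup.index_mul_card f.ker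
  rw [Subgroup.index_ker, hker] at hidx
  have hrange : Nat.card f.range ≤ 720 := by
    refine le_trans (Subgroup.card_le_of_le (le_top : f.range ≤ ⊤)) ?_
    rw [Subgroup.card_top, Nat.card_eq_fintype_card, Fintype.card_perm, Fintype.card_coe, card_ofMask, hA]
    decide
  have hle : Nat.card H ≤ chainSize ls := by
    rw [hn, ← hidx]; exact Nat.mul_le_mul_right _ hrange
  refine ⟨?_, fun e => ?_⟩
  · exact (le_antisymm hle (le_trans (chain_card_le ls hok) (Subgroup.card_le_of_le hsub))).trans hn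
  · let q := (Finset.equivFinOfCardEq ((card_ofMask A).trans hA)).symm
    obtain ⟨⟨g, hg, hge⟩, -⟩ := transitive_of_chain hsub hle h
      (q.toEmbedding.trans (Function.Embedding.subtype _))
      ((q.trans e).toEmbedding.trans (Function.Embedding.subtype _))
      (fun i => Subtype.coe_prop _) (fun i => Subtype.coe_prop _)
    refine ⟨g, hg.1, fun p => ?_⟩
    have := hge (q.symm p)
    simpa [Function.Embedding.trans_apply] using this

theorem six_std {E : Finset GolayPt} (hE : E.card = 6) :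
    ((∃ o ∈ octads, E ⊆ o) ∧ ∃ σ ∈ M24, σ • ofMask sixInX = E) ∨
      ((¬∃ o ∈ octads, E ⊆ o) ∧ ∃ σ ∈ M24, σ • ofMask sixOutX = E) := by
  by_cases h : ∃ o ∈ octads, E ⊆ o
  · refine Or.inl ⟨h, ?_⟩
    obtain ⟨o, ho, hEo⟩ := h
    obtain ⟨σ, hσ, rfl⟩ := octad_std ho
    have hE' : σ⁻¹ • E ⊆ ofMask octX := fun p hp => by
      obtain ⟨q, hq, rfl⟩ := Finset.mem_smul_finset.1 hp
      refine (mem_smul_iff (σ := σ)).1 ?_
      simpa [O0] using hEo hq
    have hc : (σ⁻¹ • E).card = 6 := by rw [card_smul_perm, hE]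
    let q := (Finset.equivFinOfCardEq ((card_ofMask sixInX).trans six_pops.1)).symm
    let q' := (Finset.equivFinOfCardEq hc).symm
    obtain ⟨⟨g, hg, hge⟩, -⟩ := transitive_of_chain octC_sub octC_card octC_ok.1
      (q.toEmbedding.trans (Function.Embedding.subtype _))
      (q'.toEmbedding.trans (Function.Embedding.subtype _))
      (fun i => ofMask_subset six_pops.2.2.1 (Subtype.coe_prop _)) (fun i => hE' (Subtype.coe_prop _))
    rw [← stab_O0_eq] at hg
    refine ⟨σ * g, mul_mem hσ hg.1, ?_⟩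
    rw [mul_smul, ← smul_inv_smul σ E]
    congr 1
    refine Finset.eq_of_subset_of_card_le (fun p hp => ?_) ?_
    · obtain ⟨x, hx, rfl⟩ := Finset.mem_smul_finset.1 hp
      have := hge (q.symm ⟨x, hx⟩)
      simp only [Function.Embedding.trans_apply, Equiv.coe_toEmbedding, Equiv.apply_symm_apply,
        Function.Embedding.coe_subtype] at this
      show g x ∈ _
      rw [this]; exact Subtype.coe_prop _
    · rw [hc, card_smul_perm, card_ofMask, six_pops.1]
  · refine Or.inr ⟨h, ?_⟩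
    obtain ⟨a, ha⟩ := Finset.card_pos.1 (by rw [hE]; norm_num : 0 < E.card)
    obtain ⟨-, -, -, h5, hp24, hpO, hor, -, -, -⟩ := six_pops
    obtain ⟨g, hg, hgF⟩ := exists_smul_finset (s := ofMask (sixOutX &&& octX)) (t := E.erase a)
      (by rw [card_ofMask, h5]) (by rw [card_ofMask, h5, Finset.card_erase_of_mem ha, hE])
    have hout : g⁻¹ a ∉ O0 := by
      intro hin
      refine h ⟨g • O0, smul_mem_octads hg O0_mem, fun p hp => ?_⟩
      by_cases hpa : p = a
      · subst hpa
        have := (mem_smul_iff (σ := g)).2 hin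
        simpa using this
      · have hp' : p ∈ g • ofMask (sixOutX &&& octX) := hgF.symm ▸ Finset.mem_erase.2 ⟨hpa, hp⟩
        rw [ofMask_and] at hp'
        exact Finset.smul_finset_subset_smul_finset Finset.inter_subset_right hp'
    have hP : pt sixP ∉ O0 := by
      rw [O0, mem_ofMask, num_pt hp24, hpO]; simp
    obtain ⟨k, hk, hka⟩ := (octFix_sharp O0_mem hP hout).1
    obtain ⟨hkM, hkfix⟩ := mem_octFix.1 hk
    refine ⟨g * k, mul_mem hg hkM, ?_⟩
    have hkF : k • ofMask (sixOutX &&& octX) = ofMask (sixOutX &&& octX) := by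
      rw [smul_eq_image]
      refine (Finset.image_congr fun p hp => hkfix p ?_).trans Finset.image_id
      rw [ofMask_and] at hp
      exact Finset.mem_of_mem_inter_right (Finset.mem_coe.1 hp)
    rw [mul_smul, ← hor, ofMask_or, ofMask_two_pow hp24, Finset.smul_finset_union, hkF,
      Finset.smul_finset_singleton, show k • pt sixP = g⁻¹ a from hka, Finset.smul_finset_union, hgF,
      Finset.smul_finset_singleton, show g • g⁻¹ a = a from by simp]
    ext p
    by_cases hpa : p = a <;> simp [hpa, ha]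

end CfsgLib.Spor
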