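import Cfsg.Agent.Spor.M24Classes

/-!
The centraliser of the involution without fixed points, commuting elements of orders two and
three, and the normaliser of an element of order seven.
-/

set_option autoImplicit false

namespace CfsgLib.Spor.M24Elems

open Cfsg
open scoped Pointwise

/-- a permutation given by a code -/
theorem eq_mkPerm {σ : Equiv.Perm GolayPt} {h : ℕ} (hok : okP h = true)
    (e : ∀ i, i < 24 → img σ i = app h i) : σ = mkPerm h :=
  perm_ext fun i hi => by rw [e i hi, img_mkPerm hok hi]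

theorem card_of_list {l : List ℕ} (hok : ∀ h ∈ l, okP h = true)
    (hcanon : ∀ h ∈ l, packL ((List.range 24).map (app h)) = h) (hnd : l.Nodup)
    {P : Equiv.Perm GolayPt → Prop} (hP : ∀ σ, P σ ↔ σ ∈ l.map mkPerm) :
    Nat.card {σ // P σ} = l.length := by
  classical
  have hnd' : (l.map mkPerm).Nodup := by
    refine List.Nodup.map_on (fun a ha b hb e => ?_) hnd
    rw [← hcanon a ha, ← hcanon b hb]
    refine congrArg packL (List.map_congr_left fun i hi => ?_)
    rw [← img_mkPerm (hok a ha) (List.mem_range.1 hi), e,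
      img_mkPerm (hok b hb) (List.mem_range.1 hi)]
  rw [← List.length_map (f := mkPerm) (as := l), ← List.toFinset_card_of_nodup hnd', ← Nat.card_eq_finsetCard]
  exact Nat.card_congr (Equiv.subtypeEquivRight fun σ => by rw [hP, List.mem_toFinset])

theorem fam_fix {h : ℕ} (hok : okP h = true) {l : List ℕ}
    (he : (l.all fun m => l.contains (imgP h m % 2 ^ 24)) = true) :
    mkPerm h • famDec l = famDec l := by
  simp only [List.all_eq_true, List.contains_iff_mem] at he
  refine Finset.eq_of_subset_of_card_le ?_ (by rw [Finset.card_smul_finset])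
  intro s hs
  obtain ⟨t, ht, rfl⟩ := Finset.mem_smul_finset.1 hs
  simp only [famDec, List.mem_toFinset, List.mem_map] at ht ⊢
  obtain ⟨m, hm, rfl⟩ := ht
  exact ⟨_, he m hm, by rw [ofMask_mod, smul_ofMask hok]⟩

/-- the sextet kept by the centraliser of the free involution -/
def centSext : List ℕ := [196632, 266432, 1049094, 2623744, 4218912, 8422401]

/-- the trio kept by the normaliser of the element of order seven -/
def normTrio : List ℕ := [1903248, 6337856, 8536111]

theorem centSext_mem : famDec centSext ∈ sextets := by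
  have hc : (centSext.map fun m => m % 2 ^ 24).Nodup ∧ (centSext.all fun m => pop m == 4 &&
      centSext.all fun m' => m == m' || octadList.contains (m ||| m')) = true := by decide +kernel
  obtain ⟨hn, h⟩ := hc
  have hn' : (centSext.map ofMask).Nodup := by
    refine List.Nodup.map_on ?_ (List.Nodup.of_map _ hn)
    intro x hx y hy he
    exact List.inj_on_of_nodup_map hn hx hy (mask_mod_eq he)
  simp only [List.all_eq_true, Bool.and_eq_true, beq_iff_eq, Bool.or_eq_true,
    List.contains_iff_mem] at h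
  refine ⟨?_, ?_, ?_⟩
  · rw [famDec, List.toFinset_card_of_nodup hn', List.length_map]; rfl
  · intro t ht
    simp only [famDec, List.mem_toFinset, List.mem_map] at ht
    obtain ⟨m, hm, rfl⟩ := ht
    rw [card_ofMask, (h m hm).1]
  · intro t ht u hu hne
    simp only [famDec, List.mem_toFinset, List.mem_map] at ht hu
    obtain ⟨m, hm, rfl⟩ := ht
    obtain ⟨m', hm', rfl⟩ := hu
    rcases (h m hm).2 m' hm' with rfl | h'
    · exact absurd rfl hne
    · rw [← ofMask_or]
      exact (mem_octads_iff (by simpa using List.all_eq_true.1 octadList_lt _ h')).2 h'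

theorem normTrio_mem : famDec normTrio ∈ trios := by
  have hc : (normTrio.map fun m => m % 2 ^ 24).Nodup ∧ (normTrio.all fun m => octadList.contains m &&
      normTrio.all fun m' => m == m' || m &&& m' == 0) = true := by decide +kernel
  obtain ⟨hn, h⟩ := hc
  have hn' : (normTrio.map ofMask).Nodup := by
    refine List.Nodup.map_on ?_ (List.Nodup.of_map _ hn)
    intro x hx y hy he
    exact List.inj_on_of_nodup_map hn hx hy (mask_mod_eq he)
  simp only [List.all_eq_true, Bool.and_eq_true, beq_iff_eq, Bool.or_eq_true,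
    List.contains_iff_mem] at h
  refine ⟨?_, ?_, ?_⟩
  · rw [famDec, List.toFinset_card_of_nodup hn', List.length_map]; rfl
  · intro t ht
    simp only [famDec, List.mem_toFinset, List.mem_map] at ht
    obtain ⟨m, hm, rfl⟩ := ht
    exact (mem_octads_iff (by simpa using List.all_eq_true.1 octadList_lt _ (h m hm).1)).2 (h m hm).1
  · intro t ht u hu hne
    simp only [famDec, List.mem_toFinset, List.mem_map] at ht hu
    obtain ⟨m, hm, rfl⟩ := ht
    obtain ⟨m', hm', rfl⟩ := hu
    rcases (h m hm).2 m' hm' with rfl | h'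
    · exact absurd rfl hne
    · rw [Finset.disjoint_left]
      intro p hp hp'
      rw [mem_ofMask] at hp hp'
      have := congrArg (fun n : ℕ => n.testBit (num p)) h'
      simp [hp, hp'] at this

/-! ### the centraliser of the free involution -/

theorem cent_check :
    (centFix.all inM24 && centMove.all inM24 && centCosets.all inM24) = true ∧
    centFix.length = 320 ∧ centFix.Nodup ∧
    (centFix.all fun h => packL ((List.range 24).map (app h)) == h && app h 23 == 23 &&
      (List.range 24).all (fun i => app h (app repT0 i) == app repT0 (app h i)) &&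
      centSext.all (fun m => centSext.contains (imgP h m % 2 ^ 24)) &&
      (!(List.range 24).all (fun i => app h (app h (app h i)) == i) ||
        (List.range 24).all fun i => app h i == i)) = true ∧
    ((List.range 24).all fun y => app (centMove.getD y 0) 23 == y &&
      centMove.contains (centMove.getD y 0)) = true ∧
    (centMove.all fun h => (List.range 24).all (fun i => app h (app repT0 i) == app repT0 (app h i)) &&
      centSext.all (fun m => centSext.contains (imgP h m % 2 ^ 24))) = true ∧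
    app repT0 23 = 0 ∧ app repT0 1 = 2 ∧
    ((List.range 24).all fun z => [23, 0].contains z || (List.range 24).all fun w =>
      [23, 0, z, app repT0 z].contains w ||
        centCosets.any fun G => quint G == [23, 0, z, app repT0 z, w]) = true := by decide +kernel

theorem cent_cand_check : (centCosets.all fun G => tail48.all fun k =>
    !((List.range 24).all fun i => app G (app k (app repT0 i)) == app repT0 (app G (app k i))) ||
      centFix.any fun h => (List.range 24).all fun i => app G (app k i) == app h i) = true := by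
  decide +kernel

theorem commute_of_check {h R : ℕ} (hh : okP h = true) (hR : okP R = true)
    (e : (List.range 24).all (fun i => app h (app R i) == app R (app h i)) = true) :
    mkPerm h * mkPerm R = mkPerm R * mkPerm h := by
  simp only [List.all_eq_true, List.mem_range, beq_iff_eq] at e
  refine perm_ext fun i hi => ?_
  rw [img_mul, img_mul, img_mkPerm hR hi, img_mkPerm hh hi, img_mkPerm hh (app_lt hR hi),
    img_mkPerm hR (app_lt hh hi), e i hi]

theorem centFix_facts {h : ℕ} (hh : h ∈ centFix) :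
    okP h = true ∧ mkPerm h ∈ M24 ∧ mkPerm h * mkPerm repT0 = mkPerm repT0 * mkPerm h ∧
      mkPerm h (pt 23) = pt 23 ∧ mkPerm h • famDec centSext = famDec centSext ∧
      (mkPerm h ^ 3 = 1 → mkPerm h = 1) := by
  obtain ⟨hok, -, -, hf, -⟩ := cent_check
  simp only [Bool.and_eq_true, List.all_eq_true] at hok
  have hm := hok.1.1 h hh
  have hh' := inM24_ok hm
  have hc := List.all_eq_true.1 hf h hh
  simp only [Bool.and_eq_true, Bool.or_eq_true, Bool.not_eq_true', beq_iff_eq] at hc
  obtain ⟨⟨⟨⟨-, h23⟩, hcom⟩, hsx⟩, hcube⟩ := hc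
  refine ⟨hh', mkPerm_mem_M24 hm, commute_of_check hh' (inM24_ok rep_mem.2.1) hcom,
    (apply_eq_iff hh' (by norm_num)).2 h23, fam_fix hh' hsx, fun h3 => ?_⟩
  rcases hcube with hcube | hcube
  · exfalso
    have : ((List.range 24).all fun i => app h (app h (app h i)) == i) = true := by
      simp only [List.all_eq_true, List.mem_range, beq_iff_eq]
      intro i hi
      rw [← img_mkPerm hh' (app_lt hh' (app_lt hh' hi)), ← img_mkPerm hh' (app_lt hh' hi),
        ← img_mkPerm hh' hi, ← img_mul, ← img_mul, ← pow_two, ← pow_succ, h3, img_one hi]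
    rw [this] at hcube
    exact Bool.noConfusion hcube
  · simp only [List.all_eq_true, List.mem_range, beq_iff_eq] at hcube
    exact perm_ext fun i hi => by rw [img_mkPerm hh' hi, img_one hi, hcube i hi]

/-- an element centralising the free involution and moving the base point to a given one -/
noncomputable def move (p : GolayPt) : Equiv.Perm GolayPt := mkPerm (centMove.getD (num p) 0)

theorem move_facts (p : GolayPt) :
    move p ∈ M24 ∧ move p * mkPerm repT0 = mkPerm repT0 * move p ∧ move p (pt 23) = p ∧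
      move p • famDec centSext = famDec centSext := by
  obtain ⟨hok, -, -, -, hm, hc, -⟩ := cent_check
  simp only [Bool.and_eq_true, List.all_eq_true] at hok
  have hy := List.all_eq_true.1 hm (num p) (List.mem_range.2 (num_lt p))
  simp only [Bool.and_eq_true, beq_iff_eq, List.contains_iff_mem] at hy
  have hin := hok.1.2 _ hy.2
  have h := List.all_eq_true.1 hc _ hy.2
  simp only [Bool.and_eq_true] at h
  refine ⟨mkPerm_mem_M24 hin, commute_of_check (inM24_ok hin) (inM24_ok rep_mem.2.1) h.1,
    num_injective ?_, fam_fix (inM24_ok hin) h.2⟩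
  rw [move, num_mkPerm (inM24_ok hin), num_pt (by norm_num), hy.1]

theorem cent_fix_mem {σ : Equiv.Perm GolayPt} (hσ : σ ∈ M24)
    (hc : σ * mkPerm repT0 = mkPerm repT0 * σ) (hfix : σ (pt 23) = pt 23) :
    σ ∈ centFix.map mkPerm := by
  obtain ⟨hok, -, -, -, -, -, t23, t1, hcov⟩ := cent_check
  simp only [Bool.and_eq_true, List.all_eq_true] at hok
  have hT := inM24_ok rep_mem.2.1
  have com : ∀ i, i < 24 → img σ (app repT0 i) = app repT0 (img σ i) := by
    intro i hi
    rw [← img_mkPerm hT hi, ← img_mul, hc, img_mul, img_mkPerm hT (img_lt _ _)]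
  have e23 : img σ 23 = 23 := by rw [img, hfix, num_pt (by norm_num)]
  have e0 : img σ 0 = 0 := by
    have := com 23 (by norm_num)
    rwa [t23, e23, t23] at this
  have e2 : img σ 2 = app repT0 (img σ 1) := by rw [← t1]; exact com 1 (by norm_num)
  have hz : img σ 1 ∉ [23, 0] := by
    simp only [List.mem_cons, List.not_mem_nil, or_false, not_or]
    exact ⟨fun e => absurd (img_injOn σ (by norm_num) (by norm_num) (e.trans e23.symm)) (by norm_num),
      fun e => absurd (img_injOn σ (by norm_num) (by norm_num) (e.trans e0.symm)) (by norm_num)⟩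
  have hw : img σ 3 ∉ [23, 0, img σ 1, app repT0 (img σ 1)] := by
    simp only [List.mem_cons, List.not_mem_nil, or_false, not_or]
    exact ⟨fun e => absurd (img_injOn σ (by norm_num) (by norm_num) (e.trans e23.symm)) (by norm_num),
      fun e => absurd (img_injOn σ (by norm_num) (by norm_num) (e.trans e0.symm)) (by norm_num),
      fun e => absurd (img_injOn σ (by norm_num) (by norm_num) e) (by norm_num),
      fun e => absurd (img_injOn σ (by norm_num) (by norm_num) (e.trans e2.symm)) (by norm_num)⟩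
  have h1 := List.all_eq_true.1 hcov (img σ 1) (List.mem_range.2 (img_lt _ _))
  simp only [Bool.or_eq_true, List.contains_iff_mem, hz, false_or, List.all_eq_true] at h1
  have h2 := h1 (img σ 3) (List.mem_range.2 (img_lt _ _))
  simp only [hw, false_or, List.any_eq_true, beq_iff_eq] at h2
  obtain ⟨G, hG, hq⟩ := h2
  obtain ⟨k, hk, hki⟩ := exists_cand hσ (hok.2 G hG) (by
    rw [hq, base]; simp only [List.map_cons, List.map_nil, e23, e0, e2])
  have h := List.all_eq_true.1 (List.all_eq_true.1 cent_cand_check G hG) k hk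
  simp only [Bool.or_eq_true, Bool.not_eq_true', List.any_eq_true, List.all_eq_true, beq_iff_eq,
    List.mem_range] at h
  rcases h with h | ⟨x, hx, h⟩
  · exfalso
    have : ((List.range 24).all fun i => app G (app k (app repT0 i)) == app repT0 (app G (app k i)))
        = true := by
      simp only [List.all_eq_true, List.mem_range, beq_iff_eq]
      intro i hi
      rw [← hki _ (app_lt hT hi), ← hki i hi]
      exact com i hi
    rw [this] at h
    exact Bool.noConfusion h
  · refine List.mem_map.2 ⟨x, hx, (eq_mkPerm (inM24_ok (hok.1.1 x hx)) fun i hi => ?_).symm⟩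
    rw [hki i hi, h i hi]

/-- the centraliser as a product -/
noncomputable def centEquiv :
    {c : Equiv.Perm GolayPt // c ∈ M24 ∧ c * mkPerm repT0 = mkPerm repT0 * c} ≃
      GolayPt × {c : Equiv.Perm GolayPt //
        c ∈ M24 ∧ c * mkPerm repT0 = mkPerm repT0 * c ∧ c (pt 23) = pt 23} where
  toFun c := ⟨c.1 (pt 23), (move (c.1 (pt 23)))⁻¹ * c.1,
    mul_mem (inv_mem (move_facts _).1) c.2.1,
    ((Commute.inv_left (move_facts _).2.1).mul_left c.2.2).eq, by
      rw [Equiv.Perm.mul_apply]
      exact Equiv.Perm.inv_eq_iff_eq.2 (move_facts _).2.2.1.symm⟩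
  invFun x := ⟨move x.1 * x.2.1, mul_mem (move_facts _).1 x.2.2.1,
    (Commute.mul_left (move_facts _).2.1 x.2.2.2.1).eq⟩
  left_inv c := Subtype.ext (mul_inv_cancel_left _ _)
  right_inv x := by
    have e : (move x.1 * x.2.1) (pt 23) = x.1 := by
      rw [Equiv.Perm.mul_apply, x.2.2.2.2, (move_facts _).2.2.1]
    refine Prod.ext e (Subtype.ext ?_)
    show (move ((move x.1 * x.2.1) (pt 23)))⁻¹ * (move x.1 * x.2.1) = x.2.1
    rw [e, inv_mul_cancel_left]

theorem free_centraliser {t : Equiv.Perm GolayPt} (ht : t ∈ M24) (h2 : orderOf t = 2)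
    (h0 : fixN t = 0) :
    Nat.card {c : Equiv.Perm GolayPt // c ∈ M24 ∧ c * t = t * c} = 7680 ∧
      (∀ p q : GolayPt, ∃ c ∈ M24, c * t = t * c ∧ c p = q) ∧
      ∃ S ∈ sextets, t • S = S ∧ ∀ c ∈ M24, c * t = t * c → c • S = S := by
  obtain ⟨d, hd, ⟨-, e⟩ | ⟨e, -⟩⟩ := inv_cases ht h2
  · rw [h0] at e; omega
  have conjC : ∀ c, c * t = t * c ↔
      (d * c * d⁻¹) * mkPerm repT0 = mkPerm repT0 * (d * c * d⁻¹) := by
    intro c
    rw [← e, show d * c * d⁻¹ * (d * t * d⁻¹) = d * (c * t) * d⁻¹ by group,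
      show d * t * d⁻¹ * (d * c * d⁻¹) = d * (t * c) * d⁻¹ by group, mul_left_inj, mul_right_inj]
  have memC : ∀ c, c ∈ M24 ↔ d * c * d⁻¹ ∈ M24 := fun c =>
    ⟨fun h => mul_mem (mul_mem hd h) (inv_mem hd), fun h => by
      have := mul_mem (mul_mem (inv_mem hd) h) hd
      rwa [show d⁻¹ * (d * c * d⁻¹) * d = c by group] at this⟩
  obtain ⟨hok, hlen, hnd, hf, -⟩ := cent_check
  simp only [List.all_eq_true, Bool.and_eq_true, beq_iff_eq] at hf
  have hcard : Nat.card {c : Equiv.Perm GolayPt //
      c ∈ M24 ∧ c * mkPerm repT0 = mkPerm repT0 * c ∧ c (pt 23) = pt 23} = 320 := by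
    rw [card_of_list (fun h hh => (centFix_facts hh).1) (fun h hh => (hf h hh).1.1.1.1) hnd, hlen]
    intro σ
    refine ⟨fun h => cent_fix_mem h.1 h.2.1 h.2.2, fun h => ?_⟩
    obtain ⟨x, hx, rfl⟩ := List.mem_map.1 h
    obtain ⟨-, f1, f2, f3, -⟩ := centFix_facts hx
    exact ⟨f1, f2, f3⟩
  refine ⟨?_, fun p q => ?_, d⁻¹ • famDec centSext, smul_mem_sextets (inv_mem hd) centSext_mem, ?_⟩
  · rw [Nat.card_congr (((MulAut.conj d).toEquiv.subtypeEquiv (fun c => by
        rw [memC c, conjC c]; rfl)).trans centEquiv), Nat.card_prod, hcard,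
      Nat.card_eq_fintype_card, show Fintype.card GolayPt = 24 by simp [GolayPt]]
  · refine ⟨d⁻¹ * (move (d q) * (move (d p))⁻¹) * d, mul_mem (mul_mem (inv_mem hd)
      (mul_mem (move_facts _).1 (inv_mem (move_facts _).1))) hd, (conjC _).2 ?_, ?_⟩
    · rw [show d * (d⁻¹ * (move (d q) * (move (d p))⁻¹) * d) * d⁻¹ = move (d q) * (move (d p))⁻¹ by
        group]
      exact (Commute.mul_left (move_facts _).2.1 (Commute.inv_left (move_facts _).2.1)).eq
    · simp only [Equiv.Perm.mul_apply]
      rw [Equiv.Perm.inv_eq_iff_eq.2 (move_facts (d p)).2.2.1.symm, (move_facts (d q)).2.2.1]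
      simp
  have key : ∀ c ∈ M24, c * t = t * c → c • d⁻¹ • famDec centSext = d⁻¹ • famDec centSext := by
    intro c hc hct
    set c' : Equiv.Perm GolayPt := d * c * d⁻¹ with hc'
    have h1 : c' ∈ M24 := (memC c).1 hc
    have h2' := (conjC c).1 hct
    obtain ⟨x, hx, hxe⟩ := List.mem_map.1 (cent_fix_mem
      (mul_mem (inv_mem (move_facts (c' (pt 23))).1) h1)
      ((Commute.inv_left (move_facts _).2.1).mul_left h2').eq
      (by rw [Equiv.Perm.mul_apply]; exact Equiv.Perm.inv_eq_iff_eq.2 (move_facts _).2.2.1.symm))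
    have h3 : c' • famDec centSext = famDec centSext := by
      rw [show c' = move (c' (pt 23)) * mkPerm x by rw [hxe, mul_inv_cancel_left], mul_smul,
        (centFix_facts hx).2.2.2.2.1, (move_facts _).2.2.2]
    rw [← mul_smul, show c * d⁻¹ = d⁻¹ * c' by rw [hc']; group, mul_smul, h3]
  exact ⟨key t ht rfl, key⟩

theorem commuting_fix {x s : Equiv.Perm GolayPt} (hx : x ∈ M24) (hs : s ∈ M24)
    (h3 : orderOf x = 3) (h2 : orderOf s = 2) (hc : Commute x s) :
    (fixN x = 6 ∧ fixN s = 8) ∨ (fixN x = 0 ∧ fixN s = 0) := by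
  classical
  obtain ⟨c, hcm, hcx⟩ := tri_cases hx h3
  have hx3 : x ^ 3 = 1 := by rw [← h3, pow_orderOf_eq_one]
  obtain ⟨d, hd, ⟨-, e⟩ | ⟨e, e0⟩⟩ := inv_cases hs h2
  · left
    refine ⟨?_, e⟩
    rcases hcx with ⟨-, n⟩ | ⟨-, n⟩
    · exact n
    exfalso
    have hfree := (free_iff x).2 n
    let F := Finset.univ.filter fun p => s p = p
    have hF : ∀ p ∈ F, x p ∈ F := by
      intro p hp
      simp only [F, Finset.mem_filter, Finset.mem_univ, true_and] at hp ⊢
      rw [← Equiv.Perm.mul_apply, ← hc.eq, Equiv.Perm.mul_apply, hp]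
    let f : Function.End {p // p ∈ F} := fun q => ⟨x q.1, hF q.1 q.2⟩
    haveI : Fact (Nat.Prime 3) := ⟨Nat.prime_three⟩
    have hf : f ^ 3 ^ 1 = 1 := by
      funext q
      apply Subtype.ext
      show x (x (x q.1)) = q.1
      have := Equiv.Perm.congr_fun hx3 q.1
      simpa [pow_succ] using this
    have h := Equiv.Perm.card_fixedPoints_modEq hf
    have hF8 : F.card = 8 := e
    have hempty : IsEmpty ↑(Function.fixedPoints f) :=
      ⟨fun q => hfree q.1.1 (congrArg Subtype.val q.2)⟩
    rw [Fintype.card_coe, hF8, Fintype.card_eq_zero] at h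
    exact absurd h (by decide)
  · right
    refine ⟨?_, e0⟩
    rcases hcx with ⟨-, n⟩ | ⟨-, n⟩
    swap
    · exact n
    exfalso
    obtain ⟨p, hp⟩ : ∃ p, x p = p := by
      by_contra hh
      push Not at hh
      have := (free_iff x).1 hh
      omega
    set m := move (d p) with hm
    obtain ⟨m1, m2, m3, -⟩ := move_facts (d p)
    set x' : Equiv.Perm GolayPt := m⁻¹ * (d * x * d⁻¹) * m with hx'
    have hd' : (d * x * d⁻¹) * mkPerm repT0 = mkPerm repT0 * (d * x * d⁻¹) := by
      rw [← e, show d * x * d⁻¹ * (d * s * d⁻¹) = d * (x * s) * d⁻¹ by group, hc.eq]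
      group
    obtain ⟨y, hy, hye⟩ := List.mem_map.1 (cent_fix_mem (σ := x')
      (mul_mem (mul_mem (inv_mem m1) (mul_mem (mul_mem hd hx) (inv_mem hd))) m1)
      ((Commute.inv_left m2).mul_left hd' |>.mul_left m2).eq
      (by
        rw [hx', Equiv.Perm.mul_apply, Equiv.Perm.mul_apply, hm, m3]
        simp [hp]
        rw [Equiv.symm_apply_eq, m3]))
    have h1 : x' ^ 3 = 1 := by
      rw [hx', show m⁻¹ * (d * x * d⁻¹) * m = (m⁻¹ * d) * x * (m⁻¹ * d)⁻¹ by group, conj_pow, hx3,
        mul_one, mul_inv_cancel]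
    have h4 : x' = 1 := by
      rw [← hye] at h1 ⊢
      exact (centFix_facts hy).2.2.2.2.2 h1
    refine ne_one_of_order h3 (by norm_num) ?_
    have : x = d⁻¹ * (m * x' * m⁻¹) * d := by rw [hx']; group
    rw [this, h4]
    group

/-! ### the normaliser of the element of order seven -/

/-- the test that a function normalises the element of order seven -/
def normB (f : ℕ → ℕ) (i : ℕ) : Bool :=
  (List.range 24).all fun j => f (app repS j) == (app repS)^[i] (f j)

theorem norm_check :
    (normList.all inM24 && normCosets.all inM24) = true ∧ normList.length = 126 ∧ normList.Nodup ∧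
    cent7.length = 42 ∧ cent7.Nodup ∧
    (normList.all fun h => packL ((List.range 24).map (app h)) == h &&
      (List.range 7).any (normB (app h)) &&
      normTrio.all (fun m => normTrio.contains (imgP h m % 2 ^ 24)) &&
      (!normB (app h) 1 || cent7.contains h)) = true ∧
    (cent7.all fun h => normList.contains h && normB (app h) 1) = true ∧
    ((List.range 5).all fun j => (app repS)^[j] 23 == base.getD j 0) = true ∧
    ((List.range 24).all fun j => (app repS)^[7] j == j) = true ∧
    ((List.range 24).all fun y => app repS y == y || (List.range 7).all fun i => i == 0 ||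
      normCosets.any fun G => quint G == (List.range 5).map fun j => (app repS)^[i * j] y) = true ∧
    ((List.range 24).any fun j => app (cent7.getD 0 0) (app (cent7.getD 8 0) j) !=
      app (cent7.getD 8 0) (app (cent7.getD 0 0) j)) = true := by decide +kernel

theorem norm_cand_check : (normCosets.all fun G => tail48.all fun k => (List.range 7).all fun i =>
    !normB (fun j => app G (app k j)) i ||
      normList.any fun h => (List.range 24).all fun j => app G (app k j) == app h j) = true := by
  decide +kernel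

theorem img_pow {P : ℕ} (hP : okP P = true) (n : ℕ) {i : ℕ} (hi : i < 24) :
    img (mkPerm P ^ n) i = (app P)^[n] i ∧ (app P)^[n] i < 24 := by
  induction n with
  | zero => exact ⟨img_one hi, hi⟩
  | succ n ih =>
    rw [Function.iterate_succ_apply', pow_succ', img_mul, ih.1, img_mkPerm hP ih.2]
    exact ⟨rfl, app_lt hP ih.2⟩

theorem S_pow_seven : mkPerm repS ^ 7 = 1 := by
  have h := norm_check.2.2.2.2.2.2.2.2.1
  simp only [List.all_eq_true, List.mem_range, beq_iff_eq] at h
  exact perm_ext fun i hi => by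
    rw [(img_pow (inM24_ok rep_mem.2.2.2.2) 7 hi).1, h i hi, img_one hi]

theorem S_ne_one : mkPerm repS ≠ 1 := by
  intro e
  have := img_one (i := 23) (by norm_num)
  rw [← e, img_mkPerm (inM24_ok rep_mem.2.2.2.2) (by norm_num)] at this
  have h0 : app repS 23 = 0 := by decide +kernel
  omega

theorem orderOf_S : orderOf (mkPerm repS) = 7 :=
  haveI : Fact (Nat.Prime 7) := ⟨by norm_num⟩
  orderOf_eq_prime S_pow_seven S_ne_one

theorem normB_iff {h : ℕ} (hh : okP h = true) {i : ℕ} :
    normB (app h) i = true ↔ mkPerm h * mkPerm repS = mkPerm repS ^ i * mkPerm h := by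
  have hS := inM24_ok rep_mem.2.2.2.2
  simp only [normB, List.all_eq_true, List.mem_range, beq_iff_eq]
  constructor
  · intro e
    refine perm_ext fun j hj => ?_
    rw [img_mul, img_mul, img_mkPerm hS hj, img_mkPerm hh (app_lt hS hj), img_mkPerm hh hj,
      (img_pow hS i (app_lt hh hj)).1, e j hj]
  · intro e j hj
    have := congrArg (fun σ => img σ j) e
    rwa [img_mul, img_mul, img_mkPerm hS hj, img_mkPerm hh (app_lt hS hj), img_mkPerm hh hj,
      (img_pow hS i (app_lt hh hj)).1] at this

theorem norm_mem_iff (σ : Equiv.Perm GolayPt) :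
    (σ ∈ M24 ∧ ∃ i : ℕ, σ * mkPerm repS = mkPerm repS ^ i * σ) ↔ σ ∈ normList.map mkPerm := by
  obtain ⟨hok, -, -, -, -, hl, -, hbase, -, hcov, -⟩ := norm_check
  simp only [Bool.and_eq_true, List.all_eq_true] at hok
  have hS := inM24_ok rep_mem.2.2.2.2
  constructor
  swap
  · intro h
    obtain ⟨x, hx, rfl⟩ := List.mem_map.1 h
    have := List.all_eq_true.1 hl x hx
    simp only [Bool.and_eq_true, List.any_eq_true] at this
    obtain ⟨i, -, hi⟩ := this.1.1.2
    exact ⟨mkPerm_mem_M24 (hok.1 x hx), i, (normB_iff (inM24_ok (hok.1 x hx))).1 hi⟩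
  rintro ⟨hσ, n, hn⟩
  obtain ⟨i, hi7, hi⟩ : ∃ i < 7, σ * mkPerm repS = mkPerm repS ^ i * σ := by
    refine ⟨n % 7, Nat.mod_lt _ (by norm_num), ?_⟩
    rwa [← orderOf_S, pow_mod_orderOf]
  have hi0 : i ≠ 0 := by
    rintro rfl
    rw [pow_zero, one_mul, mul_eq_left] at hi
    exact S_ne_one hi
  have hit : ∀ j : ℕ, σ * mkPerm repS ^ j = mkPerm repS ^ (i * j) * σ := by
    intro j
    induction j with
    | zero => simp
    | succ j ih =>
      rw [pow_succ, ← mul_assoc, ih, mul_assoc, hi, ← mul_assoc, ← pow_add, Nat.mul_succ]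
  set y := img σ 23
  simp only [List.all_eq_true, List.mem_range, beq_iff_eq] at hbase
  have himg : ∀ j < 5, img σ (base.getD j 0) = (app repS)^[i * j] y := by
    intro j hj
    rw [← hbase j hj, ← (img_pow hS j (by norm_num)).1, ← img_mul, hit, img_mul,
      (img_pow hS _ (img_lt _ _)).1]
  have hy : app repS y ≠ y := by
    intro e
    have e1 : img σ 0 = y := by
      have := himg 1 (by norm_num)
      rw [mul_one] at this
      refine this.trans ?_
      clear this
      induction i with
      | zero => rfl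
      | succ i ih =>
        rw [Function.iterate_succ_apply, e]
        exact Function.iterate_fixed e i
    exact absurd (img_injOn σ (by norm_num) (by norm_num) e1) (by norm_num)
  have h := List.all_eq_true.1 hcov y (List.mem_range.2 (img_lt _ _))
  simp only [Bool.or_eq_true, beq_iff_eq, hy, false_or, List.all_eq_true] at h
  have h' := h i (List.mem_range.2 hi7)
  simp only [hi0, false_or, List.any_eq_true, beq_iff_eq] at h'
  obtain ⟨G, hG, hq⟩ := h'
  obtain ⟨k, hk, hki⟩ := exists_cand hσ (hok.2 G hG) (by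
    rw [hq, show base.map (img σ) = (List.range 5).map fun j => img σ (base.getD j 0) by
      simp [base, List.range_succ]]
    exact List.map_congr_left fun j hj => himg j (List.mem_range.1 hj))
  have h := List.all_eq_true.1 (List.all_eq_true.1 (List.all_eq_true.1 norm_cand_check G hG) k hk) i
    (List.mem_range.2 hi7)
  simp only [Bool.or_eq_true, Bool.not_eq_true', List.any_eq_true] at h
  rcases h with h | ⟨x, hx, h⟩
  · exfalso
    have : normB (fun j => app G (app k j)) i = true := by
      simp only [normB, List.all_eq_true, List.mem_range, beq_iff_eq]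
      intro j hj
      rw [← hki _ (app_lt hS hj), ← hki j hj, ← img_mkPerm hS hj, ← img_mul, hi, img_mul,
        (img_pow hS i (img_lt _ _)).1]
    rw [this] at h
    exact Bool.noConfusion h
  · simp only [List.all_eq_true, List.mem_range, beq_iff_eq] at h
    refine List.mem_map.2 ⟨x, hx, (eq_mkPerm (inM24_ok (hok.1 x hx)) fun j hj => ?_).symm⟩
    rw [hki j hj, h j hj]

theorem cent_mem_iff (σ : Equiv.Perm GolayPt) :
    (σ ∈ M24 ∧ σ * mkPerm repS = mkPerm repS * σ) ↔ σ ∈ cent7.map mkPerm := by
  obtain ⟨hok, -, -, -, -, hl, hc, -⟩ := norm_check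
  simp only [Bool.and_eq_true, List.all_eq_true] at hok
  simp only [List.all_eq_true, Bool.and_eq_true, List.contains_iff_mem] at hc
  constructor
  · rintro ⟨hσ, hcom⟩
    obtain ⟨x, hx, rfl⟩ := List.mem_map.1 ((norm_mem_iff σ).1 ⟨hσ, 1, by rwa [pow_one]⟩)
    have := List.all_eq_true.1 hl x hx
    simp only [Bool.and_eq_true, Bool.or_eq_true, Bool.not_eq_true', List.contains_iff_mem] at this
    rcases this.2 with h | h
    · rw [(normB_iff (inM24_ok (hok.1 x hx))).2 (by rwa [pow_one])] at h
      exact Bool.noConfusion h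
    · exact List.mem_map.2 ⟨x, h, rfl⟩
  · intro h
    obtain ⟨x, hx, rfl⟩ := List.mem_map.1 h
    have hm := hok.1 x (hc x hx).1
    refine ⟨mkPerm_mem_M24 hm, ?_⟩
    have := (normB_iff (inM24_ok hm)).1 (hc x hx).2
    rwa [pow_one] at this

theorem seven_normaliser (S : Subgroup ↥M24) (hS : Nat.card S = 7) :
    Nat.card ↥(Subgroup.normalizer (S : Set ↥M24)) = 126 ∧
      Nat.card ↥(Subgroup.centralizer (S : Set ↥M24)) = 42 ∧
      (∃ x ∈ Subgroup.centralizer (S : Set ↥M24), ∃ y ∈ Subgroup.centralizer (S : Set ↥M24),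
        x * y ≠ y * x) ∧
      ∃ T ∈ trios, ∀ n ∈ Subgroup.normalizer (S : Set ↥M24),
        ((n : ↥M24) : Equiv.Perm GolayPt) • T = T := by
  haveI : Fact (Nat.Prime 7) := ⟨by norm_num⟩
  haveI : Finite S := Nat.finite_of_card_ne_zero (by rw [hS]; norm_num)
  obtain ⟨a, ha, ha1⟩ := (Subgroup.nontrivial_iff_exists_ne_one S).1
    (Finite.one_lt_card_iff_nontrivial.1 (by rw [hS]; norm_num))
  have ha7 : (a : Equiv.Perm GolayPt) ^ 7 = 1 := by
    have := pow_card_eq_one' (x := (⟨a, ha⟩ : S))
    rw [hS] at this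
    exact congrArg (fun z : S => ((z : ↥M24) : Equiv.Perm GolayPt)) this
  obtain ⟨k₀, hk₀, hk⟩ := sev_classify a.2 ha7 fun h => ha1 (Subtype.ext h)
  set R : ↥M24 := ⟨mkPerm repS, mkPerm_mem_M24 rep_mem.2.2.2.2⟩
  set k : ↥M24 := ⟨k₀, hk₀⟩
  have hR : k⁻¹ * R * k ∈ S := by
    have h : k * a * k⁻¹ = R ∨ k * a * k⁻¹ = R ^ 6 := hk.imp Subtype.ext Subtype.ext
    have hR7 : R ^ 7 = 1 := Subtype.ext S_pow_seven
    rcases h with h | h
    · rwa [← h, show k⁻¹ * (k * a * k⁻¹) * k = a by group]
    · have : k⁻¹ * R * k = a ^ 6 := by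
        have h' : R = k * a ^ 6 * k⁻¹ := by
          rw [← conj_pow, h, ← pow_mul, show 6 * 6 = 7 * 5 + 1 from rfl, pow_add, pow_mul, hR7,
            one_pow, one_mul, pow_one]
        rw [h']; group
      rw [this]
      exact pow_mem ha 6
  set x := k⁻¹ * R * k with hx
  have hox : orderOf x = 7 := by
    refine orderOf_eq_prime ?_ fun e => S_ne_one ?_
    · have : k⁻¹ * R * k = k⁻¹ * R * k⁻¹⁻¹ := by rw [inv_inv]
      rw [hx, this, conj_pow, show R ^ 7 = 1 from Subtype.ext S_pow_seven, mul_one, mul_inv_cancel]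
    · have : R = 1 := by
        rw [show R = k * x * k⁻¹ by rw [hx]; group, e, mul_one, mul_inv_cancel]
      exact congrArg Subtype.val this
  have hSx : Subgroup.zpowers x = S := Subgroup.eq_of_le_of_card_ge (Subgroup.zpowers_le.2 hR)
    (by rw [Nat.card_zpowers, hox, hS])
  subst hSx
  have hn : ∀ n : ↥M24, n ∈ Subgroup.normalizer (Subgroup.zpowers x : Set ↥M24) ↔
      ∃ i : ℕ, ((k * n * k⁻¹ : ↥M24) : Equiv.Perm GolayPt) * mkPerm repS =
        mkPerm repS ^ i * ((k * n * k⁻¹ : ↥M24) : Equiv.Perm GolayPt) := by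
    intro n
    have key : ∀ i : ℕ, n * x * n⁻¹ = x ^ i ↔
        (k * n * k⁻¹) * R = R ^ i * (k * n * k⁻¹) := by
      intro i
      rw [hx, show k⁻¹ * R * k = k⁻¹ * R * k⁻¹⁻¹ by rw [inv_inv], conj_pow, inv_inv]
      constructor
      · intro e
        calc k * n * k⁻¹ * R = k * (n * (k⁻¹ * R * k) * n⁻¹) * n * k⁻¹ := by group
          _ = k * (k⁻¹ * R ^ i * k) * n * k⁻¹ := by rw [e]
          _ = R ^ i * (k * n * k⁻¹) := by group
      · intro e
        calc n * (k⁻¹ * R * k) * n⁻¹ = k⁻¹ * (k * n * k⁻¹ * R) * k * n⁻¹ := by group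
          _ = k⁻¹ * (R ^ i * (k * n * k⁻¹)) * k * n⁻¹ := by rw [e]
          _ = k⁻¹ * R ^ i * k := by group
    constructor
    · intro h
      obtain ⟨i, hi⟩ := mem_powers_iff_mem_zpowers.2
        ((Subgroup.mem_normalizer_iff.1 h x).1 (Subgroup.mem_zpowers x))
      exact ⟨i, congrArg Subtype.val ((key i).1 hi.symm)⟩
    · rintro ⟨i, hi⟩
      have e := (key i).2 (Subtype.ext hi)
      rw [Subgroup.mem_normalizer_iff]
      have hle : (Subgroup.zpowers x).map (MulAut.conj n).toMonoidHom ≤ Subgroup.zpowers x := by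
        rw [MonoidHom.map_zpowers, Subgroup.zpowers_le]
        show n * x * n⁻¹ ∈ _
        rw [e]
        exact pow_mem (Subgroup.mem_zpowers x) i
      have heq : (Subgroup.zpowers x).map (MulAut.conj n).toMonoidHom = Subgroup.zpowers x :=
        Subgroup.eq_of_le_of_card_ge hle
          (Subgroup.card_map_of_injective (MulAut.conj n).injective).ge
      intro h
      refine ⟨fun hh => hle ⟨h, hh, rfl⟩, fun hh => ?_⟩
      rw [← heq] at hh
      obtain ⟨h', hh', he'⟩ := hh
      rwa [← (MulAut.conj n).injective (show MulAut.conj n h' = MulAut.conj n h from he')]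
  have hc : ∀ n : ↥M24, n ∈ Subgroup.centralizer (Subgroup.zpowers x : Set ↥M24) ↔
      ((k * n * k⁻¹ : ↥M24) : Equiv.Perm GolayPt) * mkPerm repS =
        mkPerm repS * ((k * n * k⁻¹ : ↥M24) : Equiv.Perm GolayPt) := by
    intro n
    rw [Subgroup.mem_centralizer_iff]
    have key : x * n = n * x ↔ k * n * k⁻¹ * R = R * (k * n * k⁻¹) := by
      rw [hx]
      constructor
      · intro e
        calc k * n * k⁻¹ * R = k * (n * (k⁻¹ * R * k)) * k⁻¹ := by group
          _ = k * ((k⁻¹ * R * k) * n) * k⁻¹ := by rw [e]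
          _ = R * (k * n * k⁻¹) := by group
      · intro e
        calc k⁻¹ * R * k * n = k⁻¹ * (R * (k * n * k⁻¹)) * k := by group
          _ = k⁻¹ * (k * n * k⁻¹ * R) * k := by rw [e]
          _ = n * (k⁻¹ * R * k) := by group
    refine ⟨fun h => congrArg Subtype.val (key.1 (h x (Subgroup.mem_zpowers x))), fun e h hh => ?_⟩
    obtain ⟨i, rfl⟩ := Subgroup.mem_zpowers_iff.1 hh
    exact (Commute.zpow_left (key.2 (Subtype.ext e)) i).eq
  have hback : ∀ σ : Equiv.Perm GolayPt, (hσ : σ ∈ M24) →
      ((k * (k⁻¹ * ⟨σ, hσ⟩ * k) * k⁻¹ : ↥M24) : Equiv.Perm GolayPt) = σ := fun σ hσ => by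
    rw [show k * (k⁻¹ * ⟨σ, hσ⟩ * k) * k⁻¹ = (⟨σ, hσ⟩ : ↥M24) by group]
  obtain ⟨hok, hlen, hnd, hlen7, hnd7, hl, hc7, -, -, -, hnc⟩ := norm_check
  simp only [Bool.and_eq_true, List.all_eq_true, beq_iff_eq] at hok hl
  simp only [List.all_eq_true, Bool.and_eq_true, List.contains_iff_mem] at hc7
  have hok7 : ∀ h ∈ cent7, okP h = true := fun h hh => inM24_ok (hok.1 h (hc7 h hh).1)
  refine ⟨?_, ?_, ?_, (k₀⁻¹ • famDec normTrio), smul_mem_trios (inv_mem hk₀) normTrio_mem, ?_⟩
  · rw [← hlen, ← card_of_list (fun h hh => inM24_ok (hok.1 h hh)) (fun h hh => (hl h hh).1.1.1)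
      hnd norm_mem_iff]
    exact Nat.card_congr
      { toFun := fun n => ⟨_, (k * n.1 * k⁻¹ : ↥M24).2, (hn n.1).1 n.2⟩
        invFun := fun σ => ⟨k⁻¹ * ⟨σ.1, σ.2.1⟩ * k, (hn _).2 (by rw [hback]; exact σ.2.2)⟩
        left_inv := fun n => Subtype.ext (by
          show k⁻¹ * (k * n.1 * k⁻¹) * k = n.1
          group)
        right_inv := fun σ => Subtype.ext (hback _ _) }
  · rw [← hlen7, ← card_of_list hok7 (fun h hh => (hl h (hc7 h hh).1).1.1.1) hnd7 cent_mem_iff]
    exact Nat.card_congr
      { toFun := fun n => ⟨_, (k * n.1 * k⁻¹ : ↥M24).2, (hc n.1).1 n.2⟩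
        invFun := fun σ => ⟨k⁻¹ * ⟨σ.1, σ.2.1⟩ * k, (hc _).2 (by rw [hback]; exact σ.2.2)⟩
        left_inv := fun n => Subtype.ext (by
          show k⁻¹ * (k * n.1 * k⁻¹) * k = n.1
          group)
        right_inv := fun σ => Subtype.ext (hback _ _) }
  · have hA : cent7.getD 0 0 ∈ cent7 ∧ cent7.getD 8 0 ∈ cent7 := by decide +kernel
    obtain ⟨hAM, hAc⟩ := (cent_mem_iff _).2 (List.mem_map.2 ⟨_, hA.1, rfl⟩)
    obtain ⟨hBM, hBc⟩ := (cent_mem_iff _).2 (List.mem_map.2 ⟨_, hA.2, rfl⟩)
    refine ⟨k⁻¹ * ⟨_, hAM⟩ * k, (hc _).2 (by rw [hback]; exact hAc),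
      k⁻¹ * ⟨_, hBM⟩ * k, (hc _).2 (by rw [hback]; exact hBc), fun e => ?_⟩
    have e' : (⟨_, hAM⟩ * ⟨_, hBM⟩ : ↥M24) = ⟨_, hBM⟩ * ⟨_, hAM⟩ := by
      have := congrArg (fun z => k * z * k⁻¹) e
      simpa [mul_assoc] using this
    have e'' := congrArg Subtype.val e'
    obtain ⟨j, hj, hne⟩ := List.any_eq_true.1 hnc
    have hj' := List.mem_range.1 hj
    have := congrArg (fun σ => img σ j) e''
    simp only [Subgroup.coe_mul] at this
    rw [img_mul, img_mul, img_mkPerm (hok7 _ hA.1) hj', img_mkPerm (hok7 _ hA.2) hj',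
      img_mkPerm (hok7 _ hA.1) (app_lt (hok7 _ hA.2) hj'),
      img_mkPerm (hok7 _ hA.2) (app_lt (hok7 _ hA.1) hj')] at this
    exact (bne_iff_ne.1 hne) this
  · intro n hn'
    obtain ⟨y, hy, hye⟩ := List.mem_map.1
      ((norm_mem_iff _).1 ⟨(k * n * k⁻¹ : ↥M24).2, (hn n).1 hn'⟩)
    have h3 : ((k * n * k⁻¹ : ↥M24) : Equiv.Perm GolayPt) • famDec normTrio = famDec normTrio := by
      rw [← hye]
      exact fam_fix (inM24_ok (hok.1 y hy)) (List.all_eq_true.2 (hl y hy).1.2)
    have e : ((n : ↥M24) : Equiv.Perm GolayPt) * k₀⁻¹ =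
        k₀⁻¹ * ((k * n * k⁻¹ : ↥M24) : Equiv.Perm GolayPt) := by
      show _ = k₀⁻¹ * (k₀ * n * k₀⁻¹)
      group
    rw [← mul_smul, e, mul_smul, h3]

end CfsgLib.Spor.M24Elems
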