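import Cfsg.Agent.Spor.InterFacts
import Cfsg.Prelude.Def_Sporadic_a

/-!
Distances in the graph on octads.
-/

set_option autoImplicit false

namespace CfsgLib.Spor.OctadGraph

open Cfsg
open scoped Pointwise

theorem near_check : (octadList.all fun b =>
    (pop (octX &&& b) != 4 || octadList.any fun a => a &&& octX == 0 && a &&& b == 0) &&
    (pop (octX &&& b) != 2 || ((octadList.all fun a => a &&& octX != 0 || a &&& b != 0) &&
      octadList.any fun a => a &&& octX == 0 && pop (a &&& b) == 4))) = true := by decide +kernel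

theorem disjoint_iff_mask {a b : ℕ} (ha : a < 2 ^ 24) :
    Disjoint (ofMask a) (ofMask b) ↔ a &&& b = 0 := by
  rw [Finset.disjoint_iff_inter_eq_empty, ← ofMask_and, ← ofMask_zero]
  exact ofMask_eq_ofMask (lt_of_le_of_lt Nat.and_le_left ha) (by norm_num)

theorem disjoint_smul (g : Equiv.Perm GolayPt) (s t : Finset GolayPt) :
    Disjoint (g • s) (g • t) ↔ Disjoint s t := by
  rw [Finset.disjoint_iff_inter_eq_empty, ← smul_inter_perm, ← Finset.card_eq_zero, card_smul_perm,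
    Finset.card_eq_zero, ← Finset.disjoint_iff_inter_eq_empty]

/-- the neighbour facts -/
theorem near {o o' : Finset GolayPt} (ho : o ∈ octads) (ho' : o' ∈ octads) :
    ((o ∩ o').card = 4 → ∃ a ∈ octads, Disjoint o a ∧ Disjoint a o') ∧
    ((o ∩ o').card = 2 → (∀ a ∈ octads, ¬(Disjoint o a ∧ Disjoint a o')) ∧
      ∃ a ∈ octads, Disjoint o a ∧ (a ∩ o').card = 4) := by
  obtain ⟨g, hg, rfl⟩ := octad_std ho
  obtain ⟨b, hb, rfl⟩ : ∃ b ∈ octadList, g • ofMask b = o' := by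
    refine ⟨maskOf (g⁻¹ • o'), (mem_octads_iff (maskOf_lt _)).1 ?_, ?_⟩
    · rw [ofMask_maskOf]; exact smul_mem_octads (inv_mem hg) ho'
    · rw [ofMask_maskOf, smul_inv_smul]
  have lt : ∀ a ∈ octadList, a < 2 ^ 24 := fun a ha => by
    simpa using List.all_eq_true.1 octadList_lt a ha
  have mem : ∀ a ∈ octadList, g • ofMask a ∈ octads := fun a ha =>
    smul_mem_octads hg ((mem_octads_iff (lt a ha)).2 ha)
  have h := List.all_eq_true.1 near_check b hb
  simp only [Bool.and_eq_true, Bool.or_eq_true, bne_iff_ne, List.all_eq_true, List.any_eq_true,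
    beq_iff_eq] at h
  rw [← smul_inter_perm, card_smul_perm, O0, ← ofMask_and, card_ofMask]
  refine ⟨fun h4 => ?_, fun h2 => ?_⟩
  · obtain ⟨a, ha, h1, h2⟩ := h.1.resolve_left (fun h => h h4)
    refine ⟨_, mem a ha, (disjoint_smul g _ _).2 ?_, (disjoint_smul g _ _).2 ((disjoint_iff_mask (lt a ha)).2 h2)⟩
    exact ((disjoint_iff_mask (lt a ha)).2 h1).symm
  · obtain ⟨hno, a, ha, h1, h4⟩ := h.2.resolve_left (fun h => h h2)
    refine ⟨fun x hx hd => ?_, _, mem a ha,
      (disjoint_smul g _ _).2 ((disjoint_iff_mask (lt a ha)).2 h1).symm,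
      by rw [← smul_inter_perm, card_smul_perm, ← ofMask_and, card_ofMask, h4]⟩
    obtain ⟨y, rfl⟩ : ∃ y, g • y = x := ⟨g⁻¹ • x, smul_inv_smul g x⟩
    have hy : y ∈ octads := by simpa using smul_mem_octads (inv_mem hg) hx
    have hm : maskOf y ∈ octadList :=
      (mem_octads_iff (maskOf_lt y)).1 (by rwa [ofMask_maskOf])
    rw [disjoint_smul, disjoint_smul, ← ofMask_maskOf y, disjoint_comm (a := ofMask octX),
      disjoint_iff_mask (maskOf_lt y), disjoint_iff_mask (maskOf_lt y)] at hd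
    rcases hno _ hm with h | h
    · exact h hd.1
    · exact h hd.2

theorem inter_cases {o o' : Finset GolayPt} (ho : o ∈ octads) (ho' : o' ∈ octads) (hne : o ≠ o') :
    (o ∩ o').card = 0 ∨ (o ∩ o').card = 4 ∨ (o ∩ o').card = 2 := by
  obtain ⟨g, hg, rfl⟩ := octad_std ho
  have h := oo_cases hg ho'
  simp only [List.mem_cons, List.not_mem_nil, or_false] at h
  rcases h with h | h | h | h
  · exfalso
    apply hne
    have h1 : g • O0 ∩ o' = g • O0 :=
      Finset.eq_of_subset_of_card_le Finset.inter_subset_left (by rw [h, ho.2])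
    exact Finset.eq_of_subset_of_card_le (Finset.inter_eq_left.1 h1) (by rw [ho.2, ho'.2])
  · exact Or.inl h
  · exact Or.inr (Or.inl h)
  · exact Or.inr (Or.inr h)

theorem adj_iff (o o' : octads) :
    (blockGraph octads).Adj o o' ↔ Disjoint (o : Finset GolayPt) o' := by
  simp only [blockGraph, SimpleGraph.fromRel_adj]
  refine ⟨fun h => h.2.elim id fun hd => hd.symm, fun h => ⟨fun e => ?_, Or.inl h⟩⟩
  subst e
  have := o.2.2
  rw [disjoint_self] at h
  rw [h] at this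
  simp at this

theorem walks {o o' : Finset GolayPt} (ho : o ∈ octads) (ho' : o' ∈ octads) (hne : o ≠ o') :
    ((o ∩ o').card = 0 → (blockGraph octads).dist ⟨o, ho⟩ ⟨o', ho'⟩ = 1) ∧
    ((o ∩ o').card = 4 → (blockGraph octads).dist ⟨o, ho⟩ ⟨o', ho'⟩ = 2) ∧
    ((o ∩ o').card = 2 → (blockGraph octads).dist ⟨o, ho⟩ ⟨o', ho'⟩ = 3) ∧
    (blockGraph octads).Reachable ⟨o, ho⟩ ⟨o', ho'⟩ := by
  have hadj : ∀ (a b : Finset GolayPt) (ha : a ∈ octads) (hb : b ∈ octads), Disjoint a b →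
      (blockGraph octads).Adj ⟨a, ha⟩ ⟨b, hb⟩ := fun a b ha hb h => (adj_iff ⟨a, ha⟩ ⟨b, hb⟩).2 h
  have h0 : (o ∩ o').card = 0 → Disjoint o o' := fun h => by
    rwa [Finset.disjoint_iff_inter_eq_empty, ← Finset.card_eq_zero]
  have hreach : (blockGraph octads).Reachable ⟨o, ho⟩ ⟨o', ho'⟩ := by
    rcases inter_cases ho ho' hne with h | h | h
    · exact (hadj _ _ ho ho' (h0 h)).reachable
    · obtain ⟨a, ha, h1, h2⟩ := (near ho ho').1 h
      exact (hadj _ _ ho ha h1).reachable.trans (hadj _ _ ha ho' h2).reachable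
    · obtain ⟨a, ha, h1, h4⟩ := ((near ho ho').2 h).2
      obtain ⟨b, hb, h2, h3⟩ := (near ha ho').1 h4
      exact (hadj _ _ ho ha h1).reachable.trans
        ((hadj _ _ ha hb h2).reachable.trans (hadj _ _ hb ho' h3).reachable)
  have hpos : (blockGraph octads).dist ⟨o, ho⟩ ⟨o', ho'⟩ ≠ 0 := fun h =>
    hne (congrArg Subtype.val (hreach.dist_eq_zero_iff.1 h))
  have hone : (blockGraph octads).dist ⟨o, ho⟩ ⟨o', ho'⟩ = 1 → (o ∩ o').card = 0 := fun h => by
    rw [SimpleGraph.dist_eq_one_iff_adj, adj_iff] at h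
    rw [Finset.card_eq_zero, ← Finset.disjoint_iff_inter_eq_empty]
    exact h
  refine ⟨fun h => SimpleGraph.dist_eq_one_iff_adj.2 (hadj _ _ ho ho' (h0 h)), fun h => ?_,
    fun h => ?_, hreach⟩
  · obtain ⟨a, ha, h1, h2⟩ := (near ho ho').1 h
    have hle := SimpleGraph.dist_le (SimpleGraph.Walk.cons (hadj _ _ ho ha h1)
      (SimpleGraph.Walk.cons (hadj _ _ ha ho' h2) SimpleGraph.Walk.nil))
    have : (blockGraph octads).dist ⟨o, ho⟩ ⟨o', ho'⟩ ≠ 1 := fun e => by
      have := hone e; omega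
    simp at hle
    omega
  · obtain ⟨hno, a, ha, h1, h4⟩ := (near ho ho').2 h
    obtain ⟨b, hb, h2, h3⟩ := (near ha ho').1 h4
    have hle := SimpleGraph.dist_le (SimpleGraph.Walk.cons (hadj _ _ ho ha h1)
      (SimpleGraph.Walk.cons (hadj _ _ ha hb h2)
        (SimpleGraph.Walk.cons (hadj _ _ hb ho' h3) SimpleGraph.Walk.nil)))
    have n1 : (blockGraph octads).dist ⟨o, ho⟩ ⟨o', ho'⟩ ≠ 1 := fun e => by
      have := hone e; omega
    have n2 : (blockGraph octads).dist ⟨o, ho⟩ ⟨o', ho'⟩ ≠ 2 := fun e => by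
      obtain ⟨p, hp⟩ := hreach.exists_walk_length_eq_dist
      rw [e] at hp
      match p, hp with
      | .cons (v := c) hc (.cons hd .nil), _ =>
        exact hno c.1 c.2 ⟨(adj_iff _ _).1 hc, (adj_iff _ _).1 hd⟩
    simp at hle
    omega

theorem distances {o o' : Finset GolayPt} (ho : o ∈ octads) (ho' : o' ∈ octads) (hne : o ≠ o') :
    (blockGraph octads).Connected ∧
      ((blockGraph octads).dist ⟨o, ho⟩ ⟨o', ho'⟩ = 1 ↔ (o ∩ o').card = 0) ∧
      ((blockGraph octads).dist ⟨o, ho⟩ ⟨o', ho'⟩ = 2 ↔ (o ∩ o').card = 4) ∧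
      ((blockGraph octads).dist ⟨o, ho⟩ ⟨o', ho'⟩ = 3 ↔ (o ∩ o').card = 2) := by
  haveI : Nonempty octads := ⟨⟨o, ho⟩⟩
  refine ⟨⟨fun x y => ?_⟩, ?_⟩
  · by_cases h : x = y
    · exact h ▸ SimpleGraph.Reachable.refl x
    · exact (walks x.2 y.2 fun e => h (Subtype.ext e)).2.2.2
  obtain ⟨w0, w4, w2, -⟩ := walks ho ho' hne
  rcases inter_cases ho ho' hne with h | h | h
  · simp [h, w0 h]
  · simp [h, w4 h]
  · simp [h, w2 h]

end CfsgLib.Spor.OctadGraph
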