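import Mathlib

/-!
A point stabiliser is maximal when no union of suborbit sizes, plus one, properly divides the degree.
-/

set_option autoImplicit false

namespace CfsgLib.Spor

/-- all sums of sub-lists -/
def subSums : List ℕ → List ℕ
  | [] => [0]
  | a :: l => subSums l ++ (subSums l).map (fun s => a + s)

/-- the arithmetic primitivity test -/
def primTest (n : ℕ) (l : List ℕ) : Bool :=
  decide (l.sum + 1 = n) && (subSums l).all fun s => s == 0 || s + 1 == n || n % (s + 1) != 0

theorem ncard_inter_flatten {X : Type*} (B : Set X) :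
    ∀ (Os : List (Finset X)), (∀ O ∈ Os, (↑O : Set X) ⊆ B ∨ Disjoint (↑O : Set X) B) →
      Os.Pairwise Disjoint →
      (B ∩ {y | ∃ O ∈ Os, y ∈ O}).ncard ∈ subSums (Os.map Finset.card) := by
  classical
  intro Os
  induction Os with
  | nil => intro _ _; simp [subSums]
  | cons O Os ih =>
    intro hB hd
    rw [List.pairwise_cons] at hd
    have ih' := ih (fun O' h' => hB O' (List.mem_cons_of_mem _ h')) hd.2
    simp only [List.map_cons, subSums, List.mem_append, List.mem_map]
    rcases hB O List.mem_cons_self with h | h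
    · refine Or.inr ⟨_, ih', ?_⟩
      have e : B ∩ {y | ∃ O' ∈ O :: Os, y ∈ O'} = ↑O ∪ (B ∩ {y | ∃ O' ∈ Os, y ∈ O'}) := by
        ext y
        simp only [List.mem_cons, exists_eq_or_imp, Set.mem_inter_iff, Set.mem_setOf_eq,
          Set.mem_union, Finset.mem_coe]
        constructor
        · rintro ⟨hy, h1 | h1⟩
          · exact Or.inl h1
          · exact Or.inr ⟨hy, h1⟩
        · rintro (h1 | ⟨hy, h1⟩)
          · exact ⟨h h1, Or.inl h1⟩
          · exact ⟨hy, Or.inr h1⟩
      have hdis : Disjoint (↑O : Set X) (B ∩ {y | ∃ O' ∈ Os, y ∈ O'}) := by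
        rw [Set.disjoint_left]
        rintro y hy ⟨-, O', hO', hy'⟩
        exact Finset.disjoint_left.1 (hd.1 O' hO') hy hy'
      have hfin : (B ∩ {y | ∃ O' ∈ Os, y ∈ O'}).Finite := by
        refine Set.Finite.subset (List.finite_toSet Os |>.biUnion fun O' _ => O'.finite_toSet) ?_
        rintro y ⟨-, O', hO', hy'⟩
        exact Set.mem_biUnion hO' hy'
      rw [e, Set.ncard_union_eq hdis O.finite_toSet hfin, Set.ncard_coe_finset]
    · refine Or.inl ?_
      have e : B ∩ {y | ∃ O' ∈ O :: Os, y ∈ O'} = B ∩ {y | ∃ O' ∈ Os, y ∈ O'} := by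
        ext y
        simp only [List.mem_cons, exists_eq_or_imp, Set.mem_inter_iff, Set.mem_setOf_eq]
        constructor
        · rintro ⟨hy, h1 | h1⟩
          · exact absurd hy (Set.disjoint_left.1 h h1)
          · exact ⟨hy, h1⟩
        · rintro ⟨hy, h1⟩; exact ⟨hy, Or.inr h1⟩
      rwa [e]

theorem isCoatom_stabilizer_of_suborbits {G X : Type*} [Group G] [Finite G] [MulAction G X]
    (x : X) (Os : List (Finset X)) {n : ℕ}
    (hn : (MulAction.orbit G x).ncard = n) (h1n : n ≠ 1)
    (hOs : ∀ O ∈ Os, ∀ y ∈ O, (↑O : Set X) ⊆ MulAction.orbit (MulAction.stabilizer G x) y)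
    (hpair : Os.Pairwise Disjoint) (hx : ∀ O ∈ Os, x ∉ O)
    (hcov : MulAction.orbit G x ⊆ {x} ∪ {y | ∃ O ∈ Os, y ∈ O})
    (ht : primTest n (Os.map Finset.card) = true) :
    IsCoatom (MulAction.stabilizer G x) := by
  classical
  simp only [primTest, Bool.and_eq_true, decide_eq_true_eq, List.all_eq_true, Bool.or_eq_true,
    beq_iff_eq, bne_iff_ne, ne_eq] at ht
  obtain ⟨hsum, hdiv⟩ := ht
  set H := MulAction.stabilizer G x with hH
  refine ⟨fun h => h1n ?_, fun K hK => ?_⟩
  · rw [← hn, ← MulAction.index_stabilizer, ← hH, h, Subgroup.index_top]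
  · set B := MulAction.orbit K x with hB
    have hBfin : B.Finite := Set.finite_range _
    have hinv : ∀ g ∈ H, ∀ y ∈ B, g • y ∈ B := by
      rintro g hg _ ⟨k, rfl⟩
      exact ⟨⟨g, hK.le hg⟩ * k, (mul_smul _ _ _)⟩
    have hdich : ∀ O ∈ Os, (↑O : Set X) ⊆ B ∨ Disjoint (↑O : Set X) B := by
      intro O hO
      by_cases h : ∃ y ∈ O, y ∈ B
      · obtain ⟨y, hy, hyB⟩ := h
        refine Or.inl fun z hz => ?_
        obtain ⟨g, rfl⟩ := hOs O hO y hy hz
        exact hinv g g.2 y hyB
      · exact Or.inr (Set.disjoint_left.2 fun y hy hyB => h ⟨y, hy, hyB⟩)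
    have hmem := ncard_inter_flatten B Os hdich hpair
    have hBsub : B ⊆ MulAction.orbit G x := by rintro _ ⟨k, rfl⟩; exact ⟨k, rfl⟩
    have hxB : x ∈ B := MulAction.mem_orbit_self x
    have hBe : B = insert x (B ∩ {y | ∃ O ∈ Os, y ∈ O}) := by
      ext y
      simp only [Set.mem_insert_iff, Set.mem_inter_iff]
      constructor
      · intro hy
        rcases hcov (hBsub hy) with h | h
        · exact Or.inl h
        · exact Or.inr ⟨hy, h⟩
      · rintro (rfl | ⟨hy, -⟩)
        exacts [hxB, hy]
    have hBcard : B.ncard = (B ∩ {y | ∃ O ∈ Os, y ∈ O}).ncard + 1 := by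
      conv_lhs => rw [hBe]
      refine Set.ncard_insert_of_notMem ?_ (hBfin.inter_of_left _)
      rintro ⟨-, O, hO, hxO⟩
      exact hx O hO hxO
    have hBdvd : B.ncard ∣ n := by
      have e1 : (MulAction.stabilizer K x) = H.subgroupOf K := rfl
      have e2 : B.ncard = H.relIndex K := by
        rw [hB, ← MulAction.index_stabilizer, e1]; rfl
      rw [e2, ← hn, ← MulAction.index_stabilizer]
      exact Subgroup.relIndex_dvd_index_of_le hK.le
    rcases hdiv _ hmem with (h | h) | h
    · exfalso
      apply not_le_of_gt hK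
      intro k hk
      have hkx : k • x ∈ B := ⟨⟨k, hk⟩, rfl⟩
      rw [hBe] at hkx
      rcases Set.mem_insert_iff.1 hkx with h' | h'
      · exact h'
      · rw [(Set.ncard_eq_zero (hBfin.inter_of_left _)).1 h] at h'
        exact absurd h' (Set.notMem_empty _)
    · have hBeq : B = MulAction.orbit G x :=
        Set.eq_of_subset_of_ncard_le hBsub (by omega) (Set.finite_range _)
      rw [eq_top_iff]
      intro g _
      have : g • x ∈ B := hBeq ▸ MulAction.mem_orbit x g
      obtain ⟨k, hk⟩ := this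
      have hm : (k : G)⁻¹ * g ∈ H := by
        rw [hH, MulAction.mem_stabilizer_iff, mul_smul, ← hk]
        exact inv_smul_smul (k : G) x
      have := K.mul_mem k.2 (hK.le hm)
      rwa [mul_inv_cancel_left] at this
    · exfalso
      apply h
      rw [← hBcard]
      exact Nat.mod_eq_zero_of_dvd hBdvd

end CfsgLib.Spor
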