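import Cfsg.Agent.Spor.Kinds

/-!
Orbits of a certified subgroup on a finite set of coded objects: closure and covering certificates,
and transport along conjugation.
-/

set_option autoImplicit false

namespace CfsgLib.Spor

open Cfsg
open scoped Pointwise

/-- equality of lists as multisets, by recursion on binary digits -/
def sameB : ℕ → List ℕ → List ℕ → Bool
  | _, [], m => m.isEmpty
  | _, [a], m => m == [a]
  | 0, _ :: _ :: _, _ => false
  | n + 1, l, m =>
    sameB n ((l.filter fun x => x % 2 == 0).map fun x => x / 2)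
        ((m.filter fun x => x % 2 == 0).map fun x => x / 2) &&
      sameB n ((l.filter fun x => x % 2 == 1).map fun x => x / 2)
        ((m.filter fun x => x % 2 == 1).map fun x => x / 2)

theorem mem_of_sameB : ∀ (n : ℕ) (l m : List ℕ), sameB n l m = true → ∀ x ∈ l, x ∈ m
  | _, [], _, _ => by simp
  | _, [a], m, h => by
    simp only [sameB, beq_iff_eq] at h
    intro x hx
    rw [h]; exact hx
  | 0, _ :: _ :: _, _, h => by simp [sameB] at h
  | n + 1, a :: b :: l, m, h => by
    simp only [sameB, Bool.and_eq_true] at h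
    intro x hx
    rcases Nat.mod_two_eq_zero_or_one x with hp | hp
    · have := mem_of_sameB n _ _ h.1 (x / 2)
        (List.mem_map.2 ⟨x, List.mem_filter.2 ⟨hx, by simp [hp]⟩, rfl⟩)
      obtain ⟨y, hy, he⟩ := List.mem_map.1 this
      obtain ⟨hy1, hy2⟩ := List.mem_filter.1 hy
      have hy3 : y % 2 = 0 := by simpa using hy2
      rwa [show x = y by omega]
    · have := mem_of_sameB n _ _ h.2 (x / 2)
        (List.mem_map.2 ⟨x, List.mem_filter.2 ⟨hx, by simp [hp]⟩, rfl⟩)
      obtain ⟨y, hy, he⟩ := List.mem_map.1 this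
      obtain ⟨hy1, hy2⟩ := List.mem_filter.1 hy
      have hy3 : y % 2 = 1 := by simpa using hy2
      rwa [show x = y by omega]

variable {α X : Type} [MulAction (Equiv.Perm GolayPt) X]

/-- a list of codes is closed under the generators -/
def Kind.closedB (K : Kind α X) (gs : List GT) (L : List α) : Bool :=
  gs.all fun g => (L.map (K.im g)).all K.okv &&
    sameB 120 ((L.map (K.im g)).map K.key) (L.map K.key)

/-- a separating function on a set of objects, compatible with the keys of the codes -/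
structure Total (K : Kind α X) where
  /-- the set -/
  carrier : Set X
  /-- the separating function -/
  keyX : X → ℕ
  inj : Set.InjOn keyX carrier
  key_eq : ∀ a, K.okv a = true → K.key a = keyX (K.dec a)
  smul_mem : ∀ g ∈ M24, ∀ x ∈ carrier, g • x ∈ carrier

theorem Kind.suborbit [DecidableEq X] (K : Kind α X) (T : Total K) {gs : List GT} {a : α}
    {toks : List ℕ} (hM : gtGroup gs ≤ M24) (ha : K.dec a ∈ T.carrier)
    (horb : K.orbOK gs a toks = true) (hcl : K.closedB gs (K.orb gs a toks) = true) :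
    MulAction.orbit (gtGroup gs) (K.dec a) = {y | y ∈ (K.orb gs a toks).map K.dec} ∧
      (MulAction.orbit (gtGroup gs) (K.dec a)).ncard = toks.length + 1 ∧
      (∀ b ∈ K.orb gs a toks, K.dec b ∈ T.carrier) := by
  obtain ⟨-, hcard, hsub⟩ := K.orb_facts horb
  have horb' := horb
  simp only [Kind.orbOK, Bool.and_eq_true, List.all_eq_true] at horb'
  obtain ⟨hg, hv, -⟩ := horb'
  simp only [Kind.closedB, List.all_eq_true, Bool.and_eq_true] at hcl
  have hmemT : ∀ y ∈ MulAction.orbit (gtGroup gs) (K.dec a), y ∈ T.carrier := by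
    rintro _ ⟨k, rfl⟩
    exact T.smul_mem k (hM k.2) _ ha
  have hin : ∀ b ∈ K.orb gs a toks, K.dec b ∈ MulAction.orbit (gtGroup gs) (K.dec a) := fun b hb =>
    hsub (by simpa using ⟨b, hb, rfl⟩)
  have hstep : ∀ g ∈ gs, ∀ b ∈ K.orb gs a toks,
      g.perm • K.dec b ∈ {y | y ∈ (K.orb gs a toks).map K.dec} := by
    intro g hg' b hb
    obtain ⟨h1, h2⟩ := hcl g hg'
    have hk : K.key (K.im g b) ∈ (K.orb gs a toks).map K.key :=
      mem_of_sameB _ _ _ h2 _ (List.mem_map_of_mem (List.mem_map_of_mem hb))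
    obtain ⟨c, hc, he⟩ := List.mem_map.1 hk
    refine List.mem_map.2 ⟨c, hc, ?_⟩
    rw [T.key_eq _ (h1 _ (List.mem_map_of_mem hb)), T.key_eq _ (hv c hc), ← K.him g (hg g hg')] at he
    exact T.inj (hmemT _ (hin c hc))
      (T.smul_mem _ (hM (mem_gtGroup hg')) _ (hmemT _ (hin b hb))) he
  have hset : MulAction.orbit (gtGroup gs) (K.dec a) = {y | y ∈ (K.orb gs a toks).map K.dec} := by
    refine Set.Subset.antisymm ?_ (by intro y hy; obtain ⟨b, hb, rfl⟩ := List.mem_map.1 hy; exact hin b hb)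
    have hfix : gtGroup gs ≤ MulAction.stabilizer (Equiv.Perm GolayPt)
        ({y | y ∈ (K.orb gs a toks).map K.dec} : Set X) := by
      refine gtGroup_le fun g hg' => ?_
      rw [MulAction.mem_stabilizer_iff]
      refine Set.eq_of_subset_of_ncard_le ?_ (Set.ncard_smul_set _ _).ge
        (List.finite_toSet _)
      rintro _ ⟨y, hy, rfl⟩
      obtain ⟨b, hb, rfl⟩ := List.mem_map.1 hy
      exact hstep g hg' b hb
    rintro _ ⟨k, rfl⟩
    have h0 : K.dec a ∈ {y | y ∈ (K.orb gs a toks).map K.dec} := by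
      refine List.mem_map.2 ⟨a, ?_, rfl⟩
      have key : ∀ (toks : List ℕ) (stack acc : List α), a ∈ acc →
          a ∈ unfoldTree (gs.map K.im) toks stack acc := by
        intro toks
        induction toks with
        | nil => intro _ _ h; exact h
        | cons t ts ih =>
          intro stack acc h
          simp only [unfoldTree]
          split
          · exact ih _ _ (List.mem_cons_of_mem _ h)
          · exact h
      exact key _ _ _ (by simp)
    have hk : (k : Equiv.Perm GolayPt) • {y | y ∈ (K.orb gs a toks).map K.dec} =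
        {y | y ∈ (K.orb gs a toks).map K.dec} := MulAction.mem_stabilizer_iff.1 (hfix k.2)
    show (k : Equiv.Perm GolayPt) • K.dec a ∈ _
    rw [← hk]
    exact Set.smul_mem_smul_set h0
  refine ⟨hset, ?_, fun b hb => hmemT _ (hin b hb)⟩
  rw [hset, ← List.coe_toFinset, Set.ncard_coe_finset, hcard]

/-- lists with jointly distinct keys, inside a set of their total length, cover it -/
theorem Kind.cover [DecidableEq X] (K : Kind α X) (T : Total K) (Ls : List (List α))
    (hv : (Ls.flatten.all K.okv) = true) (hnd : nodupB 120 (Ls.flatten.map K.key) = true)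
    (hsub : ∀ L ∈ Ls, ∀ b ∈ L, K.dec b ∈ T.carrier) (hfin : T.carrier.Finite)
    (hlen : T.carrier.ncard ≤ Ls.flatten.length) :
    T.carrier = {y | ∃ L ∈ Ls, y ∈ L.map K.dec} := by
  have hn := nodup_of_nodupB _ _ hnd
  have hv' := List.all_eq_true.1 hv
  have hnd' : (Ls.flatten.map K.dec).Nodup := by
    refine List.Nodup.map_on ?_ (List.Nodup.of_map _ hn)
    intro x hx y hy hxy
    exact List.inj_on_of_nodup_map hn hx hy (K.hkey x y (hv' x hx) (hv' y hy) hxy)
  symm
  refine Set.eq_of_subset_of_ncard_le ?_ ?_ hfin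
  · rintro y ⟨L, hL, hy⟩
    obtain ⟨b, hb, rfl⟩ := List.mem_map.1 hy
    exact hsub L hL b hb
  · have e : {y | ∃ L ∈ Ls, y ∈ L.map K.dec} = {y | y ∈ Ls.flatten.map K.dec} := by
      ext y
      simp only [Set.mem_setOf_eq, List.mem_map, List.mem_flatten]
      constructor
      · rintro ⟨L, hL, b, hb, rfl⟩; exact ⟨b, ⟨L, hL, hb⟩, rfl⟩
      · rintro ⟨b, ⟨L, hL, hb⟩, rfl⟩; exact ⟨L, hL, b, hb, rfl⟩
    rw [e, ← List.coe_toFinset, Set.ncard_coe_finset, List.toFinset_card_of_nodup hnd',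
      List.length_map]
    exact hlen

/-- masks separate subsets -/
def maskTotal (C : Set (Finset GolayPt)) (h : ∀ g ∈ M24, ∀ x ∈ C, g • x ∈ C) : Total maskK where
  carrier := C
  keyX := maskOf
  inj x _ y _ he := by rw [← ofMask_maskOf x, he, ofMask_maskOf]
  key_eq a _ := by
    show a % 2 ^ 24 = maskOf (ofMask a)
    rw [← ofMask_mod a, maskOf_ofMask (Nat.mod_lt _ (by norm_num))]
  smul_mem := h

/-- the key of a family -/
def famKeyX (S : Finset (Finset GolayPt)) : ℕ := ∑ s ∈ S, mix (maskOf s)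

theorem famKeyX_injOn {gs : List GT} {a : List ℕ} {toks : List ℕ}
    (h : famK.orbOK gs a toks = true) :
    Set.InjOn famKeyX {y | y ∈ (famK.orb gs a toks).map famK.dec} := by
  simp only [Kind.orbOK, Bool.and_eq_true, List.all_eq_true] at h
  obtain ⟨-, hv, hnd, -⟩ := h
  have hn := nodup_of_nodupB _ _ hnd
  intro x hx y hy he
  obtain ⟨b, hb, rfl⟩ := List.mem_map.1 hx
  obtain ⟨c, hc, rfl⟩ := List.mem_map.1 hy
  have : famK.key b = famK.key c := by
    have hb' : famKeyX (famDec b) = famK.key b := famKey_eq b (hv b hb)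
    have hc' : famKeyX (famDec c) = famK.key c := famKey_eq c (hv c hc)
    rw [← hb', ← hc']; exact he
  rw [List.inj_on_of_nodup_map hn hb hc this]

/-! ### transport -/

theorem orbit_stab_subtype {Y Z : Type*} [MulAction (Equiv.Perm GolayPt) Y]
    [MulAction (Equiv.Perm GolayPt) Z] (y : Y) (z : Z) :
    MulAction.orbit (MulAction.stabilizer M24 y) z =
      MulAction.orbit ↥(M24 ⊓ MulAction.stabilizer (Equiv.Perm GolayPt) y) z := by
  ext w
  constructor
  · rintro ⟨⟨⟨g, hg⟩, hy⟩, rfl⟩; exact ⟨⟨g, hg, hy⟩, rfl⟩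
  · rintro ⟨⟨g, hg, hy⟩, rfl⟩; exact ⟨⟨⟨g, hg⟩, hy⟩, rfl⟩

theorem orbit_stab_smul {Y Z : Type*} [MulAction (Equiv.Perm GolayPt) Y]
    [MulAction (Equiv.Perm GolayPt) Z] {σ : Equiv.Perm GolayPt} (hσ : σ ∈ M24) (y : Y) (z : Z) :
    MulAction.orbit ↥(M24 ⊓ MulAction.stabilizer (Equiv.Perm GolayPt) (σ • y)) (σ • z) =
      σ • MulAction.orbit ↥(M24 ⊓ MulAction.stabilizer (Equiv.Perm GolayPt) y) z := by
  ext w
  simp only [Set.mem_smul_set]
  constructor
  · rintro ⟨⟨g, hg0, hy0⟩, rfl⟩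
    have hg : g ∈ M24 := hg0
    have hy : g • σ • y = σ • y := hy0
    have hmem : σ⁻¹ * g * σ ∈ M24 ⊓ MulAction.stabilizer (Equiv.Perm GolayPt) y :=
      Subgroup.mem_inf.2 ⟨mul_mem (mul_mem (inv_mem hσ) hg) hσ,
        MulAction.mem_stabilizer_iff.2 (by rw [mul_smul, mul_smul, hy, inv_smul_smul])⟩
    refine ⟨(σ⁻¹ * g * σ) • z, ⟨⟨_, hmem⟩, rfl⟩, ?_⟩
    show σ • (σ⁻¹ * g * σ) • z = g • σ • z
    rw [← mul_smul, ← mul_smul]
    congr 1; group
  · rintro ⟨_, ⟨⟨g, hg0, hy0⟩, rfl⟩, rfl⟩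
    have hg : g ∈ M24 := hg0
    have hy : g • y = y := hy0
    have hmem : σ * g * σ⁻¹ ∈ M24 ⊓ MulAction.stabilizer (Equiv.Perm GolayPt) (σ • y) :=
      Subgroup.mem_inf.2 ⟨mul_mem (mul_mem hσ hg) (inv_mem hσ),
        MulAction.mem_stabilizer_iff.2 (by rw [mul_smul, mul_smul, inv_smul_smul, hy])⟩
    refine ⟨⟨_, hmem⟩, ?_⟩
    show (σ * g * σ⁻¹) • σ • z = σ • g • z
    rw [mul_smul, mul_smul, inv_smul_smul]

theorem ncard_orbit_stab_smul {Y Z : Type*} [MulAction (Equiv.Perm GolayPt) Y]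
    [MulAction (Equiv.Perm GolayPt) Z] {σ : Equiv.Perm GolayPt} (hσ : σ ∈ M24) (y : Y) (z : Z) :
    (MulAction.orbit ↥(M24 ⊓ MulAction.stabilizer (Equiv.Perm GolayPt) (σ • y)) (σ • z)).ncard =
      (MulAction.orbit ↥(M24 ⊓ MulAction.stabilizer (Equiv.Perm GolayPt) y) z).ncard := by
  rw [orbit_stab_smul hσ, Set.ncard_smul_set]

end CfsgLib.Spor
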