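import Cfsg.Agent.Spor.M24Trios
import Cfsg.Agent.Spor.M24Sextets
import Cfsg.Agent.Spor.M24Dodecads
import Cfsg.Agent.Spor.Suborbit
import Cfsg.Agent.Spor.Maximal

/-!
The four standard sets of objects as totals; from suborbit certificates at a base object to
statements about an arbitrary one.
-/

set_option autoImplicit false

namespace CfsgLib.Spor

open Cfsg
open scoped Pointwise

/-- octads as a total -/
def octT : Total maskK := maskTotal octads fun _ hg _ hx => smul_mem_octads hg hx

/-- dodecads as a total -/
def dodT : Total maskK := maskTotal dodecads fun _ hg _ hx => smul_mem_dodecads hg hx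

theorem famKey_spec (a : List ℕ) (h : famK.okv a = true) : famK.key a = famKeyX (famK.dec a) :=
  (famKey_eq a h).symm

/-- sextets as a total -/
def sextT : Total famK where
  carrier := sextets
  keyX := famKeyX
  inj := by
    have e : sextets = {y | y ∈ (famK.orb (chainTop m24Chain) sextX sextToks).map famK.dec} := by
      rw [sextets_eq_orbit]; exact sext_exact.2.2
    rw [e]; exact famKeyX_injOn sext_orbOK
  key_eq := famKey_spec
  smul_mem _ hg _ hx := smul_mem_sextets hg hx

/-- trios as a total -/
def trioT : Total famK where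
  carrier := trios
  keyX := famKeyX
  inj := by
    have e : trios = {y | y ∈ (famK.orb (chainTop m24Chain) trioX trioToks).map famK.dec} := by
      rw [trios_eq_orbit]; exact trio_exact.2.2
    rw [e]; exact famKeyX_injOn trio_orbOK
  key_eq := famKey_spec
  smul_mem _ hg _ hx := smul_mem_trios hg hx

/-! ### validity tests for codes -/

/-- a code of a sextet -/
def sextVal (l : List ℕ) : Bool :=
  nodupB 24 (l.map fun m => m % 2 ^ 24) && decide (l.length = 6) && l.all fun m =>
    pop m == 4 && l.all fun m' => m == m' || octadList.contains (m ||| m')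

/-- a code of a trio -/
def trioVal (l : List ℕ) : Bool :=
  nodupB 24 (l.map fun m => m % 2 ^ 24) && decide (l.length = 3) && l.all fun m =>
    octadList.contains m && l.all fun m' => m == m' || m &&& m' == 0

/-- a code of an octad -/
def octVal (m : ℕ) : Bool := octadList.contains m

/-- a code of a dodecad -/
def dodVal (m : ℕ) : Bool := inCode m && pop m == 12

theorem mem_of_octVal {m : ℕ} (h : octVal m = true) : maskK.dec m ∈ octads :=
  (mem_octads_iff (by simpa using List.all_eq_true.1 octadList_lt m (List.contains_iff_mem.1 h))).2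
    (List.contains_iff_mem.1 h)

theorem mem_of_dodVal {m : ℕ} (h : dodVal m = true) : maskK.dec m ∈ dodecads := by
  simp only [dodVal, Bool.and_eq_true, beq_iff_eq] at h
  exact ⟨(ofMask_mem_Code (inCode_lt h.1)).2 h.1, (card_ofMask m).trans h.2⟩

theorem famDec_card {l : List ℕ} (h : nodupB 24 (l.map fun m => m % 2 ^ 24) = true) :
    (famDec l).card = l.length := by
  have hn := nodup_of_nodupB _ _ h
  rw [famDec, List.toFinset_card_of_nodup, List.length_map]
  refine List.Nodup.map_on ?_ (List.Nodup.of_map _ hn)
  intro x hx y hy he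
  exact List.inj_on_of_nodup_map hn hx hy (mask_mod_eq he)

theorem mem_of_sextVal {l : List ℕ} (h : sextVal l = true) : famK.dec l ∈ sextets := by
  simp only [sextVal, Bool.and_eq_true, decide_eq_true_eq, List.all_eq_true, beq_iff_eq,
    Bool.or_eq_true, List.contains_iff_mem] at h
  obtain ⟨⟨h1, h2⟩, h3⟩ := h
  refine ⟨(famDec_card h1).trans h2, ?_, ?_⟩
  · intro t ht
    simp only [famK, famDec, List.mem_toFinset, List.mem_map] at ht
    obtain ⟨m, hm, rfl⟩ := ht
    rw [card_ofMask, (h3 m hm).1]
  · intro t ht u hu hne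
    simp only [famK, famDec, List.mem_toFinset, List.mem_map] at ht hu
    obtain ⟨m, hm, rfl⟩ := ht
    obtain ⟨m', hm', rfl⟩ := hu
    rcases (h3 m hm).2 m' hm' with rfl | h'
    · exact absurd rfl hne
    · rw [← ofMask_or]
      exact mem_of_octVal (List.contains_iff_mem.2 h')

theorem mem_of_trioVal {l : List ℕ} (h : trioVal l = true) : famK.dec l ∈ trios := by
  simp only [trioVal, Bool.and_eq_true, decide_eq_true_eq, List.all_eq_true, beq_iff_eq,
    Bool.or_eq_true, List.contains_iff_mem] at h
  obtain ⟨⟨h1, h2⟩, h3⟩ := h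
  refine ⟨(famDec_card h1).trans h2, ?_, ?_⟩
  · intro t ht
    simp only [famK, famDec, List.mem_toFinset, List.mem_map] at ht
    obtain ⟨m, hm, rfl⟩ := ht
    exact mem_of_octVal (List.contains_iff_mem.2 (h3 m hm).1)
  · intro t ht u hu hne
    simp only [famK, famDec, List.mem_toFinset, List.mem_map] at ht hu
    obtain ⟨m, hm, rfl⟩ := ht
    obtain ⟨m', hm', rfl⟩ := hu
    rcases (h3 m hm).2 m' hm' with rfl | h'
    · exact absurd rfl hne
    · rw [Finset.disjoint_iff_inter_eq_empty, ← ofMask_and, h', ofMask_zero]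

variable {Y Z : Type} [MulAction (Equiv.Perm GolayPt) Y] [MulAction (Equiv.Perm GolayPt) Z]

/-- transporting a suborbit size and partition from the base object -/
theorem orbit_stab_std {σ : Equiv.Perm GolayPt} (hσ : σ ∈ M24) {y : Y} {gs : List GT}
    (hst : M24 ⊓ MulAction.stabilizer (Equiv.Perm GolayPt) y = gtGroup gs) (z : Z) :
    MulAction.orbit (MulAction.stabilizer M24 (σ • y)) (σ • z) =
      σ • MulAction.orbit (gtGroup gs) z := by
  rw [orbit_stab_subtype, orbit_stab_smul hσ, hst]

theorem ncard_orbit_stab_std {σ : Equiv.Perm GolayPt} (hσ : σ ∈ M24) {y : Y} {gs : List GT}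
    (hst : M24 ⊓ MulAction.stabilizer (Equiv.Perm GolayPt) y = gtGroup gs) (z : Z) :
    (MulAction.orbit (MulAction.stabilizer M24 (σ • y)) (σ • z)).ncard =
      (MulAction.orbit (gtGroup gs) z).ncard := by
  rw [orbit_stab_std hσ hst, Set.ncard_smul_set]

theorem smul_carrier {α : Type} {K : Kind α Z} (T : Total K) {σ : Equiv.Perm GolayPt}
    (hσ : σ ∈ M24) : σ • T.carrier = T.carrier := by
  refine Set.Subset.antisymm ?_ ?_
  · rintro _ ⟨x, hx, rfl⟩; exact T.smul_mem σ hσ x hx
  · intro x hx
    exact ⟨σ⁻¹ • x, T.smul_mem _ (inv_mem hσ) x hx, smul_inv_smul σ x⟩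

theorem coatom_transport {y : Y} {z : Y} (g : M24) (hz : g • y = z)
    (h : IsCoatom (MulAction.stabilizer M24 y)) : IsCoatom (MulAction.stabilizer M24 z) := by
  subst hz
  rw [MulAction.stabilizer_smul_eq_stabilizer_map_conj]
  exact (OrderIso.isCoatom_iff (MulAut.conj g).mapSubgroup _).2 h

end CfsgLib.Spor
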