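import Cfsg.Agent.Spor.M24Data

/-!
The order of the automorphism group of the code, its generation and multiple transitivity.
-/

set_option autoImplicit false

namespace CfsgLib.Spor

open Cfsg
open scoped Pointwise

theorem m24Chain_ok : chainOK m24Chain = true := by decide +kernel

theorem m24Chain_size : chainSize m24Chain = 244823040 := by decide +kernel

theorem m24Gens_mem : (chainTop m24Chain).all (fun g => inM24 g.P) = true := by decide +kernel

theorem gtGroup_m24_le : gtGroup (chainTop m24Chain) ≤ M24 :=
  gtGroup_le fun g hg => mkPerm_mem_M24 (List.all_eq_true.1 m24Gens_mem g hg)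

theorem le_card_M24 : 244823040 ≤ Nat.card M24 := by
  rw [← m24Chain_size]
  exact le_trans (chain_card_le _ m24Chain_ok) (Subgroup.card_le_of_le gtGroup_m24_le)

/-! ### the pointwise fixer of the base -/

/-- the set computed by a closure step -/
def closVal (k a b : ℕ) : ℕ := a &&& (if k == 1 then b else FULL ^^^ b)

/-- run a closure program: known invariant masks and the mask of fixed points -/
def closRun : List (ℕ × ℕ × ℕ) → List ℕ → ℕ → ℕ
  | [], _, f => f
  | (k, a, b) :: ts, known, f =>
    if k == 0 then
      if octadList.contains a && decide (5 ≤ pop (a &&& f)) then closRun ts (a :: known) f else f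
    else
      if known.contains a && known.contains b then
        closRun ts (closVal k a b :: known)
          (if pop (closVal k a b) == 1 then f ||| closVal k a b else f)
      else f

theorem smul_inter_perm (σ : Equiv.Perm GolayPt) (s t : Finset GolayPt) :
    σ • (s ∩ t) = σ • s ∩ σ • t := by
  simp only [smul_eq_image]; exact Finset.image_inter _ _ σ.injective

theorem smul_compl_perm (σ : Equiv.Perm GolayPt) (s : Finset GolayPt) :
    σ • sᶜ = (σ • s)ᶜ := by
  ext q
  obtain ⟨p, rfl⟩ := σ.surjective q
  simp [mem_smul_iff]

theorem closVal_fixed {σ : Equiv.Perm GolayPt} {k a b : ℕ} (ha : σ • ofMask a = ofMask a)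
    (hb : σ • ofMask b = ofMask b) : σ • ofMask (closVal k a b) = ofMask (closVal k a b) := by
  unfold closVal
  split_ifs
  · rw [ofMask_and, smul_inter_perm, ha, hb]
  · rw [ofMask_and, ofMask_compl, smul_inter_perm, smul_compl_perm, ha, hb]

theorem octadList_lt : octadList.all (fun m => decide (m < 2 ^ 24)) = true := by decide +kernel

theorem closRun_fixed {σ : Equiv.Perm GolayPt} (hσ : σ ∈ M24) :
    ∀ (ts : List (ℕ × ℕ × ℕ)) (known : List ℕ) (f : ℕ),
      (∀ m ∈ known, σ • ofMask m = ofMask m) → (∀ p ∈ ofMask f, σ p = p) →
        ∀ p ∈ ofMask (closRun ts known f), σ p = p := by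
  intro ts
  induction ts with
  | nil => intro _ _ _ hf; exact hf
  | cons t ts ih =>
    obtain ⟨k, a, b⟩ := t
    intro known f hk hf
    unfold closRun
    by_cases h1 : (k == 0) = true
    · rw [if_pos h1]
      by_cases h2 : (octadList.contains a && decide (5 ≤ pop (a &&& f))) = true
      · rw [if_pos h2]
        simp only [Bool.and_eq_true, decide_eq_true_eq, List.contains_iff_mem] at h2
        refine ih _ _ ?_ hf
        intro m hm
        rcases List.mem_cons.1 hm with rfl | hm
        · have hlt : m < 2 ^ 24 := by simpa using List.all_eq_true.1 octadList_lt m h2.1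
          have ho : ofMask m ∈ octads := (mem_octads_iff hlt).2 h2.1
          refine octad_ext (smul_mem_octads hσ ho) ho ?_
          refine le_trans h2.2 (le_of_eq_of_le (card_ofMask _).symm (Finset.card_le_card ?_))
          intro p hp
          rw [ofMask_and, Finset.mem_inter] at hp
          refine Finset.mem_inter.2 ⟨?_, hp.1⟩
          rw [← hf p hp.2]
          exact mem_smul_iff.2 hp.1
        · exact hk m hm
      · rw [if_neg h2]; exact hf
    · rw [if_neg h1]
      by_cases h2 : (known.contains a && known.contains b) = true
      · rw [if_pos h2]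
        simp only [Bool.and_eq_true, List.contains_iff_mem] at h2
        have hc := closVal_fixed (k := k) (hk a h2.1) (hk b h2.2)
        refine ih _ _ ?_ ?_
        · intro m hm
          rcases List.mem_cons.1 hm with rfl | hm
          · exact hc
          · exact hk m hm
        · by_cases h3 : (pop (closVal k a b) == 1) = true
          · rw [if_pos h3]
            intro p hp
            rw [ofMask_or, Finset.mem_union] at hp
            rcases hp with hp | hp
            · exact hf p hp
            · have h1' := beq_iff_eq.1 h3
              rw [← card_ofMask, Finset.card_eq_one] at h1'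
              obtain ⟨q, hq⟩ := h1'
              rw [hq, Finset.mem_singleton] at hp
              subst hp
              rw [hq, smul_eq_image, Finset.image_singleton, Finset.singleton_inj] at hc
              exact hc
          · rw [if_neg h3]; exact hf
      · rw [if_neg h2]; exact hf

theorem m24Closure_ok :
    closRun m24Closure m24Base (m24Base.foldl (fun a b => a ||| b) 0) = FULL := by
  decide +kernel

theorem eq_one_of_fix_base {σ : Equiv.Perm GolayPt} (hσ : σ ∈ M24)
    (h : ∀ l ∈ m24Chain, σ (pt l.base) = pt l.base) : σ = 1 := by
  have hb : ∀ m ∈ m24Base, ∀ p ∈ ofMask m, σ p = p := by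
    intro m hm p hp
    have key : m24Base.all (fun m => (m24Chain.any fun l => m == 2 ^ l.base) ) = true ∧
        m24Chain.all (fun l => decide (l.base < 24)) = true := by decide +kernel
    have h1 := List.all_eq_true.1 key.1 m hm
    rw [List.any_eq_true] at h1
    obtain ⟨l, hl, he⟩ := h1
    have h2 : l.base < 24 := by simpa using List.all_eq_true.1 key.2 l hl
    rw [beq_iff_eq.1 he, ofMask_two_pow h2, Finset.mem_singleton] at hp
    rw [hp]; exact h l hl
  refine Equiv.ext fun p => ?_
  refine closRun_fixed hσ m24Closure m24Base (m24Base.foldl (fun a b => a ||| b) 0) ?_ ?_ p ?_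
  · intro m hm
    rw [smul_eq_image]
    ext q
    rw [Finset.mem_image]
    refine ⟨?_, fun hq => ⟨q, hq, hb m hm q hq⟩⟩
    rintro ⟨x, hx, rfl⟩
    rwa [hb m hm x hx]
  · have key : ∀ (l : List ℕ) (a : ℕ), (∀ p ∈ ofMask a, σ p = p) →
        (∀ m ∈ l, ∀ p ∈ ofMask m, σ p = p) →
        ∀ p ∈ ofMask (l.foldl (fun a b => a ||| b) a), σ p = p := by
      intro l
      induction l with
      | nil => intro a ha _; exact ha
      | cons c l ih =>
        intro a ha hl
        refine ih _ ?_ (fun m hm => hl m (by simp [hm]))
        intro p hp
        rw [ofMask_or, Finset.mem_union] at hp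
        exact hp.elim (ha p) (hl c (by simp) p)
    exact key _ _ (by simp [ofMask_zero]) hb
  · rw [m24Closure_ok, ofMask_FULL]; exact Finset.mem_univ p

end CfsgLib.Spor
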