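import Cfsg.Agent.Spor.SteinerUnique
import Mathlib

/-!
The projective plane of order four through the six points of a hyperoval.
-/

set_option autoImplicit false

namespace CfsgLib.Spor.PlaneFour

open Cfsg Finset CfsgLib.Spor.SteinerCount
open scoped Pointwise

/-- the fifteen synthemes as involutions of six letters -/
def synList : List (List (Fin 6)) :=
  [[1, 0, 3, 2, 5, 4], [1, 0, 4, 5, 2, 3], [1, 0, 5, 4, 3, 2], [2, 3, 0, 1, 5, 4], [2, 4, 0, 5, 1, 3],
   [2, 5, 0, 4, 3, 1], [3, 2, 1, 0, 5, 4], [3, 4, 5, 0, 1, 2], [3, 5, 4, 0, 2, 1], [4, 2, 1, 5, 0, 3],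
   [4, 3, 5, 1, 0, 2], [4, 5, 3, 2, 0, 1], [5, 2, 1, 4, 3, 0], [5, 3, 4, 1, 2, 0], [5, 4, 3, 2, 1, 0]]

/-- the `k`-th syntheme -/
def syn (k : Fin 15) (i : Fin 6) : Fin 6 := (synList.getD k.val []).getD i.val 0

/-- the lines of the model as bit masks -/
def lineMasks : List ℕ :=
  [451, 3589, 28681, 229393, 1835041, 299014, 590346, 1057810, 149538, 1179724, 540820, 74020, 264472,
   33960, 4720, 345152, 567360, 402048, 1120384, 1098496, 660736]

/-- the lines of the model -/
def lineSet (m : ℕ) : Finset (Fin 21) := univ.filter fun i => m.testBit i.val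

/-- the lines of the model -/
def model : Finset (Finset (Fin 21)) := (lineMasks.map lineSet).toFinset

/-- the six letters inside the model -/
def letter (i : Fin 6) : Fin 21 := ⟨i.val, by omega⟩

/-- the synthemes inside the model -/
def pointOf (k : Fin 15) : Fin 21 := ⟨6 + k.val, by omega⟩

theorem model_card : model.card = 21 ∧ ∀ m ∈ lineMasks, (lineSet m).card = 5 := by decide +kernel

theorem model_secant : ∀ i j : Fin 6, i ≠ j →
    ∃ m ∈ lineMasks, letter i ∈ lineSet m ∧ letter j ∈ lineSet m ∧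
      ∀ k : Fin 15, syn k i = j → pointOf k ∈ lineSet m := by decide +kernel

set_option synthInstance.maxSize 4000 in
set_option synthInstance.maxHeartbeats 400000 in
theorem model_external : ∀ a b : Fin 15, (∀ i, syn a i ≠ syn b i) →
    ∀ c : Fin 15, (∀ i, syn a i ≠ syn c i) → (∀ i, syn b i ≠ syn c i) →
    ∀ d : Fin 15, (∀ i, syn a i ≠ syn d i) → (∀ i, syn b i ≠ syn d i) → (∀ i, syn c i ≠ syn d i) →
      ∃ m ∈ lineMasks, pointOf a ∈ lineSet m ∧ pointOf b ∈ lineSet m ∧ pointOf c ∈ lineSet m ∧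
        pointOf d ∈ lineSet m ∧
        ∀ e : Fin 15, (∀ i, syn a i ≠ syn e i) → (∀ i, syn b i ≠ syn e i) → (∀ i, syn c i ≠ syn e i) →
          (∀ i, syn d i ≠ syn e i) → pointOf e ∈ lineSet m := by decide +kernel

theorem syn_surjective : ∀ a : Fin 6, a ≠ 0 → ∀ b : Fin 6, b ≠ 1 → ∀ c : Fin 6, c ≠ 2 →
    ∀ d : Fin 6, d ≠ 3 → ∀ e : Fin 6, e ≠ 4 → ∀ f : Fin 6, f ≠ 5 →
      (∀ i : Fin 6, ([a, b, c, d, e, f].getD ([a, b, c, d, e, f].getD i.val 0).val 0) = i) →
        ∃ k : Fin 15, synList.getD k.val [] = [a, b, c, d, e, f] := by decide +kernel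

theorem exists_syn (π : Fin 6 → Fin 6) (h0 : ∀ i, π i ≠ i) (h1 : ∀ i, π (π i) = i) :
    ∃ k : Fin 15, ∀ i, syn k i = π i := by
  have hl : ∀ i : Fin 6, [π 0, π 1, π 2, π 3, π 4, π 5].getD i.val 0 = π i := by
    intro i; fin_cases i <;> rfl
  obtain ⟨k, hk⟩ := syn_surjective (π 0) (h0 0) (π 1) (h0 1) (π 2) (h0 2) (π 3) (h0 3) (π 4) (h0 4)
    (π 5) (h0 5) (fun i => by rw [hl i, hl, h1])
  exact ⟨k, fun i => by rw [syn, hk, hl]⟩

variable {α : Type*} [Fintype α] [DecidableEq α] {L : Set (Finset α)}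

/-- a hyperoval -/
def IsOval (L : Set (Finset α)) (H : Finset α) : Prop := H.card = 6 ∧ ∀ l ∈ L, (l ∩ H).card ≤ 2

theorem lines_count (hL : IsSteinerSystem 2 5 L) (hα : Fintype.card α = 21) : L.ncard = 21 := by
  have h := count_above hL (s := (∅ : Finset α)) (by simp)
  rw [hα, card_empty] at h
  simp only [Nat.sub_zero, empty_subset, filter_true] at h
  rw [show (5 : ℕ).choose 2 = 10 by decide, show (21 : ℕ).choose 2 = 210 by decide] at h
  rw [ncard_blocks]
  omega

theorem line_through (hL : IsSteinerSystem 2 5 L) {x y : α} (h : x ≠ y) :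
    ∃ l ∈ L, x ∈ l ∧ y ∈ l ∧ ∀ l' ∈ L, x ∈ l' → y ∈ l' → l' = l := by
  obtain ⟨l, ⟨hl, hs⟩, hu⟩ := hL.2 {x, y} (card_pair h)
  refine ⟨l, hl, hs (mem_insert_self x _), hs (mem_insert_of_mem (mem_singleton_self y)), fun l' hl' hx hy => ?_⟩
  exact hu l' ⟨hl', insert_subset hx (singleton_subset_iff.2 hy)⟩

theorem lines_meet (hL : IsSteinerSystem 2 5 L) (hα : Fintype.card α = 21) {l l' : Finset α} (hl : l ∈ L)
    (hl' : l' ∈ L) (hne : l ≠ l') : (l ∩ l').card = 1 := by
  have h2 : (l ∩ l').card < 2 := by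
    by_contra h
    exact hne (eq_of_five hL hl hl' (by omega))
  have e0 := count_meet hL l' (j := 0) (lam := 21) (N := 6) (by norm_num) (by norm_num) (by rw [hα]; decide) (by rw [hL.1 l' hl']; norm_num)
  have e1 := count_meet hL l' (j := 1) (lam := 5) (N := 6) (by norm_num) (by norm_num) (by rw [hα]; decide) (by rw [hL.1 l' hl']; norm_num)
  simp only [sum_range_succ, sum_range_zero, Nat.choose, hL.1 l' hl', meet_self hL (by norm_num) hl',
    meet_high hL hl' (i := 2) (by norm_num) (by norm_num), meet_high hL hl' (i := 3) (by norm_num) (by norm_num),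
    meet_high hL hl' (i := 4) (by norm_num) (by norm_num)] at e0 e1
  have hp := meet_pos (X := l') hl
  by_contra h
  rw [show (l ∩ l').card = 0 by omega] at hp
  omega

theorem secant_or_external (hL : IsSteinerSystem 2 5 L) (hα : Fintype.card α = 21) {H : Finset α}
    (hH : IsOval L H) {l : Finset α} (hl : l ∈ L) {h : α} (hh : h ∈ H) (hhl : h ∈ l) : (l ∩ H).card = 2 := by
  have hone : ∀ b ∈ L, h ∈ b → (b ∩ H.erase h).card ≤ 1 := by
    intro b hb hhb
    have h1 := hH.2 b hb
    have e : b ∩ H.erase h = (b ∩ H).erase h := by ext x; simp; tauto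
    rw [e, card_erase_of_mem (mem_inter.2 ⟨hhb, hh⟩)]
    omega
  have z : ∀ i, 2 ≤ i → SteinerUnique.meetAbove L {h} (H.erase h) i = 0 := fun i hi =>
    card_eq_zero.2 (filter_eq_empty_iff.2 fun b hb e => by
      obtain ⟨hbL, hhb⟩ := mem_filter.1 hb
      have := hone b (mem_blocks.1 hbL) (singleton_subset_iff.1 hhb)
      omega)
  have hd : Disjoint ({h} : Finset α) (H.erase h) := by simp
  have hc : (H.erase h).card = 5 := by rw [card_erase_of_mem hh, hH.1]
  have e0 := SteinerUnique.count_meetAbove hL {h} (H.erase h) hd (j := 0) (lam := 5) (N := 6) (by simp) (by norm_num) (by rw [hα, card_singleton]; decide) (by omega)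
  have e1 := SteinerUnique.count_meetAbove hL {h} (H.erase h) hd (j := 1) (lam := 1) (N := 6) (by simp) (by norm_num) (by rw [hα, card_singleton]; decide) (by omega)
  simp only [sum_range_succ, sum_range_zero, Nat.choose, hc, z 2 le_rfl, z 3 (by norm_num), z 4 (by norm_num),
    z 5 (by norm_num)] at e0 e1
  have hz : SteinerUnique.meetAbove L {h} (H.erase h) 0 = 0 := by omega
  have h1 := hone l hl hhl
  have h2 : (l ∩ H.erase h).card ≠ 0 := fun e => by
    have hmem : l ∈ ((blocks L).filter (({h} : Finset α) ⊆ ·)).filter fun b => (b ∩ H.erase h).card = 0 :=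
      mem_filter.2 ⟨mem_filter.2 ⟨mem_blocks.2 hl, singleton_subset_iff.2 hhl⟩, e⟩
    exact notMem_empty l (card_eq_zero.1 hz ▸ hmem)
  have e : l ∩ H.erase h = (l ∩ H).erase h := by ext x; simp; tauto
  rw [e, card_erase_of_mem (mem_inter.2 ⟨hhl, hh⟩)] at h1 h2
  omega

/-- coordinates from a numbering of a hyperoval -/
theorem exists_coord (hL : IsSteinerSystem 2 5 L) (hα : Fintype.card α = 21) {H : Finset α}
    (hH : IsOval L H) (η : Fin 6 ≃ ↥H) :
    ∃ e : α ≃ Fin 21, (∀ i, e (η i) = letter i) ∧ (fun l => l.image e) '' L = (model : Set (Finset (Fin 21))) := by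
  classical
  set η' : Fin 6 → α := fun i => (η i : α) with hη'
  have hηinj : Function.Injective η' := fun i j h => η.injective (Subtype.ext h)
  have hηsurj : ∀ x ∈ H, ∃ i, η' i = x := fun x hx => ⟨η.symm ⟨x, hx⟩, by simp [hη']⟩
  have hηmem : ∀ i, η' i ∈ H := fun i => (η i).2
  -- partners
  have hπ : ∀ p, p ∉ H → ∀ i, ∃ j, j ≠ i ∧ ∀ l ∈ L, p ∈ l → η' i ∈ l → η' j ∈ l := by
    intro p hp i
    have hne : p ≠ η' i := fun e => hp (e ▸ hηmem i)
    obtain ⟨l, hl, hpl, hil, hu⟩ := line_through hL hne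
    have h2 := secant_or_external hL hα hH hl (hηmem i) hil
    have h3 : 0 < ((l ∩ H).erase (η' i)).card := by
      rw [card_erase_of_mem (mem_inter.2 ⟨hil, hηmem i⟩)]; omega
    obtain ⟨y, hy⟩ := card_pos.1 h3
    obtain ⟨hyi, hy'⟩ := mem_erase.1 hy
    obtain ⟨hyl, hyH⟩ := mem_inter.1 hy'
    obtain ⟨j, rfl⟩ := hηsurj y hyH
    exact ⟨j, fun e => hyi (e ▸ rfl), fun l' hl' h1 h2' => by rw [hu l' hl' h1 h2']; exact hyl⟩
  choose π hπne hπl using hπ
  have hline : ∀ p (hp : p ∉ H) i, ∀ l ∈ L, p ∈ l → η' i ∈ l → ∀ j, η' j ∈ l → j = i ∨ j = π p hp i := by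
    intro p hp i l hl h1 h2 j hj
    by_contra hne
    push Not at hne
    have h3 := secant_or_external hL hα hH hl (hηmem i) h2
    have hsub : ({η' i, η' j, η' (π p hp i)} : Finset α) ⊆ l ∩ H := by
      intro x hx
      simp only [mem_insert, mem_singleton] at hx
      rcases hx with rfl | rfl | rfl
      · exact mem_inter.2 ⟨h2, hηmem _⟩
      · exact mem_inter.2 ⟨hj, hηmem _⟩
      · exact mem_inter.2 ⟨hπl p hp i l hl h1 h2, hηmem _⟩
    have h4 := card_le_card hsub
    rw [card_insert_of_notMem, card_pair, h3] at h4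
    · omega
    · exact fun e => hne.2 (hηinj e)
    · simp only [mem_insert, mem_singleton, not_or]
      exact ⟨fun e => hne.1 (hηinj e).symm, fun e => hπne p hp i (hηinj e).symm⟩
  have hinv : ∀ p (hp : p ∉ H) i, π p hp (π p hp i) = i := by
    intro p hp i
    have hne : p ≠ η' i := fun e => hp (e ▸ hηmem i)
    obtain ⟨l, hl, hpl, hil, -⟩ := line_through hL hne
    have hjl := hπl p hp i l hl hpl hil
    rcases hline p hp (π p hp i) l hl hpl hjl i hil with e | e
    · exact absurd e.symm (hπne p hp i)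
    · exact e.symm
  have hsyn : ∀ p (hp : p ∉ H), ∃ k : Fin 15, ∀ i, syn k i = π p hp i := fun p hp =>
    exists_syn _ (hπne p hp) (hinv p hp)
  choose k hk using hsyn
  let f : α → Fin 21 := fun x => if h : x ∈ H then letter (η.symm ⟨x, h⟩) else pointOf (k x h)
  have hfH : ∀ i, f (η' i) = letter i := fun i => by
    show dite _ _ _ = _
    rw [dif_pos (hηmem i)]
    simp [hη']
  have hfO : ∀ p (hp : p ∉ H), f p = pointOf (k p hp) := fun p hp => dif_neg hp
  have hkinj : ∀ p (hp : p ∉ H) q (hq : q ∉ H), k p hp = k q hq → p = q := by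
    intro p hp q hq e
    by_contra hpq
    obtain ⟨l, hl, hpl, hql, hu⟩ := line_through hL hpq
    have hmem : ∀ i, η' i ∈ l := by
      intro i
      have hne : p ≠ η' i := fun e => hp (e ▸ hηmem i)
      obtain ⟨m, hm, hpm, him, -⟩ := line_through hL hne
      by_cases hqm : q ∈ m
      · rw [← hu m hm hpm hqm]; exact him
      exfalso
      have hjm := hπl p hp i m hm hpm him
      have hne' : q ≠ η' i := fun e => hq (e ▸ hηmem i)
      obtain ⟨m', hm', hqm', him', -⟩ := line_through hL hne'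
      have hjm' := hπl q hq i m' hm' hqm' him'
      rw [← hk q hq, ← e, hk p hp] at hjm'
      have hmm : m = m' := eq_of_five hL hm hm' (by
        refine le_trans (le_of_eq (card_pair (a := η' i) (b := η' (π p hp i)) ?_).symm)
          (card_le_card (insert_subset (mem_inter.2 ⟨him, him'⟩) (singleton_subset_iff.2 (mem_inter.2 ⟨hjm, hjm'⟩))))
        exact fun e => hπne p hp i (hηinj e).symm)
      exact hqm (hmm ▸ hqm')
    have h1 := hH.2 l hl
    have h2 : H ⊆ l ∩ H := fun x hx => by
      obtain ⟨i, rfl⟩ := hηsurj x hx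
      exact mem_inter.2 ⟨hmem i, hx⟩
    have := card_le_card h2
    have := hH.1
    omega
  have hfinj : Function.Injective f := by
    intro x y e
    by_cases hx : x ∈ H <;> by_cases hy : y ∈ H
    · obtain ⟨i, rfl⟩ := hηsurj x hx
      obtain ⟨j, rfl⟩ := hηsurj y hy
      rw [hfH, hfH] at e
      rw [Fin.ext (Fin.mk.inj e)]
    · obtain ⟨i, rfl⟩ := hηsurj x hx
      rw [hfH, hfO y hy] at e
      have := Fin.mk.inj e
      omega
    · obtain ⟨j, rfl⟩ := hηsurj y hy
      rw [hfH, hfO x hx] at e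
      have := Fin.mk.inj e
      omega
    · rw [hfO x hx, hfO y hy] at e
      exact hkinj x hx y hy (Fin.ext (by have := Fin.mk.inj e; omega))
  have hbij : Function.Bijective f :=
    (Fintype.bijective_iff_injective_and_card f).2 ⟨hfinj, by rw [hα, Fintype.card_fin]⟩
  refine ⟨Equiv.ofBijective f hbij, hfH, ?_⟩
  refine Set.eq_of_subset_of_ncard_le ?_ ?_ (Set.toFinite _)
  · rintro _ ⟨l, hl, rfl⟩
    simp only [model, List.coe_toFinset, Set.mem_setOf_eq, List.mem_map]
    have hfin : ∀ m ∈ lineMasks, l.image f ⊆ lineSet m → lineSet m = l.image (Equiv.ofBijective f hbij) := by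
      intro m hm hsub
      refine (eq_of_subset_of_card_le hsub ?_).symm
      rw [card_image_of_injective _ hfinj, hL.1 l hl, model_card.2 m hm]
    rcases (l ∩ H).eq_empty_or_nonempty with he | ⟨x, hx⟩
    · -- an external line
      have hout : ∀ x ∈ l, x ∉ H := fun x hx hxH => notMem_empty x (he ▸ mem_inter.2 ⟨hx, hxH⟩)
      have hdis : ∀ p (hp : p ∈ l) q (hq : q ∈ l), p ≠ q → ∀ i, syn (k p (hout p hp)) i ≠ syn (k q (hout q hq)) i := by
        intro p hp q hq hpq i e
        rw [hk, hk] at e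
        have hne : p ≠ η' i := fun e => hout p hp (e ▸ hηmem i)
        obtain ⟨m, hm, hpm, him, -⟩ := line_through hL hne
        have hjm := hπl p (hout p hp) i m hm hpm him
        have hne' : q ≠ η' i := fun e => hout q hq (e ▸ hηmem i)
        obtain ⟨m', hm', hqm', him', -⟩ := line_through hL hne'
        have hjm' := hπl q (hout q hq) i m' hm' hqm' him'
        rw [← e] at hjm'
        have hmm : m = m' := eq_of_five hL hm hm' (by
          refine le_trans (le_of_eq (card_pair (a := η' i) (b := η' (π p (hout p hp) i)) ?_).symm)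
            (card_le_card (insert_subset (mem_inter.2 ⟨him, him'⟩) (singleton_subset_iff.2 (mem_inter.2 ⟨hjm, hjm'⟩))))
          exact fun e => hπne p (hout p hp) i (hηinj e).symm)
        subst hmm
        obtain ⟨l0, -, -, -, hu⟩ := line_through hL hpq
        have : m = l := (hu m hm hpm hqm').trans (hu l hl hp hq).symm
        exact hout (η' i) (this ▸ him) (hηmem i)
      obtain ⟨p, hp⟩ := card_pos.1 (by rw [hL.1 l hl]; norm_num : 0 < l.card)
      obtain ⟨q, hq⟩ := card_pos.1 (by rw [card_erase_of_mem hp, hL.1 l hl]; norm_num : 0 < (l.erase p).card)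
      obtain ⟨r, hr⟩ := card_pos.1
        (by rw [card_erase_of_mem hq, card_erase_of_mem hp, hL.1 l hl]; norm_num : 0 < ((l.erase p).erase q).card)
      obtain ⟨s, hs⟩ := card_pos.1
        (by rw [card_erase_of_mem hr, card_erase_of_mem hq, card_erase_of_mem hp, hL.1 l hl]; norm_num :
          0 < (((l.erase p).erase q).erase r).card)
      simp only [mem_erase] at hq hr hs
      obtain ⟨hqp, hq⟩ := hq
      obtain ⟨hrq, hrp, hr⟩ := hr
      obtain ⟨hsr, hsq, hsp, hs⟩ := hs
      obtain ⟨m, hm, hmp, hmq, hmr, hms, hmc⟩ := model_external _ _ (hdis p hp q hq (Ne.symm hqp))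
        _ (hdis p hp r hr (Ne.symm hrp)) (hdis q hq r hr (Ne.symm hrq))
        _ (hdis p hp s hs (Ne.symm hsp)) (hdis q hq s hs (Ne.symm hsq)) (hdis r hr s hs (Ne.symm hsr))
      refine ⟨m, hm, hfin m hm fun y hy => ?_⟩
      obtain ⟨x, hx, rfl⟩ := mem_image.1 hy
      rw [hfO x (hout x hx)]
      by_cases hxp : x = p
      · subst hxp; exact hmp
      by_cases hxq : x = q
      · subst hxq; exact hmq
      by_cases hxr : x = r
      · subst hxr; exact hmr
      by_cases hxs : x = s
      · subst hxs; exact hms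
      exact hmc _ (hdis p hp x hx (Ne.symm hxp)) (hdis q hq x hx (Ne.symm hxq))
        (hdis r hr x hx (Ne.symm hxr)) (hdis s hs x hx (Ne.symm hxs))
    · -- a secant
      obtain ⟨hxl, hxH⟩ := mem_inter.1 hx
      have h2 := secant_or_external hL hα hH hl hxH hxl
      obtain ⟨y, hy⟩ := card_pos.1 (by rw [card_erase_of_mem hx]; omega : 0 < ((l ∩ H).erase x).card)
      obtain ⟨hyx, hy'⟩ := mem_erase.1 hy
      obtain ⟨hyl, hyH⟩ := mem_inter.1 hy'
      obtain ⟨i, rfl⟩ := hηsurj x hxH
      obtain ⟨j, rfl⟩ := hηsurj y hyH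
      obtain ⟨m, hm, hmi, hmj, hmc⟩ := model_secant i j (fun e => hyx (e ▸ rfl))
      refine ⟨m, hm, hfin m hm fun z hz => ?_⟩
      obtain ⟨w, hw, rfl⟩ := mem_image.1 hz
      by_cases hwH : w ∈ H
      · obtain ⟨n, rfl⟩ := hηsurj w hwH
        rw [hfH]
        have hset : l ∩ H = {η' i, η' j} := (eq_of_subset_of_card_le
          (insert_subset hx (singleton_subset_iff.2 hy')) (by rw [card_pair (Ne.symm hyx), h2])).symm
        have hn : η' n ∈ ({η' i, η' j} : Finset α) := hset ▸ mem_inter.2 ⟨hw, hwH⟩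
        rcases mem_insert.1 hn with e | e
        · rw [hηinj e]; exact hmi
        · rw [hηinj (mem_singleton.1 e)]; exact hmj
      · rw [hfO w hwH]
        refine hmc _ ?_
        rw [hk]
        rcases hline w hwH i l hl hw hxl j hyl with e | e
        · exact absurd (e ▸ rfl) hyx
        · exact e.symm
  · rw [Set.ncard_coe_finset, model_card.1,
      (Finset.image_injective (Equiv.ofBijective f hbij).injective).injOn.ncard_image, lines_count hL hα]

/-- no three on a line -/
def Indep (L : Set (Finset α)) (S : Finset α) : Prop := ∀ l ∈ L, (l ∩ S).card ≤ 2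

theorem indep_mono {S T : Finset α} (h : Indep L T) (hst : S ⊆ T) : Indep L S := fun l hl =>
  (card_le_card (inter_subset_inter_left hst)).trans (h l hl)

theorem exists_indep_four (hL : IsSteinerSystem 2 5 L) (hα : Fintype.card α = 21) :
    ∃ a b c d : α, [a, b, c, d].Nodup ∧ Indep L {a, b, c, d} := by
  obtain ⟨a, b, hab⟩ := Fintype.exists_pair_of_one_lt_card (by rw [hα]; norm_num : 1 < Fintype.card α)
  obtain ⟨l₁, h₁, ha1, hb1, u₁⟩ := line_through hL hab
  obtain ⟨c, hc⟩ : ∃ c, c ∉ l₁ := by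
    by_contra h
    push Not at h
    have := card_le_card (fun x _ => h x : (univ : Finset α) ⊆ l₁)
    rw [card_univ, hα, hL.1 l₁ h₁] at this
    omega
  have hac : a ≠ c := fun e => hc (e ▸ ha1)
  have hbc : b ≠ c := fun e => hc (e ▸ hb1)
  obtain ⟨l₂, h₂, ha2, hc2, u₂⟩ := line_through hL hac
  obtain ⟨l₃, h₃, hb3, hc3, u₃⟩ := line_through hL hbc
  obtain ⟨d, hd⟩ : ∃ d, d ∉ l₁ ∪ l₂ ∪ l₃ := by
    by_contra h
    push Not at h
    have := (card_le_card (fun x _ => h x : (univ : Finset α) ⊆ l₁ ∪ l₂ ∪ l₃)).trans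
      ((card_union_le _ _).trans (Nat.add_le_add_right (card_union_le _ _) _))
    rw [card_univ, hα, hL.1 l₁ h₁, hL.1 l₂ h₂, hL.1 l₃ h₃] at this
    omega
  simp only [mem_union, not_or] at hd
  refine ⟨a, b, c, d, ?_, ?_⟩
  · have : a ≠ d := fun e => hd.1.1 (e ▸ ha1)
    have : b ≠ d := fun e => hd.1.1 (e ▸ hb1)
    have : c ≠ d := fun e => hd.2 (e ▸ hc3)
    simp_all
  · intro l hl
    by_contra h
    push Not at h
    obtain ⟨x, y, z, hx, hy, hz, hxy, hxz, hyz⟩ := two_lt_card_iff.1 h
    simp only [mem_inter, mem_insert, mem_singleton] at hx hy hz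
    have k1 : a ∈ l → b ∈ l → c ∉ l ∧ d ∉ l := fun p q => by
      rw [u₁ l hl p q]; exact ⟨hc, hd.1.1⟩
    have k2 : a ∈ l → c ∈ l → b ∉ l ∧ d ∉ l := fun p q => by
      rw [u₂ l hl p q]
      refine ⟨fun e => hc ?_, hd.1.2⟩
      rw [← u₁ l₂ h₂ ha2 e]
      exact hc2
    have k3 : b ∈ l → c ∈ l → d ∉ l := fun p q => by
      rw [u₃ l hl p q]; exact hd.2
    grind

theorem exists_oval (hL : IsSteinerSystem 2 5 L) (hα : Fintype.card α = 21) {a b c d : α}
    (hnd : [a, b, c, d].Nodup) (hI : Indep L {a, b, c, d}) :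
    ∃ H, IsOval L H ∧ {a, b, c, d} ⊆ H ∧ ∀ H', IsOval L H' → {a, b, c, d} ⊆ H' → H' = H := by
  classical
  simp only [List.nodup_cons, List.mem_cons, List.not_mem_nil, or_false, not_or, List.nodup_nil,
    and_true] at hnd
  obtain ⟨⟨hab, hac, had⟩, ⟨hbc, hbd⟩, hcd, -⟩ := hnd
  set S : Finset α := {a, b, c, d} with hS
  have haS : a ∈ S := by simp [hS]
  have hS4 : S.card = 4 := card_eq_four.2 ⟨a, b, c, d, hab, hac, had, hbc, hbd, hcd, rfl⟩
  -- the points off the six joins
  set U := univ.filter fun x => ∀ l ∈ blocks L, 2 ≤ (l ∩ S).card → x ∉ l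
  have hU : ∀ x, x ∈ U ↔ ∀ l ∈ L, 2 ≤ (l ∩ S).card → x ∉ l := by simp [U, mem_blocks]
  have hUS : Disjoint U S := by
    rw [disjoint_left]
    intro x hx hxS
    obtain ⟨y, hy, hyx⟩ := exists_mem_ne (by rw [hS4]; norm_num : 1 < S.card) x
    obtain ⟨l, hl, hxl, hyl, -⟩ := line_through hL hyx.symm
    refine (hU x).1 hx l hl ?_ hxl
    refine le_trans (le_of_eq (card_pair hyx.symm).symm) (card_le_card ?_)
    exact insert_subset (mem_inter.2 ⟨hxl, hxS⟩) (singleton_subset_iff.2 (mem_inter.2 ⟨hyl, hy⟩))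
  -- a line meeting `S` in one point has one point off the six joins
  have key : ∀ l ∈ L, (l ∩ S).card = 1 → (l ∩ U).card = 1 := by
    intro l hl h1
    obtain ⟨p, hp⟩ := card_eq_one.1 h1
    obtain ⟨hpl, hpS⟩ := mem_inter.1 (hp.symm ▸ mem_singleton_self p : p ∈ l ∩ S)
    set T := S.erase p
    have hT3 : T.card = 3 := by rw [card_erase_of_mem hpS, hS4]
    have hTl : ∀ t ∈ T, t ∉ l := fun t ht htl => by
      have : t ∈ l ∩ S := mem_inter.2 ⟨htl, (mem_erase.1 ht).2⟩
      rw [hp, mem_singleton] at this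
      exact (mem_erase.1 ht).1 this
    set M := (blocks L).filter fun m => 2 ≤ (m ∩ T).card
    have hM : M.card = 3 := by
      obtain ⟨x, y, z, hxy, hxz, hyz, hT⟩ := card_eq_three.1 hT3
      obtain ⟨l1, e1, x1, y1, u1⟩ := line_through hL hxy
      obtain ⟨l2, e2, x2, z2, u2⟩ := line_through hL hxz
      obtain ⟨l3, e3, y3, z3, u3⟩ := line_through hL hyz
      have hsub : T ⊆ S := erase_subset _ _
      have hno : ∀ m ∈ L, x ∈ m → y ∈ m → z ∈ m → False := by
        intro m hm p1 p2 p3
        have := (indep_mono hI hsub) m hm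
        rw [hT, inter_eq_right.2 (by simp [insert_subset_iff, p1, p2, p3]), ← hT, hT3] at this
        omega
      refine card_eq_three.2 ⟨l1, l2, l3, fun e => hno l1 e1 x1 y1 (e ▸ z2),
        fun e => hno l1 e1 x1 y1 (e ▸ z3), fun e => hno l2 e2 x2 (e ▸ y3) z2, ?_⟩
      ext m
      simp only [M, mem_filter, mem_blocks, hT, mem_insert, mem_singleton]
      constructor
      · rintro ⟨hm, h2⟩
        obtain ⟨s, t, hs, ht, hst⟩ := one_lt_card_iff.1 h2
        simp only [mem_inter, mem_insert, mem_singleton] at hs ht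
        grind
      · rintro (rfl | rfl | rfl)
        · exact ⟨e1, le_trans (le_of_eq (card_pair hxy).symm) (card_le_card (by simp [insert_subset_iff, x1, y1]))⟩
        · exact ⟨e2, le_trans (le_of_eq (card_pair hxz).symm) (card_le_card (by simp [insert_subset_iff, x2, z2]))⟩
        · exact ⟨e3, le_trans (le_of_eq (card_pair hyz).symm) (card_le_card (by simp [insert_subset_iff, y3, z3]))⟩
    have hTS : ∀ m ∈ M, m ∈ L ∧ 2 ≤ (m ∩ S).card ∧ p ∉ m ∧ m ≠ l := by
      intro m hm
      obtain ⟨hmb, h2⟩ := mem_filter.1 hm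
      have hmL := mem_blocks.1 hmb
      refine ⟨hmL, h2.trans (card_le_card (inter_subset_inter_left (erase_subset _ _))), fun hpm => ?_, fun e => ?_⟩
      · have h3 : insert p (m ∩ T) ⊆ m ∩ S :=
          insert_subset (mem_inter.2 ⟨hpm, hpS⟩) (inter_subset_inter_left (erase_subset _ _))
        have h4 := card_le_card h3
        rw [card_insert_of_notMem (by simp [T])] at h4
        have := hI m hmL
        omega
      · subst e
        obtain ⟨t, ht⟩ := card_pos.1 (by omega : 0 < (m ∩ T).card)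
        exact hTl t (mem_inter.1 ht).2 (mem_inter.1 ht).1
    have hcov : l \ U = insert p (M.biUnion fun m => l ∩ m) := by
      ext x
      simp only [mem_sdiff, mem_insert, mem_biUnion, mem_inter]
      constructor
      · rintro ⟨hxl, hxU⟩
        by_cases hxp : x = p
        · exact Or.inl hxp
        rw [hU] at hxU
        push Not at hxU
        obtain ⟨m, hm, h2, hxm⟩ := hxU
        refine Or.inr ⟨m, mem_filter.2 ⟨mem_blocks.2 hm, ?_⟩, hxl, hxm⟩
        by_contra hlt
        have hpm : p ∈ m := by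
          by_contra hpm
          have : m ∩ S = m ∩ T := by
            ext y
            simp only [mem_inter, T, mem_erase]
            exact ⟨fun ⟨h1, h2⟩ => ⟨h1, fun e => hpm (e ▸ h1), h2⟩, fun ⟨h1, _, h2⟩ => ⟨h1, h2⟩⟩
          rw [this] at h2
          omega
        have hml : m = l := eq_of_five hL hm hl (le_trans (le_of_eq (card_pair hxp).symm)
          (card_le_card (by simp [insert_subset_iff, hxl, hxm, hpl, hpm])))
        subst hml
        omega
      · rintro (rfl | ⟨m, hm, hxl, hxm⟩)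
        · exact ⟨hpl, fun hx => disjoint_left.1 hUS hx hpS⟩
        · exact ⟨hxl, fun hx => (hU x).1 hx m (hTS m hm).1 (hTS m hm).2.1 hxm⟩
    have hdis : ∀ m ∈ M, ∀ m' ∈ M, m ≠ m' → Disjoint (l ∩ m) (l ∩ m') := by
      intro m hm m' hm' hne
      rw [disjoint_left]
      intro x hx hx'
      obtain ⟨hxl, hxm⟩ := mem_inter.1 hx
      obtain ⟨-, hxm'⟩ := mem_inter.1 hx'
      obtain ⟨-, h2⟩ := mem_filter.1 hm
      obtain ⟨-, h2'⟩ := mem_filter.1 hm'
      obtain ⟨t, ht⟩ : ((m ∩ T) ∩ (m' ∩ T)).Nonempty := by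
        rw [nonempty_iff_ne_empty]
        intro e
        have := card_union_add_card_inter (m ∩ T) (m' ∩ T)
        rw [e, card_empty] at this
        have := card_le_card (union_subset (inter_subset_right : m ∩ T ⊆ T) (inter_subset_right : m' ∩ T ⊆ T))
        omega
      simp only [mem_inter] at ht
      have hmm := lines_meet hL hα (hTS m hm).1 (hTS m' hm').1 hne
      have hxt : x = t := card_le_one.1 hmm.le x (mem_inter.2 ⟨hxm, hxm'⟩) t (mem_inter.2 ⟨ht.1.1, ht.2.1⟩)
      exact hTl t ht.1.2 (hxt ▸ hxl)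
    have hc := congrArg card hcov
    rw [card_insert_of_notMem (by
        simp only [mem_biUnion, mem_inter, not_exists]
        exact fun m ⟨hm, _, hpm⟩ => (hTS m hm).2.2.1 hpm),
      card_biUnion hdis, sum_congr rfl (fun m hm => lines_meet hL hα hl (hTS m hm).1 (Ne.symm (hTS m hm).2.2.2)),
      sum_const, hM] at hc
    have := card_inter_add_card_sdiff l U
    rw [hc, hL.1 l hl] at this
    simp at this
    omega
  -- lines through a base point
  have hthrough : ((blocks L).filter fun l => a ∈ l ∧ (l ∩ S).card = 1).card = 2 := by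
    have h5 : ((blocks L).filter fun l => a ∈ l).card = 5 := by
      have h := count_above hL (s := ({a} : Finset α)) (by simp)
      simp only [card_singleton, singleton_subset_iff, hα] at h
      rw [show (5 - 1 : ℕ).choose (2 - 1) = 4 by decide, show (21 - 1 : ℕ).choose (2 - 1) = 20 by decide] at h
      omega
    have hd : Disjoint ({a} : Finset α) (S.erase a) := by simp
    have e1 := SteinerUnique.count_meetAbove hL {a} (S.erase a) hd (j := 1) (lam := 1) (N := 4) (by simp) (by norm_num)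
      (by rw [hα, card_singleton]; decide) (by rw [card_erase_of_mem haS, hS4]; norm_num)
    have e0 := SteinerUnique.count_meetAbove hL {a} (S.erase a) hd (j := 0) (lam := 5) (N := 4) (by simp) (by norm_num)
      (by rw [hα, card_singleton]; decide) (by rw [card_erase_of_mem haS, hS4]; norm_num)
    have hsame : ∀ l : Finset α, a ∈ l → (l ∩ S).card = (l ∩ S.erase a).card + 1 := by
      intro l hal
      have e : l ∩ S.erase a = (l ∩ S).erase a := by ext x; simp; tauto
      rw [e, card_erase_add_one (mem_inter.2 ⟨hal, haS⟩)]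
    have z : ∀ i, 2 ≤ i → SteinerUnique.meetAbove L {a} (S.erase a) i = 0 := fun i hi =>
      card_eq_zero.2 (filter_eq_empty_iff.2 fun l hl e => by
        obtain ⟨hlb, hal⟩ := mem_filter.1 hl
        have := hI l (mem_blocks.1 hlb)
        have := hsame l (singleton_subset_iff.1 hal)
        omega)
    simp only [sum_range_succ, sum_range_zero, Nat.choose, card_erase_of_mem haS, hS4, z 2 le_rfl,
      z 3 (by norm_num)] at e0 e1
    have e : ((blocks L).filter fun l => a ∈ l ∧ (l ∩ S).card = 1) =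
        ((blocks L).filter (({a} : Finset α) ⊆ ·)).filter fun l => (l ∩ S.erase a).card = 0 := by
      rw [filter_filter]
      refine filter_congr fun l _ => ?_
      rw [singleton_subset_iff]
      exact and_congr_right fun hal => by rw [hsame l hal]; omega
    rw [e]
    show SteinerUnique.meetAbove L {a} (S.erase a) 0 = 2
    omega
  have hUc : U.card = 2 := by
    rw [← hthrough]
    have hpick : ∀ l, l ∈ (blocks L).filter (fun l => a ∈ l ∧ (l ∩ S).card = 1) → ∃ x, x ∈ l ∩ U := by
      intro l hl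
      obtain ⟨hlb, -, h1⟩ := mem_filter.1 hl
      exact card_pos.1 (by rw [key l (mem_blocks.1 hlb) h1]; norm_num)
    choose pick hp using hpick
    refine (card_bij pick (fun l hl => (mem_inter.1 (hp l hl)).2)
      (fun l hl l' hl' e => ?_) (fun x hx => ?_)).symm
    · obtain ⟨hlb, hal, -⟩ := mem_filter.1 hl
      obtain ⟨hlb', hal', -⟩ := mem_filter.1 hl'
      obtain ⟨hxl, hxU⟩ := mem_inter.1 (hp l hl)
      have hxl' : pick l hl ∈ l' := e ▸ (mem_inter.1 (hp l' hl')).1
      have hne : a ≠ pick l hl := fun h => disjoint_left.1 hUS (h ▸ hxU) haS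
      exact eq_of_five hL (mem_blocks.1 hlb) (mem_blocks.1 hlb') (le_trans (le_of_eq (card_pair hne).symm)
        (card_le_card (by simp [insert_subset_iff, hal, hal', hxl, hxl'])))
    · have hne : a ≠ x := fun h => disjoint_left.1 hUS (h ▸ hx) haS
      obtain ⟨l, hl, hal, hxl, -⟩ := line_through hL hne
      have h1 : (l ∩ S).card = 1 := by
        have h2 : ¬ 2 ≤ (l ∩ S).card := fun h2 => (hU x).1 hx l hl h2 hxl
        have : 0 < (l ∩ S).card := card_pos.2 ⟨a, mem_inter.2 ⟨hal, haS⟩⟩
        omega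
      have hmem : l ∈ (blocks L).filter (fun l => a ∈ l ∧ (l ∩ S).card = 1) :=
        mem_filter.2 ⟨mem_blocks.2 hl, hal, h1⟩
      exact ⟨l, hmem, card_le_one.1 (key l hl h1).le _ (hp l hmem) x (mem_inter.2 ⟨hxl, hx⟩)⟩
  refine ⟨S ∪ U, ⟨by rw [card_union_of_disjoint hUS.symm, hS4, hUc], fun l hl => ?_⟩, subset_union_left,
    fun H' hH' hSH' => ?_⟩
  · rw [inter_union_distrib_left]
    refine (card_union_le _ _).trans ?_
    have h1 := hI l hl
    have h2 : (l ∩ U).card ≤ U.card := card_le_card inter_subset_right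
    by_cases hc : 2 ≤ (l ∩ S).card
    · have : l ∩ U = ∅ := eq_empty_of_forall_notMem fun x hx =>
        (hU x).1 (mem_inter.1 hx).2 l hl hc (mem_inter.1 hx).1
      rw [this, card_empty]; omega
    · by_cases h0 : (l ∩ S).card = 0
      · omega
      · have := key l hl (by omega)
        omega
  · symm
    refine eq_of_subset_of_card_le (union_subset hSH' ?_) (by rw [hH'.1, card_union_of_disjoint hUS.symm, hS4, hUc])
    have hrest : H' \ S ⊆ U := by
      intro x hx
      obtain ⟨hxH, hxS⟩ := mem_sdiff.1 hx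
      rw [hU]
      intro l hl h2 hxl
      have h3 : insert x (l ∩ S) ⊆ l ∩ H' :=
        insert_subset (mem_inter.2 ⟨hxl, hxH⟩) (inter_subset_inter_left hSH')
      have h4 := card_le_card h3
      rw [card_insert_of_notMem (fun h => hxS (mem_inter.1 h).2)] at h4
      have := hH'.2 l hl
      omega
    have he : H' \ S = U := eq_of_subset_of_card_le hrest (by
      rw [hUc, card_sdiff_of_subset hSH', hH'.1, hS4])
    exact he ▸ sdiff_subset

theorem exists_model (hL : IsSteinerSystem 2 5 L) (hα : Fintype.card α = 21) :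
    ∃ e : α ≃ Fin 21, (fun l => l.image e) '' L = (model : Set (Finset (Fin 21))) := by
  obtain ⟨a, b, c, d, hnd, hI⟩ := exists_indep_four hL hα
  obtain ⟨H, hH, -, -⟩ := exists_oval hL hα hnd hI
  obtain ⟨η⟩ : Nonempty (Fin 6 ≃ ↥H) := ⟨(H.equivFinOfCardEq hH.1).symm⟩
  obtain ⟨e, -, he⟩ := exists_coord hL hα hH η
  exact ⟨e, he⟩

theorem image_image_symm {β γ : Type*} [DecidableEq β] [DecidableEq γ] (e : β ≃ γ) (s : Finset γ) :
    (s.image e.symm).image e = s := by
  rw [image_image, e.self_comp_symm, image_id]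

theorem iso_plane {β : Type*} [Fintype β] [DecidableEq β] (hα : Fintype.card α = 21) (hβ : Fintype.card β = 21)
    {L' : Set (Finset β)} (hL : IsSteinerSystem 2 5 L) (hL' : IsSteinerSystem 2 5 L') : SetSystemIso L L' := by
  obtain ⟨e, he⟩ := exists_model hL hα
  obtain ⟨e', he'⟩ := exists_model hL' hβ
  refine ⟨e.trans e'.symm, ?_⟩
  have h : (fun l : Finset α => l.image (e.trans e'.symm)) =
      (fun l : Finset (Fin 21) => l.image e'.symm) ∘ fun l : Finset α => l.image e := funext fun l => by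
    simp [image_image]
  rw [h, Set.image_comp, he, ← he', Set.image_image]
  convert Set.image_id L' using 2 with l
  simp [image_image]

/-- a numbering of a hyperoval extends to one automorphism -/
theorem exists_unique_aut (hL : IsSteinerSystem 2 5 L) (hα : Fintype.card α = 21) {H : Finset α}
    (hH : IsOval L H) (σ : Equiv.Perm ↥H) :
    ∃! g : Equiv.Perm α, g ∈ setSystemAut L ∧ ∀ p : ↥H, g p = σ p := by
  classical
  set η := (H.equivFinOfCardEq hH.1).symm
  obtain ⟨e, hel, he⟩ := exists_coord hL hα hH η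
  obtain ⟨e', hel', he'⟩ := exists_coord hL hα hH (η.trans σ)
  have hmem : e.trans e'.symm ∈ setSystemAut L := by
    rw [MulAction.mem_stabilizer_iff, ← Set.image_smul]
    have h : (fun l : Finset α => e.trans e'.symm • l) =
        (fun l : Finset (Fin 21) => l.image e'.symm) ∘ fun l : Finset α => l.image e := funext fun l => by
      simp [smul_finset_def, image_image, Function.comp_def]
    rw [h, Set.image_comp, he, ← he', Set.image_image]
    convert Set.image_id L using 2 with l
    simp [image_image]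
  refine ⟨e.trans e'.symm, ⟨hmem, fun p => ?_⟩, fun g ⟨hg, hgp⟩ => ?_⟩
  · obtain ⟨i, rfl⟩ := η.surjective p
    show e'.symm (e (η i)) = σ (η i)
    rw [hel, ← hel']
    simp
  -- an automorphism fixing the hyperoval is trivial
  have hfix : ∀ k : Equiv.Perm α, k ∈ setSystemAut L → (∀ p ∈ H, k p = p) → k = 1 := by
    intro k hk hkH
    refine Equiv.ext fun x => e.injective ?_
    show e (k x) = e x
    by_cases hx : x ∈ H
    · rw [hkH x hx]
    have hkx : k x ∉ H := fun h => hx (by
      have := k.injective (hkH _ h)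
      rwa [← this])
    have hpt : ∀ y, y ∉ H → ∃ n, e y = pointOf n := by
      intro y hy
      have hge : 6 ≤ (e y).val := by
        by_contra hlt
        obtain ⟨i, hi⟩ : ∃ i : Fin 6, letter i = e y := ⟨⟨(e y).val, by omega⟩, rfl⟩
        rw [← hel i] at hi
        exact hy (e.injective hi ▸ (η i).2)
      exact ⟨⟨(e y).val - 6, by omega⟩, Fin.ext (by simp [pointOf]; omega)⟩
    have hlines : ∀ y, y ∉ H → ∀ i j : Fin 6,
        (∃ m ∈ lineMasks, letter i ∈ lineSet m ∧ letter j ∈ lineSet m ∧ e y ∈ lineSet m) ↔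
          ∃ l ∈ L, (η i : α) ∈ l ∧ (η j : α) ∈ l ∧ y ∈ l := by
      intro y hy i j
      constructor
      · rintro ⟨m, hm, h1, h2, h3⟩
        obtain ⟨l, hl, hle⟩ : lineSet m ∈ (fun l : Finset α => l.image e) '' L := by
          rw [he]; simp only [model, List.coe_toFinset, Set.mem_setOf_eq, List.mem_map]; exact ⟨m, hm, rfl⟩
        rw [← hle, ← hel i] at h1
        rw [← hle, ← hel j] at h2
        rw [← hle] at h3
        exact ⟨l, hl, (e.injective.mem_finset_image).1 h1, (e.injective.mem_finset_image).1 h2,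
          (e.injective.mem_finset_image).1 h3⟩
      · rintro ⟨l, hl, h1, h2, h3⟩
        have hlm : l.image e ∈ (model : Set (Finset (Fin 21))) := he ▸ ⟨l, hl, rfl⟩
        simp only [model, List.coe_toFinset, Set.mem_setOf_eq, List.mem_map] at hlm
        obtain ⟨m, hm, hme⟩ := hlm
        exact ⟨m, hm, by rw [hme, ← hel i]; exact mem_image_of_mem e h1,
          by rw [hme, ← hel j]; exact mem_image_of_mem e h2, by rw [hme]; exact mem_image_of_mem e h3⟩
    obtain ⟨n, hn⟩ := hpt x hx
    obtain ⟨n', hn'⟩ := hpt (k x) hkx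
    have key : ∀ a b : Fin 15, (∀ i j : Fin 6, i ≠ j →
        ((∃ m ∈ lineMasks, letter i ∈ lineSet m ∧ letter j ∈ lineSet m ∧ pointOf a ∈ lineSet m) →
          ∃ m ∈ lineMasks, letter i ∈ lineSet m ∧ letter j ∈ lineSet m ∧ pointOf b ∈ lineSet m)) → a = b := by
      decide +kernel
    rw [hn, hn']
    refine (congrArg pointOf (key n n' fun i j _ h => ?_)).symm
    rw [← hn, hlines x hx] at h
    rw [← hn', hlines (k x) hkx]
    obtain ⟨l, hl, h1, h2, h3⟩ := h
    refine ⟨k • l, (MulAction.mem_stabilizer_iff.1 hk) ▸ Set.smul_mem_smul_set hl, ?_, ?_, smul_mem_smul_finset h3⟩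
    · rw [← hkH _ (η i).2]; exact smul_mem_smul_finset h1
    · rw [← hkH _ (η j).2]; exact smul_mem_smul_finset h2
  have h1 := hfix ((e.trans e'.symm)⁻¹ * g) (mul_mem (inv_mem hmem) hg) fun p hp => by
    obtain ⟨i, hi⟩ := η.surjective ⟨p, hp⟩
    show (e.trans e'.symm).symm (g p) = p
    rw [hgp ⟨p, hp⟩, Equiv.symm_apply_eq]
    show ((σ ⟨p, hp⟩ : ↥H) : α) = e'.symm (e p)
    rw [← hi, show p = ((η i : ↥H) : α) by rw [hi], hel, ← hel']
    simp
  exact (inv_mul_eq_one.1 h1).symm

theorem count_model :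
    (((univ : Finset (Fin 21)).powersetCard 4).filter fun S =>
      ∀ m ∈ lineMasks, (S.filter fun i => m.testBit i.val).card ≤ 2).card = 2520 := by decide +kernel

theorem counts (hL : IsSteinerSystem 2 5 L) (hα : Fintype.card α = 21) :
    {S : Finset α | S.card = 4 ∧ ∀ l ∈ L, (l ∩ S).card ≤ 2}.ncard = 2520 ∧
      {H : Finset α | H.card = 6 ∧ ∀ l ∈ L, (l ∩ H).card ≤ 2}.ncard = 168 ∧
      ∀ S : Finset α, (S.card = 4 ∧ ∀ l ∈ L, (l ∩ S).card ≤ 2) →
        ∃! H : Finset α, (H.card = 6 ∧ ∀ l ∈ L, (l ∩ H).card ≤ 2) ∧ S ⊆ H := by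
  classical
  have huniq : ∀ S : Finset α, (S.card = 4 ∧ ∀ l ∈ L, (l ∩ S).card ≤ 2) →
      ∃! H : Finset α, IsOval L H ∧ S ⊆ H := by
    rintro S ⟨h4, hI⟩
    obtain ⟨a, b, c, d, h1, h2, h3, h5, h6, h7, rfl⟩ := card_eq_four.1 h4
    obtain ⟨H, hH, hs, hu⟩ := exists_oval hL hα (by simp [h1, h2, h3, h5, h6, h7]) hI
    exact ⟨H, ⟨hH, hs⟩, fun H' h => hu H' h.1 h.2⟩
  obtain ⟨e, he⟩ := exists_model hL hα
  set Q := ((univ : Finset α).powersetCard 4).filter fun S => ∀ l ∈ blocks L, (l ∩ S).card ≤ 2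
  have hQ : ∀ S, S ∈ Q ↔ S.card = 4 ∧ ∀ l ∈ L, (l ∩ S).card ≤ 2 := by simp [Q, mem_blocks]
  have hQc : Q.card = 2520 := by
    rw [← count_model]
    refine card_bij (fun S _ => S.image e) (fun S hS => ?_)
      (fun S _ T _ h => Finset.image_injective e.injective h) (fun T hT => ?_)
    · obtain ⟨h4, hI⟩ := (hQ S).1 hS
      refine mem_filter.2 ⟨mem_powersetCard.2 ⟨subset_univ _, by rw [card_image_of_injective _ e.injective, h4]⟩,
        fun m hm => ?_⟩
      obtain ⟨l, hl, hle⟩ : lineSet m ∈ (fun l : Finset α => l.image e) '' L := by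
        rw [he]; simp only [model, List.coe_toFinset, Set.mem_setOf_eq, List.mem_map]; exact ⟨m, hm, rfl⟩
      have hf : (S.image e).filter (fun i => m.testBit i.val) = lineSet m ∩ S.image e := by
        ext i; simp [lineSet, and_comm]
      rw [hf, ← hle, ← image_inter _ _ e.injective, card_image_of_injective _ e.injective]
      exact hI l hl
    · obtain ⟨hT1, hT2⟩ := mem_filter.1 hT
      refine ⟨T.image e.symm, (hQ _).2 ⟨by rw [card_image_of_injective _ e.symm.injective, (mem_powersetCard.1 hT1).2],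
        fun l hl => ?_⟩, image_image_symm e T⟩
      have hlm : l.image e ∈ (model : Set (Finset (Fin 21))) := he ▸ ⟨l, hl, rfl⟩
      simp only [model, List.coe_toFinset, Set.mem_setOf_eq, List.mem_map] at hlm
      obtain ⟨m, hm, hme⟩ := hlm
      have := hT2 m hm
      have hf : T.filter (fun i => m.testBit i.val) = lineSet m ∩ T := by ext i; simp [lineSet, and_comm]
      rw [hf, hme, ← image_image_symm e T, ← image_inter _ _ e.injective, card_image_of_injective _ e.injective] at this
      exact this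
  have h1 : {S : Finset α | S.card = 4 ∧ ∀ l ∈ L, (l ∩ S).card ≤ 2}.ncard = 2520 := by
    rw [← hQc, ← Set.ncard_coe_finset]
    exact congrArg Set.ncard (Set.ext fun S => (hQ S).symm)
  refine ⟨h1, ?_, huniq⟩
  set O := ((univ : Finset α).powersetCard 6).filter fun H => ∀ l ∈ blocks L, (l ∩ H).card ≤ 2
  have hO : ∀ H, H ∈ O ↔ IsOval L H := by simp [O, mem_blocks, IsOval]
  have hkey := sum_card_bipartiteAbove_eq_sum_card_bipartiteBelow (s := O) (t := Q) (fun H S => S ⊆ H)
  have ha : ∀ H ∈ O, (Q.bipartiteAbove (fun H S => S ⊆ H) H).card = 15 := by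
    intro H hH
    rw [hO] at hH
    have e15 : Q.bipartiteAbove (fun H S => S ⊆ H) H = H.powersetCard 4 := by
      ext S
      simp only [bipartiteAbove, mem_filter, hQ, mem_powersetCard]
      exact ⟨fun h => ⟨h.2, h.1.1⟩, fun h => ⟨⟨h.2, fun l hl => (card_le_card (inter_subset_inter_left h.1)).trans (hH.2 l hl)⟩, h.1⟩⟩
    rw [e15, card_powersetCard, hH.1]
    decide
  have hb : ∀ S ∈ Q, (O.bipartiteBelow (fun H S => S ⊆ H) S).card = 1 := by
    intro S hS
    obtain ⟨H, hH, hu⟩ := huniq S ((hQ S).1 hS)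
    refine card_eq_one.2 ⟨H, ?_⟩
    ext H'
    simp only [bipartiteBelow, mem_filter, hO, mem_singleton]
    exact ⟨fun h => hu H' h, fun h => h ▸ hH⟩
  rw [sum_congr rfl ha, sum_congr rfl hb, sum_const, sum_const, hQc, smul_eq_mul, smul_eq_mul] at hkey
  have : {H : Finset α | H.card = 6 ∧ ∀ l ∈ L, (l ∩ H).card ≤ 2}.ncard = O.card := by
    rw [← Set.ncard_coe_finset]
    exact congrArg Set.ncard (Set.ext fun H => (hO H).symm)
  omega

end CfsgLib.Spor.PlaneFour
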