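import Cfsg.Prelude.Def_Sporadic_a

/-!
Bit-mask encoding of subsets and permutations of the 24 points `Cfsg.GolayPt`,
used for kernel-checkable certificates.
-/

set_option autoImplicit false

namespace CfsgLib.Spor

open Cfsg
open scoped Pointwise

/-- numbering of the points: residues `0..22`, the extra point `23`. -/
def enc : GolayPt ≃ Fin 24 where
  toFun p := match p with
    | none => 23
    | some x => ⟨x.val, Nat.lt_trans (ZMod.val_lt x) (by norm_num)⟩
  invFun i := if i.val = 23 then none else some (i.val : ZMod 23)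
  left_inv := by decide
  right_inv := by decide

/-- number of a point as a natural number -/
def num (p : GolayPt) : ℕ := (enc p).val

theorem num_lt (p : GolayPt) : num p < 24 := (enc p).isLt

theorem num_injective : Function.Injective num :=
  fun _ _ h => enc.injective (Fin.ext h)

/-- the point with a given number -/
def pt (i : ℕ) : GolayPt := enc.symm (Fin.ofNat 24 i)

theorem num_pt {i : ℕ} (h : i < 24) : num (pt i) = i := by
  simp [num, pt, Nat.mod_eq_of_lt h]

theorem pt_num (p : GolayPt) : pt (num p) = p :=
  num_injective (num_pt (num_lt p))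

theorem num_none : num none = 23 := rfl

theorem num_some (x : ZMod 23) : num (some x) = x.val := rfl

/-- the set of points coded by a bit mask -/
def ofMask (m : ℕ) : Finset GolayPt := Finset.univ.filter fun p => m.testBit (num p) = true

theorem mem_ofMask {m : ℕ} {p : GolayPt} : p ∈ ofMask m ↔ m.testBit (num p) = true := by
  simp [ofMask]

/-- the all-ones mask -/
def FULL : ℕ := 16777215

/-- the mask of a set of points -/
def maskOf (s : Finset GolayPt) : ℕ :=
  (List.range 24).foldr (fun i acc => (if pt i ∈ s then 2 ^ i else 0) ||| acc) 0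

theorem testBit_foldr_lor (f : ℕ → Bool) (l : List ℕ) (j : ℕ) :
    (l.foldr (fun i acc => (if f i then 2 ^ i else 0) ||| acc) 0).testBit j =
      (decide (j ∈ l) && f j) := by
  induction l with
  | nil => simp
  | cons a l ih =>
    simp only [List.foldr_cons, Nat.testBit_lor, ih]
    by_cases h : j = a
    · subst h; cases hf : f j <;> simp [hf, Nat.testBit_two_pow]
    · cases hf : f a <;> simp [hf, h, Nat.testBit_two_pow, Ne.symm h]

theorem testBit_maskOf (s : Finset GolayPt) (j : ℕ) :
    (maskOf s).testBit j = (decide (j < 24) && decide (pt j ∈ s)) := by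
  have h := testBit_foldr_lor (fun i => decide (pt i ∈ s)) (List.range 24) j
  simp only [decide_eq_true_eq] at h
  rw [maskOf, h]; simp

theorem maskOf_lt (s : Finset GolayPt) : maskOf s < 2 ^ 24 :=
  Nat.lt_pow_two_of_testBit _ fun i hi => by
    rw [testBit_maskOf]; simp [Nat.not_lt.mpr hi]

theorem ofMask_maskOf (s : Finset GolayPt) : ofMask (maskOf s) = s := by
  ext p
  simp [mem_ofMask, testBit_maskOf, num_lt, pt_num]

theorem exists_ofMask (s : Finset GolayPt) : ∃ m, m < 2 ^ 24 ∧ ofMask m = s :=
  ⟨maskOf s, maskOf_lt s, ofMask_maskOf s⟩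

theorem ofMask_eq_ofMask {a b : ℕ} (ha : a < 2 ^ 24) (hb : b < 2 ^ 24) :
    ofMask a = ofMask b ↔ a = b := by
  refine ⟨fun h => Nat.eq_of_testBit_eq fun i => ?_, fun h => h ▸ rfl⟩
  by_cases hi : i < 24
  · have := congrArg (fun s => decide (pt i ∈ s)) h
    simpa [mem_ofMask, num_pt hi] using this
  · have hp : (2 : ℕ) ^ 24 ≤ 2 ^ i := Nat.pow_le_pow_right (by norm_num) (Nat.le_of_not_lt hi)
    rw [Nat.testBit_lt_two_pow (lt_of_lt_of_le ha hp), Nat.testBit_lt_two_pow (lt_of_lt_of_le hb hp)]

theorem maskOf_ofMask {m : ℕ} (h : m < 2 ^ 24) : maskOf (ofMask m) = m :=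
  (ofMask_eq_ofMask (maskOf_lt _) h).1 (ofMask_maskOf _)

theorem ofMask_zero : ofMask 0 = ∅ := by
  ext p; simp [mem_ofMask]

theorem ofMask_FULL : ofMask FULL = Finset.univ := by
  decide

theorem ofMask_and (a b : ℕ) : ofMask (a &&& b) = ofMask a ∩ ofMask b := by
  ext p; simp [mem_ofMask, Nat.testBit_land]

theorem ofMask_or (a b : ℕ) : ofMask (a ||| b) = ofMask a ∪ ofMask b := by
  ext p; simp [mem_ofMask, Nat.testBit_lor]

theorem ofMask_xor (a b : ℕ) : ofMask (a ^^^ b) = symmDiff (ofMask a) (ofMask b) := by
  ext p; simp only [Finset.mem_symmDiff, mem_ofMask, Nat.testBit_xor]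
  cases a.testBit (num p) <;> cases b.testBit (num p) <;> simp

theorem ofMask_compl (a : ℕ) : ofMask (FULL ^^^ a) = (ofMask a)ᶜ := by
  ext p
  have hF : FULL.testBit (num p) = true := mem_ofMask.1 (by rw [ofMask_FULL]; simp)
  simp [mem_ofMask, Nat.testBit_xor, hF]

theorem ofMask_two_pow {i : ℕ} (h : i < 24) : ofMask (2 ^ i) = {pt i} := by
  ext p
  simp only [mem_ofMask, Nat.testBit_two_pow, decide_eq_true_eq, Finset.mem_singleton]
  constructor
  · intro hh; rw [hh, pt_num]
  · intro hh; rw [hh, num_pt h]

theorem ofMask_subset {a b : ℕ} (h : a &&& b = a) : ofMask a ⊆ ofMask b := by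
  rw [← h, ofMask_and]; exact Finset.inter_subset_right

theorem ofMask_subset_iff {a b : ℕ} (ha : a < 2 ^ 24) :
    ofMask a ⊆ ofMask b ↔ a &&& b = a := by
  refine ⟨fun h => ?_, ofMask_subset⟩
  apply (ofMask_eq_ofMask (lt_of_le_of_lt Nat.and_le_left ha) ha).1
  rw [ofMask_and, Finset.inter_eq_left.2 h]

/-- bit counts of the numbers below 64, three bits each -/
def popTable : ℕ := 5266721624626081916652898579601397356032429460333936579656

/-- bit count of a number below 64 -/
def pop6 (x : ℕ) : ℕ := (popTable >>> (3 * x)) &&& 7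

/-- population count of a 24-bit mask -/
def pop (m : ℕ) : ℕ :=
  pop6 (m &&& 63) + pop6 ((m >>> 6) &&& 63) + pop6 ((m >>> 12) &&& 63) + pop6 ((m >>> 18) &&& 63)

theorem pop6_eq : ∀ x, x < 64 → pop6 x = (List.range 6).countP (fun j => x.testBit j) := by
  decide +kernel

theorem countP_block (m k : ℕ) :
    (List.range 6).countP (fun j => m.testBit (k + j)) = pop6 ((m >>> k) &&& 63) := by
  rw [pop6_eq _ (Nat.lt_succ_of_le Nat.and_le_right)]
  refine List.countP_congr fun j hj => ?_
  have hj' : j < 6 := List.mem_range.1 hj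
  rw [show (63 : ℕ) = 2 ^ 6 - 1 by norm_num, Nat.testBit_and, Nat.testBit_shiftRight,
    Nat.testBit_two_pow_sub_one]
  simp [hj']

theorem pop_eq_countP (m : ℕ) : (List.range 24).countP (fun i => m.testBit i) = pop m := by
  have e : List.range 24 = (List.range 6).map (fun j => 0 + j) ++ (List.range 6).map (fun j => 6 + j)
      ++ (List.range 6).map (fun j => 12 + j) ++ (List.range 6).map (fun j => 18 + j) := by decide
  rw [e]
  simp only [List.countP_append, List.countP_map, Function.comp_def]
  rw [countP_block m 0, countP_block m 6, countP_block m 12, countP_block m 18]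
  simp [pop]

theorem card_ofMask (m : ℕ) : (ofMask m).card = pop m := by
  have h : (ofMask m).map ⟨num, num_injective⟩ =
      (Finset.range 24).filter (fun i => m.testBit i = true) := by
    ext i
    simp only [Finset.mem_map, mem_ofMask, Function.Embedding.coeFn_mk, Finset.mem_filter,
      Finset.mem_range]
    constructor
    · rintro ⟨p, hp, rfl⟩; exact ⟨num_lt p, hp⟩
    · rintro ⟨hi, hb⟩; exact ⟨pt i, by rwa [num_pt hi], num_pt hi⟩
  rw [← Finset.card_map, h, ← pop_eq_countP, List.countP_eq_length_filter,
    ← List.toFinset_card_of_nodup (List.nodup_range.filter _)]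
  congr 1
  ext i
  simp

/-! ### packed permutations: five bits per point -/

/-- value of a packed permutation at a number -/
def app (P i : ℕ) : ℕ := (P >>> (5 * i)) &&& 31

/-- pack a function into a natural number -/
def packL : List ℕ → ℕ
  | [] => 0
  | x :: l => x ||| (packL l <<< 5)

/-- validity test for a packed permutation -/
def okP (P : ℕ) : Bool :=
  (List.range 24).all (fun i => decide (app P i < 24)) &&
    ((List.range 24).foldl (fun acc i => acc ||| (1 <<< app P i)) 0 == FULL)

/-- image of a mask under a packed permutation -/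
def imgP (P m : ℕ) : ℕ :=
  (List.range 24).foldl (fun acc i => if m.testBit i then acc ||| (1 <<< app P i) else acc) 0

theorem testBit_foldl_lor {β : Type*} (f : β → ℕ) (c : β → Bool) (l : List β) (acc j : ℕ) :
    (l.foldl (fun acc i => if c i then acc ||| (1 <<< f i) else acc) acc).testBit j = true ↔
      acc.testBit j = true ∨ ∃ i ∈ l, c i = true ∧ f i = j := by
  induction l generalizing acc with
  | nil => simp
  | cons a l ih =>
    simp only [List.foldl_cons, ih, List.mem_cons, exists_eq_or_imp]
    cases hc : c a <;>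
      simp [Nat.testBit_lor, Nat.one_shiftLeft, Nat.testBit_two_pow, or_assoc]

/-- the function on points of a packed permutation -/
def funP (P : ℕ) (p : GolayPt) : GolayPt := pt (app P (num p))

theorem funP_bijective {P : ℕ} (h : okP P = true) : Function.Bijective (funP P) := by
  rw [okP, Bool.and_eq_true, List.all_eq_true] at h
  obtain ⟨h1, h2⟩ := h
  refine Finite.surjective_iff_bijective.1 fun q => ?_
  have hq : FULL.testBit (num q) = true := mem_ofMask.1 (by rw [ofMask_FULL]; simp)
  have h2' : (List.range 24).foldl (fun acc i => acc ||| (1 <<< app P i)) 0 = FULL := by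
    simpa using h2
  rw [← h2'] at hq
  have h3 := (testBit_foldl_lor (app P) (fun _ => true) (List.range 24) 0 (num q))
  simp only [ite_true] at h3
  obtain h4 | ⟨i, hi, -, he⟩ := h3.1 hq
  · simp at h4
  · refine ⟨pt i, ?_⟩
    simp only [List.mem_range] at hi
    simp [funP, num_pt hi, he, pt_num]

/-- the permutation given by a packed code (identity on invalid input) -/
noncomputable def mkPerm (P : ℕ) : Equiv.Perm GolayPt :=
  if h : okP P = true then Equiv.ofBijective _ (funP_bijective h) else 1

theorem mkPerm_apply {P : ℕ} (h : okP P = true) (p : GolayPt) : mkPerm P p = funP P p := by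
  simp [mkPerm, h]

theorem app_lt {P i : ℕ} (h : okP P = true) (hi : i < 24) : app P i < 24 := by
  rw [okP, Bool.and_eq_true, List.all_eq_true] at h
  simpa using h.1 i (List.mem_range.2 hi)

theorem num_mkPerm {P : ℕ} (h : okP P = true) (p : GolayPt) :
    num (mkPerm P p) = app P (num p) := by
  rw [mkPerm_apply h, funP, num_pt (app_lt h (num_lt p))]

theorem smul_eq_image (σ : Equiv.Perm GolayPt) (s : Finset GolayPt) : σ • s = s.image σ := rfl

theorem mem_smul_iff {σ : Equiv.Perm GolayPt} {s : Finset GolayPt} {p : GolayPt} :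
    σ p ∈ σ • s ↔ p ∈ s := by
  rw [smul_eq_image]; simp

theorem smul_ofMask {P : ℕ} (h : okP P = true) (m : ℕ) :
    mkPerm P • ofMask m = ofMask (imgP P m) := by
  ext q
  rw [smul_eq_image, Finset.mem_image, mem_ofMask, imgP,
    testBit_foldl_lor (app P) (fun i => m.testBit i)]
  constructor
  · rintro ⟨p, hp, rfl⟩
    exact Or.inr ⟨num p, List.mem_range.2 (num_lt p), mem_ofMask.1 hp, (num_mkPerm h p).symm⟩
  · rintro (h0 | ⟨i, hi, hb, he⟩)
    · simp at h0
    · have hi' := List.mem_range.1 hi
      exact ⟨pt i, mem_ofMask.2 (by rwa [num_pt hi']),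
        num_injective (by rw [num_mkPerm h, num_pt hi', he])⟩

/-- product of packed permutations -/
def mulP (P Q : ℕ) : ℕ :=
  (List.range 24).foldl (fun acc i => acc ||| (app P (app Q i) <<< (5 * i))) 0

end CfsgLib.Spor
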