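import Cfsg.Agent.Spor.M24Base
import Cfsg.Agent.Spor.Kinds

/-!
Multiple transitivity and restriction homomorphisms from strong generating chains.
-/

set_option autoImplicit false

namespace CfsgLib.Spor

open Cfsg
open scoped Pointwise

theorem gtGroup_nil : gtGroup [] = ⊥ := by
  rw [gtGroup, Subgroup.closure_eq_bot_iff]
  rintro σ ⟨g, hg, -⟩
  simp at hg

theorem chain_levels_all (ls : List Level) (H : Subgroup (Equiv.Perm GolayPt))
    (hok : chainOK ls = true) (hsub : gtGroup (chainTop ls) ≤ H) (hc : Nat.card H ≤ chainSize ls)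
    (k : ℕ) (hk : k ≤ ls.length) :
    (∀ σ, σ ∈ gtGroup (chainTop (ls.drop k)) ↔
        σ ∈ H ∧ ∀ l ∈ ls.take k, σ (pt l.base) = pt l.base) ∧
      Nat.card (gtGroup (chainTop (ls.drop k))) = chainSize (ls.drop k) := by
  rcases Nat.lt_or_ge k ls.length with h | h
  · exact chain_levels k ls H hok hsub hc h
  have hk' : k = ls.length := le_antisymm hk h
  subst hk'
  rw [List.drop_length, List.take_length]
  simp only [chainTop, gtGroup_nil, chainSize, Subgroup.card_bot, and_true]
  intro σ
  constructor
  · intro hσ
    rw [Subgroup.mem_bot.1 hσ]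
    exact ⟨H.one_mem, fun _ _ => rfl⟩
  · rintro ⟨hσ, hfix⟩
    rcases List.eq_nil_or_concat ls with rfl | ⟨ls', l, rfl⟩
    · simp only [chainTop, chainSize] at hsub hc
      rw [Subgroup.mem_bot]
      have h1 : Nat.card H = 1 := le_antisymm hc (Nat.card_pos)
      rw [Subgroup.card_eq_one] at h1
      exact Subgroup.mem_bot.1 (h1 ▸ hσ)
    · rw [List.concat_eq_append] at hok hsub hc hfix
      obtain ⟨h1, h2⟩ := chain_levels ls'.length (ls' ++ [l]) H hok hsub hc (by simp)
      rw [List.drop_left] at h1 h2
      simp only [List.take_left] at h1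
      have hmem : σ ∈ gtGroup (chainTop [l]) :=
        (h1 σ).2 ⟨hσ, fun m hm => hfix m (List.mem_append.2 (Or.inl hm))⟩
      have hl : l.ok = true := by
        have : ∀ (as : List Level), chainOK (as ++ [l]) = true → l.ok = true := by
          intro as
          induction as with
          | nil => exact fun h => h
          | cons a as ih =>
            intro h
            cases as with
            | nil =>
              simp only [List.cons_append, List.nil_append, chainOK, Bool.and_eq_true] at h
              exact h.1.2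
            | cons b bs =>
              simp only [List.cons_append, chainOK, Bool.and_eq_true] at h
              exact ih h.1.2
        exact this ls' hok
      obtain ⟨hcard, hL⟩ := Level.orb_subset hl
      obtain ⟨he, -⟩ := exact_of_card (K := ⊥) _ bot_le (by simp [Subgroup.mem_bot]) hL
        (by rw [hcard]; simp only [chainTop] at h2; rw [h2]; simp [chainSize])
      rw [Subgroup.mem_bot]
      refine Subgroup.mem_bot.1 (he ▸ Subgroup.mem_inf.2 ⟨hmem, ?_⟩)
      exact MulAction.mem_stabilizer_iff.2 (hfix l (by simp))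

/-- the first base points as a tuple -/
def baseTuple (ls : List Level) (k : ℕ) (i : Fin k) : GolayPt :=
  pt ((ls.getD i.val ⟨[], 0, []⟩).base)

/-- data describing a group acting multiply transitively on a set of points through a chain -/
def transOK (ls : List Level) (A k : ℕ) : Bool :=
  chainOK ls && decide (k ≤ ls.length) && (chainTop ls).all (fun g => Nat.beq (g.img A) A) &&
    nodupB 8 ((ls.take k).map fun l => l.base % 24) &&
    (ls.take k).all (fun l => A.testBit (l.base % 24)) &&
    Nat.beq ((pop A).descFactorial k * chainSize (ls.drop k)) (chainSize ls)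

theorem transitive_of_chain {H : Subgroup (Equiv.Perm GolayPt)} {ls : List Level} {A k : ℕ}
    (hsub : gtGroup (chainTop ls) ≤ H) (hc : Nat.card H ≤ chainSize ls)
    (h : transOK ls A k = true) (x y : Fin k ↪ GolayPt) (hx : ∀ i, x i ∈ ofMask A)
    (hy : ∀ i, y i ∈ ofMask A) :
    (∃ g ∈ H, ∀ i, g (x i) = y i) ∧
      Nat.card {g : Equiv.Perm GolayPt // g ∈ H ∧ ∀ i, g (x i) = x i} = chainSize (ls.drop k) := by
  classical
  simp only [transOK, Bool.and_eq_true, decide_eq_true_eq, List.all_eq_true] at h
  obtain ⟨⟨⟨⟨⟨hok, hk⟩, hA⟩, hnd⟩, hbA⟩, hsz⟩ := h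
  have hsz' := Nat.eq_of_beq_eq_true hsz
  obtain ⟨htop, hHcard⟩ := card_gtGroup_tail ls hok hsub hc
  have hinv : ∀ g ∈ H, g • ofMask A = ofMask A := by
    intro g hg
    rw [← htop] at hg
    refine MulAction.mem_stabilizer_iff.1 (gtGroup_le (gs := chainTop ls) (fun t ht => ?_) hg)
    have htok : t.ok = true := by
      cases ls with
      | nil => simp [chainTop] at ht
      | cons l ls =>
        cases ls with
        | nil => simp only [chainOK, Level.ok, Bool.and_eq_true, List.all_eq_true] at hok
                 exact hok.1.1 t ht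
        | cons a b => simp only [chainOK, Level.ok, Bool.and_eq_true, List.all_eq_true] at hok
                      exact hok.1.1.1.1 t ht
    rw [MulAction.mem_stabilizer_iff, GT.smul_ofMask htok, Nat.eq_of_beq_eq_true (hA t ht)]
  have hn := nodup_of_nodupB _ _ hnd
  have hlen : (ls.take k).length = k := by simp [List.length_take, hk]
  have hget : ∀ i : Fin k, ls.getD i.val ⟨[], 0, []⟩ = (ls.take k)[i.val]'(by rw [hlen]; exact i.2) := by
    intro i
    rw [List.getElem_take, List.getD_eq_getElem?_getD, List.getElem?_eq_getElem (by omega)]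
    rfl
  have hinj : Function.Injective (baseTuple ls k) := by
    intro i j hij
    have := congrArg num hij
    simp only [baseTuple, num, pt, Equiv.apply_symm_apply, Fin.val_ofNat] at this
    rw [hget, hget] at this
    have h2 := (List.Nodup.getElem_inj_iff hn (hi := by rw [List.length_map, hlen]; exact i.2)
      (hj := by rw [List.length_map, hlen]; exact j.2)).1 (by simpa using this)
    exact Fin.ext h2
  let x0 : Fin k ↪ GolayPt := ⟨baseTuple ls k, hinj⟩
  let S : Set (Fin k ↪ GolayPt) := {z | ∀ i, z i ∈ ofMask A}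
  have hstab : Nat.card (MulAction.stabilizer H x0) = chainSize (ls.drop k) := by
    obtain ⟨h1, h2⟩ := chain_levels_all ls H hok hsub hc k hk
    rw [← h2]
    refine Nat.card_congr
      { toFun := fun g => ⟨(g.1 : Equiv.Perm GolayPt), (h1 _).2 ⟨g.1.2, ?_⟩⟩
        invFun := fun g => ⟨⟨g.1, ((h1 _).1 g.2).1⟩, ?_⟩
        left_inv := fun _ => rfl
        right_inv := fun _ => rfl }
    · intro l hl
      obtain ⟨i, hi, rfl⟩ := List.mem_iff_getElem.1 hl
      have := DFunLike.congr_fun (MulAction.mem_stabilizer_iff.1 g.2) ⟨i, by omega⟩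
      simp only [x0, baseTuple] at this
      rw [← hget ⟨i, by omega⟩]
      exact this
    · rw [MulAction.mem_stabilizer_iff]
      refine DFunLike.ext _ _ fun i => ?_
      show (g.1 : Equiv.Perm GolayPt) (baseTuple ls k i) = baseTuple ls k i
      rw [baseTuple, hget]
      exact ((h1 _).1 g.2).2 _ (List.getElem_mem _)
  have horb := ncard_orbit_mul_card (G := H) x0
  rw [hstab, hHcard, ← hsz'] at horb
  have hpos : 0 < chainSize (ls.drop k) := by rw [← hstab]; exact Nat.card_pos
  have horb' := Nat.eq_of_mul_eq_mul_right hpos horb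
  have hS : S.ncard = (pop A).descFactorial k := by
    rw [← Nat.card_coe_set_eq, ← card_ofMask]
    rw [Nat.card_congr (β := Fin k ↪ ↥(ofMask A))
      { toFun := fun z => ⟨fun i => ⟨z.1 i, z.2 i⟩, fun a b hab => z.1.injective (congrArg Subtype.val hab)⟩
        invFun := fun z => ⟨z.trans (Function.Embedding.subtype _), fun i => (z i).2⟩
        left_inv := fun _ => rfl
        right_inv := fun _ => rfl }, Nat.card_eq_fintype_card, Fintype.card_embedding_eq]
    simp
  have hsubS : MulAction.orbit H x0 ⊆ S := by
    rintro _ ⟨g, rfl⟩ i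
    show (g : Equiv.Perm GolayPt) (baseTuple ls k i) ∈ ofMask A
    rw [← hinv g g.2]
    refine mem_smul_iff.2 ?_
    rw [baseTuple, mem_ofMask, num, pt, Equiv.apply_symm_apply, Fin.val_ofNat, hget]
    exact hbA _ (List.getElem_mem _)
  have heq : MulAction.orbit H x0 = S :=
    Set.eq_of_subset_of_ncard_le hsubS (hS.trans horb'.symm).le (Set.toFinite _)
  have hxo : x ∈ MulAction.orbit H x0 := heq ▸ hx
  have hyo : y ∈ MulAction.orbit H x0 := heq ▸ hy
  constructor
  · have hyo' : y ∈ MulAction.orbit H x :=
      (Set.ext_iff.1 (MulAction.orbit_eq_iff.2 hxo).symm y).1 hyo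
    obtain ⟨g, hg⟩ := hyo'
    exact ⟨g, g.2, fun i => DFunLike.congr_fun hg i⟩
  · have h3 := ncard_orbit_mul_card (G := H) x
    have e3 : (MulAction.orbit H x).ncard = (pop A).descFactorial k :=
      (congrArg Set.ncard (MulAction.orbit_eq_iff.2 hxo)).trans horb'
    have h3' : (pop A).descFactorial k * Nat.card (MulAction.stabilizer H x) =
        (pop A).descFactorial k * chainSize (ls.drop k) :=
      ((congrArg (· * Nat.card (MulAction.stabilizer H x)) e3).symm.trans h3).trans
        (hHcard.trans hsz'.symm)
    have h4 := Nat.eq_of_mul_eq_mul_left (Nat.descFactorial_pos.2 (by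
      have : (Fin k ↪ ↥(ofMask A)) := ⟨fun i => ⟨x i, hx i⟩, fun a b hab => x.injective (congrArg Subtype.val hab)⟩
      have := Fintype.card_le_of_embedding this
      simpa [card_ofMask] using this)) h3'
    rw [← h4]
    exact Nat.card_congr
      { toFun := fun g => ⟨⟨g.1, g.2.1⟩, DFunLike.ext _ _ g.2.2⟩
        invFun := fun g => ⟨g.1.1, g.1.2, fun i => DFunLike.congr_fun g.2 i⟩
        left_inv := fun _ => rfl
        right_inv := fun _ => rfl }

/-- the action of a group of permutations on an invariant set of points -/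
noncomputable def restrictHom (H : Subgroup (Equiv.Perm GolayPt)) (A : Finset GolayPt)
    (hA : ∀ g ∈ H, g • A = A) : ↥H →* Equiv.Perm ↥A where
  toFun g := (g : Equiv.Perm GolayPt).subtypePerm fun p => by
    conv_lhs => rw [← hA g g.2]
    exact mem_smul_iff
  map_one' := by ext p; rfl
  map_mul' g h := by ext p; rfl

@[simp] theorem restrictHom_apply (H : Subgroup (Equiv.Perm GolayPt)) (A : Finset GolayPt)
    (hA : ∀ g ∈ H, g • A = A) (g : H) (p : A) :
    ((restrictHom H A hA g p : A) : GolayPt) = (g : Equiv.Perm GolayPt) p := rfl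

theorem smul_ofMask_of_chain {H : Subgroup (Equiv.Perm GolayPt)} {ls : List Level} {A k : ℕ}
    (hsub : gtGroup (chainTop ls) ≤ H) (hc : Nat.card H ≤ chainSize ls)
    (h : transOK ls A k = true) : ∀ g ∈ H, g • ofMask A = ofMask A := by
  simp only [transOK, Bool.and_eq_true, decide_eq_true_eq, List.all_eq_true] at h
  obtain ⟨⟨⟨⟨⟨hok, -⟩, hA⟩, -⟩, -⟩, -⟩ := h
  obtain ⟨htop, -⟩ := card_gtGroup_tail ls hok hsub hc
  intro g hg
  rw [← htop] at hg
  refine MulAction.mem_stabilizer_iff.1 (gtGroup_le (gs := chainTop ls) (fun t ht => ?_) hg)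
  have htok : t.ok = true := by
    cases ls with
    | nil => simp [chainTop] at ht
    | cons l ls =>
      cases ls with
      | nil => simp only [chainOK, Level.ok, Bool.and_eq_true, List.all_eq_true] at hok
               exact hok.1.1 t ht
      | cons a b => simp only [chainOK, Level.ok, Bool.and_eq_true, List.all_eq_true] at hok
                    exact hok.1.1.1.1 t ht
  rw [MulAction.mem_stabilizer_iff, GT.smul_ofMask htok, Nat.eq_of_beq_eq_true (hA t ht)]

/-- a faithful action realising all permutations of the set -/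
noncomputable def permEquivOfChain {H : Subgroup (Equiv.Perm GolayPt)} {ls : List Level} {A n : ℕ}
    (hsub : gtGroup (chainTop ls) ≤ H) (hc : Nat.card H ≤ chainSize ls)
    (h : transOK ls A n = true) (hn : pop A = n) (h1 : chainSize (ls.drop n) = 1) :
    ↥H ≃* Equiv.Perm ↥(ofMask A) := by
  refine MulEquiv.ofBijective (restrictHom H (ofMask A) (smul_ofMask_of_chain hsub hc h)) ⟨?_, ?_⟩
  · rw [injective_iff_map_eq_one]
    intro g hg
    let e : Fin n ↪ GolayPt := ((Finset.equivFinOfCardEq ((card_ofMask A).trans hn)).symm.toEmbedding).trans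
      (Function.Embedding.subtype _)
    obtain ⟨-, h2⟩ := transitive_of_chain hsub hc h e e (fun i => Subtype.coe_prop _) fun i => Subtype.coe_prop _
    rw [h1] at h2
    have hfix : ∀ i, (g : Equiv.Perm GolayPt) (e i) = e i := fun i => by
      have := congrArg (fun t : Equiv.Perm ↥(ofMask A) => ((t ((Finset.equivFinOfCardEq
        ((card_ofMask A).trans hn)).symm i) : ↥(ofMask A)) : GolayPt)) hg
      exact this
    have hsing := (Nat.card_eq_one_iff_unique.1 h2).1
    have heq1 := @Subsingleton.elim _ hsing
      (⟨g.1, g.2, hfix⟩ : {g : Equiv.Perm GolayPt // g ∈ H ∧ ∀ i, g (e i) = e i})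
      ⟨1, H.one_mem, fun _ => rfl⟩
    have heq2 : (g : Equiv.Perm GolayPt) = 1 := congrArg Subtype.val heq1
    exact Subtype.ext heq2
  · intro σ
    let f := (Finset.equivFinOfCardEq ((card_ofMask A).trans hn)).symm
    let e : Fin n ↪ GolayPt := f.toEmbedding.trans (Function.Embedding.subtype _)
    let e' : Fin n ↪ GolayPt := (f.trans σ).toEmbedding.trans (Function.Embedding.subtype _)
    obtain ⟨⟨g, hg, hge⟩, -⟩ := transitive_of_chain hsub hc h e e' (fun i => Subtype.coe_prop _)
      fun i => Subtype.coe_prop _
    refine ⟨⟨g, hg⟩, Equiv.ext fun p => Subtype.ext ?_⟩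
    have := hge (f.symm p)
    simp only [e, e', Function.Embedding.trans_apply, Equiv.coe_toEmbedding, Equiv.trans_apply,
      Equiv.apply_symm_apply, Function.Embedding.coe_subtype] at this
    exact this

end CfsgLib.Spor
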