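import Cfsg.Agent.Lie.Refl
import Cfsg.Prelude.Def_SporadicB

/-!
A checker for the vanishing of the first cohomology of small orthogonal groups over two elements.
-/

set_option autoImplicit false
set_option linter.unusedSectionVars false

namespace CfsgLib.Spor.CocycleVanish

open CfsgLib.Lie Matrix
open scoped commutatorElement

local notation "K" => ZMod 2

/-- image of a masked vector under columns -/
def apM (n : ℕ) (A : List ℕ) (x : ℕ) : ℕ :=
  (List.range n).foldl (fun s j => if x.testBit j then s ^^^ A.getD j 0 else s) 0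

/-- product of column lists -/
def comp (n : ℕ) (A B : List ℕ) : List ℕ := B.map (apM n A)

/-- identity columns -/
def idC (n : ℕ) : List ℕ := (List.range n).map (2 ^ ·)

/-- polar form on masks -/
def polB (qB : ℕ → Bool) (a b : ℕ) : Bool := (qB (a ^^^ b) ^^ qB a) ^^ qB b

/-- transvection columns -/
def refC (n : ℕ) (qB : ℕ → Bool) (a : ℕ) : List ℕ :=
  (List.range n).map fun j => 2 ^ j ^^^ (if polB qB a (2 ^ j) then a else 0)

/-- product of transvections -/
def evC (n : ℕ) (qB : ℕ → Bool) (w : List ℕ) : List ℕ :=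
  w.foldl (fun A a => comp n A (refC n qB a)) (idC n)

/-- consecutive pairs generate groups of order six -/
def pairsB (n : ℕ) (qB : ℕ → Bool) : List ℕ → Bool
  | [] => true
  | [_] => false
  | a :: b :: l =>
    let A := refC n qB a
    let B := refC n qB b
    let C := comp n A B
    qB a && qB b && (comp n A A == idC n) && (comp n B B == idC n) &&
      (comp n (comp n C C) (comp n C C) == C) && pairsB n qB l

/-- sum of column lists -/
def xorC (n : ℕ) (A B : List ℕ) : List ℕ := (List.range n).map fun j => A.getD j 0 ^^^ B.getD j 0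

/-- matrix and crossed matrix of a word in two generators -/
def track (n : ℕ) (G1 G2 : List ℕ) (w : List ℕ) : List ℕ × List ℕ :=
  w.foldl (fun s k => if k = 0 then (comp n s.1 G1, s.2) else (comp n s.1 G2, xorC n s.2 s.1)) (idC n, List.replicate n 0)

/-- the form table and the bit checks -/
def bitsB (n : ℕ) (qB : ℕ → Bool) : Bool :=
  (List.range (2 ^ n)).all fun m => (apM n (idC n) m == m) && (qB 0 == false)

/-- the certificate -/
def certB (n : ℕ) (qB : ℕ → Bool) (a0 : ℕ) (w : List ℕ) (inv : List ℕ) (rels : List (List ℕ))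
    (ord : List (ℕ × ℕ × ℕ)) : Bool :=
  let G1 := evC n qB w
  let R0 := refC n qB a0
  let G2 := comp n (comp n R0 G1) R0
  qB a0 && decide (a0 < 2 ^ n) && pairsB n qB w && w.all (fun a => decide (a < 2 ^ n)) &&
  ((List.range (2 ^ n)).all fun x => decide (inv.getD x 0 < 2 ^ n) && apM n G1 (inv.getD x 0) ^^^ inv.getD x 0 == x) &&
  (comp n R0 R0 == idC n) && (comp n (comp n R0 G2) R0 == G1) &&
  (let ts := rels.map (track n G1 G2)
   (ts.all fun t => t.1 == idC n) &&
    ((List.range (2 ^ n)).all fun v => v == 0 || ts.any fun t => !(apM n t.2 v == 0))) &&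
  ((List.range ord.length).all fun i =>
    let e := ord.getD i (0, 0, 0)
    decide (e.1 < 2 ^ n) && qB e.1 && ((i == 0 && e.1 == a0) || (decide (e.2.2 < i) &&
      (let G := if e.2.1 = 0 then G1 else G2
       comp n (refC n qB e.1) G == comp n G (refC n qB (ord.getD e.2.2 (0, 0, 0)).1))))) &&
  ((List.range (2 ^ n)).all fun a => !qB a || (ord.map Prod.fst).contains a)

theorem zmod2 : ∀ c : K, c = 0 ∨ c = 1 := by decide

variable {ι : Type} [Fintype ι] [DecidableEq ι] (Q : QuadraticForm K (ι → K)) (n : ℕ) (pos : ι → ℕ) (qB : ℕ → Bool)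

/-- the vector of a mask -/
def toV (m : ℕ) : ι → K := fun i => if m.testBit (pos i) then 1 else 0

theorem toV_xor (a b : ℕ) : toV pos (a ^^^ b) = toV pos a + toV pos b := by
  funext i
  simp only [toV, Nat.testBit_xor, Pi.add_apply]
  cases a.testBit (pos i) <;> cases b.testBit (pos i) <;> simp
  decide

theorem toV_zero : toV pos 0 = (0 : ι → K) := by
  funext i
  simp [toV]

/-- a matrix described by columns -/
def Rep (g : Cfsg.isometryGroup K ⇑Q) (A : List ℕ) : Prop :=
  ∀ m, m < 2 ^ n → Refl.act Q g (toV pos m) = toV pos (apM n A m)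

variable (hbits : bitsB n qB = true) (hq : ∀ m, m < 2 ^ n → Q (toV pos m) = if qB m then 1 else 0)
  (hsurj : ∀ v : ι → K, ∃ m, m < 2 ^ n ∧ toV pos m = v) (hn : Fintype.card ι = n)

include hbits in
theorem bits {m : ℕ} (hm : m < 2 ^ n) : apM n (idC n) m = m := by
  have h := List.all_eq_true.1 hbits m (List.mem_range.2 hm)
  simp only [Bool.and_eq_true, beq_iff_eq] at h
  exact h.1

include hbits in
theorem lin {g : Cfsg.isometryGroup K ⇑Q} {A : List ℕ}
    (h : ∀ j, j < n → Refl.act Q g (toV pos (2 ^ j)) = toV pos (A.getD j 0)) : Rep Q n pos g A := by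
  intro m hm
  have key : ∀ (l : List ℕ) (s t : ℕ), (∀ j ∈ l, j < n) → Refl.act Q g (toV pos s) = toV pos t →
      Refl.act Q g (toV pos (l.foldl (fun s j => if m.testBit j then s ^^^ (idC n).getD j 0 else s) s)) =
        toV pos (l.foldl (fun s j => if m.testBit j then s ^^^ A.getD j 0 else s) t) := by
    intro l
    induction l with
    | nil => intro s t _ hst; exact hst
    | cons j l ih =>
      intro s t hl hst
      simp only [List.foldl_cons]
      have hj := hl j (List.mem_cons_self ..)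
      refine ih _ _ (fun i hi => hl i (List.mem_cons_of_mem _ hi)) ?_
      have he : (idC n).getD j 0 = 2 ^ j := by
        rw [idC, List.getD_eq_getElem _ _ (by simpa using hj)]
        simp
      by_cases hb : m.testBit j = true
      · rw [if_pos hb, if_pos hb, he, toV_xor, toV_xor, Refl.act, Matrix.mulVec_add]
        exact congrArg₂ (· + ·) hst (h j hj)
      · rw [if_neg hb, if_neg hb]; exact hst
  have := key (List.range n) 0 0 (fun j hj => List.mem_range.1 hj) (by
    rw [toV_zero, Refl.act, Matrix.mulVec_zero])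
  change Refl.act Q g (toV pos (apM n (idC n) m)) = toV pos (apM n A m) at this
  rwa [bits n qB hbits hm] at this

include hbits in
theorem rep_one : Rep Q n pos 1 (idC n) := fun m hm => by
  rw [Refl.act_one, bits n qB hbits hm]

include hbits hsurj in
theorem rep_mul {g h : Cfsg.isometryGroup K ⇑Q} {A B : List ℕ} (hB : B.length = n)
    (hlt : ∀ b ∈ B, b < 2 ^ n) (hg : Rep Q n pos g A) (hh : Rep Q n pos h B) :
    Rep Q n pos (g * h) (comp n A B) := by
  refine lin Q n pos qB hbits fun j hj => ?_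
  have hcol : apM n B (2 ^ j) = B.getD j 0 := by
    have hfold : ∀ (l : List ℕ) (s : ℕ), l.Nodup →
        l.foldl (fun s i => if (2 ^ j).testBit i then s ^^^ B.getD i 0 else s) s =
          if j ∈ l then s ^^^ B.getD j 0 else s := by
      intro l
      induction l with
      | nil => intro s _; simp
      | cons i l ih =>
        intro s hl
        rw [List.nodup_cons] at hl
        rw [List.foldl_cons, ih _ hl.2, Nat.testBit_two_pow]
        by_cases e : j = i
        · subst e
          simp [hl.1]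
        · simp [e]
    rw [apM, hfold _ 0 List.nodup_range, if_pos (List.mem_range.2 hj), Nat.zero_xor]
  rw [Refl.act_mul, hh _ (Nat.pow_lt_pow_right one_lt_two hj), hcol]
  have hjB : j < B.length := hB.symm ▸ hj
  rw [comp, List.getD_eq_getElem _ _ (show j < (B.map (apM n A)).length by simpa using hjB), List.getElem_map,
    List.getD_eq_getElem _ _ hjB]
  exact hg _ (hlt _ (List.getElem_mem hjB))

include hsurj in
theorem rep_ext {g h : Cfsg.isometryGroup K ⇑Q} {A : List ℕ} (hg : Rep Q n pos g A) (hh : Rep Q n pos h A) : g = h :=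
  Refl.act_ext fun x => by
    obtain ⟨m, hm, rfl⟩ := hsurj x
    rw [hg m hm, hh m hm]

theorem xor_lt {a b : ℕ} (ha : a < 2 ^ n) (hb : b < 2 ^ n) : a ^^^ b < 2 ^ n := Nat.xor_lt_two_pow ha hb

theorem apM_lt {A : List ℕ} (hA : ∀ b ∈ A, b < 2 ^ n) (x : ℕ) : apM n A x < 2 ^ n := by
  have key : ∀ (l : List ℕ) (s : ℕ), s < 2 ^ n →
      l.foldl (fun s j => if x.testBit j then s ^^^ A.getD j 0 else s) s < 2 ^ n := by
    intro l
    induction l with
    | nil => intro s hs; exact hs
    | cons j l ih =>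
      intro s hs
      rw [List.foldl_cons]
      refine ih _ ?_
      split
      · refine xor_lt n hs ?_
        rcases Nat.lt_or_ge j A.length with h | h
        · rw [List.getD_eq_getElem _ _ h]; exact hA _ (List.getElem_mem h)
        · rw [List.getD_eq_default _ _ h]; exact Nat.two_pow_pos n
      · exact hs
  exact key _ 0 (Nat.two_pow_pos n)

/-- well formed columns -/
def Good (A : List ℕ) : Prop := A.length = n ∧ ∀ b ∈ A, b < 2 ^ n

theorem good_id : Good n (idC n) := ⟨by simp [idC], fun b hb => by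
  obtain ⟨j, hj, rfl⟩ := List.mem_map.1 hb
  exact Nat.pow_lt_pow_right one_lt_two (List.mem_range.1 hj)⟩

theorem good_comp {A B : List ℕ} (hA : Good n A) (hB : Good n B) : Good n (comp n A B) :=
  ⟨by rw [comp, List.length_map, hB.1], fun b hb => by
    obtain ⟨c, -, rfl⟩ := List.mem_map.1 hb
    exact apM_lt n hA.2 c⟩

theorem good_ref {a : ℕ} (ha : a < 2 ^ n) : Good n (refC n qB a) := ⟨by simp [refC], fun b hb => by
  obtain ⟨j, hj, rfl⟩ := List.mem_map.1 hb
  refine xor_lt n (Nat.pow_lt_pow_right one_lt_two (List.mem_range.1 hj)) ?_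
  split
  · exact ha
  · exact Nat.two_pow_pos n⟩

include hq in
theorem polar_eq {a b : ℕ} (ha : a < 2 ^ n) (hb : b < 2 ^ n) :
    QuadraticMap.polar ⇑Q (toV pos a) (toV pos b) = if polB qB a b then 1 else 0 := by
  rw [QuadraticMap.polar, ← toV_xor, hq _ (xor_lt n ha hb), hq _ ha, hq _ hb, polB]
  cases qB (a ^^^ b) <;> cases qB a <;> cases qB b <;> decide

include hbits hq in
theorem rep_refl {a : ℕ} (ha : a < 2 ^ n) (hqa : qB a = true) :
    ∃ r : Cfsg.isometryGroup K ⇑Q, ((r : GL ι K) : Matrix ι ι K) = Cfsg.reflectionMatrix ⇑Q (toV pos a) ∧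
      Rep Q n pos r (refC n qB a) := by
  have h1 : Q (toV pos a) = 1 := by rw [hq _ ha, if_pos hqa]
  obtain ⟨r, hr⟩ := Refl.refl_exists (Q := Q) (v := toV pos a) (by rw [h1]; exact one_ne_zero)
  refine ⟨r, hr, lin Q n pos qB hbits fun j hj => ?_⟩
  have hm : 2 ^ j < 2 ^ n := Nat.pow_lt_pow_right one_lt_two hj
  rw [Refl.act, hr, Quad.reflection_mulVec, h1, inv_one, one_mul, polar_eq Q n pos qB hq ha hm,
    refC, List.getD_eq_getElem _ _ (by simpa using hj), List.getElem_map, List.getElem_range, toV_xor,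
    sub_eq_add_neg, ← neg_smul, CharTwo.neg_eq]
  cases polB qB a (2 ^ j)
  · simp [toV_zero]
  · simp

/-- the subgroup where a crossed homomorphism vanishes -/
def zeroSub (H : Subgroup (Cfsg.isometryGroup K ⇑Q)) (f : H → ι → K)
    (hf : ∀ g h : H, f (g * h) = f g + Refl.act Q g.1 (f h)) : Subgroup H where
  carrier := {g | f g = 0}
  mul_mem' {g h} hg hh := by
    show f (g * h) = 0
    rw [hf, show f g = 0 from hg, show f h = 0 from hh, Refl.act, Matrix.mulVec_zero, add_zero]
  one_mem' := by
    have := hf 1 1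
    rw [one_mul, show ((1 : H) : Cfsg.isometryGroup K ⇑Q) = 1 from rfl, Refl.act_one] at this
    exact left_eq_add.1 this
  inv_mem' {g} hg := by
    have h1 : f 1 = 0 := by
      have := hf 1 1
      rw [one_mul, show ((1 : H) : Cfsg.isometryGroup K ⇑Q) = 1 from rfl, Refl.act_one] at this
      exact left_eq_add.1 this
    show f g⁻¹ = 0
    have := hf g⁻¹ g
    rw [inv_mul_cancel, h1, show f g = 0 from hg, Refl.act, Matrix.mulVec_zero, add_zero] at this
    exact this.symm

theorem apM_xor {A B : List ℕ} (x : ℕ) : apM n (xorC n A B) x = apM n A x ^^^ apM n B x := by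
  have key : ∀ (l : List ℕ) (s t : ℕ), (∀ j ∈ l, j < n) →
      l.foldl (fun s j => if x.testBit j then s ^^^ (xorC n A B).getD j 0 else s) (s ^^^ t) =
        l.foldl (fun s j => if x.testBit j then s ^^^ A.getD j 0 else s) s ^^^
          l.foldl (fun s j => if x.testBit j then s ^^^ B.getD j 0 else s) t := by
    intro l
    induction l with
    | nil => intro s t _; rfl
    | cons j l ih =>
      intro s t hl
      simp only [List.foldl_cons]
      have hj := hl j (List.mem_cons_self ..)
      rw [show (xorC n A B).getD j 0 = A.getD j 0 ^^^ B.getD j 0 by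
        rw [xorC, List.getD_eq_getElem _ _ (by simpa using hj), List.getElem_map, List.getElem_range]]
      by_cases hb : x.testBit j = true
      · rw [if_pos hb, if_pos hb, if_pos hb, ← ih _ _ (fun i hi => hl i (List.mem_cons_of_mem _ hi))]
        congr 1
        simp only [Nat.xor_assoc, Nat.xor_left_comm]
      · rw [if_neg hb, if_neg hb, if_neg hb, ih _ _ (fun i hi => hl i (List.mem_cons_of_mem _ hi))]
  simpa [apM] using key (List.range n) 0 0 (fun j hj => List.mem_range.1 hj)

theorem apM_zero (x : ℕ) : apM n (List.replicate n 0) x = 0 := by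
  have key : ∀ (l : List ℕ), l.foldl (fun s j => if x.testBit j then s ^^^ (List.replicate n 0).getD j 0 else s) 0 = 0 := by
    intro l
    induction l with
    | nil => rfl
    | cons j l ih =>
      rw [List.foldl_cons]
      have : (List.replicate n 0).getD j 0 = 0 := by
        simp [List.getD_eq_getElem?_getD, List.getElem?_replicate]
        split <;> rfl
      simp only [this, Nat.xor_zero, ite_self]
      exact ih
  exact key _

include hbits hq hsurj hn in
theorem vanish (hgen : Subgroup.closure {g : Cfsg.isometryGroup K ⇑Q | ∃ a, a < 2 ^ n ∧ qB a = true ∧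
      Rep Q n pos g (refC n qB a)} = ⊤) {a0 : ℕ} {w inv : List ℕ} {rels : List (List ℕ)}
    {ord : List (ℕ × ℕ × ℕ)} (hc : certB n qB a0 w inv rels ord = true) (f : ↥(Cfsg.Omega K ⇑Q) → ι → K)
    (hf : ∀ g h : ↥(Cfsg.Omega K ⇑Q), f (g * h) = f g + Refl.act Q g.1 (f h)) :
    ∃ v : ι → K, ∀ g : ↥(Cfsg.Omega K ⇑Q), f g = Refl.act Q g.1 v - v := by
  classical
  obtain ⟨G1, hG1d⟩ : ∃ G, G = evC n qB w := ⟨_, rfl⟩
  obtain ⟨R0, hR0d⟩ : ∃ R, R = refC n qB a0 := ⟨_, rfl⟩
  simp only [certB, ← hG1d, ← hR0d, Bool.and_eq_true, decide_eq_true_eq, List.all_eq_true, List.any_eq_true,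
    beq_iff_eq, Bool.or_eq_true, Bool.not_eq_true', List.mem_range, beq_eq_false_iff_ne] at hc
  obtain ⟨⟨⟨⟨⟨⟨⟨⟨⟨hq0, ha0⟩, hpairs⟩, hwlt⟩, hfix⟩, hsq⟩, hswap⟩, hrel, hkill⟩, hord⟩, hall⟩ := hc
  simp only [List.mem_map, forall_exists_index, and_imp, forall_apply_eq_imp_iff₂, exists_exists_and_eq_and] at hrel hkill
  obtain ⟨r0, -, hr0⟩ := rep_refl Q n pos qB hbits hq ha0 hq0
  rw [← hR0d] at hr0
  have gR0 : Good n R0 := hR0d ▸ good_ref n qB ha0
  have mul := fun {g h : Cfsg.isometryGroup K ⇑Q} {A B : List ℕ} (hB : Good n B) (hg : Rep Q n pos g A)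
    (hh : Rep Q n pos h B) => rep_mul Q n pos qB hbits hsurj hB.1 hB.2 hg hh
  have ext := fun {g h : Cfsg.isometryGroup K ⇑Q} {A : List ℕ} (hg : Rep Q n pos g A) (hh : Rep Q n pos h A) =>
    rep_ext Q n pos hsurj hg hh
  have one := rep_one Q n pos qB hbits
  have gpair : ∀ (l : List ℕ), pairsB n qB l = true → (∀ a ∈ l, a < 2 ^ n) →
      ∀ (g : Cfsg.isometryGroup K ⇑Q) A, Good n A → Rep Q n pos g A → g ∈ Cfsg.Omega K ⇑Q →
        ∃ g' ∈ Cfsg.Omega K ⇑Q, Rep Q n pos g' (l.foldl (fun A a => comp n A (refC n qB a)) A) ∧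
          Good n (l.foldl (fun A a => comp n A (refC n qB a)) A) := by
    suffices ∀ k, ∀ (l : List ℕ), l.length ≤ k → pairsB n qB l = true → (∀ a ∈ l, a < 2 ^ n) →
        ∀ (g : Cfsg.isometryGroup K ⇑Q) A, Good n A → Rep Q n pos g A → g ∈ Cfsg.Omega K ⇑Q →
          ∃ g' ∈ Cfsg.Omega K ⇑Q, Rep Q n pos g' (l.foldl (fun A a => comp n A (refC n qB a)) A) ∧
            Good n (l.foldl (fun A a => comp n A (refC n qB a)) A) from fun l => this l.length l le_rfl
    intro k
    induction k with
    | zero =>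
      intro l hk _ _ g A hA hg hm
      rw [List.eq_nil_of_length_eq_zero (Nat.le_zero.1 hk)]
      exact ⟨g, hm, hg, hA⟩
    | succ k ih =>
      intro l hk
      rcases l with _ | ⟨a, _ | ⟨b, l⟩⟩
      · intro _ _ g A hA hg hm; exact ⟨g, hm, hg, hA⟩
      · intro h; simp [pairsB] at h
      intro h hl g A hA hg hm
      simp only [pairsB, Bool.and_eq_true, beq_iff_eq] at h
      obtain ⟨⟨⟨⟨⟨qa, qb⟩, caa⟩, cbb⟩, c4⟩, hrest⟩ := h
      have la := hl a (by simp)
      have lb := hl b (by simp)
      obtain ⟨r, -, hr⟩ := rep_refl Q n pos qB hbits hq la qa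
      obtain ⟨s, -, hs⟩ := rep_refl Q n pos qB hbits hq lb qb
      have ga := good_ref n qB la
      have gb := good_ref n qB lb
      have hrr : r * r = 1 := ext (mul ga hr hr) (by rw [caa]; exact one)
      have hss : s * s = 1 := ext (mul gb hs hs) (by rw [cbb]; exact one)
      have gc := good_comp n ga gb
      have hrs := mul gb hr hs
      have h4 : (r * s) * (r * s) * ((r * s) * (r * s)) = r * s :=
        ext (mul (good_comp n gc gc) (mul gc hrs hrs) (mul gc hrs hrs)) (by rw [c4]; exact hrs)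
      have hin : r * s ∈ Cfsg.Omega K ⇑Q := by
        have e : ⁅r, s⁆ = (r * s) * (r * s) := by
          rw [commutatorElement_def, inv_eq_of_mul_eq_one_right hrr, inv_eq_of_mul_eq_one_right hss]
          simp [mul_assoc]
        rw [← h4, ← e]
        have := Subgroup.commutator_mem_commutator (Subgroup.mem_top r) (Subgroup.mem_top s)
        exact mul_mem this this
      refine ih l (by simp only [List.length_cons] at hk; omega) hrest (fun c hc => hl c (by simp [hc])) _ _ (good_comp n (good_comp n hA ga) gb)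
        (mul gb (mul ga hg hr) hs) ?_
      rw [mul_assoc]
      exact mul_mem hm hin
  obtain ⟨g1, hg1, hG1, gG1⟩ := gpair w hpairs hwlt 1 _ (good_id n) one (one_mem _)
  change Rep Q n pos g1 (evC n qB w) at hG1
  change Good n (evC n qB w) at gG1
  rw [← hG1d] at hG1 gG1
  obtain ⟨G2, hG2d⟩ : ∃ G, G = comp n (comp n R0 G1) R0 := ⟨_, rfl⟩
  rw [← hG2d] at hrel hkill hord hswap
  have gG2 : Good n G2 := hG2d ▸ good_comp n (good_comp n gR0 gG1) gR0
  have hr0sq : r0 * r0 = 1 := ext (mul gR0 hr0 hr0) (by rw [hsq]; exact one)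
  have hG2 : Rep Q n pos (r0 * g1 * r0) G2 := hG2d ▸ mul gR0 (mul gG1 hr0 hG1) hr0
  have hg2 : r0 * g1 * r0 ∈ Cfsg.Omega K ⇑Q := by
    have := (inferInstance : (Cfsg.Omega K ⇑Q).Normal).conj_mem g1 hg1 r0
    rwa [inv_eq_of_mul_eq_one_right hr0sq] at this
  obtain ⟨g2, hg2d⟩ : ∃ g, g = r0 * g1 * r0 := ⟨_, rfl⟩
  rw [← hg2d] at hG2 hg2
  have hswap' : r0 * g2 * r0 = g1 := by
    rw [hg2d, mul_assoc r0 g1, ← mul_assoc, ← mul_assoc, hr0sq, one_mul, mul_assoc, hr0sq, mul_one]
  obtain ⟨c, hc'⟩ := hsurj (f ⟨g1, hg1⟩)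
  obtain ⟨hu, hueq⟩ := hfix c hc'.1
  obtain ⟨u, hud⟩ : ∃ u, u = inv.getD c 0 := ⟨_, rfl⟩
  rw [← hud] at hu hueq
  let v0 := toV pos u
  let f' : ↥(Cfsg.Omega K ⇑Q) → ι → K := fun g => f g + (Refl.act Q g.1 v0 + v0)
  have add2 : ∀ x : ι → K, x + x = 0 := fun x => funext fun i => CharTwo.add_self_eq_zero (x i)
  have hf' : ∀ g h, f' (g * h) = f' g + Refl.act Q g.1 (f' h) := by
    intro g h
    show f (g * h) + (Refl.act Q (g.1 * h.1) v0 + v0) = _
    rw [hf, Refl.act_mul]
    simp only [f', Refl.act, Matrix.mulVec_add]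
    funext i
    simp only [Pi.add_apply]
    generalize f g i = A0
    generalize (((g.1 : GL ι K) : Matrix ι ι K) *ᵥ f h) i = B0
    generalize (((g.1 : GL ι K) : Matrix ι ι K) *ᵥ (((h.1 : GL ι K) : Matrix ι ι K) *ᵥ v0)) i = C0
    generalize v0 i = D0
    generalize (((g.1 : GL ι K) : Matrix ι ι K) *ᵥ v0) i = E0
    revert A0 B0 C0 D0 E0
    decide
  let one1 : ↥(Cfsg.Omega K ⇑Q) := 1
  have hf1 : f' 1 = 0 := by
    have := hf' 1 1
    rw [one_mul, show ((1 : ↥(Cfsg.Omega K ⇑Q)) : Cfsg.isometryGroup K ⇑Q) = 1 from rfl, Refl.act_one] at this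
    exact left_eq_add.1 this
  have hz1 : f' ⟨g1, hg1⟩ = 0 := by
    show f _ + (Refl.act Q g1 (toV pos u) + toV pos u) = 0
    rw [hG1 u hu, ← toV_xor, hueq, hc'.2, add2]
  obtain ⟨v, hv, hvf⟩ := hsurj (f' ⟨g2, hg2⟩)
  have htrack : ∀ (l : List ℕ), ∀ (g : ↥(Cfsg.Omega K ⇑Q)) (A : List ℕ) (S : List ℕ),
      g.1 ∈ Subgroup.closure {g1, g2} → Good n A → Rep Q n pos g.1 A → f' g = toV pos (apM n S v) →
      ∀ e, e = l.foldl (fun s k => if k = 0 then (comp n s.1 G1, s.2) else (comp n s.1 G2, xorC n s.2 s.1)) (A, S) →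
      ∃ g' : ↥(Cfsg.Omega K ⇑Q), g'.1 ∈ Subgroup.closure {g1, g2} ∧ Rep Q n pos g'.1 e.1 ∧
        f' g' = toV pos (apM n e.2 v) := by
    intro l
    induction l with
    | nil => intro g A s hm _ hA hs e he; subst he; exact ⟨g, hm, hA, hs⟩
    | cons k l ih =>
      intro g A s hm gA hA hs e he
      rw [List.foldl_cons] at he
      by_cases hk : k = 0
      · rw [if_pos hk] at he
        refine ih (g * ⟨g1, hg1⟩) _ s (mul_mem hm (Subgroup.subset_closure (by simp))) (good_comp n gA gG1) (mul gG1 hA hG1) ?_ e he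
        rw [hf', hz1, Refl.act, Matrix.mulVec_zero, add_zero, hs]
      · rw [if_neg hk] at he
        refine ih (g * ⟨g2, hg2⟩) _ _ (mul_mem hm (Subgroup.subset_closure (by simp))) (good_comp n gA gG2) (mul gG2 hA hG2) ?_ e he
        rw [hf', hs, apM_xor, toV_xor, ← hvf, hA v hv]
  have hz2 : f' ⟨g2, hg2⟩ = 0 := by
    rcases hkill v hv with h0 | ⟨r, hr, hne⟩
    · rw [← hvf, h0, toV_zero]
    · exfalso
      obtain ⟨g', -, hg', hfg⟩ := htrack r 1 _ (List.replicate n 0) (one_mem _) (good_id n) one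
        (by rw [hf1, apM_zero, toV_zero]) _ rfl
      change Rep Q n pos g'.1 (track n G1 G2 r).1 at hg'
      change f' g' = toV pos (apM n (track n G1 G2 r).2 v) at hfg
      rw [hrel r hr] at hg'
      have : g' = 1 := Subtype.ext (ext hg' one)
      rw [this, hf1] at hfg
      have gtr : ∀ (l : List ℕ) (A S : List ℕ), Good n A → Good n S →
          Good n (l.foldl (fun s k => if k = 0 then (comp n s.1 G1, s.2) else (comp n s.1 G2, xorC n s.2 s.1)) (A, S)).2 := by
        intro l
        induction l with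
        | nil => intro A S _ hS; exact hS
        | cons k l ih =>
          intro A S hA hS
          rw [List.foldl_cons]
          split
          · exact ih _ _ (good_comp n hA gG1) hS
          · refine ih _ _ (good_comp n hA gG2) ⟨by simp [xorC], fun b hb => ?_⟩
            obtain ⟨j, hj, rfl⟩ := List.mem_map.1 hb
            rw [List.mem_range] at hj
            rw [List.getD_eq_getElem _ _ (hS.1.symm ▸ hj), List.getD_eq_getElem _ _ (hA.1.symm ▸ hj)]
            exact xor_lt n (hS.2 _ (List.getElem_mem _)) (hA.2 _ (List.getElem_mem _))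
      have gS : Good n (track n G1 G2 r).2 := gtr r _ _ (good_id n)
        ⟨List.length_replicate .., fun b hb => (List.eq_of_mem_replicate hb).symm ▸ Nat.two_pow_pos n⟩
      have hinj : Function.Bijective (fun m : Fin (2 ^ n) => toV (ι := ι) pos m.1) := by
        have hs : Function.Surjective (fun m : Fin (2 ^ n) => toV (ι := ι) pos m.1) := fun x => by
          obtain ⟨m, hm, hx⟩ := hsurj x; exact ⟨⟨m, hm⟩, hx⟩
        exact (Fintype.bijective_iff_surjective_and_card _).2 ⟨hs, by rw [Fintype.card_fin, Fintype.card_fun, ZMod.card, hn]⟩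
      have h0 := @hinj.1 ⟨_, apM_lt n gS.2 v⟩ ⟨0, Nat.two_pow_pos n⟩
        (by show toV pos _ = toV pos 0; rw [← hfg, toV_zero])
      exact hne (congrArg Fin.val h0)
  -- the two generators generate a normal subgroup with cyclic quotient
  let Kg : Subgroup (Cfsg.isometryGroup K ⇑Q) := Subgroup.closure {g1, g2}
  have hbig : Subgroup.closure ({g1, g2, r0} : Set (Cfsg.isometryGroup K ⇑Q)) = ⊤ := by
    rw [eq_top_iff, ← hgen, Subgroup.closure_le]
    rintro g ⟨a, ha, hqa, hg⟩
    have key : ∀ i, i < ord.length → ∀ t, Rep Q n pos t (refC n qB (ord.getD i (0, 0, 0)).1) →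
        t ∈ Subgroup.closure ({g1, g2, r0} : Set (Cfsg.isometryGroup K ⇑Q)) := by
      intro i
      induction i using Nat.strong_induction_on with
      | _ i ih =>
        intro hi t ht
        obtain ⟨⟨hlt, hqe⟩, hstep⟩ := hord i hi
        rcases hstep with ⟨-, he⟩ | ⟨hj, he⟩
        · rw [he, ← hR0d] at ht
          rw [ext ht hr0]
          exact Subgroup.subset_closure (by simp)
        · obtain ⟨⟨hlt', hqe'⟩, -⟩ := hord _ (hj.trans hi)
          obtain ⟨u, -, hU⟩ := rep_refl Q n pos qB hbits hq hlt' hqe'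
          have hu := ih _ hj (hj.trans hi) u hU
          have gU := good_ref n qB hlt'
          have conj : ∀ {z G}, Good n G → Rep Q n pos z G → z ∈ Subgroup.closure ({g1, g2, r0} : Set (Cfsg.isometryGroup K ⇑Q)) →
              comp n (refC n qB (ord.getD i (0, 0, 0)).1) G = comp n G (refC n qB (ord.getD (ord.getD i (0, 0, 0)).2.2 (0, 0, 0)).1) →
              t ∈ Subgroup.closure ({g1, g2, r0} : Set (Cfsg.isometryGroup K ⇑Q)) := by
            intro z G gG hz hm e
            have := ext (mul gG ht hz) (by rw [e]; exact mul gU hz hU)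
            rw [eq_mul_inv_of_mul_eq this]
            exact mul_mem (mul_mem hm hu) (inv_mem hm)
          by_cases hk : (ord.getD i (0, 0, 0)).2.1 = 0
          · rw [if_pos hk] at he
            exact conj gG1 hG1 (Subgroup.subset_closure (by simp)) he
          · rw [if_neg hk] at he
            exact conj gG2 hG2 (Subgroup.subset_closure (by simp)) he
    have h := (hall a ha).resolve_left (by simp [hqa])
    rw [List.contains_iff_mem, List.mem_map] at h
    obtain ⟨e, he, hea⟩ := h
    obtain ⟨i, hi, hie⟩ := List.getElem_of_mem he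
    refine key i hi g ?_
    rw [List.getD_eq_getElem _ _ hi, hie, hea]
    exact hg
  have hnorm : Kg.Normal := by
    have hle : Subgroup.closure ({g1, g2, r0} : Set (Cfsg.isometryGroup K ⇑Q)) ≤ Subgroup.normalizer (Kg : Set _) := by
      rw [Subgroup.closure_le]
      rintro x (rfl | rfl | rfl)
      · exact Subgroup.le_normalizer (Subgroup.subset_closure (by simp))
      · exact Subgroup.le_normalizer (Subgroup.subset_closure (by simp))
      · have hmap : Kg.map (MulAut.conj x).toMonoidHom = Kg := by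
          show (Subgroup.closure {g1, g2}).map _ = Subgroup.closure {g1, g2}
          rw [MonoidHom.map_closure, Set.image_pair]
          refine congrArg Subgroup.closure ?_
          show ({x * g1 * x⁻¹, x * g2 * x⁻¹} : Set _) = {g1, g2}
          rw [inv_eq_of_mul_eq_one_right hr0sq, ← hg2d, hswap', Set.pair_comm]
        rw [SetLike.mem_coe, Subgroup.mem_normalizer_iff]
        intro y
        constructor
        · intro hy; rw [← hmap]; exact ⟨y, hy, rfl⟩
        · intro hy
          rw [← hmap] at hy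
          obtain ⟨z, hz, e⟩ := hy
          have : z = y := (MulAut.conj x).injective e
          exact this ▸ hz
    rw [hbig, top_le_iff] at hle
    exact Subgroup.normalizer_eq_top_iff.1 hle
  have hle : Cfsg.Omega K ⇑Q ≤ Kg := by
    show commutator _ ≤ Kg
    rw [commutator_def, Subgroup.commutator_le]
    intro x _ y _
    rw [← QuotientGroup.eq_one_iff (N := Kg), ← QuotientGroup.mk'_apply, map_commutatorElement,
      commutatorElement_eq_one_iff_commute]
    have hz : ∀ z, QuotientGroup.mk' Kg z ∈ Subgroup.zpowers (QuotientGroup.mk' Kg r0) := by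
      intro z
      have : z ∈ (Subgroup.zpowers (QuotientGroup.mk' Kg r0)).comap (QuotientGroup.mk' Kg) := by
        have h' : (⊤ : Subgroup (Cfsg.isometryGroup K ⇑Q)) ≤ (Subgroup.zpowers (QuotientGroup.mk' Kg r0)).comap (QuotientGroup.mk' Kg) := by
          rw [← hbig, Subgroup.closure_le]
          rintro t (rfl | rfl | rfl)
          · show (QuotientGroup.mk t : _ ⧸ Kg) ∈ Subgroup.zpowers (QuotientGroup.mk' Kg r0)
            rw [(QuotientGroup.eq_one_iff (N := Kg) t).2 (Subgroup.subset_closure (by simp))]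
            exact one_mem _
          · show (QuotientGroup.mk t : _ ⧸ Kg) ∈ Subgroup.zpowers (QuotientGroup.mk' Kg r0)
            rw [(QuotientGroup.eq_one_iff (N := Kg) t).2 (Subgroup.subset_closure (by simp))]
            exact one_mem _
          · exact Subgroup.mem_zpowers _
        exact h' (Subgroup.mem_top z)
      exact this
    obtain ⟨i, hi⟩ := Subgroup.mem_zpowers_iff.1 (hz x)
    obtain ⟨j, hj⟩ := Subgroup.mem_zpowers_iff.1 (hz y)
    rw [← hi, ← hj]
    exact Commute.zpow_zpow_self _ _ _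
  refine ⟨v0, fun g => ?_⟩
  have hzero : f' g = 0 := by
    let Z := zeroSub Q (Cfsg.Omega K ⇑Q) f' hf'
    have hsub : Kg ≤ Z.map (Cfsg.Omega K ⇑Q).subtype := by
      rw [Subgroup.closure_le]
      rintro x (rfl | rfl)
      · exact ⟨⟨x, hg1⟩, hz1, rfl⟩
      · exact ⟨⟨x, hg2⟩, hz2, rfl⟩
    obtain ⟨z, hz, e⟩ := hsub (hle g.2)
    have : z = g := Subtype.ext e
    exact this ▸ hz
  have h : f g + (Refl.act Q g.1 v0 + v0) = 0 := hzero
  rw [eq_neg_of_add_eq_zero_left h]
  funext i
  simp [sub_eq_add_neg, CharTwo.neg_eq]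

include hbits hq hsurj in
theorem gen_of_W (hW : Refl.W Q = ⊤) : Subgroup.closure {g : Cfsg.isometryGroup K ⇑Q | ∃ a, a < 2 ^ n ∧
    qB a = true ∧ Rep Q n pos g (refC n qB a)} = ⊤ := by
  rw [eq_top_iff, ← hW, Refl.W]
  refine Subgroup.closure_mono ?_
  rintro g ⟨v, hv, e⟩
  obtain ⟨a, ha, rfl⟩ := hsurj v
  have hqa : qB a = true := by
    by_contra h
    rw [hq a ha, if_neg h] at hv
    exact hv rfl
  obtain ⟨r, hr, hR⟩ := rep_refl Q n pos qB hbits hq ha hqa
  exact ⟨a, ha, hqa, (Subtype.ext (Units.ext (e.trans hr.symm)) : g = r) ▸ hR⟩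

/-- a complete list of isometries of a four-dimensional form, each a product of transvections -/
def fourB (qB : ℕ → Bool) (el : List (List ℕ)) (par : List (ℕ × ℕ)) : Bool :=
  (el.getD 0 [] == idC 4) &&
  ((List.range el.length).all fun i => i == 0 || (decide ((par.getD i (0, 0)).1 < i) &&
    decide ((par.getD i (0, 0)).2 < 16) && qB (par.getD i (0, 0)).2 &&
      el.getD i [] == comp 4 (el.getD (par.getD i (0, 0)).1 []) (refC 4 qB (par.getD i (0, 0)).2))) &&
  (List.range 16).all fun a => !(qB a == qB 1) || (List.range 16).all fun b => !(qB b == qB 2) ||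
    !(qB (a ^^^ b) == qB 3) || (List.range 16).all fun c => !(qB c == qB 4) || (List.range 16).all fun d =>
      !(qB d == qB 8) || !((List.range 16).all fun m => qB (apM 4 [a, b, c, d] m) == qB m) ||
        el.contains [a, b, c, d]

include hsurj in
theorem gen_four (hbits : bitsB 4 qB = true) (h4 : n = 4) (hq : ∀ m, m < 2 ^ 4 → Q (toV pos m) = if qB m then 1 else 0)
    {el : List (List ℕ)} {par : List (ℕ × ℕ)} (hc : fourB qB el par = true) :
    Subgroup.closure {g : Cfsg.isometryGroup K ⇑Q | ∃ a, a < 2 ^ n ∧ qB a = true ∧ Rep Q n pos g (refC n qB a)} = ⊤ := by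
  subst h4
  simp only [fourB, Bool.and_eq_true, Bool.or_eq_true, Bool.not_eq_true', beq_iff_eq, beq_eq_false_iff_ne,
    decide_eq_true_eq, List.all_eq_true, List.mem_range, List.contains_iff_mem, List.all_eq_false] at hc
  obtain ⟨⟨h0, hpar⟩, hall⟩ := hc
  have hmem : ∀ i, i < el.length → ∃ g ∈ Subgroup.closure {g : Cfsg.isometryGroup K ⇑Q | ∃ a, a < 2 ^ 4 ∧
      qB a = true ∧ Rep Q 4 pos g (refC 4 qB a)}, Rep Q 4 pos g (el.getD i []) ∧ Good 4 (el.getD i []) := by
    intro i
    induction i using Nat.strong_induction_on with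
    | _ i ih =>
      intro hi
      rcases hpar i hi with rfl | ⟨⟨⟨h1, h2⟩, h3⟩, h4⟩
      · exact ⟨1, one_mem _, h0 ▸ rep_one Q 4 pos qB hbits, h0 ▸ good_id 4⟩
      · obtain ⟨g, hg, hR, hG⟩ := ih _ h1 (h1.trans hi)
        obtain ⟨r, -, hr⟩ := rep_refl Q 4 pos qB hbits hq h2 h3
        have gr := good_ref 4 qB h2
        exact ⟨g * r, mul_mem hg (Subgroup.subset_closure ⟨_, h2, h3, hr⟩),
          h4 ▸ rep_mul Q 4 pos qB hbits hsurj gr.1 gr.2 hR hr, h4 ▸ good_comp 4 hG gr⟩
  rw [eq_top_iff]
  intro g _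
  choose col hcol1 hcol2 using fun j => hsurj (Refl.act Q g (toV pos (2 ^ j)))
  let A := [col 0, col 1, col 2, col 3]
  have hA : Rep Q 4 pos g A := lin Q 4 pos qB hbits fun j hj => by
    interval_cases j <;> exact (hcol2 _).symm
  have hAlt : ∀ b ∈ A, b < 2 ^ 4 := by
    intro b hb
    simp only [A, List.mem_cons, List.not_mem_nil, or_false] at hb
    rcases hb with rfl | rfl | rfl | rfl <;> exact hcol1 _
  have hpres : ∀ m, m < 16 → qB (apM 4 A m) = qB m := by
    intro m hm
    have := Refl.act_Q g (toV pos m)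
    rw [hA m hm, hq _ (apM_lt 4 hAlt m), hq m hm] at this
    revert this
    cases qB (apM 4 A m) <;> cases qB m <;> simp
  have q0 : qB (col 0) = qB 1 := by simpa [A, apM, List.range_succ, Nat.testBit] using hpres 1 (by norm_num)
  have q1 : qB (col 1) = qB 2 := by simpa [A, apM, List.range_succ, Nat.testBit] using hpres 2 (by norm_num)
  have q2 : qB (col 2) = qB 4 := by simpa [A, apM, List.range_succ, Nat.testBit] using hpres 4 (by norm_num)
  have q3 : qB (col 3) = qB 8 := by simpa [A, apM, List.range_succ, Nat.testBit] using hpres 8 (by norm_num)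
  have q01 : qB (col 0 ^^^ col 1) = qB 3 := by simpa [A, apM, List.range_succ, Nat.testBit] using hpres 3 (by norm_num)
  have hin : A ∈ el := by
    rcases hall _ (hcol1 0) with h | h
    · exact absurd q0 h
    rcases h _ (hcol1 1) with (h | h) | h
    · exact absurd q1 h
    · exact absurd q01 h
    rcases h _ (hcol1 2) with h | h
    · exact absurd q2 h
    rcases h _ (hcol1 3) with (h | ⟨m, hm, hne⟩) | h
    · exact absurd q3 h
    · exact absurd (hpres m hm) (by simpa using hne)
    · exact h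
  obtain ⟨i, hi, hiA⟩ := List.getElem_of_mem hin
  obtain ⟨g', hg', hR, -⟩ := hmem i hi
  rw [List.getD_eq_getElem _ _ hi, hiA] at hR
  rwa [rep_ext Q 4 pos hsurj hA hR]

end CfsgLib.Spor.CocycleVanish
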