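import Cfsg.Agent.Spor.CodeData

/-!
The binary Golay code as a decidable predicate on bit masks, its octads and dodecads.
-/

set_option autoImplicit false

namespace CfsgLib.Spor

open Cfsg
open scoped Pointwise

/-- the supports of the code words -/
def Code : Set (Finset GolayPt) := supports (golayCode : Set (GolayPt → ZMod 2))

theorem mem_supp {w : GolayPt → ZMod 2} {p : GolayPt} : p ∈ support₂ w ↔ w p ≠ 0 := by
  simp [support₂]

theorem supp_add (v w : GolayPt → ZMod 2) :
    support₂ (v + w) = symmDiff (support₂ v) (support₂ w) := by
  ext p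
  simp only [Finset.mem_symmDiff, mem_supp, Pi.add_apply]
  generalize v p = a
  generalize w p = b
  revert a b
  decide

theorem supp_injective : Function.Injective (support₂ (α := GolayPt)) := by
  intro v w h
  funext p
  have h1 : v p ≠ 0 ↔ w p ≠ 0 := by rw [← mem_supp, ← mem_supp, h]
  revert h1
  generalize v p = a
  generalize w p = b
  revert a b
  decide

theorem mem_code_iff {w : GolayPt → ZMod 2} : w ∈ golayCode ↔ support₂ w ∈ Code := by
  constructor
  · exact fun h => ⟨w, h, rfl⟩
  · rintro ⟨v, hv, he⟩
    exact supp_injective he ▸ hv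

/-- the linear combination of the basis rows given by the bits of `m`, starting at `j` -/
def comboAux : List ℕ → ℕ → ℕ → ℕ
  | [], _, _ => 0
  | b :: l, j, m => (if m.testBit j then b else 0) ^^^ comboAux l (j + 1) m

/-- the code word agreeing with `m` on the pivots -/
def combo (m : ℕ) : ℕ := comboAux basisRows 0 m

/-- tabulated combinations of the first six rows -/
def comboLo : ℕ := 239510434820274484582990021118980983058065035983932422742857089676379683193280701497805739257111506311983523676792601614103705453893104186446304275556025705311706521679889737507838043027650129569524445515896878743591137186693463246848865625044561441637378123989740741737084160787267541966105167481045864428001303886005048377488815857689393365140475677037785323422672783152808326207574393042981716014969628508671865993941298976958860366526160550257688123870806016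

/-- tabulated combinations of the last six rows -/
def comboHi : ℕ := 2170801978877056321206066550973645231370018518148737010460888627484320594131954417005307800194815298264957691227617220182861712980008484935104406725257219755645831506356463650249473718557211287114430814465724194914313158489264210233264328116331432912057880136939143465690909374580877009309300185414866380981791077099760077532401440591524037543454007497739766655759863206419661742301300073101175805721402921519000902489630112648558377488461552587503226534655688704

/-- fast version of `combo` -/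
def comboT (m : ℕ) : ℕ :=
  ((comboLo >>> (24 * (m &&& 63))) &&& 16777215) ^^^
    ((comboHi >>> (24 * ((m >>> 6) &&& 63))) &&& 16777215)

/-- membership test -/
def inCode (m : ℕ) : Bool := comboT m == m

theorem comboAux_xor (l : List ℕ) (j a b : ℕ) :
    comboAux l j (a ^^^ b) = comboAux l j a ^^^ comboAux l j b := by
  induction l generalizing j with
  | nil => simp [comboAux]
  | cons c l ih =>
    simp only [comboAux, Nat.testBit_xor, ih]
    cases a.testBit j <;> cases b.testBit j <;>
      simp [Nat.xor_assoc, Nat.xor_left_comm]

theorem comboAux_congr (l : List ℕ) (j a b : ℕ)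
    (h : ∀ i, j ≤ i → i < j + l.length → a.testBit i = b.testBit i) :
    comboAux l j a = comboAux l j b := by
  induction l generalizing j with
  | nil => rfl
  | cons c l ih =>
    simp only [List.length_cons] at h
    simp only [comboAux]
    rw [ih (j + 1) (fun i h1 h2 => h i (by omega) (by omega)), h j le_rfl (by omega)]

theorem comboT_lo : (List.range 64).all (fun x =>
    ((comboLo >>> (24 * x)) &&& 16777215) == combo x) = true := by decide +kernel

theorem comboT_hi : (List.range 64).all (fun x =>
    ((comboHi >>> (24 * x)) &&& 16777215) == combo (x <<< 6)) = true := by decide +kernel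

theorem comboT_eq (m : ℕ) : comboT m = combo m := by
  have hlo := List.all_eq_true.1 comboT_lo (m &&& 63)
    (List.mem_range.2 (Nat.lt_succ_of_le Nat.and_le_right))
  have hhi := List.all_eq_true.1 comboT_hi ((m >>> 6) &&& 63)
    (List.mem_range.2 (Nat.lt_succ_of_le Nat.and_le_right))
  simp only [beq_iff_eq] at hlo hhi
  rw [comboT, hlo, hhi, combo, combo, combo, ← comboAux_xor]
  refine comboAux_congr _ _ _ _ fun i _ hi => ?_
  have hi' : i < 12 := by simpa [basisRows] using hi
  rw [show (63 : ℕ) = 2 ^ 6 - 1 by norm_num]
  simp only [Nat.testBit_xor, Nat.testBit_shiftLeft, Nat.testBit_and, Nat.testBit_shiftRight,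
    Nat.testBit_two_pow_sub_one]
  rcases Nat.lt_or_ge i 6 with h6 | h6
  · simp [h6, Nat.not_le.2 h6]
  · have e : 6 + (i - 6) = i := by omega
    have e2 : i - 6 < 6 := by omega
    simp [h6, Nat.not_lt.2 h6, e, e2]

theorem inCode_iff {m : ℕ} : inCode m = true ↔ combo m = m := by simp [inCode, comboT_eq]

theorem inCode_xor {a b : ℕ} (ha : inCode a = true) (hb : inCode b = true) :
    inCode (a ^^^ b) = true := by
  rw [inCode_iff] at *
  simp [combo] at *
  rw [comboAux_xor, ha, hb]

theorem genRows_inCode : genRows.all inCode = true := by decide +kernel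

theorem genRows_lt : genRows.all (fun m => decide (m < 2 ^ 24)) = true := by decide +kernel

theorem supp_qrWord : ∀ t : ZMod 23,
    ofMask (genRows.getD t.val 0) = support₂ (qrWord t) := by decide +kernel

theorem supp_one : ofMask (genRows.getD 23 0) = support₂ (1 : GolayPt → ZMod 2) := by
  decide +kernel

theorem inCode_lt {m : ℕ} (h : inCode m = true) : m < 2 ^ 24 := by
  rw [inCode_iff] at h
  rw [← h]
  have key : ∀ (l : List ℕ) (j : ℕ), (∀ b ∈ l, b < 2 ^ 24) → comboAux l j m < 2 ^ 24 := by
    intro l
    induction l with
    | nil => intro j _; simp [comboAux]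
    | cons c l ih =>
      intro j hl
      refine Nat.xor_lt_two_pow ?_ (ih (j + 1) fun b hb => hl b (by simp [hb]))
      split
      · exact hl c (by simp)
      · norm_num
  exact key _ _ (by decide)

theorem inCode_maskOf_of_mem {w : GolayPt → ZMod 2} (hw : w ∈ golayCode) :
    inCode (maskOf (support₂ w)) = true := by
  induction hw using Submodule.span_induction with
  | mem x hx =>
    rcases hx with ⟨t, rfl⟩ | rfl
    · have h := List.all_eq_true.1 genRows_inCode (genRows.getD t.val 0) (by
        have : t.val < genRows.length := lt_trans (ZMod.val_lt t) (by decide)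
        simp [List.getD_eq_getElem?_getD, this])
      rwa [← supp_qrWord t, maskOf_ofMask (inCode_lt h)]
    · have h : inCode (genRows.getD 23 0) = true := by decide +kernel
      rwa [← supp_one, maskOf_ofMask (inCode_lt h)]
  | zero =>
    have h : support₂ (0 : GolayPt → ZMod 2) = ofMask 0 := by
      rw [ofMask_zero]; ext p; simp [mem_supp]
    rw [h, maskOf_ofMask (by norm_num)]
    decide
  | add x y _ _ hx hy =>
    have h : maskOf (support₂ (x + y)) = maskOf (support₂ x) ^^^ maskOf (support₂ y) := by
      rw [supp_add, ← maskOf_ofMask (Nat.xor_lt_two_pow (maskOf_lt (support₂ x))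
        (maskOf_lt (support₂ y))), ofMask_xor, ofMask_maskOf, ofMask_maskOf]
    rw [h]; exact inCode_xor hx hy
  | smul a x _ hx =>
    obtain rfl | rfl : a = 0 ∨ a = 1 := by revert a; decide
    · have h : support₂ ((0 : ZMod 2) • x) = ofMask 0 := by
        rw [ofMask_zero]; ext p; simp [mem_supp]
      rw [h, maskOf_ofMask (by norm_num)]
      decide
    · rwa [one_smul]

theorem empty_mem_code : (∅ : Finset GolayPt) ∈ Code :=
  ⟨0, Submodule.zero_mem _, by ext p; simp [mem_supp]⟩

theorem symmDiff_mem_code {s t : Finset GolayPt} (hs : s ∈ Code) (ht : t ∈ Code) :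
    symmDiff s t ∈ Code := by
  obtain ⟨v, hv, rfl⟩ := hs
  obtain ⟨w, hw, rfl⟩ := ht
  exact ⟨v + w, Submodule.add_mem _ hv hw, supp_add v w⟩

theorem gen_mem_code {i : ℕ} (hi : i < 24) : ofMask (genRows.getD i 0) ∈ Code := by
  by_cases h : i = 23
  · subst h
    exact ⟨1, Submodule.subset_span (Or.inr rfl), supp_one.symm⟩
  · have hi' : i < 23 := by omega
    have hv : ((i : ZMod 23)).val = i := ZMod.val_natCast_of_lt hi'
    refine ⟨qrWord (i : ZMod 23), Submodule.subset_span (Or.inl ⟨_, rfl⟩), ?_⟩
    rw [← supp_qrWord, hv]

theorem comb_mem_code (l : List ℕ) (hl : ∀ i ∈ l, i < 24) :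
    ofMask (l.foldr (fun i acc => genRows.getD i 0 ^^^ acc) 0) ∈ Code := by
  induction l with
  | nil => simpa [ofMask_zero] using empty_mem_code
  | cons a l ih =>
    rw [List.foldr_cons, ofMask_xor]
    exact symmDiff_mem_code (gen_mem_code (hl a (by simp))) (ih fun i hi => hl i (by simp [hi]))

theorem basisRows_eq :
    basisRows = basisComb.map (fun l => l.foldr (fun i acc => genRows.getD i 0 ^^^ acc) 0) := by
  decide +kernel

theorem combo_mem_code (m : ℕ) : ofMask (combo m) ∈ Code := by
  have key : ∀ (l : List ℕ) (j : ℕ), (∀ b ∈ l, ofMask b ∈ Code) →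
      ofMask (comboAux l j m) ∈ Code := by
    intro l
    induction l with
    | nil => intro j _; simpa [comboAux, ofMask_zero] using empty_mem_code
    | cons c l ih =>
      intro j hl
      rw [comboAux, ofMask_xor]
      refine symmDiff_mem_code ?_ (ih _ fun b hb => hl b (by simp [hb]))
      split
      · exact hl c (by simp)
      · simpa [ofMask_zero] using empty_mem_code
  refine key _ _ fun b hb => ?_
  rw [basisRows_eq, List.mem_map] at hb
  obtain ⟨l, hl, rfl⟩ := hb
  exact comb_mem_code l fun i hi =>
    (show ∀ l ∈ basisComb, ∀ i ∈ l, i < 24 by decide) l hl i hi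

theorem mem_Code_iff {s : Finset GolayPt} : s ∈ Code ↔ inCode (maskOf s) = true := by
  constructor
  · rintro ⟨w, hw, rfl⟩; exact inCode_maskOf_of_mem hw
  · intro h
    have := combo_mem_code (maskOf s)
    rwa [inCode_iff.1 h, ofMask_maskOf] at this

theorem ofMask_mem_Code {m : ℕ} (h : m < 2 ^ 24) : ofMask m ∈ Code ↔ inCode m = true := by
  rw [mem_Code_iff, maskOf_ofMask h]

/-- all 4096 code words, the `i`-th having low twelve bits `i` -/
def wordList : List ℕ := basisRows.foldl (fun acc b => acc ++ acc.map (fun w => w ^^^ b)) [0]

theorem wordList_eq : (wordList == (List.range 4096).map comboT) = true := by decide +kernel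

theorem wordList_check : wordList.all inCode = true := by decide +kernel

theorem comboAux_mod (l : List ℕ) (j m : ℕ) (h : j + l.length ≤ 12) :
    comboAux l j (m % 2 ^ 12) = comboAux l j m := by
  induction l generalizing j with
  | nil => rfl
  | cons c l ih =>
    simp only [List.length_cons] at h
    simp only [comboAux]
    rw [ih (j + 1) (by omega), Nat.testBit_mod_two_pow]
    simp [show j < 12 by omega]

theorem mem_wordList {m : ℕ} (h : inCode m = true) : m ∈ wordList := by
  rw [beq_iff_eq.1 wordList_eq, List.mem_map]
  refine ⟨m % 4096, List.mem_range.2 (Nat.mod_lt _ (by norm_num)), ?_⟩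
  rw [comboT_eq, combo, show (4096 : ℕ) = 2 ^ 12 by norm_num, comboAux_mod _ _ _ (by decide)]
  exact inCode_iff.1 h

theorem code_forall (P : ℕ → Bool) (h : wordList.all P = true) {s : Finset GolayPt}
    (hs : s ∈ Code) : P (maskOf s) = true :=
  List.all_eq_true.1 h _ (mem_wordList (mem_Code_iff.1 hs))

theorem weights_check :
    wordList.all (fun m => [0, 8, 12, 16, 24].contains (pop m)) = true := by decide +kernel

theorem card_cases {s : Finset GolayPt} (hs : s ∈ Code) :
    s.card = 0 ∨ s.card = 8 ∨ s.card = 12 ∨ s.card = 16 ∨ s.card = 24 := by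
  have h := code_forall _ weights_check hs
  rw [← ofMask_maskOf s, card_ofMask]
  simpa using h

theorem octadList_eq : (wordList.filter (fun m => pop m == 8) == octadList) = true := by
  decide +kernel

theorem wordList_nodup : wordList.Nodup := by
  have h : ((wordList.map (fun m => m % 4096)) == List.range 4096) = true := by decide +kernel
  refine List.Nodup.of_map (fun m => m % 4096) ?_
  rw [beq_iff_eq.1 h]
  exact List.nodup_range

theorem mem_octads_iff {m : ℕ} (h : m < 2 ^ 24) : ofMask m ∈ octads ↔ m ∈ octadList := by
  rw [← beq_iff_eq.1 octadList_eq, List.mem_filter]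
  show ofMask m ∈ Code ∧ (ofMask m).card = 8 ↔ _
  rw [ofMask_mem_Code h, card_ofMask]
  constructor
  · rintro ⟨h1, h2⟩; exact ⟨mem_wordList h1, by simpa using h2⟩
  · rintro ⟨h1, h2⟩; exact ⟨List.all_eq_true.1 wordList_check m h1, by simpa using h2⟩

theorem mem_octads {s : Finset GolayPt} : s ∈ octads ↔ s ∈ Code ∧ s.card = 8 := Iff.rfl

theorem mem_dodecads {s : Finset GolayPt} : s ∈ dodecads ↔ s ∈ Code ∧ s.card = 12 := Iff.rfl

theorem octad_forall (P : ℕ → Bool) (h : octadList.all P = true) {s : Finset GolayPt}
    (hs : s ∈ octads) : P (maskOf s) = true := by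
  refine List.all_eq_true.1 h _ ((mem_octads_iff (maskOf_lt s)).1 ?_)
  rwa [ofMask_maskOf]

theorem ncard_filter_code (P : Finset GolayPt → Prop) (b : ℕ → Bool)
    (hP : ∀ m, inCode m = true → (P (ofMask m) ↔ b m = true)) :
    {s | s ∈ Code ∧ P s}.ncard = wordList.countP b := by
  classical
  have h : {s | s ∈ Code ∧ P s} = ↑((wordList.filter b).toFinset.image ofMask) := by
    ext s
    simp only [Set.mem_setOf_eq, Finset.coe_image, Set.mem_image, Finset.mem_coe,
      List.mem_toFinset, List.mem_filter]
    constructor
    · rintro ⟨hc, hp⟩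
      have hm := mem_Code_iff.1 hc
      exact ⟨maskOf s, ⟨mem_wordList hm, (hP _ hm).1 (by rwa [ofMask_maskOf])⟩, ofMask_maskOf s⟩
    · rintro ⟨m, ⟨h1, h2⟩, rfl⟩
      have hm := List.all_eq_true.1 wordList_check m h1
      exact ⟨(ofMask_mem_Code (inCode_lt hm)).2 hm, (hP m hm).2 h2⟩
  rw [h, Set.ncard_coe_finset, Finset.card_image_of_injOn,
    List.toFinset_card_of_nodup (wordList_nodup.filter _), List.countP_eq_length_filter]
  intro a ha b' hb' he
  simp only [List.coe_toFinset, Set.mem_setOf_eq, List.mem_filter] at ha hb'
  exact (ofMask_eq_ofMask (inCode_lt (List.all_eq_true.1 wordList_check a ha.1))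
    (inCode_lt (List.all_eq_true.1 wordList_check b' hb'.1))).1 he

end CfsgLib.Spor
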