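import Cfsg.Agent.Spor.Octads

/-!
Certificate engine: orbit spanning trees, tabulated permutations, strong generating chains,
and the exactness criterion "orbit bound times stabiliser bound equals the group order".
-/

set_option autoImplicit false

namespace CfsgLib.Spor

open Cfsg
open scoped Pointwise

/-! ### fast duplicate check -/

theorem natBeq (a b : ℕ) : Nat.beq a b = (a == b) := by
  cases h : Nat.beq a b
  · exact (beq_false_of_ne (Nat.ne_of_beq_eq_false h)).symm
  · rw [Nat.eq_of_beq_eq_true h]; exact (beq_self_eq_true b).symm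

/-- halves of the even members -/
def evens : List ℕ → List ℕ
  | [] => []
  | x :: l => cond (Nat.beq (Nat.mod x 2) 0) (Nat.div x 2 :: evens l) (evens l)

/-- halves of the odd members -/
def odds : List ℕ → List ℕ
  | [] => []
  | x :: l => cond (Nat.beq (Nat.mod x 2) 1) (Nat.div x 2 :: odds l) (odds l)

theorem evens_eq : ∀ l, evens l = (l.filter fun x => x % 2 == 0).map fun x => x / 2
  | [] => rfl
  | x :: l => by
    rw [evens, evens_eq l]
    have e : Nat.beq (Nat.mod x 2) 0 = (x % 2 == 0) := natBeq _ _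
    rw [e]
    cases h : (x % 2 == 0) <;> simp [List.filter_cons, h] <;> rfl

theorem odds_eq : ∀ l, odds l = (l.filter fun x => x % 2 == 1).map fun x => x / 2
  | [] => rfl
  | x :: l => by
    rw [odds, odds_eq l]
    have e : Nat.beq (Nat.mod x 2) 1 = (x % 2 == 1) := natBeq _ _
    rw [e]
    cases h : (x % 2 == 1) <;> simp [List.filter_cons, h] <;> rfl

/-- recursion on the binary digits -/
def nodupB : ℕ → List ℕ → Bool
  | _, [] => true
  | _, [_] => true
  | 0, _ :: _ :: _ => false
  | n + 1, l => nodupB n (evens l) && nodupB n (odds l)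

theorem nodup_of_nodupB : ∀ (n : ℕ) (l : List ℕ), nodupB n l = true → l.Nodup
  | _, [], _ => List.nodup_nil
  | _, [_], _ => List.nodup_singleton _
  | 0, _ :: _ :: _, h => by simp [nodupB] at h
  | n + 1, a :: b :: l, h => by
    simp only [nodupB, Bool.and_eq_true, evens_eq, odds_eq] at h
    have h0 := List.nodup_iff_count_le_one.1 (nodup_of_nodupB n _ h.1)
    have h1 := List.nodup_iff_count_le_one.1 (nodup_of_nodupB n _ h.2)
    rw [List.nodup_iff_count_le_one]
    intro x
    rcases Nat.mod_two_eq_zero_or_one x with hx | hx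
    · refine le_trans ?_ (h0 (x / 2))
      refine le_trans (le_of_eq (List.count_filter (p := fun y => y % 2 == 0) (by simp [hx])).symm) ?_
      exact List.count_le_count_map (f := fun x : ℕ => x / 2) (x := x)
    · refine le_trans ?_ (h1 (x / 2))
      refine le_trans (le_of_eq (List.count_filter (p := fun y => y % 2 == 1) (by simp [hx])).symm) ?_
      exact List.count_le_count_map (f := fun x : ℕ => x / 2) (x := x)

/-! ### tabulated permutations -/

/-- a packed permutation with four image tables, one for each block of six points -/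
structure GT where
  P : ℕ
  t0 : ℕ
  t1 : ℕ
  t2 : ℕ
  t3 : ℕ

/-- image of one point of a block -/
def bitImg (P k x j : ℕ) : ℕ :=
  cond (Nat.beq (Nat.land (Nat.shiftRight x j) 1) 1)
    (Nat.pow 2 (Nat.land (Nat.shiftRight P (Nat.mul 5 (Nat.add k j))) 31)) 0

/-- image of a six-bit block -/
def blockImg (P k x : ℕ) : ℕ :=
  Nat.lor (Nat.lor (Nat.lor (bitImg P k x 0) (bitImg P k x 1))
    (Nat.lor (bitImg P k x 2) (bitImg P k x 3))) (Nat.lor (bitImg P k x 4) (bitImg P k x 5))

/-- table look-up -/
def tab (t x : ℕ) : ℕ := Nat.land (Nat.shiftRight t (Nat.mul 24 x)) 16777215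

/-- consistency of the tables -/
def GT.ok (g : GT) : Bool :=
  okP g.P && (List.range 64).all fun x =>
    Nat.beq (tab g.t0 x) (blockImg g.P 0 x) && Nat.beq (tab g.t1 x) (blockImg g.P 6 x) &&
      (Nat.beq (tab g.t2 x) (blockImg g.P 12 x) && Nat.beq (tab g.t3 x) (blockImg g.P 18 x))

/-- image of a mask by table look-up -/
def GT.img (g : GT) (m : ℕ) : ℕ :=
  Nat.lor (Nat.lor (Nat.lor (tab g.t0 (Nat.land m 63)) (tab g.t1 (Nat.land (Nat.shiftRight m 6) 63)))
    (tab g.t2 (Nat.land (Nat.shiftRight m 12) 63))) (tab g.t3 (Nat.land (Nat.shiftRight m 18) 63))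

/-- the permutation -/
noncomputable def GT.perm (g : GT) : Equiv.Perm GolayPt := mkPerm g.P

/-- image of a point number -/
def GT.imgPt (g : GT) (n : ℕ) : ℕ := app g.P (n % 24)

theorem testBit_bitImg (P k x i j : ℕ) :
    (bitImg P k x i).testBit j = true ↔ x.testBit i = true ∧ app P (k + i) = j := by
  have e : Nat.beq (Nat.land (Nat.shiftRight x i) 1) 1 = x.testBit i := by
    rw [natBeq, show Nat.land (Nat.shiftRight x i) 1 = (x >>> i) &&& 1 from rfl]
    rw [Nat.and_one_is_mod, Nat.testBit_eq_decide_div_mod_eq, Nat.shiftRight_eq_div_pow]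
    rcases Nat.mod_two_eq_zero_or_one (x / 2 ^ i) with h | h <;> simp [h]
  rw [bitImg, e]
  cases x.testBit i
  · simp
  · show ((2 : ℕ) ^ app P (k + i)).testBit j = true ↔ _
    simp [Nat.testBit_two_pow]

theorem testBit_blockImg (P k x j : ℕ) :
    (blockImg P k x).testBit j = true ↔ ∃ i, i < 6 ∧ x.testBit i = true ∧ app P (k + i) = j := by
  show (((bitImg P k x 0 ||| bitImg P k x 1) ||| (bitImg P k x 2 ||| bitImg P k x 3)) |||
    (bitImg P k x 4 ||| bitImg P k x 5)).testBit j = true ↔ _
  simp only [Nat.testBit_lor, Bool.or_eq_true, testBit_bitImg]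
  constructor
  · rintro (((h | h) | (h | h)) | (h | h)) <;> exact ⟨_, by norm_num, h⟩
  · rintro ⟨i, hi, h⟩
    interval_cases i <;> simp_all

theorem GT.smul_ofMask {g : GT} (h : g.ok = true) (m : ℕ) :
    g.perm • ofMask m = ofMask (g.img m) := by
  rw [GT.ok, Bool.and_eq_true, List.all_eq_true] at h
  obtain ⟨hP, ht⟩ := h
  rw [GT.perm, CfsgLib.Spor.smul_ofMask hP]
  ext q
  simp only [mem_ofMask]
  have hb : ∀ s, ((m >>> s) &&& 63) < 64 := fun s => Nat.lt_succ_of_le Nat.and_le_right
  have e : ∀ x, x < 64 → tab g.t0 x = blockImg g.P 0 x ∧ tab g.t1 x = blockImg g.P 6 x ∧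
      tab g.t2 x = blockImg g.P 12 x ∧ tab g.t3 x = blockImg g.P 18 x := by
    intro x hx
    have := ht x (List.mem_range.2 hx)
    simp only [Bool.and_eq_true] at this
    exact ⟨Nat.eq_of_beq_eq_true this.1.1, Nat.eq_of_beq_eq_true this.1.2,
      Nat.eq_of_beq_eq_true this.2.1, Nat.eq_of_beq_eq_true this.2.2⟩
  have h0 : (m &&& 63) < 64 := Nat.lt_succ_of_le Nat.and_le_right
  rw [show g.img m = tab g.t0 (m &&& 63) ||| tab g.t1 ((m >>> 6) &&& 63) |||
      tab g.t2 ((m >>> 12) &&& 63) ||| tab g.t3 ((m >>> 18) &&& 63) from rfl,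
    (e _ h0).1, (e _ (hb 6)).2.1, (e _ (hb 12)).2.2.1, (e _ (hb 18)).2.2.2]
  simp only [imgP, testBit_foldl_lor (app g.P) (fun i => m.testBit i), Nat.zero_testBit,
    Bool.false_eq_true, false_or, List.mem_range, Nat.testBit_lor, Bool.or_eq_true,
    testBit_blockImg]
  have h63 : ∀ i, (63 : ℕ).testBit i = decide (i < 6) := fun i => by
    rw [show (63 : ℕ) = 2 ^ 6 - 1 by norm_num, Nat.testBit_two_pow_sub_one]
  simp only [Nat.testBit_and, Nat.testBit_shiftRight, h63, Bool.and_eq_true, decide_eq_true_eq]
  constructor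
  · rintro ⟨i, hi, hb', he⟩
    rcases lt_or_ge i 6 with h6 | h6
    · exact Or.inl (Or.inl (Or.inl ⟨i, h6, ⟨hb', h6⟩, by simpa using he⟩))
    rcases lt_or_ge i 12 with h12 | h12
    · exact Or.inl (Or.inl (Or.inr ⟨i - 6, by omega, ⟨by rwa [Nat.add_sub_cancel' h6], by omega⟩,
        by rwa [Nat.add_sub_cancel' h6]⟩))
    rcases lt_or_ge i 18 with h18 | h18
    · exact Or.inl (Or.inr ⟨i - 12, by omega, ⟨by rwa [Nat.add_sub_cancel' h12], by omega⟩,
        by rwa [Nat.add_sub_cancel' h12]⟩)
    · exact Or.inr ⟨i - 18, by omega, ⟨by rwa [Nat.add_sub_cancel' h18], by omega⟩,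
        by rwa [Nat.add_sub_cancel' h18]⟩
  · rintro (((⟨i, hi, ⟨hb', -⟩, he⟩ | ⟨i, hi, ⟨hb', -⟩, he⟩) | ⟨i, hi, ⟨hb', -⟩, he⟩) |
      ⟨i, hi, ⟨hb', -⟩, he⟩)
    · exact ⟨i, by omega, hb', by simpa using he⟩
    · exact ⟨6 + i, by omega, hb', he⟩
    · exact ⟨12 + i, by omega, hb', he⟩
    · exact ⟨18 + i, by omega, hb', he⟩

theorem GT.apply_pt {g : GT} (h : g.ok = true) (n : ℕ) : g.perm (pt n) = pt (g.imgPt n) := by
  rw [GT.ok, Bool.and_eq_true] at h
  rw [GT.perm, mkPerm_apply h.1, funP, GT.imgPt]
  congr 2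
  rw [num, pt, Equiv.apply_symm_apply, Fin.val_ofNat]

/-! ### orbit spanning trees -/

/-- unfold a spanning tree in preorder: token `16 * k + i` means: leave `k` levels, apply map `i` -/
def unfoldTree {α : Type} (fs : List (α → α)) : List ℕ → List α → List α → List α
  | [], _, acc => acc
  | t :: ts, stack, acc =>
    match stack.drop (t / 16), fs[t % 16]? with
    | p :: r, some f => unfoldTree fs ts (f p :: p :: r) (f p :: acc)
    | _, _ => acc

/-- the list of orbit elements coded by the tokens -/
def treeList {α : Type} (fs : List (α → α)) (a : α) (toks : List ℕ) : List α :=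
  unfoldTree fs toks [a] [a]

theorem unfoldTree_forall {α : Type} (fs : List (α → α)) (Q : α → Prop)
    (hf : ∀ f ∈ fs, ∀ a, Q a → Q (f a)) :
    ∀ (toks : List ℕ) (stack acc : List α), (∀ a ∈ stack, Q a) → (∀ a ∈ acc, Q a) →
      ∀ a ∈ unfoldTree fs toks stack acc, Q a := by
  intro toks
  induction toks with
  | nil => intro _ _ _ hacc; exact hacc
  | cons t ts ih =>
    intro stack acc hs hacc
    simp only [unfoldTree]
    split
    · next p r f hd hf' =>
      have hp : ∀ a ∈ p :: r, Q a := fun a ha => hs a (List.mem_of_mem_drop (hd ▸ ha))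
      have hq : Q (f p) := hf f (List.mem_of_getElem? hf') p (hp p (by simp))
      refine ih _ _ ?_ ?_
      · intro a ha
        rcases List.mem_cons.1 ha with rfl | ha
        · exact hq
        · exact hp a ha
      · intro a ha
        rcases List.mem_cons.1 ha with rfl | ha
        · exact hq
        · exact hacc a ha
    · exact hacc

theorem treeList_forall {α : Type} (fs : List (α → α)) (a : α) (toks : List ℕ) (Q : α → Prop)
    (ha : Q a) (hf : ∀ f ∈ fs, ∀ b, Q b → Q (f b)) : ∀ b ∈ treeList fs a toks, Q b :=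
  unfoldTree_forall fs Q hf toks [a] [a] (by simpa using ha) (by simpa using ha)

/-- the subgroup generated by tabulated permutations -/
noncomputable def gtGroup (gs : List GT) : Subgroup (Equiv.Perm GolayPt) :=
  Subgroup.closure {σ | ∃ g ∈ gs, g.perm = σ}

theorem mem_gtGroup {gs : List GT} {g : GT} (h : g ∈ gs) : g.perm ∈ gtGroup gs :=
  Subgroup.subset_closure ⟨g, h, rfl⟩

theorem gtGroup_le {gs : List GT} {H : Subgroup (Equiv.Perm GolayPt)}
    (h : ∀ g ∈ gs, g.perm ∈ H) : gtGroup gs ≤ H := by
  rw [gtGroup, Subgroup.closure_le]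
  rintro _ ⟨g, hg, rfl⟩
  exact h g hg

theorem mem_orbit_treeList {X α : Type} [MulAction (Equiv.Perm GolayPt) X] (dec : α → X)
    (im : GT → α → α) {gs : List GT}
    (him : ∀ g ∈ gs, ∀ a, g.perm • dec a = dec (im g a)) (a : α) (toks : List ℕ) :
    ∀ b ∈ treeList (gs.map im) a toks, dec b ∈ MulAction.orbit (gtGroup gs) (dec a) := by
  refine treeList_forall _ _ _ (fun b => dec b ∈ MulAction.orbit (gtGroup gs) (dec a))
    (MulAction.mem_orbit_self _) ?_
  intro f hf b hb
  obtain ⟨g, hg, rfl⟩ := List.mem_map.1 hf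
  show dec (im g b) ∈ _
  rw [← him g hg b]
  exact MulAction.mem_orbit_of_mem_orbit (⟨g.perm, mem_gtGroup hg⟩ : gtGroup gs) hb

theorem GT.smul_pt {g : GT} (h : g.ok = true) (n : ℕ) : g.perm • pt n = pt (g.imgPt n) :=
  GT.apply_pt h n

/-! ### strong generating chains -/

/-- one level: generators, base point, spanning tree of its orbit -/
structure Level where
  gens : List GT
  base : ℕ
  toks : List ℕ

/-- the orbit of the base point -/
def Level.orb (l : Level) : List ℕ := treeList (l.gens.map GT.imgPt) l.base l.toks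

/-- validity of one level -/
def Level.ok (l : Level) : Bool :=
  l.gens.all GT.ok && decide (l.base < 24) &&
    (nodupB 6 (l.orb.map fun x => x % 24) && decide (l.orb.length = l.toks.length + 1))

/-- validity of a chain -/
def chainOK : List Level → Bool
  | [] => true
  | [l] => l.ok
  | l :: l' :: ls => l.ok && chainOK (l' :: ls) &&
      l'.gens.all fun g => (l.gens.any fun h => h.P == g.P) && (app g.P l.base == l.base)

/-- the product of the orbit lengths -/
def chainSize : List Level → ℕ
  | [] => 1
  | l :: ls => (l.toks.length + 1) * chainSize ls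

/-- generators of the first level -/
def chainTop : List Level → List GT
  | [] => []
  | l :: _ => l.gens

theorem ncard_orbit_mul_card {G X : Type*} [Group G] [MulAction G X] [Finite G] (x : X) :
    (MulAction.orbit G x).ncard * Nat.card (MulAction.stabilizer G x) = Nat.card G := by
  rw [← MulAction.index_stabilizer, Subgroup.index_mul_card]

theorem card_orbit_mul_le {G X : Type*} [Group G] [MulAction G X] [Finite G] {H K : Subgroup G}
    {x : X} (L : Finset X) (hK : K ≤ H) (hKx : ∀ k ∈ K, k • x = x)
    (hL : ↑L ⊆ MulAction.orbit H x) : L.card * Nat.card K ≤ Nat.card H := by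
  have h := ncard_orbit_mul_card (G := H) x
  have h1 : L.card ≤ (MulAction.orbit H x).ncard := by
    rw [← Set.ncard_coe_finset]
    exact Set.ncard_le_ncard hL (Set.finite_range _)
  have h2 : Nat.card K ≤ Nat.card (MulAction.stabilizer H x) :=
    Nat.card_le_card_of_injective
      (fun k => (⟨⟨k, hK k.2⟩, hKx k k.2⟩ : MulAction.stabilizer H x))
      (fun a b hab => Subtype.ext (congrArg (fun t : MulAction.stabilizer H x => (t.1.1 : G)) hab))
  calc L.card * Nat.card K ≤ _ := Nat.mul_le_mul h1 h2
    _ = Nat.card H := h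

theorem Level.orb_subset {l : Level} (h : l.ok = true) :
    (l.orb.toFinset.image pt).card = l.toks.length + 1 ∧
      ↑(l.orb.toFinset.image pt) ⊆ MulAction.orbit (gtGroup l.gens) (pt l.base) := by
  simp only [Level.ok, Bool.and_eq_true, decide_eq_true_eq, List.all_eq_true] at h
  obtain ⟨⟨hg, hb⟩, hnd, hlen⟩ := h
  have hn := nodup_of_nodupB _ _ hnd
  constructor
  · rw [Finset.card_image_of_injOn, List.toFinset_card_of_nodup (List.Nodup.of_map _ hn), hlen]
    intro a ha b hb' hab
    simp only [List.coe_toFinset, Set.mem_setOf_eq] at ha hb'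
    have hab' : a % 24 = b % 24 := by
      have := congrArg num hab
      simpa [num, pt, Fin.val_ofNat] using this
    exact List.inj_on_of_nodup_map hn ha hb' hab'
  · intro y hy
    simp only [Finset.coe_image, List.coe_toFinset, Set.mem_image, Set.mem_setOf_eq] at hy
    obtain ⟨n, hn', rfl⟩ := hy
    exact mem_orbit_treeList pt GT.imgPt (fun g hg' a => GT.smul_pt (hg g hg') a) _ _ n hn'

theorem chain_card_le : ∀ (ls : List Level), chainOK ls = true →
    chainSize ls ≤ Nat.card (gtGroup (chainTop ls))
  | [], _ => by rw [chainSize]; exact Nat.card_pos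
  | [l], h => by
    have hl : l.ok = true := h
    have := card_orbit_mul_le (H := gtGroup l.gens) (K := ⊥) _ bot_le
      (by simp [Subgroup.mem_bot]) (Level.orb_subset hl).2
    rw [(Level.orb_subset hl).1] at this
    simpa [chainSize, chainTop] using this
  | l :: l' :: ls, h => by
    simp only [chainOK, Bool.and_eq_true, List.all_eq_true, List.any_eq_true, beq_iff_eq] at h
    obtain ⟨⟨hl, hls⟩, hg⟩ := h
    have ih := chain_card_le (l' :: ls) hls
    have := card_orbit_mul_le (H := gtGroup l.gens) (K := gtGroup l'.gens) _ ?_ ?_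
      (Level.orb_subset hl).2
    · rw [(Level.orb_subset hl).1] at this
      exact le_trans (Nat.mul_le_mul le_rfl ih) this
    · refine gtGroup_le fun g hg' => ?_
      obtain ⟨h', hh', he⟩ := (hg g hg').1
      rw [GT.perm, ← he]
      exact mem_gtGroup hh'
    · intro k hk
      have : k ∈ MulAction.stabilizer (Equiv.Perm GolayPt) (pt l.base) := by
        refine gtGroup_le (gs := l'.gens) (fun g hg' => ?_) hk
        have hb : l.base < 24 := by
          simp only [Level.ok, Bool.and_eq_true, decide_eq_true_eq] at hl; exact hl.1.2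
        have hok : g.ok = true := by
          cases ls with
          | nil =>
            simp only [chainOK, Level.ok, Bool.and_eq_true, List.all_eq_true] at hls
            exact hls.1.1 g hg'
          | cons a b =>
            simp only [chainOK, Level.ok, Bool.and_eq_true, List.all_eq_true] at hls
            exact hls.1.1.1.1 g hg'
        rw [MulAction.mem_stabilizer_iff, GT.smul_pt hok, GT.imgPt, Nat.mod_eq_of_lt hb, (hg g hg').2]
      exact MulAction.mem_stabilizer_iff.1 this

/-! ### exactness -/

theorem exact_of_card {G X : Type*} [Group G] [MulAction G X] [Finite G] {H K : Subgroup G}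
    {x : X} (L : Finset X) (hK : K ≤ H) (hKx : ∀ k ∈ K, k • x = x)
    (hL : ↑L ⊆ MulAction.orbit H x) (hc : Nat.card H ≤ L.card * Nat.card K) :
    H ⊓ MulAction.stabilizer G x = K ∧ MulAction.orbit H x = ↑L := by
  have hpos : 0 < Nat.card H := Nat.card_pos
  have hle : K ≤ H ⊓ MulAction.stabilizer G x :=
    le_inf hK fun k hk => MulAction.mem_stabilizer_iff.2 (hKx k hk)
  have h1 := card_orbit_mul_le L inf_le_left
    (fun k hk => MulAction.mem_stabilizer_iff.1 hk.2) hL
  have h3 : L.card * Nat.card K = Nat.card H :=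
    le_antisymm (card_orbit_mul_le L hK hKx hL) hc
  have hLpos : 0 < L.card := Nat.pos_of_mul_pos_right (h3 ▸ hpos : 0 < L.card * Nat.card K)
  have heq : K = H ⊓ MulAction.stabilizer G x := by
    refine Subgroup.eq_of_le_of_card_ge hle ?_
    have := le_trans h1 hc
    exact Nat.le_of_mul_le_mul_left this hLpos
  refine ⟨heq.symm, (Set.eq_of_subset_of_ncard_le hL ?_ (Set.finite_range _)).symm⟩
  have horb := ncard_orbit_mul_card (G := H) x
  have hst : Nat.card K = Nat.card (MulAction.stabilizer H x) := by
    rw [heq]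
    exact Nat.card_congr
      { toFun := fun k => ⟨⟨k, k.2.1⟩, MulAction.mem_stabilizer_iff.1 k.2.2⟩
        invFun := fun k => ⟨k.1, k.1.2, k.2⟩
        left_inv := fun _ => rfl
        right_inv := fun _ => rfl }
  rw [Set.ncard_coe_finset]
  have horb' := horb
  rw [← hst, ← h3] at horb'
  exact le_of_eq (Nat.eq_of_mul_eq_mul_right Nat.card_pos horb')

end CfsgLib.Spor
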