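import Cfsg.Agent.Spor.FamilyTools
import Cfsg.Agent.Spor.Flags

/-!
Orbit families at the standard flags.
-/

set_option autoImplicit false

namespace CfsgLib.Spor

open Cfsg
open scoped Pointwise

/-- the invariant of a pair relative to the base flag -/
noncomputable def pairInv (x : Finset GolayPt) : ℕ × Bool :=
  open Classical in
  ((maskK.dec fpair0X ∩ x).card,
    decide (∃ o ∈ octads, ({pt oneX, pt twoX} : Finset GolayPt) ∪ (maskK.dec fpair0X ∪ x) ⊆ o))

/-- the invariant of a triple relative to the base triple -/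
noncomputable def triInv (x : Finset GolayPt) : Bool :=
  open Classical in decide (∃ o ∈ octads, maskK.dec triX ∪ x ⊆ o)

theorem fdd_st : M24 ⊓ MulAction.stabilizer (Equiv.Perm GolayPt) (D0, p0) =
    gtGroup (chainTop m11Stab) := by
  rw [stab_amb_pair]; exact m11_exact.1

theorem fdd_inv : ∀ g ∈ M24, g • (D0, p0) = (D0, p0) → ∀ x : Finset GolayPt,
    (x ∈ ({x | x ∈ dodecads ∧ p0 ∈ x} : Set (Finset GolayPt)) → g • x ∈ ({x | x ∈ dodecads ∧ p0 ∈ x} : Set (Finset GolayPt))) ∧
      (fun x => (D0 ∩ x).card) (g • x) = (fun x => (D0 ∩ x).card) x := by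
    intro g hg hy x
    obtain ⟨h1, h2⟩ := Prod.mk.inj hy
    refine ⟨fun hx => ⟨smul_mem_dodecads hg hx.1, (mem_smul_of_fix h2 x).2 hx.2⟩, ?_⟩
    show (D0 ∩ g • x).card = (D0 ∩ x).card
    conv_lhs => rw [← h1]
    exact inter_smul_card g D0 x

theorem fdd_vals : ([maskK.dec fdd0X, maskK.dec fdd1X, maskK.dec fdd2X, maskK.dec fdd3X] : List (Finset GolayPt)).map (fun x => (D0 ∩ x).card) = [12, 4, 8, 6] := by
  simp only [List.map_cons, List.map_nil, maskK, maskInter_card, D0]
  decide +kernel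

theorem fdd_nodup : (([maskK.dec fdd0X, maskK.dec fdd1X, maskK.dec fdd2X, maskK.dec fdd3X] : List (Finset GolayPt)).map (fun x => (D0 ∩ x).card)).Nodup := by
  rw [fdd_vals]; decide

theorem fdd_cover : ({x | x ∈ dodecads ∧ p0 ∈ x} : Set (Finset GolayPt)) =
    {y | ∃ z ∈ ([maskK.dec fdd0X, maskK.dec fdd1X, maskK.dec fdd2X, maskK.dec fdd3X] : List (Finset GolayPt)), y ∈ MulAction.orbit (gtGroup (chainTop m11Stab)) z} := by
  refine family_cover fdd_st (Set.toFinite _) [maskK.dec fdd0X, maskK.dec fdd1X, maskK.dec fdd2X, maskK.dec fdd3X] [1, 165, 330, 792] (fun x => (D0 ∩ x).card) fdd_inv fdd_nodup ?_ ?_ ?_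
  · simp only [List.map_cons, List.map_nil, fdd0_exact.2.2, fdd1_exact.2.2, fdd2_exact.2.2, fdd3_exact.2.2]
  · simp only [List.forall_mem_cons, List.forall_mem_nil, and_true, List.not_mem_nil, IsEmpty.forall_iff, forall_const]
    exact ⟨⟨mem_of_dodVal (by decide +kernel), by decide +kernel⟩, ⟨mem_of_dodVal (by decide +kernel), by decide +kernel⟩, ⟨mem_of_dodVal (by decide +kernel), by decide +kernel⟩, ⟨mem_of_dodVal (by decide +kernel), by decide +kernel⟩⟩
  · show _ ≤ _
    refine le_trans (b := 1288) ?_ (by decide)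
    have h := ncard_filter_code (fun s => s.card = 12 ∧ p0 ∈ s) (fun m => pop m == 12 && m.testBit m11X)
      (fun m _ => by simp [card_ofMask, p0, pt_mem_ofMask (show m11X < 24 by decide +kernel)])
    rw [show {x : Finset GolayPt | x ∈ dodecads ∧ p0 ∈ x} = {s | s ∈ Code ∧ s.card = 12 ∧ p0 ∈ s} from Set.ext fun s => and_assoc]
    exact le_of_eq (h.trans (by decide +kernel))

theorem fin_st : M24 ⊓ MulAction.stabilizer (Equiv.Perm GolayPt) (O0, pt octinX) =
    gtGroup (chainTop octinStab) := by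
  rw [stab_amb_pair]; exact octin_exact.1

theorem fin_inv : ∀ g ∈ M24, g • (O0, pt octinX) = (O0, pt octinX) → ∀ x : Finset GolayPt,
    (x ∈ ({x | x ∈ octads ∧ pt octinX ∈ x} : Set (Finset GolayPt)) → g • x ∈ ({x | x ∈ octads ∧ pt octinX ∈ x} : Set (Finset GolayPt))) ∧
      (fun x => (O0 ∩ x).card) (g • x) = (fun x => (O0 ∩ x).card) x := by
    intro g hg hy x
    obtain ⟨h1, h2⟩ := Prod.mk.inj hy
    refine ⟨fun hx => ⟨smul_mem_octads hg hx.1, (mem_smul_of_fix h2 x).2 hx.2⟩, ?_⟩
    show (O0 ∩ g • x).card = (O0 ∩ x).card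
    conv_lhs => rw [← h1]
    exact inter_smul_card g O0 x

theorem fin_vals : ([maskK.dec fin0X, maskK.dec fin1X, maskK.dec fin2X] : List (Finset GolayPt)).map (fun x => (O0 ∩ x).card) = [8, 2, 4] := by
  simp only [List.map_cons, List.map_nil, maskK, maskInter_card, O0]
  decide +kernel

theorem fin_nodup : (([maskK.dec fin0X, maskK.dec fin1X, maskK.dec fin2X] : List (Finset GolayPt)).map (fun x => (O0 ∩ x).card)).Nodup := by
  rw [fin_vals]; decide

theorem fin_cover : ({x | x ∈ octads ∧ pt octinX ∈ x} : Set (Finset GolayPt)) =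
    {y | ∃ z ∈ ([maskK.dec fin0X, maskK.dec fin1X, maskK.dec fin2X] : List (Finset GolayPt)), y ∈ MulAction.orbit (gtGroup (chainTop octinStab)) z} := by
  refine family_cover fin_st (Set.toFinite _) [maskK.dec fin0X, maskK.dec fin1X, maskK.dec fin2X] [1, 112, 140] (fun x => (O0 ∩ x).card) fin_inv fin_nodup ?_ ?_ ?_
  · simp only [List.map_cons, List.map_nil, fin0_exact.2.2, fin1_exact.2.2, fin2_exact.2.2]
  · simp only [List.forall_mem_cons, List.forall_mem_nil, and_true, List.not_mem_nil, IsEmpty.forall_iff, forall_const]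
    exact ⟨⟨mem_of_octVal (by decide +kernel), by decide +kernel⟩, ⟨mem_of_octVal (by decide +kernel), by decide +kernel⟩, ⟨mem_of_octVal (by decide +kernel), by decide +kernel⟩⟩
  · show _ ≤ _
    refine le_trans (b := 253) ?_ (by decide)
    exact le_of_eq ((ncard_octads_where (fun x => pt octinX ∈ x) (fun a => a.testBit octinX)
      (fun a => pt_mem_ofMask (by decide +kernel))).trans (by decide +kernel))

theorem fout_st : M24 ⊓ MulAction.stabilizer (Equiv.Perm GolayPt) (O0, pt octoutX) =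
    gtGroup (chainTop octoutStab) := by
  rw [stab_amb_pair]; exact octout_exact.1

theorem fout_inv : ∀ g ∈ M24, g • (O0, pt octoutX) = (O0, pt octoutX) → ∀ x : Finset GolayPt,
    (x ∈ ({x | x ∈ octads ∧ pt octoutX ∉ x} : Set (Finset GolayPt)) → g • x ∈ ({x | x ∈ octads ∧ pt octoutX ∉ x} : Set (Finset GolayPt))) ∧
      (fun x => (O0 ∩ x).card) (g • x) = (fun x => (O0 ∩ x).card) x := by
    intro g hg hy x
    obtain ⟨h1, h2⟩ := Prod.mk.inj hy
    refine ⟨fun hx => ⟨smul_mem_octads hg hx.1, fun h => hx.2 ((mem_smul_of_fix h2 x).1 h)⟩, ?_⟩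
    show (O0 ∩ g • x).card = (O0 ∩ x).card
    conv_lhs => rw [← h1]
    exact inter_smul_card g O0 x

theorem fout_vals : ([maskK.dec fout0X, maskK.dec fout1X, maskK.dec fout2X, maskK.dec fout3X] : List (Finset GolayPt)).map (fun x => (O0 ∩ x).card) = [8, 0, 4, 2] := by
  simp only [List.map_cons, List.map_nil, maskK, maskInter_card, O0]
  decide +kernel

theorem fout_nodup : (([maskK.dec fout0X, maskK.dec fout1X, maskK.dec fout2X, maskK.dec fout3X] : List (Finset GolayPt)).map (fun x => (O0 ∩ x).card)).Nodup := by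
  rw [fout_vals]; decide

theorem fout_cover : ({x | x ∈ octads ∧ pt octoutX ∉ x} : Set (Finset GolayPt)) =
    {y | ∃ z ∈ ([maskK.dec fout0X, maskK.dec fout1X, maskK.dec fout2X, maskK.dec fout3X] : List (Finset GolayPt)), y ∈ MulAction.orbit (gtGroup (chainTop octoutStab)) z} := by
  refine family_cover fout_st (Set.toFinite _) [maskK.dec fout0X, maskK.dec fout1X, maskK.dec fout2X, maskK.dec fout3X] [1, 15, 210, 280] (fun x => (O0 ∩ x).card) fout_inv fout_nodup ?_ ?_ ?_
  · simp only [List.map_cons, List.map_nil, fout0_exact.2.2, fout1_exact.2.2, fout2_exact.2.2, fout3_exact.2.2]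
  · simp only [List.forall_mem_cons, List.forall_mem_nil, and_true, List.not_mem_nil, IsEmpty.forall_iff, forall_const]
    exact ⟨⟨mem_of_octVal (by decide +kernel), by decide +kernel⟩, ⟨mem_of_octVal (by decide +kernel), by decide +kernel⟩, ⟨mem_of_octVal (by decide +kernel), by decide +kernel⟩, ⟨mem_of_octVal (by decide +kernel), by decide +kernel⟩⟩
  · show _ ≤ _
    refine le_trans (b := 506) ?_ (by decide)
    exact le_of_eq ((ncard_octads_where (fun x => pt octoutX ∉ x) (fun a => !a.testBit octoutX)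
      (fun a => by simp [pt_mem_ofMask (show octoutX < 24 by decide +kernel)])).trans (by decide +kernel))

theorem fpq_st : M24 ⊓ MulAction.stabilizer (Equiv.Perm GolayPt) (pt oneX, pt twoX) =
    gtGroup (chainTop twoStab) := by
  rw [stab_amb_pair]; exact two_exact.1

theorem fpq_inv : ∀ g ∈ M24, g • (pt oneX, pt twoX) = (pt oneX, pt twoX) → ∀ x : Finset GolayPt,
    (x ∈ ({x | x ∈ octads ∧ pt oneX ∈ x ∧ pt twoX ∈ x} : Set (Finset GolayPt)) → g • x ∈ ({x | x ∈ octads ∧ pt oneX ∈ x ∧ pt twoX ∈ x} : Set (Finset GolayPt))) ∧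
      (fun _ => ()) (g • x) = (fun _ => ()) x := by
    intro g hg hy x
    obtain ⟨h1, h2⟩ := Prod.mk.inj hy
    exact ⟨fun hx => ⟨smul_mem_octads hg hx.1, (mem_smul_of_fix h1 x).2 hx.2.1, (mem_smul_of_fix h2 x).2 hx.2.2⟩, rfl⟩

theorem fpq_vals : ([maskK.dec fpq0X] : List (Finset GolayPt)).map (fun _ => ()) = [()] := by
  simp only [List.map_cons, List.map_nil, maskK, maskInter_card]

theorem fpq_nodup : (([maskK.dec fpq0X] : List (Finset GolayPt)).map (fun _ => ())).Nodup := by
  rw [fpq_vals]; decide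

theorem fpq_cover : ({x | x ∈ octads ∧ pt oneX ∈ x ∧ pt twoX ∈ x} : Set (Finset GolayPt)) =
    {y | ∃ z ∈ ([maskK.dec fpq0X] : List (Finset GolayPt)), y ∈ MulAction.orbit (gtGroup (chainTop twoStab)) z} := by
  refine family_cover fpq_st (Set.toFinite _) [maskK.dec fpq0X] [77] (fun _ => ()) fpq_inv fpq_nodup ?_ ?_ ?_
  · simp only [List.map_cons, List.map_nil, fpq0_exact.2.2]
  · simp only [List.forall_mem_cons, List.forall_mem_nil, and_true, List.not_mem_nil, IsEmpty.forall_iff, forall_const]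
    exact ⟨mem_of_octVal (by decide +kernel), by decide +kernel, by decide +kernel⟩
  · show _ ≤ _
    refine le_trans (b := 77) ?_ (by decide)
    exact le_of_eq ((ncard_octads_where (fun x => pt oneX ∈ x ∧ pt twoX ∈ x) (fun a => a.testBit oneX && a.testBit twoX)
      (fun a => by simp [pt_mem_ofMask (show oneX < 24 by decide +kernel), pt_mem_ofMask (show twoX < 24 by decide +kernel)])).trans (by decide +kernel))

theorem fpnq_st : M24 ⊓ MulAction.stabilizer (Equiv.Perm GolayPt) (pt oneX, pt twoX) =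
    gtGroup (chainTop twoStab) := by
  rw [stab_amb_pair]; exact two_exact.1

theorem fpnq_inv : ∀ g ∈ M24, g • (pt oneX, pt twoX) = (pt oneX, pt twoX) → ∀ x : Finset GolayPt,
    (x ∈ ({x | x ∈ octads ∧ pt oneX ∈ x ∧ pt twoX ∉ x} : Set (Finset GolayPt)) → g • x ∈ ({x | x ∈ octads ∧ pt oneX ∈ x ∧ pt twoX ∉ x} : Set (Finset GolayPt))) ∧
      (fun _ => ()) (g • x) = (fun _ => ()) x := by
    intro g hg hy x
    obtain ⟨h1, h2⟩ := Prod.mk.inj hy
    exact ⟨fun hx => ⟨smul_mem_octads hg hx.1, (mem_smul_of_fix h1 x).2 hx.2.1, fun h => hx.2.2 ((mem_smul_of_fix h2 x).1 h)⟩, rfl⟩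

theorem fpnq_vals : ([maskK.dec fpnq0X] : List (Finset GolayPt)).map (fun _ => ()) = [()] := by
  simp only [List.map_cons, List.map_nil, maskK, maskInter_card]

theorem fpnq_nodup : (([maskK.dec fpnq0X] : List (Finset GolayPt)).map (fun _ => ())).Nodup := by
  rw [fpnq_vals]; decide

theorem fpnq_cover : ({x | x ∈ octads ∧ pt oneX ∈ x ∧ pt twoX ∉ x} : Set (Finset GolayPt)) =
    {y | ∃ z ∈ ([maskK.dec fpnq0X] : List (Finset GolayPt)), y ∈ MulAction.orbit (gtGroup (chainTop twoStab)) z} := by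
  refine family_cover fpnq_st (Set.toFinite _) [maskK.dec fpnq0X] [176] (fun _ => ()) fpnq_inv fpnq_nodup ?_ ?_ ?_
  · simp only [List.map_cons, List.map_nil, fpnq0_exact.2.2]
  · simp only [List.forall_mem_cons, List.forall_mem_nil, and_true, List.not_mem_nil, IsEmpty.forall_iff, forall_const]
    exact ⟨mem_of_octVal (by decide +kernel), by decide +kernel, by decide +kernel⟩
  · show _ ≤ _
    refine le_trans (b := 176) ?_ (by decide)
    exact le_of_eq ((ncard_octads_where (fun x => pt oneX ∈ x ∧ pt twoX ∉ x) (fun a => a.testBit oneX && !a.testBit twoX)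
      (fun a => by simp [pt_mem_ofMask (show oneX < 24 by decide +kernel), pt_mem_ofMask (show twoX < 24 by decide +kernel)])).trans (by decide +kernel))

theorem gpq_st : M24 ⊓ MulAction.stabilizer (Equiv.Perm GolayPt) ((pt oneX, pt twoX), maskK.dec fpq0X) =
    gtGroup (chainTop fpq0Stab) := by
  rw [stab_amb_pair, stab_amb_pair]; exact fpq0_exact.1

theorem gpq_inv : ∀ g ∈ M24, g • ((pt oneX, pt twoX), maskK.dec fpq0X) = ((pt oneX, pt twoX), maskK.dec fpq0X) → ∀ x : Finset GolayPt,
    (x ∈ ({x | x ∈ octads ∧ pt oneX ∈ x ∧ pt twoX ∈ x} : Set (Finset GolayPt)) → g • x ∈ ({x | x ∈ octads ∧ pt oneX ∈ x ∧ pt twoX ∈ x} : Set (Finset GolayPt))) ∧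
      (fun x => (maskK.dec fpq0X ∩ x).card) (g • x) = (fun x => (maskK.dec fpq0X ∩ x).card) x := by
    intro g hg hy x
    obtain ⟨h12, h3⟩ := Prod.mk.inj hy
    obtain ⟨h1, h2⟩ := Prod.mk.inj h12
    refine ⟨fun hx => ⟨smul_mem_octads hg hx.1, (mem_smul_of_fix h1 x).2 hx.2.1, (mem_smul_of_fix h2 x).2 hx.2.2⟩, ?_⟩
    show (maskK.dec fpq0X ∩ g • x).card = (maskK.dec fpq0X ∩ x).card
    conv_lhs => rw [← h3]
    exact inter_smul_card g _ x

theorem gpq_vals : ([maskK.dec gpq0X, maskK.dec gpq1X, maskK.dec gpq2X] : List (Finset GolayPt)).map (fun x => (maskK.dec fpq0X ∩ x).card) = [8, 2, 4] := by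
  simp only [List.map_cons, List.map_nil, maskK, maskInter_card]
  decide +kernel

theorem gpq_nodup : (([maskK.dec gpq0X, maskK.dec gpq1X, maskK.dec gpq2X] : List (Finset GolayPt)).map (fun x => (maskK.dec fpq0X ∩ x).card)).Nodup := by
  rw [gpq_vals]; decide

theorem gpq_cover : ({x | x ∈ octads ∧ pt oneX ∈ x ∧ pt twoX ∈ x} : Set (Finset GolayPt)) =
    {y | ∃ z ∈ ([maskK.dec gpq0X, maskK.dec gpq1X, maskK.dec gpq2X] : List (Finset GolayPt)), y ∈ MulAction.orbit (gtGroup (chainTop fpq0Stab)) z} := by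
  refine family_cover gpq_st (Set.toFinite _) [maskK.dec gpq0X, maskK.dec gpq1X, maskK.dec gpq2X] [1, 16, 60] (fun x => (maskK.dec fpq0X ∩ x).card) gpq_inv gpq_nodup ?_ ?_ ?_
  · simp only [List.map_cons, List.map_nil, gpq0_exact.2.2, gpq1_exact.2.2, gpq2_exact.2.2]
  · simp only [List.forall_mem_cons, List.forall_mem_nil, and_true, List.not_mem_nil, IsEmpty.forall_iff, forall_const]
    exact ⟨⟨mem_of_octVal (by decide +kernel), by decide +kernel, by decide +kernel⟩, ⟨mem_of_octVal (by decide +kernel), by decide +kernel, by decide +kernel⟩, ⟨mem_of_octVal (by decide +kernel), by decide +kernel, by decide +kernel⟩⟩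
  · show _ ≤ _
    refine le_trans (b := 77) ?_ (by decide)
    exact le_of_eq ((ncard_octads_where (fun x => pt oneX ∈ x ∧ pt twoX ∈ x) (fun a => a.testBit oneX && a.testBit twoX)
      (fun a => by simp [pt_mem_ofMask (show oneX < 24 by decide +kernel), pt_mem_ofMask (show twoX < 24 by decide +kernel)])).trans (by decide +kernel))

theorem gpnq_st : M24 ⊓ MulAction.stabilizer (Equiv.Perm GolayPt) ((pt oneX, pt twoX), maskK.dec fpnq0X) =
    gtGroup (chainTop fpnq0Stab) := by
  rw [stab_amb_pair, stab_amb_pair]; exact fpnq0_exact.1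

theorem gpnq_inv : ∀ g ∈ M24, g • ((pt oneX, pt twoX), maskK.dec fpnq0X) = ((pt oneX, pt twoX), maskK.dec fpnq0X) → ∀ x : Finset GolayPt,
    (x ∈ ({x | x ∈ octads ∧ pt oneX ∈ x ∧ pt twoX ∉ x} : Set (Finset GolayPt)) → g • x ∈ ({x | x ∈ octads ∧ pt oneX ∈ x ∧ pt twoX ∉ x} : Set (Finset GolayPt))) ∧
      (fun x => (maskK.dec fpnq0X ∩ x).card) (g • x) = (fun x => (maskK.dec fpnq0X ∩ x).card) x := by
    intro g hg hy x
    obtain ⟨h12, h3⟩ := Prod.mk.inj hy
    obtain ⟨h1, h2⟩ := Prod.mk.inj h12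
    refine ⟨fun hx => ⟨smul_mem_octads hg hx.1, (mem_smul_of_fix h1 x).2 hx.2.1, fun h => hx.2.2 ((mem_smul_of_fix h2 x).1 h)⟩, ?_⟩
    show (maskK.dec fpnq0X ∩ g • x).card = (maskK.dec fpnq0X ∩ x).card
    conv_lhs => rw [← h3]
    exact inter_smul_card g _ x

theorem gpnq_vals : ([maskK.dec gpnq0X, maskK.dec gpnq1X, maskK.dec gpnq2X] : List (Finset GolayPt)).map (fun x => (maskK.dec fpnq0X ∩ x).card) = [8, 2, 4] := by
  simp only [List.map_cons, List.map_nil, maskK, maskInter_card]
  decide +kernel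

theorem gpnq_nodup : (([maskK.dec gpnq0X, maskK.dec gpnq1X, maskK.dec gpnq2X] : List (Finset GolayPt)).map (fun x => (maskK.dec fpnq0X ∩ x).card)).Nodup := by
  rw [gpnq_vals]; decide

theorem gpnq_cover : ({x | x ∈ octads ∧ pt oneX ∈ x ∧ pt twoX ∉ x} : Set (Finset GolayPt)) =
    {y | ∃ z ∈ ([maskK.dec gpnq0X, maskK.dec gpnq1X, maskK.dec gpnq2X] : List (Finset GolayPt)), y ∈ MulAction.orbit (gtGroup (chainTop fpnq0Stab)) z} := by
  refine family_cover gpnq_st (Set.toFinite _) [maskK.dec gpnq0X, maskK.dec gpnq1X, maskK.dec gpnq2X] [1, 70, 105] (fun x => (maskK.dec fpnq0X ∩ x).card) gpnq_inv gpnq_nodup ?_ ?_ ?_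
  · simp only [List.map_cons, List.map_nil, gpnq0_exact.2.2, gpnq1_exact.2.2, gpnq2_exact.2.2]
  · simp only [List.forall_mem_cons, List.forall_mem_nil, and_true, List.not_mem_nil, IsEmpty.forall_iff, forall_const]
    exact ⟨⟨mem_of_octVal (by decide +kernel), by decide +kernel, by decide +kernel⟩, ⟨mem_of_octVal (by decide +kernel), by decide +kernel, by decide +kernel⟩, ⟨mem_of_octVal (by decide +kernel), by decide +kernel, by decide +kernel⟩⟩
  · show _ ≤ _
    refine le_trans (b := 176) ?_ (by decide)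
    exact le_of_eq ((ncard_octads_where (fun x => pt oneX ∈ x ∧ pt twoX ∉ x) (fun a => a.testBit oneX && !a.testBit twoX)
      (fun a => by simp [pt_mem_ofMask (show oneX < 24 by decide +kernel), pt_mem_ofMask (show twoX < 24 by decide +kernel)])).trans (by decide +kernel))

theorem fpair_st : M24 ⊓ MulAction.stabilizer (Equiv.Perm GolayPt) (pt oneX, pt twoX) =
    gtGroup (chainTop twoStab) := by
  rw [stab_amb_pair]; exact two_exact.1

theorem fpair_inv : ∀ g ∈ M24, g • (pt oneX, pt twoX) = (pt oneX, pt twoX) → ∀ x : Finset GolayPt,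
    (x ∈ ({x | x.card = 2 ∧ pt oneX ∉ x ∧ pt twoX ∉ x} : Set (Finset GolayPt)) → g • x ∈ ({x | x.card = 2 ∧ pt oneX ∉ x ∧ pt twoX ∉ x} : Set (Finset GolayPt))) ∧
      (fun _ => ()) (g • x) = (fun _ => ()) x := by
    intro g hg hy x
    obtain ⟨h1, h2⟩ := Prod.mk.inj hy
    exact ⟨fun hx => ⟨(card_smul_perm g x).trans hx.1, fun h => hx.2.1 ((mem_smul_of_fix h1 x).1 h),
      fun h => hx.2.2 ((mem_smul_of_fix h2 x).1 h)⟩, rfl⟩

theorem fpair_vals : ([maskK.dec fpair0X] : List (Finset GolayPt)).map (fun _ => ()) = [()] := by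
  simp only [List.map_cons, List.map_nil, maskK, maskInter_card]

theorem fpair_nodup : (([maskK.dec fpair0X] : List (Finset GolayPt)).map (fun _ => ())).Nodup := by
  rw [fpair_vals]; decide

theorem fpair_cover : ({x | x.card = 2 ∧ pt oneX ∉ x ∧ pt twoX ∉ x} : Set (Finset GolayPt)) =
    {y | ∃ z ∈ ([maskK.dec fpair0X] : List (Finset GolayPt)), y ∈ MulAction.orbit (gtGroup (chainTop twoStab)) z} := by
  refine family_cover fpair_st (Set.toFinite _) [maskK.dec fpair0X] [231] (fun _ => ()) fpair_inv fpair_nodup ?_ ?_ ?_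
  · simp only [List.map_cons, List.map_nil, fpair0_exact.2.2]
  · simp only [List.forall_mem_cons, List.forall_mem_nil, and_true, List.not_mem_nil, IsEmpty.forall_iff, forall_const]
    exact ⟨by decide +kernel, by decide +kernel, by decide +kernel⟩
  · show _ ≤ _
    refine le_trans (b := 231) ?_ (by decide)
    have e : {x : Finset GolayPt | x.card = 2 ∧ pt oneX ∉ x ∧ pt twoX ∉ x} =
        ↑((((Finset.univ : Finset GolayPt).erase (pt oneX)).erase (pt twoX)).powersetCard 2) := by
      ext x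
      simp only [Set.mem_setOf_eq, Finset.mem_coe, Finset.mem_powersetCard, Finset.subset_iff,
        Finset.mem_erase, Finset.mem_univ, and_true]
      constructor
      · rintro ⟨hc, h1, h2⟩
        exact ⟨fun p hp => ⟨fun h => h2 (h ▸ hp), fun h => h1 (h ▸ hp)⟩, hc⟩
      · rintro ⟨hs, hc⟩
        exact ⟨hc, fun h => (hs h).2 rfl, fun h => (hs h).1 rfl⟩
    rw [e, Set.ncard_coe_finset, Finset.card_powersetCard]
    decide +kernel

theorem gpair_st : M24 ⊓ MulAction.stabilizer (Equiv.Perm GolayPt) ((pt oneX, pt twoX), maskK.dec fpair0X) =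
    gtGroup (chainTop fpair0Stab) := by
  rw [stab_amb_pair, stab_amb_pair]; exact fpair0_exact.1

theorem gpair_inv : ∀ g ∈ M24, g • ((pt oneX, pt twoX), maskK.dec fpair0X) = ((pt oneX, pt twoX), maskK.dec fpair0X) → ∀ x : Finset GolayPt,
    (x ∈ ({x | x.card = 2 ∧ pt oneX ∉ x ∧ pt twoX ∉ x} : Set (Finset GolayPt)) → g • x ∈ ({x | x.card = 2 ∧ pt oneX ∉ x ∧ pt twoX ∉ x} : Set (Finset GolayPt))) ∧
      (pairInv) (g • x) = (pairInv) x := by
    intro g hg hy x
    obtain ⟨h12, h3⟩ := Prod.mk.inj hy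
    obtain ⟨h1, h2⟩ := Prod.mk.inj h12
    refine ⟨fun hx => ⟨(card_smul_perm g x).trans hx.1, fun h => hx.2.1 ((mem_smul_of_fix h1 x).1 h),
      fun h => hx.2.2 ((mem_smul_of_fix h2 x).1 h)⟩, ?_⟩
    show pairInv (g • x) = pairInv x
    simp only [pairInv]
    refine Prod.ext ?_ ?_
    · show (maskK.dec fpair0X ∩ g • x).card = _
      conv_lhs => rw [← h3]
      exact inter_smul_card g _ x
    · refine decide_eq_decide.2 ?_
      conv_lhs => rw [← h1, ← h2, ← h3]
      have e : ({g • pt oneX, g • pt twoX} : Finset GolayPt) ∪ (g • maskK.dec fpair0X ∪ g • x) =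
          g • (({pt oneX, pt twoX} : Finset GolayPt) ∪ (maskK.dec fpair0X ∪ x)) := by
        simp only [smul_eq_image, Finset.image_union, Finset.image_insert, Finset.image_singleton]
        rfl
      rw [e]; exact exists_octad_smul hg _

theorem gpair_vals : ([maskK.dec gpair0X, maskK.dec gpair1X, maskK.dec gpair2X, maskK.dec gpair3X] : List (Finset GolayPt)).map (pairInv) = [(2, true), (0, true), (1, true), (0, false)] := by
  simp only [List.map_cons, List.map_nil, maskK, maskInter_card, pairInv]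
  simp only [show ({pt oneX, pt twoX} : Finset GolayPt) = ofMask (2 ^ oneX ||| 2 ^ twoX) from by decide +kernel,
    ← ofMask_or, exists_octad_iff _ (Nat.or_lt_two_pow (show (2 : ℕ) ^ oneX ||| 2 ^ twoX < 2 ^ 24 by decide +kernel)
      (Nat.or_lt_two_pow (show fpair0X < 2 ^ 24 by decide +kernel) (show gpair0X < 2 ^ 24 by decide +kernel))),
    exists_octad_iff _ (Nat.or_lt_two_pow (show (2 : ℕ) ^ oneX ||| 2 ^ twoX < 2 ^ 24 by decide +kernel)
      (Nat.or_lt_two_pow (show fpair0X < 2 ^ 24 by decide +kernel) (show gpair1X < 2 ^ 24 by decide +kernel))),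
    exists_octad_iff _ (Nat.or_lt_two_pow (show (2 : ℕ) ^ oneX ||| 2 ^ twoX < 2 ^ 24 by decide +kernel)
      (Nat.or_lt_two_pow (show fpair0X < 2 ^ 24 by decide +kernel) (show gpair2X < 2 ^ 24 by decide +kernel))),
    exists_octad_iff _ (Nat.or_lt_two_pow (show (2 : ℕ) ^ oneX ||| 2 ^ twoX < 2 ^ 24 by decide +kernel)
      (Nat.or_lt_two_pow (show fpair0X < 2 ^ 24 by decide +kernel) (show gpair3X < 2 ^ 24 by decide +kernel))), Bool.decide_eq_true]
  decide +kernel

theorem gpair_nodup : (([maskK.dec gpair0X, maskK.dec gpair1X, maskK.dec gpair2X, maskK.dec gpair3X] : List (Finset GolayPt)).map (pairInv)).Nodup := by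
  rw [gpair_vals]; decide

theorem gpair_cover : ({x | x.card = 2 ∧ pt oneX ∉ x ∧ pt twoX ∉ x} : Set (Finset GolayPt)) =
    {y | ∃ z ∈ ([maskK.dec gpair0X, maskK.dec gpair1X, maskK.dec gpair2X, maskK.dec gpair3X] : List (Finset GolayPt)), y ∈ MulAction.orbit (gtGroup (chainTop fpair0Stab)) z} := by
  refine family_cover gpair_st (Set.toFinite _) [maskK.dec gpair0X, maskK.dec gpair1X, maskK.dec gpair2X, maskK.dec gpair3X] [1, 30, 40, 160] (pairInv) gpair_inv gpair_nodup ?_ ?_ ?_
  · simp only [List.map_cons, List.map_nil, gpair0_exact.2.2, gpair1_exact.2.2, gpair2_exact.2.2, gpair3_exact.2.2]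
  · simp only [List.forall_mem_cons, List.forall_mem_nil, and_true, List.not_mem_nil, IsEmpty.forall_iff, forall_const]
    exact ⟨⟨by decide +kernel, by decide +kernel, by decide +kernel⟩, ⟨by decide +kernel, by decide +kernel, by decide +kernel⟩, ⟨by decide +kernel, by decide +kernel, by decide +kernel⟩, ⟨by decide +kernel, by decide +kernel, by decide +kernel⟩⟩
  · show _ ≤ _
    refine le_trans (b := 231) ?_ (by decide)
    have e : {x : Finset GolayPt | x.card = 2 ∧ pt oneX ∉ x ∧ pt twoX ∉ x} =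
        ↑((((Finset.univ : Finset GolayPt).erase (pt oneX)).erase (pt twoX)).powersetCard 2) := by
      ext x
      simp only [Set.mem_setOf_eq, Finset.mem_coe, Finset.mem_powersetCard, Finset.subset_iff,
        Finset.mem_erase, Finset.mem_univ, and_true]
      constructor
      · rintro ⟨hc, h1, h2⟩
        exact ⟨fun p hp => ⟨fun h => h2 (h ▸ hp), fun h => h1 (h ▸ hp)⟩, hc⟩
      · rintro ⟨hs, hc⟩
        exact ⟨hc, fun h => (hs h).2 rfl, fun h => (hs h).1 rfl⟩
    rw [e, Set.ncard_coe_finset, Finset.card_powersetCard]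
    decide +kernel

theorem ftri_st : M24 ⊓ MulAction.stabilizer (Equiv.Perm GolayPt) (maskK.dec triX) =
    gtGroup (chainTop triStab) := by
  exact tri_exact.1

theorem ftri_inv : ∀ g ∈ M24, g • (maskK.dec triX) = (maskK.dec triX) → ∀ x : Finset GolayPt,
    (x ∈ ({x | x.card = 3 ∧ Disjoint (maskK.dec triX) x} : Set (Finset GolayPt)) → g • x ∈ ({x | x.card = 3 ∧ Disjoint (maskK.dec triX) x} : Set (Finset GolayPt))) ∧
      (triInv) (g • x) = (triInv) x := by
    intro g hg hy x
    refine ⟨fun hx => ⟨(card_smul_perm g x).trans hx.1, ?_⟩, ?_⟩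
    · rw [← hy, smul_eq_image, smul_eq_image, Finset.disjoint_image g.injective]; exact hx.2
    · show triInv (g • x) = triInv x
      simp only [triInv]
      refine decide_eq_decide.2 ?_
      conv_lhs => rw [← hy, ← Finset.smul_finset_union]
      exact exists_octad_smul hg _

theorem ftri_vals : ([maskK.dec ftri0X, maskK.dec ftri1X] : List (Finset GolayPt)).map (triInv) = [true, false] := by
  simp only [List.map_cons, List.map_nil, maskK, maskInter_card, triInv]
  simp only [← ofMask_or, exists_octad_iff _ (show triX ||| ftri0X < 2 ^ 24 by decide +kernel),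
    exists_octad_iff _ (show triX ||| ftri1X < 2 ^ 24 by decide +kernel), Bool.decide_eq_true]
  decide +kernel

theorem ftri_nodup : (([maskK.dec ftri0X, maskK.dec ftri1X] : List (Finset GolayPt)).map (triInv)).Nodup := by
  rw [ftri_vals]; decide

theorem ftri_cover : ({x | x.card = 3 ∧ Disjoint (maskK.dec triX) x} : Set (Finset GolayPt)) =
    {y | ∃ z ∈ ([maskK.dec ftri0X, maskK.dec ftri1X] : List (Finset GolayPt)), y ∈ MulAction.orbit (gtGroup (chainTop triStab)) z} := by
  refine family_cover ftri_st (Set.toFinite _) [maskK.dec ftri0X, maskK.dec ftri1X] [210, 1120] (triInv) ftri_inv ftri_nodup ?_ ?_ ?_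
  · simp only [List.map_cons, List.map_nil, ftri0_exact.2.2, ftri1_exact.2.2]
  · simp only [List.forall_mem_cons, List.forall_mem_nil, and_true, List.not_mem_nil, IsEmpty.forall_iff, forall_const]
    exact ⟨⟨by decide +kernel, by decide +kernel⟩, ⟨by decide +kernel, by decide +kernel⟩⟩
  · show _ ≤ _
    refine le_trans (b := 1330) ?_ (by decide)
    have e : {x : Finset GolayPt | x.card = 3 ∧ Disjoint (maskK.dec triX) x} =
        ↑((maskK.dec triX)ᶜ.powersetCard 3) := by
      ext x
      simp only [Set.mem_setOf_eq, Finset.mem_coe, Finset.mem_powersetCard,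
        Finset.disjoint_right, Finset.subset_iff, Finset.mem_compl]
      exact and_comm
    rw [e, Set.ncard_coe_finset, Finset.card_powersetCard]
    decide +kernel

end CfsgLib.Spor
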