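import Cfsg.Prelude.Def_Spor_Conway
import Cfsg.Agent.Spor.Code
import Cfsg.Agent.Spor.Octads

/-!
Basic facts on the lattice built from the Golay code: a linear membership test, and the
monomial automorphisms.
-/

set_option autoImplicit false

namespace CfsgLib.Spor

open Cfsg
open scoped Pointwise

/-- the binary word attached to a vector all of whose coordinates have the parity of `m` -/
def halfWord (x : GolayPt → ℤ) (m : ℤ) : GolayPt → ZMod 2 := fun i => (((x i - m) / 2 : ℤ) : ZMod 2)

/-- the linear membership test -/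
def InLeech (x : GolayPt → ℤ) : Prop :=
  ∃ m : ℤ, (∀ i, (2 : ℤ) ∣ x i - m) ∧ (8 : ℤ) ∣ (∑ i, x i) - 4 * m ∧ halfWord x m ∈ golayCode

theorem one_mem_golayCode : (1 : GolayPt → ZMod 2) ∈ golayCode :=
  Submodule.subset_span (Or.inr rfl)

theorem halfWord_add {x y : GolayPt → ℤ} {a b : ℤ} (ha : ∀ i, (2 : ℤ) ∣ x i - a)
    (hb : ∀ i, (2 : ℤ) ∣ y i - b) : halfWord (x + y) (a + b) = halfWord x a + halfWord y b := by
  funext i
  simp only [halfWord, Pi.add_apply]
  rw [show x i + y i - (a + b) = (x i - a) + (y i - b) by ring,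
    Int.add_ediv_of_dvd_left (ha i), Int.cast_add]

theorem halfWord_neg {x : GolayPt → ℤ} {a : ℤ} (ha : ∀ i, (2 : ℤ) ∣ x i - a) :
    halfWord (-x) (-a) = halfWord x a := by
  funext i
  simp only [halfWord, Pi.neg_apply]
  rw [show -x i - -a = -(x i - a) by ring, Int.neg_ediv_of_dvd (ha i), Int.cast_neg,
    ZMod.neg_eq_self_mod_two]

theorem inLeech_zero : InLeech 0 :=
  ⟨0, fun i => by simp, by simp, by
    have : halfWord 0 0 = (0 : GolayPt → ZMod 2) := by funext i; simp [halfWord]
    rw [this]; exact Submodule.zero_mem _⟩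

theorem inLeech_add {x y : GolayPt → ℤ} (hx : InLeech x) (hy : InLeech y) : InLeech (x + y) := by
  obtain ⟨a, ha, hsa, hwa⟩ := hx
  obtain ⟨b, hb, hsb, hwb⟩ := hy
  refine ⟨a + b, fun i => ?_, ?_, ?_⟩
  · simp only [Pi.add_apply]
    rw [show x i + y i - (a + b) = (x i - a) + (y i - b) by ring]
    exact dvd_add (ha i) (hb i)
  · simp only [Pi.add_apply, Finset.sum_add_distrib]
    rw [show (∑ i, x i) + (∑ i, y i) - 4 * (a + b)
      = ((∑ i, x i) - 4 * a) + ((∑ i, y i) - 4 * b) by ring]
    exact dvd_add hsa hsb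
  · rw [halfWord_add ha hb]; exact Submodule.add_mem _ hwa hwb

theorem inLeech_neg {x : GolayPt → ℤ} (hx : InLeech x) : InLeech (-x) := by
  obtain ⟨a, ha, hsa, hwa⟩ := hx
  refine ⟨-a, fun i => ?_, ?_, ?_⟩
  · simp only [Pi.neg_apply]
    rw [show -x i - -a = -(x i - a) by ring]
    exact (ha i).neg_right
  · simp only [Pi.neg_apply, Finset.sum_neg_distrib]
    rw [show -(∑ i, x i) - 4 * -a = -((∑ i, x i) - 4 * a) by ring]
    exact hsa.neg_right
  · rw [halfWord_neg ha]; exact hwa

theorem inLeech_iff_leechSet {x : GolayPt → ℤ} : InLeech x ↔ x ∈ leechSet := by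
  constructor
  · rintro ⟨m, hm, hs, hw⟩
    refine ⟨m, fun i => (Int.modEq_iff_dvd.2 (hm i)).symm, (Int.modEq_iff_dvd.2 hs).symm, fun k => ?_⟩
    have key : ∀ i, (halfWord x m i ≠ 0 ↔ ¬ (4 : ℤ) ∣ x i - m) := by
      intro i
      have h2 := hm i
      rw [halfWord, Ne, ZMod.intCast_zmod_eq_zero_iff_dvd]
      push_cast
      omega
    by_cases hkm : (2 : ℤ) ∣ k - m
    · by_cases h4 : (4 : ℤ) ∣ k - m
      · refine ⟨halfWord x m + 1, Submodule.add_mem _ hw one_mem_golayCode, ?_⟩
        ext i
        simp only [mem_supp, Pi.add_apply, Pi.one_apply, Finset.mem_filter, Finset.mem_univ, true_and,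
          Int.modEq_iff_dvd]
        have h2 := hm i
        have hz : (halfWord x m i + 1 ≠ 0) ↔ ¬ halfWord x m i ≠ 0 := by
          generalize halfWord x m i = a; revert a; decide
        rw [hz, key]
        omega
      · refine ⟨halfWord x m, hw, ?_⟩
        ext i
        simp only [mem_supp, Finset.mem_filter, Finset.mem_univ, true_and, Int.modEq_iff_dvd]
        have h2 := hm i
        rw [key]
        omega
    · refine ⟨0, Submodule.zero_mem _, ?_⟩
      ext i
      have h2 := hm i
      simp only [mem_supp, Pi.zero_apply, ne_eq, not_true, Finset.mem_filter, Finset.mem_univ,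
        true_and, Int.modEq_iff_dvd, false_iff]
      omega
  · rintro ⟨m, hm, hs, hk⟩
    refine ⟨m, fun i => Int.modEq_iff_dvd.1 (hm i).symm, Int.modEq_iff_dvd.1 hs.symm, ?_⟩
    obtain ⟨w, hw, he⟩ := hk (m + 2)
    have : halfWord x m = w := by
      funext i
      have hmem : (w i ≠ 0) ↔ (4 : ℤ) ∣ m + 2 - x i := by
        rw [← mem_supp, he]; simp [Int.modEq_iff_dvd]
      have h2 := Int.modEq_iff_dvd.1 (hm i).symm
      have hq : halfWord x m i ≠ 0 ↔ w i ≠ 0 := by
        rw [hmem, halfWord, Ne, ZMod.intCast_zmod_eq_zero_iff_dvd]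
        push_cast
        omega
      revert hq
      generalize halfWord x m i = a
      generalize w i = b
      revert a b
      decide
    rw [this]; exact hw

/-- The lattice consists exactly of the vectors passing the test. -/
theorem mem_leechLattice {x : GolayPt → ℤ} : x ∈ leechLattice ↔ InLeech x := by
  refine ⟨fun h => ?_, fun h => AddSubgroup.subset_closure (inLeech_iff_leechSet.1 h)⟩
  induction h using AddSubgroup.closure_induction with
  | mem y hy => exact inLeech_iff_leechSet.2 hy
  | zero => exact inLeech_zero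
  | add y y' _ _ h1 h2 => exact inLeech_add h1 h2
  | neg y _ h1 => exact inLeech_neg h1

/-- An automorphism of the lattice from a linear map of the coordinates and its inverse. -/
def co0Of (L L' : (GolayPt → ℤ) →+ (GolayPt → ℤ)) (hL : ∀ x, InLeech x → InLeech (L x))
    (hL' : ∀ x, InLeech x → InLeech (L' x)) (h1 : ∀ x, L' (L x) = x) (h2 : ∀ x, L (L' x) = x)
    (hn : ∀ x, sqNorm (L x) = sqNorm x) : Co0 :=
  ⟨{ toFun := fun v => ⟨L v.1, mem_leechLattice.2 (hL _ (mem_leechLattice.1 v.2))⟩
     invFun := fun v => ⟨L' v.1, mem_leechLattice.2 (hL' _ (mem_leechLattice.1 v.2))⟩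
     left_inv := fun v => Subtype.ext (h1 v.1)
     right_inv := fun v => Subtype.ext (h2 v.1) },
    ⟨fun v w => Subtype.ext (map_add L v.1 w.1), fun v => hn v.1⟩⟩

/-- permuting the coordinates -/
def permMap (σ : Equiv.Perm GolayPt) : (GolayPt → ℤ) →+ (GolayPt → ℤ) where
  toFun x := fun i => x (σ⁻¹ i)
  map_zero' := rfl
  map_add' _ _ := rfl

theorem inLeech_permMap {σ : Equiv.Perm GolayPt} (hσ : σ ∈ M24) {x : GolayPt → ℤ}
    (hx : InLeech x) : InLeech (permMap σ x) := by
  obtain ⟨m, hm, hs, hw⟩ := hx
  refine ⟨m, fun i => hm _, ?_, ?_⟩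
  · have : (∑ i, permMap σ x i) = ∑ i, x i := Equiv.sum_comp σ⁻¹ x
    rwa [this]
  · rw [mem_code_iff] at hw ⊢
    have : support₂ (halfWord (permMap σ x) m) = σ • support₂ (halfWord x m) := by
      ext i
      rw [← Finset.inv_smul_mem_iff, mem_supp, mem_supp]
      rfl
    rw [this]; exact mem_M24_iff.1 hσ _ hw

/-- the coordinate permutation as an element of `Co0` -/
def co0Perm (σ : Equiv.Perm GolayPt) (hσ : σ ∈ M24) : Co0 :=
  co0Of (permMap σ) (permMap σ⁻¹) (fun _ => inLeech_permMap hσ)
    (fun _ => inLeech_permMap (inv_mem hσ))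
    (fun x => by funext i; simp [permMap]) (fun x => by funext i; simp [permMap])
    (fun x => Equiv.sum_comp σ⁻¹ fun i => x i ^ 2)

theorem co0Perm_apply (σ : Equiv.Perm GolayPt) (hσ : σ ∈ M24) (v : leechLattice) (i : GolayPt) :
    ((co0Perm σ hσ • v : leechLattice) : GolayPt → ℤ) i = (v : GolayPt → ℤ) (σ⁻¹ i) := rfl

/-- changing the signs on a set of coordinates -/
def signMap (s : Finset GolayPt) : (GolayPt → ℤ) →+ (GolayPt → ℤ) where
  toFun x := fun i => if i ∈ s then -x i else x i
  map_zero' := by funext i; simp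
  map_add' x y := by funext i; by_cases h : i ∈ s <;> simp [h]; ring

theorem card_inter_even {s t : Finset GolayPt} (hs : s ∈ Code) (ht : t ∈ Code) :
    Even (s ∩ t).card := by
  have h1 := card_cases hs
  have h2 := card_cases ht
  have h3 := card_cases (symmDiff_mem_code hs ht)
  have h4 : (symmDiff s t).card + 2 * (s ∩ t).card = s.card + t.card := by
    have e : symmDiff s t = (s ∪ t) \ (s ∩ t) := by
      ext i; simp only [Finset.mem_symmDiff, Finset.mem_sdiff, Finset.mem_union, Finset.mem_inter]; tauto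
    have hsub : s ∩ t ⊆ s ∪ t := fun i hi => Finset.mem_union_left _ (Finset.mem_inter.1 hi).1
    have := Finset.card_sdiff_add_card_eq_card hsub
    have := Finset.card_union_add_card_inter s t
    rw [e]; omega
  rw [Nat.even_iff]
  omega

theorem inLeech_signMap {s : Finset GolayPt} (hs : s ∈ Code) {x : GolayPt → ℤ} (hx : InLeech x) :
    InLeech (signMap s x) := by
  obtain ⟨m, hm, hsum, hw⟩ := hx
  have hpar : ∀ i, (2 : ℤ) ∣ signMap s x i - m := by
    intro i
    have := hm i
    show (2 : ℤ) ∣ (if i ∈ s then -x i else x i) - m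
    split <;> omega
  refine ⟨m, hpar, ?_, ?_⟩
  · have e : (∑ i, signMap s x i) = (∑ i, x i) - 2 * ∑ i ∈ s, x i := by
      have e1 : ∀ i, signMap s x i = x i - 2 * (if i ∈ s then x i else 0) := by
        intro i; show (if i ∈ s then -x i else x i) = _; split <;> ring
      rw [Finset.sum_congr rfl fun i _ => e1 i, Finset.sum_sub_distrib, ← Finset.mul_sum,
        Finset.sum_ite_mem, Finset.univ_inter]
    have h4 : (4 : ℤ) ∣ ∑ i ∈ s, x i := by
      have e2 : (∑ i ∈ s, x i) = m * s.card + 2 * ∑ i ∈ s, (x i - m) / 2 := by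
        rw [Finset.mul_sum, Finset.sum_congr rfl fun i _ => Int.mul_ediv_cancel' (hm i),
          Finset.sum_sub_distrib, Finset.sum_const, nsmul_eq_mul]
        ring
      have h5 : (2 : ℤ) ∣ ∑ i ∈ s, (x i - m) / 2 := by
        show ((2 : ℕ) : ℤ) ∣ _
        rw [← ZMod.intCast_zmod_eq_zero_iff_dvd, Int.cast_sum]
        have hc := card_inter_even hs (mem_code_iff.1 hw)
        have e3 : ∀ i ∈ s, (((x i - m) / 2 : ℤ) : ZMod 2) = if i ∈ support₂ (halfWord x m) then 1 else 0 := by
          intro i _
          simp only [mem_supp]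
          show halfWord x m i = _
          generalize halfWord x m i = a; revert a; decide
        rw [Finset.sum_congr rfl e3, Finset.sum_boole, Finset.filter_mem_eq_inter]
        exact ZMod.natCast_eq_zero_iff_even.2 hc
      have hc4 : (4 : ℤ) ∣ (s.card : ℤ) := by rcases card_cases hs with h | h | h | h | h <;> simp [h]
      rw [e2]
      exact dvd_add (dvd_mul_of_dvd_right hc4 m) (by omega)
    rw [e]; omega
  · by_cases hp : (2 : ℤ) ∣ m
    · have : halfWord (signMap s x) m = halfWord x m := by
        funext i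
        have := hm i
        rw [halfWord, halfWord, ZMod.intCast_eq_intCast_iff_dvd_sub]
        show (2 : ℤ) ∣ _ - ((if i ∈ s then -x i else x i) - m) / 2
        split <;> omega
      rw [this]; exact hw
    · obtain ⟨u, hu, hus⟩ := hs
      have : halfWord (signMap s x) m = halfWord x m + u := by
        funext i
        have := hm i
        have hu' : u i = ((if i ∈ s then (1 : ℤ) else 0 : ℤ) : ZMod 2) := by
          rw [← hus]; simp only [mem_supp]; generalize u i = a; revert a; decide
        rw [Pi.add_apply, hu', halfWord, halfWord, ← Int.cast_add, ZMod.intCast_eq_intCast_iff_dvd_sub]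
        show (2 : ℤ) ∣ _ - ((if i ∈ s then -x i else x i) - m) / 2
        split <;> omega
      rw [this]; exact Submodule.add_mem _ hw hu

/-- the sign change on a code word as an element of `Co0` -/
def co0Sign (s : Finset GolayPt) (hs : s ∈ Code) : Co0 :=
  co0Of (signMap s) (signMap s) (fun _ => inLeech_signMap hs) (fun _ => inLeech_signMap hs)
    (fun x => by funext i; show (if i ∈ s then -(if i ∈ s then -x i else x i) else (if i ∈ s then -x i else x i)) = x i; split <;> simp)
    (fun x => by funext i; show (if i ∈ s then -(if i ∈ s then -x i else x i) else (if i ∈ s then -x i else x i)) = x i; split <;> simp)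
    (fun x => Finset.sum_congr rfl fun i _ => by show (if i ∈ s then -x i else x i) ^ 2 = _; split <;> ring)

theorem co0Sign_apply (s : Finset GolayPt) (hs : s ∈ Code) (v : leechLattice) (i : GolayPt) :
    ((co0Sign s hs • v : leechLattice) : GolayPt → ℤ) i =
      if i ∈ s then -(v : GolayPt → ℤ) i else (v : GolayPt → ℤ) i := rfl

end CfsgLib.Spor
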