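import Cfsg.Agent.Spor.LeechIso

/-!
Configurations of a vector of sum of squares 48 with shortest vectors: normal forms, the numbers
275, 100 and 11178, and the resulting transitivity statements.
-/

set_option autoImplicit false

namespace CfsgLib.Spor.LeechCo3

open Cfsg CfsgLib.Spor CfsgLib.Spor.LeechFacts CfsgLib.Spor.LeechCount CfsgLib.Spor.LeechModTwo
  CfsgLib.Spor.LeechCross CfsgLib.Spor.LeechOrbits CfsgLib.Spor.LeechPairs CfsgLib.Spor.LeechCensus
  CfsgLib.Spor.LeechIso
open scoped Pointwise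

/-- the standard vector `(5, 1, ..., 1)` -/
def five : GolayPt → ℤ := fun l => if l = none then 5 else 1

theorem dot_five (x : GolayPt → ℤ) : dotInt five x = 4 * x none + ∑ i, x i := by
  rw [dotInt, Finset.sum_congr rfl fun i _ =>
    show five i * x i = x i + (if i = none then 4 * x i else 0) by unfold five; split <;> ring,
    Finset.sum_add_distrib, Finset.sum_ite_eq', if_pos (Finset.mem_univ _)]
  ring

theorem to_pos {a : GolayPt → ℤ} (ha : a ∈ leechLattice) (han : sqNorm a = 64) :
    ∃ (g : Co0) (i : GolayPt), ∀ y : leechLattice,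
      8 * ((g • y : leechLattice) : GolayPt → ℤ) i = dotInt a y.1 := by
  obtain ⟨g, hg⟩ := to_std ha han
  obtain ⟨i, t, ht, he⟩ := hg ⟨a, ha⟩ ⟨ha, rfl, cong_refl _⟩
  have key : ∀ y : leechLattice, ((g • y : leechLattice) : GolayPt → ℤ) i * t = dotInt a y.1 := fun y => by
    have h := smul_dot g y ⟨a, ha⟩
    rw [he, dot_single, dot_comm' y.1] at h
    exact h
  rcases ht with rfl | rfl
  · exact ⟨g, i, fun y => by rw [← key y, mul_comm]⟩
  · refine ⟨negOne * g, i, fun y => ?_⟩
    rw [mul_smul, negOne_apply, AddSubgroup.coe_neg, Pi.neg_apply, ← key y]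
    ring

theorem five_odd {u : GolayPt → ℤ} (hu : u ∈ leechLattice) (hn : sqNorm u = 48) {i : GolayPt}
    (hi : u i = 5 ∨ u i = -5) : ∀ l, l ≠ i → u l = 1 ∨ u l = -1 := by
  intro l hl
  have ho : ∀ l, ¬(2 : ℤ) ∣ u l := by
    rcases leech_cases hu with ⟨t, ht, -, -⟩ | ho
    · have := congrFun ht i; omega
    · exact ho
  have hone : ∀ m, (1 : ℤ) ≤ u m ^ 2 := fun m => by
    have h0 : u m ≠ 0 := fun h => ho m (by rw [h]; exact dvd_zero _)
    nlinarith [Int.one_le_abs h0, sq_abs (u m)]
  have h1 := Finset.add_sum_erase Finset.univ (fun m => u m ^ 2) (Finset.mem_univ i)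
  have h2 : ∑ m ∈ Finset.univ.erase i, u m ^ 2 = 23 := by
    have e : u i ^ 2 = 25 := by rcases hi with e | e <;> rw [e] <;> norm_num
    simp only [sqNorm] at hn
    omega
  have h3 : u l ^ 2 - 1 ≤ ∑ m ∈ Finset.univ.erase i, (u m ^ 2 - 1) :=
    Finset.single_le_sum (f := fun m => u m ^ 2 - 1) (fun m _ => sub_nonneg.2 (hone m))
      (Finset.mem_erase.2 ⟨hl, Finset.mem_univ _⟩)
  rw [Finset.sum_sub_distrib, h2, Finset.sum_const, Finset.card_erase_of_mem (Finset.mem_univ _), Finset.card_univ,
    show Fintype.card GolayPt = 24 from rfl] at h3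
  norm_num at h3
  obtain ⟨hl1, hl2⟩ := abs_le.1 h3
  have := ho l
  omega

theorem neg_iff_three {u : GolayPt → ℤ} {i : GolayPt} (hi : u i = 5 ∨ u i = -5)
    (h : ∀ l, l ≠ i → u l = 1 ∨ u l = -1) (l : GolayPt) : l ∈ threeSupp u ↔ u l < 0 := by
  rw [mem_threeSupp]
  by_cases hl : l = i
  · subst hl; omega
  · have := h l hl; omega

theorem frame16_exists {u : GolayPt → ℤ} (hu : u ∈ leechLattice) (hn : sqNorm u = 48)
    (h1 : u none + u (some 0) = 6) (h2 : u none + u (some 1) = 6) :
    ∃ a ∈ leechLattice, sqNorm a = 64 ∧ dotInt (pairVec none (some 0)) a = 32 ∧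
      dotInt (pairVec none (some 1)) a = 32 ∧ dotInt a u = 40 := by
  classical
  have n01 : (none : GolayPt) ≠ some 0 := by simp
  have n02 : (none : GolayPt) ≠ some 1 := by simp
  have n12 : (some 0 : GolayPt) ≠ some 1 := by decide
  have z01 : (0 : ZMod 23) ≠ 1 := by decide
  have hpd : ∀ (b : GolayPt) (a : GolayPt → ℤ), none ≠ b →
      dotInt (pairVec none b) a = 4 * a none + 4 * a b := by
    intro b a hb
    rw [dot_two (i := none) (j := b) a hb fun l g1 g2 => by simp [pairVec, g1, g2]]
    simp [pairVec, hb, Ne.symm hb]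
  by_cases h5 : u none = 5
  · refine ⟨Pi.single none 8, (eightVec_mem none 8 (Or.inl rfl)), by rw [norm_single]; norm_num, ?_, ?_, ?_⟩
    · rw [hpd _ _ n01]; simp
    · rw [hpd _ _ n02]; simp
    · rw [dot_comm', dot_single, h5]; norm_num
  set T : Finset GolayPt := ((Finset.univ.erase none).erase (some 0)).erase (some 1) with hT
  have hsplit : ∀ f : GolayPt → ℤ, ∑ l, f l = f none + f (some 0) + f (some 1) + ∑ l ∈ T, f l := by
    intro f
    rw [hT, ← Finset.add_sum_erase _ f (Finset.mem_univ none),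
      ← Finset.add_sum_erase _ f (show (some 0 : GolayPt) ∈ Finset.univ.erase none by simp),
      ← Finset.add_sum_erase _ f (show (some 1 : GolayPt) ∈ (Finset.univ.erase none).erase (some 0) by
        simp [Ne.symm n12])]
    ring
  have hTc : T.card = 21 := by rw [hT]; decide +kernel
  have hnT : ∀ l ∈ T, l ≠ none ∧ l ≠ some 0 ∧ l ≠ some 1 := fun l hl => by
    simp only [hT, Finset.mem_erase] at hl
    exact ⟨hl.2.2.1, hl.2.1, hl.1⟩
  obtain ⟨l, hlT, hl⟩ : ∃ l ∈ T, u l = u none - 2 ∨ u l = 2 - u none := by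
    have hr := hsplit fun l => u l ^ 2
    rw [show ∑ l, u l ^ 2 = sqNorm u from rfl, hn] at hr
    have e0 : u (some 0) = 6 - u none := by omega
    have e1 : u (some 1) = 6 - u none := by omega
    rw [e0, e1] at hr
    have hT0 : 0 ≤ ∑ l ∈ T, u l ^ 2 := Finset.sum_nonneg fun l _ => sq_nonneg _
    have ht : 2 ≤ u none ∧ u none ≤ 6 := by
      constructor <;> nlinarith
    rcases leech_cases hu with ⟨y, rfl, hc, -⟩ | ho
    · simp only at hr e0 e1 ht h5 h1 h2 ⊢
      have hy : y none = 1 ∨ y none = 2 ∨ y none = 3 := by omega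
      have hsum : ∑ l ∈ T, y l ^ 2 = if y none = 2 then 6 else 3 := by
        have e : ∑ l ∈ T, (2 * y l) ^ 2 = 4 * ∑ l ∈ T, y l ^ 2 := by
          rw [Finset.mul_sum]; exact Finset.sum_congr rfl fun l _ => by ring
        rw [e] at hr
        rcases hy with g | g | g <;> simp [g] at hr ⊢ <;> omega
      have hnone : none ∈ oddSupp y ∨ some 0 ∈ oddSupp y := by
        simp only [mem_oddSupp]; omega
      have hcard : 8 ≤ (oddSupp y).card := by
        have : 0 < (oddSupp y).card := Finset.card_pos.2 (hnone.elim (fun h => ⟨_, h⟩) fun h => ⟨_, h⟩)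
        rcases card_cases hc with g | g | g | g | g <;> omega
      have hsub : oddSupp y ⊆ (oddSupp y ∩ T) ∪ (oddSupp y ∩ {none, some 0, some 1}) := by
        intro x hx
        simp only [hT, Finset.mem_union, Finset.mem_inter, Finset.mem_erase, Finset.mem_univ, and_true,
          Finset.mem_insert, Finset.mem_singleton]
        tauto
      have hc2 := (Finset.card_le_card hsub).trans (Finset.card_union_le _ _)
      have hone : ∀ m ∈ oddSupp y ∩ T, (1 : ℤ) ≤ y m ^ 2 := fun m hm => by
        have h0 : y m ≠ 0 := fun h => mem_oddSupp.1 (Finset.mem_inter.1 hm).1 (by rw [h]; exact dvd_zero _)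
        nlinarith [Int.one_le_abs h0, sq_abs (y m)]
      have hle : ((oddSupp y ∩ T).card : ℤ) ≤ ∑ m ∈ T, y m ^ 2 := by
        refine le_trans ?_ (Finset.sum_le_sum_of_subset_of_nonneg (Finset.inter_subset_right (s₁ := oddSupp y) (s₂ := T)) fun m _ _ => sq_nonneg (y m))
        rw [Finset.card_eq_sum_ones, Nat.cast_sum]
        exact Finset.sum_le_sum hone
      have h3le : (oddSupp y ∩ {none, some 0, some 1}).card ≤ 3 :=
        (Finset.card_le_card Finset.inter_subset_right).trans Finset.card_le_three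
      have hy2 : y none = 2 := by
        by_contra g
        rw [if_neg g] at hsum
        omega
      rw [if_pos hy2] at hsum
      have h2c : (oddSupp y ∩ {none, some 0, some 1}).card ≤ 2 := by
        refine (Finset.card_le_card (fun x hx => ?_)).trans (Finset.card_le_two (a := (some 0 : GolayPt)) (b := some 1))
        simp only [Finset.mem_inter, Finset.mem_insert, Finset.mem_singleton] at hx ⊢
        rcases hx.2 with e | e | e
        · subst e; exact absurd ⟨1, by rw [hy2]; norm_num⟩ (mem_oddSupp.1 hx.1)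
        · exact Or.inl e
        · exact Or.inr e
      obtain ⟨m, hm⟩ := Finset.card_pos.1 (show 0 < (oddSupp y ∩ T).card by omega)
      refine ⟨m, (Finset.mem_inter.1 hm).2, ?_⟩
      have hmT := (Finset.mem_inter.1 hm).2
      have h5' : y m ^ 2 - 1 ≤ ∑ x ∈ oddSupp y ∩ T, (y x ^ 2 - 1) :=
        Finset.single_le_sum (f := fun x => y x ^ 2 - 1) (fun x hx => sub_nonneg.2 (hone x hx)) hm
      rw [Finset.sum_sub_distrib, Finset.sum_const] at h5'
      simp only [nsmul_eq_mul, mul_one] at h5'
      have h6 := Finset.sum_le_sum_of_subset_of_nonneg (Finset.inter_subset_right (s₁ := oddSupp y) (s₂ := T))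
        fun x _ _ => sq_nonneg (y x)
      obtain ⟨hl1, hl2⟩ := small_of_sq (b := 1) (by norm_num) (by omega : y m ^ 2 < (1 + 1) ^ 2)
      have := mem_oddSupp.1 (Finset.mem_inter.1 hm).1
      omega
    · have := ho none
      have h3 : u none = 3 := by omega
      rw [h3] at hr ⊢
      obtain ⟨l, hl⟩ := Finset.card_pos.1 (show 0 < T.card by omega)
      refine ⟨l, hl, ?_⟩
      have hone : ∀ m ∈ T, (1 : ℤ) ≤ u m ^ 2 := fun m _ => by
        have h0 : u m ≠ 0 := fun h => ho m (by rw [h]; exact dvd_zero _)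
        nlinarith [Int.one_le_abs h0, sq_abs (u m)]
      have h5' : u l ^ 2 - 1 ≤ ∑ x ∈ T, (u x ^ 2 - 1) :=
        Finset.single_le_sum (f := fun x => u x ^ 2 - 1) (fun x hx => sub_nonneg.2 (hone x hx)) hl
      rw [Finset.sum_sub_distrib, Finset.sum_const, hTc] at h5'
      norm_num at h5'
      obtain ⟨hl1, hl2⟩ := small_of_sq (b := 1) (by norm_num) (by norm_num at hr; nlinarith : u l ^ 2 < (1 + 1) ^ 2)
      have := ho l
      omega
  obtain ⟨g1, g2, g3⟩ := hnT l hlT
  obtain ⟨s, hs, hsl⟩ : ∃ s : ℤ, (s = 4 ∨ s = -4) ∧ s * u l = 4 * (u none - 2) := by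
    rcases hl with e | e
    · exact ⟨4, Or.inl rfl, by rw [e]⟩
    · exact ⟨-4, Or.inr rfl, by rw [e]; ring⟩
  let a : GolayPt → ℤ := fun k =>
    (if k = none then 4 else 0) + (if k = some 0 then 4 else 0) + (if k = some 1 then 4 else 0) +
      (if k = l then s else 0)
  refine ⟨a, mem_leechLattice.2 (inLeech_of_four (fun k => ?_) ?_), ?_, ?_, ?_, ?_⟩
  · simp only [a]
    rcases hs with e | e <;> subst e <;> split <;> split <;> split <;> split <;> norm_num
  · simp only [a, Finset.sum_add_distrib, Finset.sum_ite_eq', Finset.mem_univ, if_true]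
    omega
  · have e : ∀ k, a k ^ 2 = (if k = none then 16 else 0) + (if k = some 0 then 16 else 0) +
        (if k = some 1 then 16 else 0) + (if k = l then 16 else 0) := by
      intro k
      have hsq : s ^ 2 = 16 := by rcases hs with e | e <;> rw [e] <;> norm_num
      by_cases k0 : k = none
      · subst k0; simp [a, Ne.symm g1]
      by_cases k1 : k = some 0
      · subst k1; simp [a, Ne.symm g2, z01]
      by_cases k2 : k = some 1
      · subst k2; simp [a, Ne.symm g3, z01.symm]
      by_cases k3 : k = l <;> simp [a, k0, k1, k2, k3, g1, g2, g3, hsq]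
    simp only [sqNorm, e, Finset.sum_add_distrib, Finset.sum_ite_eq', Finset.mem_univ, if_true]
    norm_num
  · rw [hpd _ _ n01]; simp [a, Ne.symm g1, Ne.symm g2, z01]
  · rw [hpd _ _ n02]; simp [a, Ne.symm g1, Ne.symm g3, Ne.symm n12, z01.symm]
  · simp only [dotInt, a, add_mul, ite_mul, zero_mul, Finset.sum_add_distrib, Finset.sum_ite_eq',
      Finset.mem_univ, if_true]
    omega

theorem form_mcl (u v x : leechLattice) (hu : sqNorm u.1 = 48) (hv : sqNorm v.1 = 32) (hx : sqNorm x.1 = 32)
    (huv : dotInt u.1 v.1 = 24) (hux : dotInt u.1 x.1 = 24) (hvx : dotInt v.1 x.1 = 16) :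
    ∃ g : Co0, ((g • u : leechLattice) : GolayPt → ℤ) = five ∧
      ((g • v : leechLattice) : GolayPt → ℤ) = pairVec none (some 0) ∧
      ((g • x : leechLattice) : GolayPt → ℤ) = pairVec none (some 1) := by
  classical
  obtain ⟨g₁, hv1, hx1⟩ := form16 v x hv hx hvx
  have e1 : dotInt (g₁ • u).1 (pairVec none (some 0)) = 24 := by
    rw [← huv, ← smul_dot g₁ u v, hv1]; rfl
  have e2 : dotInt (g₁ • u).1 (pairVec none (some 1)) = 24 := by
    rw [← hux, ← smul_dot g₁ u x, hx1]; rfl
  rw [dot_comm', dot_two (i := none) (j := some 0) _ (by simp) fun l h1 h2 => by simp [pairVec, h1, h2]] at e1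
  rw [dot_comm', dot_two (i := none) (j := some 1) _ (by simp) fun l h1 h2 => by simp [pairVec, h1, h2]] at e2
  simp [pairVec] at e1 e2
  obtain ⟨a, ha, han, hav, hax, hau⟩ := frame16_exists (g₁ • u).2 ((smul_norm g₁ u).trans hu) (by omega) (by omega)
  obtain ⟨g₂, i, hg₂⟩ := to_pos ha han
  set g := g₂ * g₁ with hg
  have hco : ∀ y : leechLattice, 8 * ((g • y : leechLattice) : GolayPt → ℤ) i =
      dotInt a ((g₁ • y : leechLattice) : GolayPt → ℤ) := fun y => by rw [hg, mul_smul]; exact hg₂ _
  have hui : (g • u).1 i = 5 := by have := hco u; rw [hau] at this; omega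
  have hvi : (g • v).1 i = 4 := by
    have := hco v
    rw [hv1, show ((lpair none (some 0) : leechLattice) : GolayPt → ℤ) = pairVec none (some 0) from rfl,
      dot_comm' a, hav] at this
    omega
  have hxi : (g • x).1 i = 4 := by
    have := hco x
    rw [hx1, show ((lpair none (some 1) : leechLattice) : GolayPt → ℤ) = pairVec none (some 1) from rfl,
      dot_comm' a, hax] at this
    omega
  obtain ⟨j, hji, hvj, hv0⟩ := four_shape (g • v).2 ((smul_norm g v).trans hv) (Or.inl hvi)
  obtain ⟨k, hki, hxk, hx0⟩ := four_shape (g • x).2 ((smul_norm g x).trans hx) (Or.inl hxi)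
  have hodd := five_odd (g • u).2 ((smul_norm g u).trans hu) (Or.inl hui)
  have d1 : dotInt (g • v).1 (g • u).1 = 24 := by rw [smul_dot, dot_comm', huv]
  have d2 : dotInt (g • x).1 (g • u).1 = 24 := by rw [smul_dot, dot_comm', hux]
  have d3 : dotInt (g • v).1 (g • x).1 = 16 := (smul_dot g v x).trans hvx
  rw [dot_two _ (Ne.symm hji) hv0, hvi, hui] at d1
  rw [dot_two _ (Ne.symm hki) hx0, hxi, hui] at d2
  rw [dot_two _ (Ne.symm hji) hv0, hvi, hxi] at d3
  have hjk : j ≠ k := by
    intro e; subst e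
    rcases hvj with e | e <;> rcases hxk with e' | e' <;> rw [e, e'] at d3 <;> omega
  obtain ⟨σ, hσ, si, sj, sk⟩ := m24_map_triple (Ne.symm hji) (Ne.symm hki) hjk
    (show (none : GolayPt) ≠ some 0 by simp) (show (none : GolayPt) ≠ some 1 by simp)
    (show (some 0 : GolayPt) ≠ some 1 by decide)
  have ho : ∀ l, ¬(2 : ℤ) ∣ (g • u).1 l := fun l => by
    by_cases hl : l = i
    · subst hl; omega
    · have := hodd l hl; omega
  have hc : σ • threeSupp (g • u).1 ∈ Code := smul_mem_code hσ ((odd_mem_iff ho).1 (g • u).2).1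
  refine ⟨mono (⟨σ, hσ⟩, ⟨_, hc⟩) * g, ?_, ?_, ?_⟩
  all_goals
    rw [mul_smul]
    funext l'
    obtain ⟨l, rfl⟩ := σ.surjective l'
    rw [mono_smul_apply]
    have hmem : σ l ∈ σ • threeSupp (g • u).1 ↔ (g • u).1 l < 0 := by
      rw [← Equiv.Perm.smul_def, Finset.smul_mem_smul_finset_iff]
      exact neg_iff_three (Or.inl hui) hodd l
    simp only [hmem]
  · by_cases hl : l = i
    · subst hl; rw [si, hui]; simp [five]
    · have hne : σ l ≠ none := fun e => hl (σ.injective (e.trans si.symm))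
      have := hodd l hl
      simp only [five, if_neg hne]
      split <;> omega
  · by_cases hl : l = i
    · subst hl; rw [si, hui, hvi]; simp [pairVec]
    have h1 : σ l ≠ none := fun e => hl (σ.injective (e.trans si.symm))
    by_cases hl2 : l = j
    · subst hl2
      rw [sj]
      have := hodd l hl
      rcases hvj with e | e <;> rw [e] at d1 ⊢ <;> simp [pairVec] <;> omega
    have h2 : σ l ≠ some 0 := fun e => hl2 (σ.injective (e.trans sj.symm))
    rw [hv0 l hl hl2]; simp [pairVec, h1, h2]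
  · by_cases hl : l = i
    · subst hl; rw [si, hui, hxi]; simp [pairVec]
    have h1 : σ l ≠ none := fun e => hl (σ.injective (e.trans si.symm))
    by_cases hl2 : l = k
    · subst hl2
      rw [sk]
      have := hodd l hl
      rcases hxk with e | e <;> rw [e] at d2 ⊢ <;> simp [pairVec] <;> omega
    have h2 : σ l ≠ some 1 := fun e => hl2 (σ.injective (e.trans sk.symm))
    rw [hx0 l hl hl2]; simp [pairVec, h1, h2]

theorem form_hs (u d x : leechLattice) (hu : sqNorm u.1 = 48) (hd : sqNorm d.1 = 32) (hx : sqNorm x.1 = 32)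
    (hud : dotInt u.1 d.1 = 16) (hux : dotInt u.1 x.1 = 24) (hdx : dotInt d.1 x.1 = 0) :
    ∃ g : Co0, ((g • u : leechLattice) : GolayPt → ℤ) = five ∧
      ((g • d : leechLattice) : GolayPt → ℤ) = Spor.vecU' ∧
      ((g • x : leechLattice) : GolayPt → ℤ) = Spor.vecU := by
  classical
  obtain ⟨g, hd1, hx1⟩ := form0 d x hd hx hdx
  have e1 : dotInt Spor.vecU (g • u).1 = 16 := by
    rw [← hud, ← smul_dot g u d, hd1, dot_comm']; rfl
  have e2 : dotInt minusU (g • u).1 = 24 := by
    rw [← hux, ← smul_dot g u x, hx1, dot_comm']; rfl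
  rw [dot_U] at e1
  rw [dot_minusU] at e2
  have hun : (g • u).1 none = 5 := by omega
  have hu0 : (g • u).1 (some 0) = -1 := by omega
  have hodd := five_odd (g • u).2 ((smul_norm g u).trans hu) (Or.inl hun)
  have ho : ∀ l, ¬(2 : ℤ) ∣ (g • u).1 l := fun l => by
    by_cases hl : l = none
    · subst hl; omega
    · have := hodd l hl; omega
  refine ⟨co0Sign _ ((odd_mem_iff ho).1 (g • u).2).1 * g, ?_, ?_, ?_⟩
  all_goals
    rw [mul_smul]
    funext l
    rw [co0Sign_apply]
    simp only [neg_iff_three (Or.inl hun) hodd l]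
  · by_cases hl : l = none
    · subst hl; rw [hun]; simp [five]
    · have := hodd l hl
      simp only [five, if_neg hl]
      split <;> omega
  · rw [hd1]
    show (if _ then -(Spor.vecU l) else Spor.vecU l) = Spor.vecU' l
    by_cases hl : l = none
    · subst hl; rw [hun]; simp [Spor.vecU, Spor.vecU']
    by_cases hl2 : l = some 0
    · subst hl2; rw [hu0]; simp [Spor.vecU, Spor.vecU']
    simp [Spor.vecU, Spor.vecU', hl, hl2]
  · rw [hx1]
    show (if _ then -(Spor.vecU' l) else Spor.vecU' l) = Spor.vecU l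
    by_cases hl : l = none
    · subst hl; rw [hun]; simp [Spor.vecU, Spor.vecU']
    by_cases hl2 : l = some 0
    · subst hl2; rw [hu0]; simp [Spor.vecU, Spor.vecU']
    simp [Spor.vecU, Spor.vecU', hl, hl2]

end CfsgLib.Spor.LeechCo3
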