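import Cfsg.Agent.Spor.LeechModTwo
import Cfsg.Agent.Spor.GolayUnique
import Mathlib.LinearAlgebra.Matrix.NonsingularInverse
import Mathlib.FieldTheory.Finiteness

/-!
An even lattice of the right minimum with enough short vectors and a coordinate frame is carried
onto the standard lattice by a signed permutation of the coordinates.
-/

set_option autoImplicit false

namespace CfsgLib.Spor.LeechFrame

open Cfsg CfsgLib.Spor CfsgLib.Spor.LeechFacts CfsgLib.Spor.LeechCount CfsgLib.Spor.LeechModTwo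
open scoped Pointwise symmDiff

/-- a lattice with the properties used -/
structure FrameLattice (Λ : AddSubgroup (GolayPt → ℤ)) : Prop where
  dvd : ∀ x ∈ Λ, (16 : ℤ) ∣ sqNorm x
  min : ∀ x ∈ Λ, x ≠ 0 → 32 ≤ sqNorm x
  four : ∀ i j, i ≠ j → ∀ c : ℤ, (c = 1 ∨ c = -1) →
    (Pi.single i 4 + Pi.single j (4 * c) : GolayPt → ℤ) ∈ Λ
  count : 196560 ≤ {x : GolayPt → ℤ | x ∈ Λ ∧ sqNorm x = 32}.ncard

variable {Λ : AddSubgroup (GolayPt → ℤ)}

namespace FrameLattice

theorem dot_dvd (h : FrameLattice Λ) {x y : GolayPt → ℤ} (hx : x ∈ Λ) (hy : y ∈ Λ) :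
    (8 : ℤ) ∣ dotInt x y := by
  have h1 := h.dvd x hx
  have h2 := h.dvd y hy
  have h3 := h.dvd _ (Λ.add_mem hx hy)
  rw [norm_add] at h3
  omega

theorem parity (h : FrameLattice Λ) {x : GolayPt → ℤ} (hx : x ∈ Λ) (i j : GolayPt) :
    (2 : ℤ) ∣ x i - x j := by
  by_cases hij : i = j
  · subst hij; simp
  have h1 := h.dot_dvd hx (h.four i j hij 1 (Or.inl rfl))
  have e : dotInt x (Pi.single i 4 + Pi.single j (4 * 1)) = 4 * x i + 4 * x j := by
    simp [dotInt, mul_add, Finset.sum_add_distrib, Pi.single_apply, mul_comm]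
  rw [e] at h1
  omega

theorem four_mem (h : FrameLattice Λ) {u : GolayPt → ℤ} (hu : (2 : ℤ) ∣ ∑ i, u i) :
    (fun i => 4 * u i) ∈ Λ := by
  obtain ⟨k, hk⟩ := hu
  have h8 : (Pi.single none 8 : GolayPt → ℤ) ∈ Λ := by
    convert Λ.add_mem (h.four none (some 0) (by simp) 1 (Or.inl rfl))
      (h.four none (some 0) (by simp) (-1) (Or.inr rfl)) using 1
    funext i
    simp only [Pi.add_apply, Pi.single_apply]
    split <;> split <;> norm_num
  have hterm : ∀ i : GolayPt, (Pi.single i 4 - Pi.single none 4 : GolayPt → ℤ) ∈ Λ := by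
    intro i
    by_cases hi : i = none
    · subst hi; simp
    · convert h.four i none hi (-1) (Or.inr rfl) using 1
      funext j
      simp only [Pi.add_apply, Pi.sub_apply, Pi.single_apply]
      split <;> split <;> norm_num
  have e : (fun i => 4 * u i : GolayPt → ℤ) =
      (∑ i, u i • (Pi.single i 4 - Pi.single none 4 : GolayPt → ℤ)) + k • (Pi.single none 8 : GolayPt → ℤ) := by
    funext j
    simp only [Pi.add_apply, Finset.sum_apply, Pi.smul_apply, Pi.sub_apply, Pi.single_apply, smul_eq_mul,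
      mul_sub, Finset.sum_sub_distrib, mul_ite, mul_zero]
    rw [Finset.sum_ite_eq Finset.univ j]
    by_cases hj : j = none
    · subst hj
      simp only [Finset.mem_univ, if_true, ← Finset.sum_mul, hk]
      ring
    · simp [hj]
      ring
  rw [e]
  exact Λ.add_mem (Λ.sum_mem fun i _ => Λ.zsmul_mem (hterm i) _) (Λ.zsmul_mem h8 _)

theorem four_even (h : FrameLattice Λ) {u : GolayPt → ℤ} (hu : (fun i => 4 * u i) ∈ Λ) :
    (2 : ℤ) ∣ ∑ i, u i := by
  by_contra hodd
  have h1 := h.four_mem (u := u - Pi.single none 1) (by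
    simp only [Pi.sub_apply, Finset.sum_sub_distrib, Finset.sum_pi_single', Finset.mem_univ, if_true]
    omega)
  have h4 : (Pi.single none 4 : GolayPt → ℤ) ∈ Λ := by
    convert Λ.sub_mem hu h1 using 1
    funext i
    simp only [Pi.sub_apply, Pi.single_apply]
    split <;> ring
  have := h.min _ h4 (by simp [Pi.single_eq_zero_iff])
  rw [show sqNorm (Pi.single none 4 : GolayPt → ℤ) = 16 by decide +kernel] at this
  omega

/-- the binary code of the even vectors -/
def code (Λ : AddSubgroup (GolayPt → ℤ)) : Submodule (ZMod 2) (GolayPt → ZMod 2) :=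
  AddSubgroup.toZModSubmodule 2 ((Λ.comap dbl).map redTwo)

theorem mem_code {w : GolayPt → ZMod 2} :
    w ∈ code Λ ↔ ∃ z : GolayPt → ℤ, (fun i => 2 * z i) ∈ Λ ∧ redTwo z = w := by
  simp only [code, AddSubgroup.mem_toZModSubmodule, AddSubgroup.mem_map, AddSubgroup.mem_comap]
  rfl

theorem supp_red (z : GolayPt → ℤ) : support₂ (redTwo z) = oddSupp z := by
  ext i
  rw [mem_supp, mem_oddSupp]
  simp [redTwo, ZMod.intCast_zmod_eq_zero_iff_dvd]

/-- representatives with entries 0, 1, -1 -/
theorem pm_rep (h : FrameLattice Λ) {w : GolayPt → ZMod 2} (hw : w ∈ code Λ) :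
    ∃ t : GolayPt → ℤ, (fun i => 2 * t i) ∈ Λ ∧ redTwo t = w ∧ (∀ i, t i = 0 ∨ t i = 1 ∨ t i = -1) ∧
      sqNorm (fun i => 2 * t i) = 4 * (support₂ w).card := by
  obtain ⟨z, hz, rfl⟩ := mem_code.1 hw
  have key : ∀ t : GolayPt → ℤ, (∀ i, (2 : ℤ) ∣ z i - t i) → (∀ i, t i = 0 ∨ t i = 1 ∨ t i = -1) →
      (2 : ℤ) ∣ (∑ i, (z i - t i) / 2) →
      ∃ t' : GolayPt → ℤ, (fun i => 2 * t' i) ∈ Λ ∧ redTwo t' = redTwo z ∧
        (∀ i, t' i = 0 ∨ t' i = 1 ∨ t' i = -1) ∧
        sqNorm (fun i => 2 * t' i) = 4 * (support₂ (redTwo z)).card := by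
    intro t hd ht hs
    refine ⟨t, ?_, ?_, ht, ?_⟩
    · convert Λ.sub_mem hz (h.four_mem hs) using 1
      funext i
      have := hd i
      simp only [Pi.sub_apply]
      omega
    · funext i
      show ((t i : ℤ) : ZMod 2) = ((z i : ℤ) : ZMod 2)
      rw [ZMod.intCast_eq_intCast_iff_dvd_sub]
      exact hd i
    · rw [supp_red, norm_two_mul, oddSupp, Finset.natCast_card_filter]
      congr 1
      refine Finset.sum_congr rfl fun i _ => ?_
      have := hd i
      rcases ht i with e | e | e <;> rw [e] at this ⊢ <;> split <;> omega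
  let t : GolayPt → ℤ := fun i => if (2 : ℤ) ∣ z i then 0 else 1
  have htd : ∀ i, (2 : ℤ) ∣ z i - t i := fun i => by simp only [t]; split <;> omega
  have ht01 : ∀ i, t i = 0 ∨ t i = 1 ∨ t i = -1 := fun i => by simp only [t]; split <;> omega
  by_cases hs : (2 : ℤ) ∣ ∑ i, (z i - t i) / 2
  · exact key t htd ht01 hs
  by_cases hne : ∃ j, ¬(2 : ℤ) ∣ z j
  · obtain ⟨j, hj⟩ := hne
    refine key (fun i => if i = j then -1 else t i) (fun i => ?_) (fun i => ?_) ?_
    · split
      · subst i; omega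
      · exact htd i
    · split
      · omega
      · exact ht01 i
    · have e : ∀ i, (z i - (if i = j then -1 else t i)) / 2 = (z i - t i) / 2 + (if i = j then 1 else 0) := by
        intro i
        split
        · subst i
          simp only [t, if_neg hj]
          omega
        · simp
      rw [Finset.sum_congr rfl fun i _ => e i, Finset.sum_add_distrib, Finset.sum_ite_eq',
        if_pos (Finset.mem_univ _)]
      omega
  · exfalso
    push_neg at hne
    apply hs
    refine h.four_even ?_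
    convert hz using 1
    funext i
    have := hne i
    simp only [t, if_pos this]
    omega

theorem doubly_even (h : FrameLattice Λ) {w : GolayPt → ZMod 2} (hw : w ∈ code Λ) :
    4 ∣ (support₂ w).card ∧ (w ≠ 0 → 8 ≤ (support₂ w).card) := by
  obtain ⟨t, ht, hr, -, hn⟩ := h.pm_rep hw
  refine ⟨?_, fun hne => ?_⟩
  · have := h.dvd _ ht
    rw [hn] at this
    omega
  · have := h.min _ ht fun he => hne (by
      rw [← hr]
      funext i
      have := congrFun he i
      simp only [Pi.zero_apply] at this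
      show ((t i : ℤ) : ZMod 2) = 0
      rw [show t i = 0 by omega, Int.cast_zero])
    rw [hn] at this
    omega

open Classical in
/-- the words of weight eight -/
noncomputable def blocks (Λ : AddSubgroup (GolayPt → ℤ)) : Finset (Finset GolayPt) :=
  (Finset.univ.filter fun w : GolayPt → ZMod 2 => w ∈ code Λ ∧ (support₂ w).card = 8).image support₂

theorem mem_blocks {s : Finset GolayPt} :
    s ∈ blocks Λ ↔ ∃ w ∈ code Λ, support₂ w = s ∧ s.card = 8 := by
  classical
  simp only [blocks, Finset.mem_image, Finset.mem_filter, Finset.mem_univ, true_and]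
  constructor
  · rintro ⟨w, ⟨h1, h2⟩, rfl⟩; exact ⟨w, h1, rfl, h2⟩
  · rintro ⟨w, h1, rfl, h2⟩; exact ⟨w, ⟨h1, h2⟩, rfl⟩

theorem blocks_le (h : FrameLattice Λ) : (blocks Λ).card ≤ 759 := by
  classical
  have hd : ((blocks Λ : Finset _) : Set (Finset GolayPt)).PairwiseDisjoint (Finset.powersetCard 5) := by
    intro a ha b hb hne
    rw [Function.onFun, Finset.disjoint_left]
    intro p hpa hpb
    rw [Finset.mem_powersetCard] at hpa hpb
    obtain ⟨u, hu, rfl, h8⟩ := mem_blocks.1 (Finset.mem_coe.1 ha)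
    obtain ⟨v, hv, rfl, h8'⟩ := mem_blocks.1 (Finset.mem_coe.1 hb)
    have h5 : 5 ≤ (support₂ u ∩ support₂ v).card :=
      hpa.2 ▸ Finset.card_le_card (Finset.subset_inter hpa.1 hpb.1)
    have hw := (h.doubly_even (Submodule.add_mem _ hu hv)).2 fun he => hne (by
      rw [add_eq_zero_iff_eq_neg, GolayUnique.neg_word] at he; rw [he])
    rw [supp_add] at hw
    have := card_symmDiff_add (support₂ u) (support₂ v)
    omega
  have h1 := Finset.card_le_card (Finset.subset_univ ((blocks Λ).biUnion (Finset.powersetCard 5)))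
  have h2 : ((blocks Λ).biUnion (Finset.powersetCard 5)) ⊆ (Finset.univ : Finset GolayPt).powersetCard 5 := by
    intro p hp
    obtain ⟨b, -, hp⟩ := Finset.mem_biUnion.1 hp
    exact Finset.mem_powersetCard.2 ⟨Finset.subset_univ _, (Finset.mem_powersetCard.1 hp).2⟩
  have h3 := Finset.card_le_card h2
  rw [Finset.card_biUnion hd, Finset.sum_congr rfl fun b hb => by
      rw [Finset.card_powersetCard, (mem_blocks.1 hb).choose_spec.2.2],
    Finset.sum_const, smul_eq_mul, Finset.card_powersetCard, Finset.card_univ,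
    show Fintype.card GolayPt = 24 from rfl, show Nat.choose 8 5 = 56 by rfl,
    show Nat.choose 24 5 = 42504 by decide +kernel] at h3
  omega

theorem fibre_tables :
    (tab sqW 8 4 (opts [] [0, 2, -2] 0)).getD (8 * 4 + 0) 0 = 1104 ∧
    (∀ r : Fin 4, (tab sqW 8 4 (opts [1, -1] [0] 8)).getD (8 * 4 + r.val) 0 ≤ 128) := by
  decide +kernel

theorem sqW_sum (t : GolayPt → ℤ) {n : ℕ} (hn : sqNorm (fun i => 2 * t i) = 4 * (n : ℤ)) :
    ∑ i, sqW (t i) = n := by
  rw [norm_sqW] at hn
  omega

theorem zero_le (h : FrameLattice Λ) :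
    {x : GolayPt → ℤ | x ∈ Λ ∧ sqNorm x = 32 ∧ ∀ i, (4 : ℤ) ∣ x i}.ncard ≤ 1104 := by
  classical
  have e := fibre_count sqW 8 4 [] [0, 2, -2] (by decide) (by decide) (∅ : Finset GolayPt) (a := 8) (r := 0)
    le_rfl (by norm_num)
  rw [Finset.card_empty] at e
  rw [← fibre_tables.1, ← e]
  refine le_trans ?_ (le_of_eq (Set.ncard_image_of_injective _ dbl_inj))
  refine Set.ncard_le_ncard ?_ (Set.Finite.image _ ?_)
  · rintro x ⟨hx, hn, h4⟩
    obtain ⟨u, rfl⟩ : ∃ u : GolayPt → ℤ, x = fun i => 4 * u i :=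
      ⟨fun i => x i / 4, funext fun i => by
        have := h4 i
        show x i = 4 * (x i / 4)
        omega⟩
    have hs := h.four_even hx
    refine ⟨fun i => 2 * u i, ⟨fun i => ?_, ?_, ?_⟩, funext fun i => by show 2 * (2 * u i) = 4 * u i; ring⟩
    · simp only [Finset.notMem_empty, if_false, List.mem_cons, List.not_mem_nil, or_false]
      have h1 : (4 * u i) ^ 2 ≤ 32 := le_of_le_of_eq
        (Finset.single_le_sum (f := fun j => (4 * u j) ^ 2) (fun j _ => sq_nonneg _) (Finset.mem_univ i)) hn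
      obtain ⟨hl, hu'⟩ := small_of_sq (b := 5) (by norm_num) (by omega : (4 * u i) ^ 2 < (5 + 1) ^ 2)
      omega
    · refine sqW_sum _ (n := 8) ?_
      rw [show (fun i => 2 * (2 * u i)) = fun i => 4 * u i from funext fun i => by ring, hn]
      norm_num
    · rw [← Finset.mul_sum]
      push_cast
      omega
  · refine Set.Finite.subset (Fintype.piFinset fun _ : GolayPt => ([0, 2, -2] : List ℤ).toFinset).finite_toSet ?_
    intro y hy
    rw [Finset.mem_coe, Fintype.mem_piFinset]
    intro i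
    have := hy.1 i
    rw [if_neg (Finset.notMem_empty i)] at this
    exact List.mem_toFinset.2 this

theorem block_le (h : FrameLattice Λ) (s : Finset GolayPt) (hs : s.card = 8) :
    {x : GolayPt → ℤ | x ∈ Λ ∧ sqNorm x = 32 ∧ ∃ t : GolayPt → ℤ, x = (fun i => 2 * t i) ∧
      oddSupp t = s}.ncard ≤ 128 := by
  classical
  set S := {x : GolayPt → ℤ | x ∈ Λ ∧ sqNorm x = 32 ∧ ∃ t : GolayPt → ℤ, x = (fun i => 2 * t i) ∧
    oddSupp t = s} with hS
  rcases S.eq_empty_or_nonempty with he | ⟨x₀, hx₀, hn₀, t₀, rfl, ht₀⟩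
  · simp [he]
  have hval : ∀ t : GolayPt → ℤ, sqNorm (fun i => 2 * t i) = 32 → oddSupp t = s →
      ∀ i, t i ∈ if i ∈ s then ([1, -1] : List ℤ) else [0] := by
    intro t hn ht
    have hsum : ∑ i, t i ^ 2 = 8 := by rw [norm_two_mul] at hn; omega
    have hone : ∀ j ∈ s, (1 : ℤ) ≤ t j ^ 2 := fun j hj => by
      have h0 : t j ≠ 0 := fun h0 => mem_oddSupp.1 (ht.symm ▸ hj) (by rw [h0]; exact dvd_zero _)
      nlinarith [Int.one_le_abs h0, sq_abs (t j)]
    intro i
    have hsplit := Finset.sum_add_sum_compl s fun j => t j ^ 2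
    have hlow : (8 : ℤ) ≤ ∑ j ∈ s, t j ^ 2 := by
      calc (8 : ℤ) = ∑ _j ∈ s, (1 : ℤ) := by simp [hs]
        _ ≤ _ := Finset.sum_le_sum hone
    have hc0 : 0 ≤ ∑ j ∈ sᶜ, t j ^ 2 := Finset.sum_nonneg fun j _ => sq_nonneg _
    by_cases hi : i ∈ s
    · rw [if_pos hi]
      have h1 : t i ^ 2 - 1 ≤ ∑ j ∈ s, (t j ^ 2 - 1) :=
        Finset.single_le_sum (f := fun j => t j ^ 2 - 1) (fun j hj => sub_nonneg.2 (hone j hj)) hi
      rw [Finset.sum_sub_distrib, Finset.sum_const, hs] at h1
      simp only [nsmul_eq_mul, mul_one, Nat.cast_ofNat] at h1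
      obtain ⟨hl, hu⟩ := small_of_sq (b := 1) (by norm_num) (by omega : t i ^ 2 < (1 + 1) ^ 2)
      have := mem_oddSupp.1 (ht.symm ▸ hi)
      simp only [List.mem_cons, List.not_mem_nil, or_false]
      omega
    · rw [if_neg hi]
      have h1 : t i ^ 2 ≤ ∑ j ∈ sᶜ, t j ^ 2 :=
        Finset.single_le_sum (f := fun j => t j ^ 2) (fun j _ => sq_nonneg _) (Finset.mem_compl.2 hi)
      obtain ⟨hl, hu⟩ := small_of_sq (b := 0) (by norm_num) (by omega : t i ^ 2 < (0 + 1) ^ 2)
      simp only [List.mem_cons, List.not_mem_nil, or_false]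
      omega
  have hr : (∑ i, t₀ i) % 4 < 4 ∧ 0 ≤ (∑ i, t₀ i) % 4 := by omega
  refine le_trans ?_ (fibre_tables.2 ⟨((∑ i, t₀ i) % 4).toNat, by omega⟩)
  have e := fibre_count sqW 8 4 [1, -1] [0] (by decide) (by decide) s (a := 8)
    (r := ((∑ i, t₀ i) % 4).toNat) le_rfl (by omega)
  rw [hs] at e
  rw [← e]
  refine le_trans ?_ (le_of_eq (Set.ncard_image_of_injective _ dbl_inj))
  refine Set.ncard_le_ncard ?_ (Set.Finite.image _ ?_)
  · rintro x ⟨hx, hn, t, rfl, ht⟩
    refine ⟨t, ⟨hval t hn ht, sqW_sum t (n := 8) (hn.trans (by norm_num)), ?_⟩, rfl⟩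
    have he : ∀ i, (2 : ℤ) ∣ t i - t₀ i := fun i => by
      have h1 : (¬(2 : ℤ) ∣ t i) ↔ ¬(2 : ℤ) ∣ t₀ i := by rw [← mem_oddSupp, ← mem_oddSupp, ht, ht₀]
      omega
    have h4 := h.four_even (u := fun i => (t i - t₀ i) / 2) (by
      convert Λ.sub_mem hx hx₀ using 1
      funext i
      have := he i
      simp only [Pi.sub_apply]
      omega)
    have e : (∑ i, (t i - t₀ i)) = 2 * ∑ i, (t i - t₀ i) / 2 := by
      rw [Finset.mul_sum]
      exact Finset.sum_congr rfl fun i _ => by have := he i; omega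
    rw [Finset.sum_sub_distrib] at e
    push_cast
    omega
  · refine Set.Finite.subset (Fintype.piFinset fun _ : GolayPt => ([1, -1, 0] : List ℤ).toFinset).finite_toSet ?_
    intro y hy
    rw [Finset.mem_coe, Fintype.mem_piFinset]
    intro i
    have := hy.1 i
    rw [List.mem_toFinset]
    split at this <;> simp only [List.mem_cons, List.not_mem_nil, or_false] at this ⊢ <;> omega

theorem finite_norm (Λ : AddSubgroup (GolayPt → ℤ)) (N : ℤ) :
    {x : GolayPt → ℤ | x ∈ Λ ∧ sqNorm x = N}.Finite := by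
  refine Set.Finite.subset (Fintype.piFinset fun _ : GolayPt => Finset.Icc (-|N| : ℤ) |N|).finite_toSet ?_
  intro x hx
  rw [Finset.mem_coe, Fintype.mem_piFinset]
  intro i
  have h1 : x i ^ 2 ≤ N := le_of_le_of_eq
    (Finset.single_le_sum (f := fun j => x j ^ 2) (fun j _ => sq_nonneg (x j)) (Finset.mem_univ i)) hx.2
  rw [Finset.mem_Icc, ← abs_le]
  calc |x i| ≤ |x i| * |x i| := by
        rcases eq_or_ne (x i) 0 with h | h
        · simp [h]
        · nlinarith [Int.one_le_abs h]
    _ ≤ |N| := by rw [abs_mul_abs_self, ← sq]; exact le_trans h1 (le_abs_self N)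

/-- the odd vectors of sum of squares 32 -/
abbrev oddMin (Λ : AddSubgroup (GolayPt → ℤ)) : Set (GolayPt → ℤ) :=
  {x | x ∈ Λ ∧ sqNorm x = 32 ∧ ¬(2 : ℤ) ∣ x none}

theorem odd_le (h : FrameLattice Λ) : (oddMin Λ).ncard ≤ 24 * Nat.card ↥(code Λ) := by
  classical
  rcases (oddMin Λ).eq_empty_or_nonempty with he | ⟨r, hr, hrn, hr2⟩
  · simp [he]
  have hfin := (finite_norm Λ 32).subset fun x (hx : x ∈ oddMin Λ) => (⟨hx.1, hx.2.1⟩ : x ∈ Λ ∧ sqNorm x = 32)
  have hodd : ∀ x ∈ oddMin Λ, ∀ i, ¬(2 : ℤ) ∣ x i := fun x hx i => by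
    have := h.parity hx.1 i none
    have := hx.2.2
    omega
  have hbig : ∀ x ∈ oddMin Λ, ∃! i, 3 ≤ |x i| := by
    intro x hx
    have hv := odd_values (hodd x hx) hx.2.1 (by norm_num)
    have hs : ∑ i, oddW (x i) = 1 := by
      have := norm_oddW hv
      rw [hx.2.1] at this
      omega
    obtain ⟨i, -, hi⟩ := Finset.exists_ne_zero_of_sum_ne_zero (s := Finset.univ) (f := fun i => oddW (x i))
      (by omega)
    have hw : ∀ j, 3 ≤ |x j| → 1 ≤ oddW (x j) := fun j hj => by
      rcases oddW_cases (hv j) with g | g | g <;> omega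
    refine ⟨i, ?_, fun j hj => ?_⟩
    · rcases oddW_cases (hv i) with g | g | g <;> omega
    · by_contra hne
      have := Finset.sum_le_sum_of_subset (f := fun k => oddW (x k)) (Finset.subset_univ {j, i})
      rw [Finset.sum_pair hne, hs] at this
      have := hw j hj
      omega
  choose pos hpos using fun (x : GolayPt → ℤ) (hx : x ∈ oddMin Λ) => hbig x hx
  have hmem : ∀ x ∈ oddMin Λ, redTwo (fun i => (x i - r i) / 2) ∈ code Λ := by
    intro x hx
    refine mem_code.2 ⟨_, ?_, rfl⟩
    convert Λ.sub_mem hx.1 hr using 1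
    funext i
    have := hodd x hx i
    have := hodd r ⟨hr, hrn, hr2⟩ i
    simp only [Pi.sub_apply]
    omega
  let F : (oddMin Λ) → GolayPt × ↥(code Λ) := fun x => (pos x.1 x.2, ⟨_, hmem x.1 x.2⟩)
  have hF : Function.Injective F := by
    rintro ⟨x, hx⟩ ⟨y, hy⟩ e
    have e1 : pos x hx = pos y hy := congrArg Prod.fst e
    have e2 : redTwo (fun i => (x i - r i) / 2) = redTwo (fun i => (y i - r i) / 2) :=
      congrArg (fun p => (p.2 : GolayPt → ZMod 2)) e
    apply Subtype.ext
    funext i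
    show x i = y i
    have h4 : (4 : ℤ) ∣ x i - y i := by
      have h2 : (2 : ℤ) ∣ (y i - r i) / 2 - (x i - r i) / 2 :=
        (ZMod.intCast_eq_intCast_iff_dvd_sub _ _ 2).1 (congrFun e2 i)
      have := hodd x hx i
      have := hodd y hy i
      have := h.parity hr i none
      omega
    have hvx := odd_values (hodd x hx) hx.2.1 (by norm_num) i
    have hvy := odd_values (hodd y hy) hy.2.1 (by norm_num) i
    have hxi : 3 ≤ |x i| ↔ 3 ≤ |y i| := by
      constructor <;> intro hh
      · rw [(hpos x hx).2 i hh, e1]; exact (hpos y hy).1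
      · rw [(hpos y hy).2 i hh, ← e1]; exact (hpos x hx).1
    have three : ∀ z : GolayPt → ℤ, z ∈ oddMin Λ → -3 ≤ z i ∧ z i ≤ 3 := by
      intro z hz
      have hv := odd_values (hodd z hz) hz.2.1 (by norm_num)
      have hs := norm_oddW hv
      rw [hz.2.1] at hs
      have h1 := Finset.single_le_sum (f := fun j => oddW (z j)) (fun j _ => Nat.zero_le _) (Finset.mem_univ i)
      rcases oddW_cases (hv i) with g | g | g
      · exact abs_le.1 (by omega)
      · exact abs_le.1 g.2.le
      · omega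
    obtain ⟨hl, hu⟩ := three x hx
    obtain ⟨hl', hu'⟩ := three y hy
    simp only [le_abs'] at hxi
    simp only [List.cons_append, List.nil_append, List.mem_cons, List.not_mem_nil, or_false] at hvx hvy
    omega
  have h1 := Nat.card_le_card_of_injective F hF
  rw [Nat.card_coe_set_eq, Nat.card_prod, Nat.card_eq_fintype_card (α := GolayPt)] at h1
  exact h1

theorem count_le (h : FrameLattice Λ) :
    {x : GolayPt → ℤ | x ∈ Λ ∧ sqNorm x = 32}.ncard ≤ 1104 + (blocks Λ).card * 128 + (oddMin Λ).ncard := by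
  classical
  let Z : Set (GolayPt → ℤ) := {x | x ∈ Λ ∧ sqNorm x = 32 ∧ ∀ i, (4 : ℤ) ∣ x i}
  let B : Finset GolayPt → Set (GolayPt → ℤ) := fun s =>
    {x | x ∈ Λ ∧ sqNorm x = 32 ∧ ∃ t : GolayPt → ℤ, x = (fun i => 2 * t i) ∧ oddSupp t = s}
  have hsub : {x : GolayPt → ℤ | x ∈ Λ ∧ sqNorm x = 32} ⊆ Z ∪ (⋃ s ∈ blocks Λ, B s) ∪ oddMin Λ := by
    rintro x ⟨hx, hn⟩
    by_cases hp : (2 : ℤ) ∣ x none
    swap
    · exact Or.inr ⟨hx, hn, hp⟩
    left
    obtain ⟨t, rfl⟩ : ∃ t : GolayPt → ℤ, x = fun i => 2 * t i :=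
      ⟨fun i => x i / 2, funext fun i => by
        have := h.parity hx i none
        show x i = 2 * (x i / 2)
        omega⟩
    have hc : redTwo t ∈ code Λ := mem_code.2 ⟨t, hx, rfl⟩
    by_cases h0 : redTwo t = 0
    · refine Or.inl ⟨hx, hn, fun i => ?_⟩
      have h2 : ((t i : ℤ) : ZMod 2) = 0 := congrFun h0 i
      rw [ZMod.intCast_zmod_eq_zero_iff_dvd] at h2
      show (4 : ℤ) ∣ 2 * t i
      omega
    · refine Or.inr (Set.mem_iUnion₂.2 ⟨oddSupp t, mem_blocks.2 ⟨_, hc, supp_red t, ?_⟩, hx, hn, t, rfl, rfl⟩)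
      have h8 := (h.doubly_even hc).2 h0
      rw [supp_red] at h8
      have hle : ((oddSupp t).card : ℤ) ≤ ∑ i, t i ^ 2 := by
        refine le_trans ?_ (Finset.sum_le_sum_of_subset_of_nonneg (Finset.subset_univ (oddSupp t))
          fun i _ _ => sq_nonneg (t i))
        rw [Finset.card_eq_sum_ones, Nat.cast_sum]
        refine Finset.sum_le_sum fun i hi => ?_
        have h1 : t i ≠ 0 := fun he => mem_oddSupp.1 hi (by rw [he]; exact dvd_zero _)
        rw [Nat.cast_one]
        nlinarith [Int.one_le_abs h1, sq_abs (t i)]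
      rw [norm_two_mul] at hn
      omega
  have hfin : (Z ∪ (⋃ s ∈ blocks Λ, B s) ∪ oddMin Λ).Finite := by
    refine (finite_norm Λ 32).subset ?_
    rintro x ((hx | hx) | hx)
    · exact ⟨hx.1, hx.2.1⟩
    · obtain ⟨s, -, hx⟩ := Set.mem_iUnion₂.1 hx
      exact ⟨hx.1, hx.2.1⟩
    · exact ⟨hx.1, hx.2.1⟩
  refine le_trans (Set.ncard_le_ncard hsub hfin) ?_
  refine le_trans (Set.ncard_union_le _ _) (Nat.add_le_add_right ?_ _)
  refine le_trans (Set.ncard_union_le _ _) (Nat.add_le_add h.zero_le ?_)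
  refine le_trans (Finset.set_ncard_biUnion_le _ _) ?_
  rw [← smul_eq_mul, ← Finset.sum_const]
  refine Finset.sum_le_sum fun s hs => ?_
  obtain ⟨w, -, -, h8⟩ := mem_blocks.1 hs
  exact h.block_le s h8

theorem exists_odd (h : FrameLattice Λ) : (oddMin Λ).Nonempty := by
  by_contra he
  rw [Set.not_nonempty_iff_eq_empty] at he
  have h1 := h.count_le
  have h2 := h.blocks_le
  have h3 := h.count
  rw [he, Set.ncard_empty] at h1
  omega

theorem card_code (h : FrameLattice Λ) : 4096 ≤ Nat.card ↥(code Λ) := by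
  have h1 := h.count_le
  have h2 := h.blocks_le
  have h3 := h.count
  have h4 := h.odd_le
  omega

theorem golayLike (h : FrameLattice Λ) : GolayUnique.IsGolayLike (code Λ) := by
  classical
  have hmin : ∀ w ∈ code Λ, w ≠ 0 → 8 ≤ (support₂ w).card := fun w hw hne => (h.doubly_even hw).2 hne
  refine ⟨rfl, ?_, fun w hw => dvd_trans (by norm_num) (h.doubly_even hw).1, hmin⟩
  have hc : Nat.card ↥(code Λ) = 2 ^ Module.finrank (ZMod 2) (code Λ) := by
    rw [Module.natCard_eq_pow_finrank (K := ZMod 2), Nat.card_zmod]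
  have hlow : 12 ≤ Module.finrank (ZMod 2) (code Λ) := by
    have h2 := h.card_code
    rw [hc] at h2
    exact (Nat.pow_le_pow_iff_right (le_refl 2)).1 (by simpa using h2)
  have hq : (2325 : ℕ) ≤ Nat.card ((GolayPt → ZMod 2) ⧸ code Λ) := by
    let S : Finset (Finset GolayPt) := (Finset.univ : Finset (Finset GolayPt)).filter fun s => s.card ≤ 3
    have hS : S = (Finset.range 4).biUnion fun k => (Finset.univ : Finset GolayPt).powersetCard k := by
      ext s
      simp only [S, Finset.mem_filter, Finset.mem_univ, true_and, Finset.mem_biUnion, Finset.mem_range,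
        Finset.mem_powersetCard, Finset.subset_univ]
      constructor
      · intro hs; exact ⟨s.card, by omega, rfl⟩
      · rintro ⟨k, hk, rfl⟩; omega
    have hcard : S.card = 2325 := by
      rw [hS, Finset.card_biUnion fun a _ b _ hab =>
        Finset.disjoint_left.2 fun s ha hb => hab ((Finset.mem_powersetCard.1 ha).2.symm.trans
          (Finset.mem_powersetCard.1 hb).2)]
      simp only [Finset.sum_range_succ, Finset.sum_range_zero, Finset.card_powersetCard, Finset.card_univ,
        show Fintype.card GolayPt = 24 from rfl]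
      decide +kernel
    have hinj : Function.Injective fun s : S => GolayUnique.cls (code Λ) s.1 := by
      rintro ⟨a, ha⟩ ⟨b, hb⟩ e
      simp only [S, Finset.mem_filter] at ha hb
      have h1 : GolayUnique.ind (a ∆ b) ∈ code Λ := GolayUnique.cls_eq_iff.1 e
      by_contra hne
      have h2 : GolayUnique.ind (a ∆ b) ≠ 0 := fun h0 => by
        have h3 := GolayUnique.sup_ind (a ∆ b)
        rw [h0, GolayUnique.sup_zero] at h3
        exact hne (Subtype.ext (symmDiff_eq_bot.1 h3.symm))
      have h4 := hmin _ h1 h2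
      rw [GolayUnique.sup_ind] at h4
      have := card_symmDiff_add a b
      omega
    have h5 := Nat.card_le_card_of_injective _ hinj
    rwa [Nat.card_eq_fintype_card, Fintype.card_coe, hcard] at h5
  have hsum := Submodule.finrank_quotient_add_finrank (code Λ)
  rw [Module.finrank_fintype_fun_eq_card, show Fintype.card GolayPt = 24 from rfl] at hsum
  rw [Module.natCard_eq_pow_finrank (K := ZMod 2), Nat.card_zmod] at hq
  by_contra hne
  have : Module.finrank (ZMod 2) ((GolayPt → ZMod 2) ⧸ code Λ) ≤ 11 := by omega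
  have := Nat.pow_le_pow_right (show 1 ≤ 2 by norm_num) this
  norm_num at this
  omega

/-- the signed relabelling -/
def relabel (σ : Equiv.Perm GolayPt) (c : Finset GolayPt) : (GolayPt → ℤ) →+ (GolayPt → ℤ) :=
  (signMap c).comp (permMap σ)

theorem relabel_eq (σ : Equiv.Perm GolayPt) (c : Finset GolayPt) (x : GolayPt → ℤ) :
    relabel σ c x = signedPerm σ c x := rfl

theorem norm_relabel (σ : Equiv.Perm GolayPt) (c : Finset GolayPt) (x : GolayPt → ℤ) :
    sqNorm (relabel σ c x) = sqNorm x := by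
  rw [relabel_eq, sqNorm, sqNorm, ← Equiv.sum_comp σ.symm fun i => x i ^ 2]
  refine Finset.sum_congr rfl fun i _ => ?_
  simp only [signedPerm]
  split <;> ring

theorem relabel_injective (σ : Equiv.Perm GolayPt) (c : Finset GolayPt) :
    Function.Injective (relabel σ c) := by
  intro x y e
  funext i
  have h1 := congrFun e (σ i)
  simp only [relabel_eq, signedPerm, Equiv.symm_apply_apply] at h1
  split at h1 <;> omega

theorem relabel_single (σ : Equiv.Perm GolayPt) (c : Finset GolayPt) (i : GolayPt) (a : ℤ) :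
    relabel σ c (Pi.single i a) = Pi.single (σ i) (if σ i ∈ c then -a else a) := by
  funext k
  simp only [relabel_eq, signedPerm]
  by_cases hk : k = σ i
  · subst hk; simp
  · simp [hk, Equiv.symm_apply_eq]

theorem map_frame (h : FrameLattice Λ) (σ : Equiv.Perm GolayPt) (c : Finset GolayPt) :
    FrameLattice (Λ.map (relabel σ c)) where
  dvd := by rintro _ ⟨x, hx, rfl⟩; rw [norm_relabel]; exact h.dvd x hx
  min := by
    rintro _ ⟨x, hx, rfl⟩ hne
    rw [norm_relabel]
    exact h.min x hx fun h0 => hne (by rw [h0, map_zero])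
  four := by
    intro i j hij a ha
    let e : GolayPt → ℤ := fun k => if k ∈ c then -1 else 1
    have he : ∀ k, e k = 1 ∨ e k = -1 := fun k => by simp only [e]; split <;> omega
    have hmem := h.four (σ.symm i) (σ.symm j) (by simpa using hij) (e i * (e j * a))
      (by rcases ha with rfl | rfl <;> rcases he i with g | g <;> rcases he j with g' | g' <;> simp [g, g'])
    rcases he i with g | g
    · refine ⟨_, hmem, ?_⟩
      rw [map_add, relabel_single, relabel_single, Equiv.apply_symm_apply, Equiv.apply_symm_apply]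
      simp only [e] at g ⊢
      by_cases hi : i ∈ c
      · simp [hi] at g
      · by_cases hj : j ∈ c <;> simp [hi, hj]
    · refine ⟨_, Λ.neg_mem hmem, ?_⟩
      rw [map_neg, map_add, relabel_single, relabel_single, Equiv.apply_symm_apply, Equiv.apply_symm_apply]
      simp only [e] at g ⊢
      by_cases hi : i ∈ c
      · by_cases hj : j ∈ c <;> simp [hi, hj, neg_add, ← Pi.single_neg, add_comm]
      · simp [hi] at g
  count := by
    refine le_trans h.count ?_
    rw [← Set.ncard_image_of_injective _ (relabel_injective σ c)]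
    refine Set.ncard_le_ncard ?_ (finite_norm _ 32)
    rintro _ ⟨x, ⟨hx, hn⟩, rfl⟩
    exact ⟨⟨x, hx, rfl⟩, (norm_relabel σ c x).trans hn⟩

theorem mem_code_relabel (σ : Equiv.Perm GolayPt) (c : Finset GolayPt) {w : GolayPt → ZMod 2} :
    w ∈ code (Λ.map (relabel σ c)) ↔ (fun i => w (σ i)) ∈ code Λ := by
  rw [mem_code, mem_code]
  constructor
  · rintro ⟨z, ⟨x, hx, he⟩, rfl⟩
    refine ⟨fun i => if σ i ∈ c then -z (σ i) else z (σ i), ?_, ?_⟩
    · have hx' : x ∈ Λ := hx
      convert hx' using 1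
      funext i
      have h1 := congrFun he (σ i)
      simp only [relabel_eq, signedPerm, Equiv.symm_apply_apply] at h1
      show 2 * (if σ i ∈ c then -z (σ i) else z (σ i)) = x i
      split
      · next hi => rw [if_pos hi] at h1; omega
      · next hi => rw [if_neg hi] at h1; omega
    · funext i
      show (((if σ i ∈ c then -z (σ i) else z (σ i)) : ℤ) : ZMod 2) = ((z (σ i) : ℤ) : ZMod 2)
      split
      · rw [Int.cast_neg, ZMod.neg_eq_self_mod_two]
      · rfl
  · rintro ⟨z, hz, hw⟩
    refine ⟨fun i => if i ∈ c then -z (σ.symm i) else z (σ.symm i), ⟨_, hz, ?_⟩, ?_⟩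
    · funext i
      simp only [relabel_eq, signedPerm]
      split <;> ring
    · funext i
      have h1 : ((z (σ.symm i) : ℤ) : ZMod 2) = w i := by
        have h2 := congrFun hw (σ.symm i)
        rw [Equiv.apply_symm_apply] at h2
        exact h2
      show (((if i ∈ c then -z (σ.symm i) else z (σ.symm i)) : ℤ) : ZMod 2) = w i
      split
      · rw [Int.cast_neg, ZMod.neg_eq_self_mod_two, h1]
      · exact h1

theorem eq_leech (h : FrameLattice Λ) (hC : ∀ w, w ∈ code Λ ↔ w ∈ golayCode) {r : GolayPt → ℤ}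
    (hr : r ∈ Λ) (hr4 : ∀ i, (4 : ℤ) ∣ r i - 1) : Λ = leechLattice := by
  have hodd : ∀ i, ¬(2 : ℤ) ∣ r i := fun i => by have := hr4 i; omega
  have hrL : r ∈ leechLattice := by
    refine (odd_mem_iff hodd).2 ⟨?_, ?_⟩
    · rw [show threeSupp r = ∅ from ?_]
      · exact empty_mem_code
      · ext i; have := hr4 i; simp [mem_threeSupp]; omega
    · have hn := h.dvd r hr
      obtain ⟨k, rfl⟩ : ∃ k : GolayPt → ℤ, r = fun i => 1 + 4 * k i :=
        ⟨fun i => (r i - 1) / 4, funext fun i => by
          have := hr4 i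
          show r i = 1 + 4 * ((r i - 1) / 4)
          omega⟩
      have e1 : sqNorm (fun i => 1 + 4 * k i) = 24 + 8 * (∑ i, k i) + 16 * ∑ i, k i ^ 2 := by
        rw [sqNorm, Finset.sum_congr rfl fun i _ =>
          show (1 + 4 * k i) ^ 2 = 1 + 8 * k i + 16 * k i ^ 2 by ring,
          Finset.sum_add_distrib, Finset.sum_add_distrib, ← Finset.mul_sum, ← Finset.mul_sum,
          Finset.sum_const, Finset.card_univ, show Fintype.card GolayPt = 24 from rfl]
        rfl
      rw [e1] at hn
      rw [Finset.sum_add_distrib, ← Finset.mul_sum, Finset.sum_const, Finset.card_univ,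
        show Fintype.card GolayPt = 24 from rfl]
      simp only [nsmul_eq_mul, mul_one, Nat.cast_ofNat]
      omega
  have heven : ∀ z : GolayPt → ℤ, (fun i => 2 * z i) ∈ Λ → oddSupp z ∈ Code ∧ (4 : ℤ) ∣ ∑ i, z i := by
    intro z hz
    refine ⟨?_, ?_⟩
    · rw [← supp_red, ← mem_code_iff, ← hC]
      exact mem_code.2 ⟨z, hz, rfl⟩
    · have h8 := h.dot_dvd hr hz
      have e : dotInt r (fun i => 2 * z i) = 2 * ∑ i, r i * z i := by
        rw [dotInt, Finset.mul_sum]
        exact Finset.sum_congr rfl fun i _ => by ring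
      have h4 : (4 : ℤ) ∣ ∑ i, (r i * z i - z i) := Finset.dvd_sum fun i _ => by
        rw [show r i * z i - z i = (r i - 1) * z i by ring]
        exact dvd_mul_of_dvd_left (hr4 i) _
      rw [Finset.sum_sub_distrib] at h4
      rw [e] at h8
      omega
  have hle : Λ ≤ leechLattice := by
    have hev : ∀ x ∈ Λ, (2 : ℤ) ∣ x none → x ∈ leechLattice := by
      intro x hx h2
      obtain ⟨z, rfl⟩ : ∃ z : GolayPt → ℤ, x = fun i => 2 * z i :=
        ⟨fun i => x i / 2, funext fun i => by
          have := h.parity hx i none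
          show x i = 2 * (x i / 2)
          omega⟩
      exact two_mul_mem (heven z hx).1 (heven z hx).2
    intro x hx
    by_cases h2 : (2 : ℤ) ∣ x none
    · exact hev x hx h2
    · have h3 := hev _ (Λ.sub_mem hx hr) (by
        have := hodd none
        simp only [Pi.sub_apply]
        omega)
      simpa using leechLattice.add_mem h3 hrL
  refine le_antisymm hle ?_
  have hev : ∀ y : GolayPt → ℤ, oddSupp y ∈ Code → (4 : ℤ) ∣ ∑ i, y i → (fun i => 2 * y i) ∈ Λ := by
    intro y hc h4
    have hw : redTwo y ∈ code Λ := by rw [hC, mem_code_iff, supp_red]; exact hc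
    obtain ⟨z, hz, he⟩ := mem_code.1 hw
    have h4z := (heven z hz).2
    have hd : ∀ i, (2 : ℤ) ∣ y i - z i := fun i =>
      (ZMod.intCast_eq_intCast_iff_dvd_sub _ _ 2).1 (congrFun he i)
    have e : (∑ i, (y i - z i)) = 2 * ∑ i, (y i - z i) / 2 := by
      rw [Finset.mul_sum]
      exact Finset.sum_congr rfl fun i _ => by have := hd i; omega
    rw [Finset.sum_sub_distrib] at e
    convert Λ.add_mem hz (h.four_mem (u := fun i => (y i - z i) / 2) (by omega)) using 1
    funext i
    have := hd i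
    simp only [Pi.add_apply]
    omega
  intro x hx
  rcases leech_cases hx with ⟨y, rfl, hc, h4⟩ | ho
  · exact hev y hc h4
  · rcases leech_cases (leechLattice.sub_mem hx hrL) with ⟨y, hy, hc, h4⟩ | ho'
    · have h1 := Λ.add_mem (hev y hc h4) hr
      rwa [← hy, sub_add_cancel] at h1
    · exfalso
      have := ho none
      have := ho' none
      have := hodd none
      simp only [Pi.sub_apply] at *
      omega

/-- the normal form -/
theorem standard (h : FrameLattice Λ) :
    ∃ σ : Equiv.Perm GolayPt, ∃ c : Finset GolayPt, Λ.map (relabel σ c) = leechLattice := by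
  obtain ⟨σ, hσ⟩ := GolayUnique.exists_equiv h.golayLike
  have h1 := h.map_frame σ ∅
  obtain ⟨r, hr, -, hr2⟩ := h1.exists_odd
  set c := threeSupp r
  refine ⟨σ, c, ?_⟩
  have hmap : (Λ.map (relabel σ ∅)).map (relabel (1 : Equiv.Perm GolayPt) c) = Λ.map (relabel σ c) := by
    rw [AddSubgroup.map_map]
    congr 1
  rw [← hmap]
  refine eq_leech (h1.map_frame 1 c) (fun w => ?_) (r := relabel 1 c r) ⟨r, hr, rfl⟩ fun i => ?_
  · rw [mem_code_relabel, mem_code_relabel, hσ w]
    exact Iff.rfl
  · have hp := h1.parity hr i none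
    have e : relabel (1 : Equiv.Perm GolayPt) c r i = if i ∈ c then -r i else r i := by
      simp [relabel_eq, signedPerm, show ∀ k, (1 : Equiv.Perm GolayPt).symm k = k from fun _ => rfl]
    rw [e]
    by_cases hi : i ∈ c
    · rw [if_pos hi]
      have := mem_threeSupp.1 hi
      omega
    · rw [if_neg hi]
      have : ¬(4 : ℤ) ∣ r i - 3 := fun hh => hi (mem_threeSupp.2 hh)
      omega

end FrameLattice

end CfsgLib.Spor.LeechFrame
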