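import Cfsg.Agent.Spor.LeechCensus
import Cfsg.Agent.Spor.SteinerCount

/-!
The second and fourth moments of the shortest vectors are those of the sphere, and the numbers of
shortest vectors with given product with a vector of sum of squares 48.
-/

set_option autoImplicit false

namespace CfsgLib.Spor.LeechIso

open Cfsg CfsgLib.Spor CfsgLib.Spor.LeechFacts CfsgLib.Spor.LeechCount CfsgLib.Spor.LeechModTwo
  CfsgLib.Spor.LeechCross CfsgLib.Spor.LeechOrbits CfsgLib.Spor.LeechPairs CfsgLib.Spor.LeechCensus
open scoped Pointwise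

theorem sep {i : GolayPt} {t : Finset GolayPt} (hi : i ∉ t) (ht : t.card ≤ 3) :
    ∃ c ∈ Code, i ∈ c ∧ ∀ j ∈ t, j ∉ c := by
  classical
  have hB : IsSteinerSystem 5 8 octads := steiner_octads
  have h24 : Fintype.card GolayPt = 24 := rfl
  by_contra hno
  push_neg at hno
  have hone : ((SteinerCount.blocks octads).filter fun o => i ∈ o).card = 253 := by
    have h := SteinerCount.count_above hB (s := {i}) (by rw [Finset.card_singleton]; norm_num)
    simp only [Finset.card_singleton, h24, Finset.singleton_subset_iff] at h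
    norm_num [Nat.choose] at h
    omega
  have htwo : ∀ j ∈ t, ((SteinerCount.blocks octads).filter fun o => i ∈ o ∧ j ∈ o).card = 77 := by
    intro j hj
    have hij : i ≠ j := fun e => hi (e ▸ hj)
    have h := SteinerCount.count_above hB (s := {i, j}) (by rw [Finset.card_pair hij]; norm_num)
    simp only [Finset.card_pair hij, h24, Finset.insert_subset_iff, Finset.singleton_subset_iff] at h
    norm_num [Nat.choose] at h
    omega
  have hsub : (SteinerCount.blocks octads).filter (fun o => i ∈ o) ⊆
      t.biUnion fun j => (SteinerCount.blocks octads).filter fun o => i ∈ o ∧ j ∈ o := by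
    intro o ho
    obtain ⟨h1, h2⟩ := Finset.mem_filter.1 ho
    obtain ⟨j, hj, hjo⟩ := hno o (mem_octads.1 (SteinerCount.mem_blocks.1 h1)).1 h2
    exact Finset.mem_biUnion.2 ⟨j, hj, Finset.mem_filter.2 ⟨h1, h2, hjo⟩⟩
  have h := (Finset.card_le_card hsub).trans Finset.card_biUnion_le
  rw [hone, Finset.sum_congr rfl htwo, Finset.sum_const, smul_eq_mul] at h
  omega

theorem moment_zero {a b c d : GolayPt} (h1 : a ≠ b) (h2 : a ≠ c) (h3 : a ≠ d) :
    ∑ w ∈ minSet, w a * w b * w c * w d = 0 := by
  classical
  obtain ⟨s, hs, ha, hn⟩ := sep (i := a) (t := {b, c, d}) (by simp [h1, h2, h3]) Finset.card_le_three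
  have h := sum_sign hs fun w => w a * w b * w c * w d
  have e : ∀ w : GolayPt → ℤ, signMap s w a * signMap s w b * signMap s w c * signMap s w d =
      -(w a * w b * w c * w d) := by
    intro w
    show (if a ∈ s then -w a else w a) * (if b ∈ s then -w b else w b) * (if c ∈ s then -w c else w c) *
      (if d ∈ s then -w d else w d) = _
    rw [if_pos ha, if_neg (hn b (by simp)), if_neg (hn c (by simp)), if_neg (hn d (by simp))]
    ring
  rw [Finset.sum_congr rfl fun w _ => e w, Finset.sum_neg_distrib] at h
  omega

theorem moment_zero₂ {a b : GolayPt} (h : a ≠ b) : ∑ w ∈ minSet, w a * w b = 0 := by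
  classical
  obtain ⟨s, hs, ha, hn⟩ := sep (i := a) (t := {b}) (by simp [h]) (by simp)
  have hh := sum_sign hs fun w => w a * w b
  have e : ∀ w : GolayPt → ℤ, signMap s w a * signMap s w b = -(w a * w b) := by
    intro w
    show (if a ∈ s then -w a else w a) * (if b ∈ s then -w b else w b) = _
    rw [if_pos ha, if_neg (hn b (by simp))]
    ring
  rw [Finset.sum_congr rfl fun w _ => e w, Finset.sum_neg_distrib] at hh
  omega

theorem moment_two (i j : GolayPt) :
    ∑ w ∈ minSet, w i * w j = 262080 * (if i = j then 1 else 0) := by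
  by_cases h : i = j
  · subst h
    rw [if_pos rfl, mul_one, ← base_moments.1, ← moment_eq 2 i none]
    exact Finset.sum_congr rfl fun w _ => by ring
  · rw [if_neg h, mul_zero, moment_zero₂ h]

theorem moment_four (i j k l : GolayPt) :
    ∑ w ∈ minSet, w i * w j * w k * w l = 322560 *
      ((if i = j then (if k = l then 1 else 0) else 0) + (if i = k then (if j = l then 1 else 0) else 0) +
        (if i = l then (if j = k then 1 else 0) else 0)) := by
  obtain ⟨-, h4, h22⟩ := base_moments
  have sq : ∀ a : GolayPt, ∑ w ∈ minSet, w a * w a * w a * w a = 967680 := fun a => by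
    rw [← h4, ← moment_eq 4 a none]
    exact Finset.sum_congr rfl fun w _ => by ring
  have mix : ∀ a b : GolayPt, a ≠ b → ∑ w ∈ minSet, w a * w a * w b * w b = 322560 := fun a b h => by
    rw [← h22, ← mixed_eq h (show (none : GolayPt) ≠ some 0 by simp)]
    exact Finset.sum_congr rfl fun w _ => by ring
  by_cases hij : i = j
  · subst hij
    by_cases hkl : k = l
    · subst hkl
      by_cases hik : i = k
      · subst hik; rw [sq]; norm_num
      · rw [mix i k hik]; simp [hik]
    · by_cases hik : i = k
      · subst hik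
        rw [Finset.sum_congr rfl fun w _ => show w i * w i * w i * w l = w l * w i * w i * w i by ring,
          moment_zero (Ne.symm hkl) (Ne.symm hkl) (Ne.symm hkl)]
        simp [hkl]
      · rw [Finset.sum_congr rfl fun w _ => show w i * w i * w k * w l = w k * w i * w i * w l by ring,
          moment_zero (Ne.symm hik) (Ne.symm hik) hkl]
        simp [hik, hkl]
  · by_cases hik : i = k
    · subst hik
      by_cases hjl : j = l
      · subst hjl
        rw [Finset.sum_congr rfl fun w _ => show w i * w j * w i * w j = w i * w i * w j * w j by ring,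
          mix i j hij]
        simp [hij]
      · rw [Finset.sum_congr rfl fun w _ => show w i * w j * w i * w l = w j * w i * w i * w l by ring,
          moment_zero (Ne.symm hij) (Ne.symm hij) hjl]
        simp [hij, Ne.symm hij, hjl]
    · by_cases hil : i = l
      · subst hil
        by_cases hjk : j = k
        · subst hjk
          rw [Finset.sum_congr rfl fun w _ => show w i * w j * w j * w i = w i * w i * w j * w j by ring,
            mix i j hij]
          simp [hij]
        · rw [Finset.sum_congr rfl fun w _ => show w i * w j * w k * w i = w j * w i * w i * w k by ring,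
            moment_zero (Ne.symm hij) (Ne.symm hij) hjk]
          simp [hij, hik, hjk]
      · rw [moment_zero hij hik hil]
        simp [hij, hik, hil]

theorem pull (a : GolayPt → ℤ) (F : (GolayPt → ℤ) → ℤ) :
    ∑ w ∈ minSet, dotInt a w * F w = ∑ i, a i * ∑ w ∈ minSet, w i * F w := by
  simp only [dotInt, Finset.sum_mul, Finset.mul_sum]
  rw [Finset.sum_comm]
  exact Finset.sum_congr rfl fun i _ => Finset.sum_congr rfl fun w _ => mul_assoc _ _ _

theorem quadratic (a : GolayPt → ℤ) : ∑ w ∈ minSet, dotInt a w ^ 2 = 262080 * sqNorm a := by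
  rw [Finset.sum_congr rfl fun w _ => sq (dotInt a w), pull, sqNorm, Finset.mul_sum]
  refine Finset.sum_congr rfl fun i _ => ?_
  rw [Finset.sum_congr rfl fun w _ => mul_comm (w i) (dotInt a w), pull]
  simp only [moment_two, mul_ite, mul_one, mul_zero, Finset.sum_ite_eq', Finset.mem_univ, if_true]
  ring

theorem quartic (a : GolayPt → ℤ) : ∑ w ∈ minSet, dotInt a w ^ 4 = 967680 * sqNorm a ^ 2 := by
  have e : ∑ w ∈ minSet, dotInt a w ^ 4 =
      ∑ i, a i * ∑ j, a j * ∑ k, a k * ∑ l, a l * ∑ w ∈ minSet, w l * w k * w j * w i := by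
    rw [Finset.sum_congr rfl fun w _ => show dotInt a w ^ 4 = dotInt a w * dotInt a w ^ 3 by ring, pull]
    refine Finset.sum_congr rfl fun i _ => congrArg (a i * ·) ?_
    rw [Finset.sum_congr rfl fun w _ => show w i * dotInt a w ^ 3 = dotInt a w * (w i * dotInt a w ^ 2) by ring, pull]
    refine Finset.sum_congr rfl fun j _ => congrArg (a j * ·) ?_
    rw [Finset.sum_congr rfl fun w _ => show w j * (w i * dotInt a w ^ 2) = dotInt a w * (w j * w i * dotInt a w) by ring, pull]
    refine Finset.sum_congr rfl fun k _ => congrArg (a k * ·) ?_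
    rw [Finset.sum_congr rfl fun w _ => show w k * (w j * w i * dotInt a w) = dotInt a w * (w k * w j * w i) by ring, pull]
    refine Finset.sum_congr rfl fun l _ => congrArg (a l * ·) ?_
    exact Finset.sum_congr rfl fun w _ => by ring
  rw [e]
  simp only [moment_four, mul_add, mul_ite, mul_one, mul_zero, Finset.sum_add_distrib, Finset.sum_ite_eq,
    Finset.sum_ite_eq', Finset.sum_ite_irrel, Finset.sum_const_zero, Finset.mem_univ, if_true]
  rw [show (967680 : ℤ) * sqNorm a ^ 2 = 322560 * (sqNorm a * sqNorm a) + 322560 * (sqNorm a * sqNorm a) +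
    322560 * (sqNorm a * sqNorm a) by ring]
  simp only [sqNorm, Finset.mul_sum, Finset.sum_mul]
  simp only [← Finset.sum_add_distrib]
  refine Finset.sum_congr rfl fun i _ => Finset.sum_congr rfl fun j _ => ?_
  ring

theorem census48 (u : GolayPt → ℤ) (hu : u ∈ leechLattice) (hun : sqNorm u = 48) :
    (minSet.filter fun w => dotInt u w = 16).card = 11178 ∧
    (minSet.filter fun w => dotInt u w = -16).card = 11178 := by
  classical
  have hne : ∀ w ∈ minSet, ∀ s : ℤ, s = 1 ∨ s = -1 → 32 ≤ 80 + 2 * s * dotInt u w := by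
    intro w hw s hs
    obtain ⟨hx, hn⟩ := mem_minSet.1 hw
    rcases hs with rfl | rfl
    · have h0 : u + w ≠ 0 := fun h => by
        rw [eq_neg_of_add_eq_zero_left h, norm_neg', hn] at hun
        norm_num at hun
      have := norm_min (leechLattice.add_mem hu hx) h0
      rw [LeechModTwo.norm_add, hun, hn] at this
      omega
    · have h0 : u - w ≠ 0 := fun h => by
        rw [sub_eq_zero.1 h, hn] at hun
        norm_num at hun
      have := norm_min (leechLattice.sub_mem hu hx) h0
      rw [LeechModTwo.norm_sub, hun, hn] at this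
      omega
  have hrange : ∀ w ∈ minSet, dotInt u w ∈ ({-24, -16, -8, 0, 8, 16, 24} : Finset ℤ) := by
    intro w hw
    have := hne w hw 1 (Or.inl rfl)
    have := hne w hw (-1) (Or.inr rfl)
    have := leech_dot_dvd hu (mem_minSet.1 hw).1
    simp only [Finset.mem_insert, Finset.mem_singleton]
    omega
  have hneg : ∀ k : ℤ, (minSet.filter fun w => dotInt u w = -k).card =
      (minSet.filter fun w => dotInt u w = k).card := by
    intro k
    refine Finset.card_nbij' (fun w => -w) (fun w => -w) ?_ ?_ (fun w _ => neg_neg w) (fun w _ => neg_neg w)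
    all_goals
      intro w hw
      simp only [Finset.mem_coe, Finset.mem_filter, mem_minSet] at hw ⊢
      exact ⟨⟨leechLattice.neg_mem hw.1.1, (norm_neg' w).trans hw.1.2⟩, by
        rw [dot_comm', dot_neg_left, dot_comm']; omega⟩
  have h24 : (minSet.filter fun w => dotInt u w = 24).card = 552 := by
    rw [← count_splits ⟨u, hu⟩ hun, ← Set.ncard_image_of_injective _ Subtype.val_injective, ← Set.ncard_coe_finset]
    congr 1
    ext w
    simp only [Finset.coe_filter, mem_minSet, Set.mem_setOf_eq, Set.mem_image, LeechCensus.splits]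
    constructor
    · rintro ⟨⟨h1, h2⟩, h3⟩
      refine ⟨⟨w, h1⟩, ⟨h2, ?_⟩, rfl⟩
      rw [LeechModTwo.norm_sub, hun, h2, h3]
      norm_num
    · rintro ⟨v, ⟨h1, h2⟩, rfl⟩
      rw [LeechModTwo.norm_sub, hun, h1] at h2
      exact ⟨⟨v.2, h1⟩, by omega⟩
  have key : ∀ f : ℤ → ℤ, ∑ w ∈ minSet, f (dotInt u w) =
      ∑ k ∈ ({-24, -16, -8, 0, 8, 16, 24} : Finset ℤ),
        ((minSet.filter fun w => dotInt u w = k).card : ℤ) * f k := by
    intro f
    rw [← Finset.sum_fiberwise_of_maps_to hrange]
    refine Finset.sum_congr rfl fun k _ => ?_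
    rw [Finset.sum_congr rfl fun w hw => by rw [(Finset.mem_filter.1 hw).2], Finset.sum_const, nsmul_eq_mul]
  have k0 := key fun _ => 1
  have k2 := key fun x => x ^ 2
  have k4 := key fun x => x ^ 4
  simp only [Finset.sum_const, card_minSet, nsmul_eq_mul, mul_one] at k0
  rw [show ∑ w ∈ minSet, (fun x => x ^ 2) (dotInt u w) = 262080 * 48 from hun ▸ quadratic u] at k2
  rw [show ∑ w ∈ minSet, (fun x => x ^ 4) (dotInt u w) = 967680 * 48 ^ 2 from hun ▸ quartic u] at k4
  simp only [Finset.sum_insert, Finset.mem_insert, Finset.mem_singleton, Finset.sum_singleton,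
    Int.reduceNeg, Int.reduceEq, or_self, not_false_iff] at k0 k2 k4
  norm_num [hneg, h24] at k0 k2 k4
  have a1 := hneg 16
  omega

end CfsgLib.Spor.LeechIso
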