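import Cfsg.Agent.Spor.M24Elems

/-!
Subgroups given by complete lists of packed permutations.
-/

set_option autoImplicit false

namespace CfsgLib.Spor.ListSub

open Cfsg CfsgLib.Spor CfsgLib.Spor.M24Elems
open scoped Pointwise

/-- packed composition of two packed permutations -/
def comp (P Q : ℕ) : ℕ := packL ((List.range 24).map fun i => app P (app Q i))

/-- closed under products, with the identity, without repetitions -/
def closedB (els : List ℕ) : Bool :=
  (els.all fun a => okP a && (packL ((List.range 24).map (app a)) == a)) &&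
  (els.any fun a => (List.range 24).all fun i => app a i == i) &&
  nodupB 120 els &&
  els.all fun a => els.all fun b => els.contains (comp a b) && compB a b (comp a b)

/-- normalised by the listed permutations, with witnesses for the conjugates -/
def normW (els gs : List ℕ) (wit : List (List ℕ)) : Bool :=
  (List.range gs.length).all fun k => (List.range els.length).all fun n =>
    let g := gs.getD k 0
    let m := els.getD ((wit.getD k []).getD n 0) 0
    els.contains m && compB g (els.getD n 0) (comp g (els.getD n 0)) && compB m g (comp g (els.getD n 0))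

theorem closed_facts {els : List ℕ} (h : closedB els = true) :
    (∀ a ∈ els, okP a = true) ∧ (∃ a ∈ els, mkPerm a = 1) ∧ (els.map mkPerm).Nodup ∧
      ∀ a ∈ els, ∀ b ∈ els, ∃ c ∈ els, mkPerm c = mkPerm a * mkPerm b := by
  simp only [closedB, Bool.and_eq_true, List.all_eq_true, List.any_eq_true, beq_iff_eq, List.contains_iff_mem] at h
  obtain ⟨⟨⟨hok, a1, ha1, hid⟩, hnd⟩, hmul⟩ := h
  refine ⟨fun a ha => (hok a ha).1, ⟨a1, ha1, perm_ext fun i hi => ?_⟩, ?_, fun a ha b hb => ?_⟩
  · rw [img_mkPerm (hok a1 ha1).1 hi, img_one hi]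
    exact hid i (List.mem_range.2 hi)
  · refine List.Nodup.map_on (fun a ha b hb e => ?_) (nodup_of_nodupB _ _ hnd)
    rw [← (hok a ha).2, ← (hok b hb).2]
    refine congrArg packL (List.map_congr_left fun i hi => ?_)
    rw [List.mem_range] at hi
    rw [← img_mkPerm (hok a ha).1 hi, ← img_mkPerm (hok b hb).1 hi, e]
  · obtain ⟨h1, h2⟩ := hmul a ha b hb
    exact ⟨_, h1, mkPerm_comp h2⟩

/-- the subgroup of a closed list -/
noncomputable def listSub (els : List ℕ) (h : closedB els = true) : Subgroup (Equiv.Perm GolayPt) :=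
  Subgroup.closure {σ | ∃ a ∈ els, mkPerm a = σ}

theorem mem_listSub {els : List ℕ} {h : closedB els = true} {σ : Equiv.Perm GolayPt} :
    σ ∈ listSub els h ↔ ∃ a ∈ els, mkPerm a = σ := by
  classical
  refine ⟨fun hσ => ?_, fun hσ => Subgroup.subset_closure hσ⟩
  obtain ⟨hok, ⟨a1, ha1, h1⟩, -, hmul⟩ := closed_facts h
  have := closure_mem {σ | ∃ a ∈ els, mkPerm a = σ} (els.map mkPerm).toFinset
    (by rw [List.mem_toFinset, List.mem_map]; exact ⟨a1, ha1, h1⟩)
    (fun x hx s hs => by
      rw [List.mem_toFinset, List.mem_map] at hx ⊢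
      obtain ⟨a, ha, rfl⟩ := hx
      obtain ⟨b, hb, rfl⟩ := hs
      exact hmul a ha b hb) hσ
  rwa [List.mem_toFinset, List.mem_map] at this

theorem card_listSub {els : List ℕ} (h : closedB els = true) : Nat.card (listSub els h) = els.length := by
  classical
  have e : ((listSub els h : Subgroup (Equiv.Perm GolayPt)) : Set (Equiv.Perm GolayPt)) = ↑(els.map mkPerm).toFinset := by
    ext σ
    rw [SetLike.mem_coe, mem_listSub, Finset.mem_coe, List.mem_toFinset, List.mem_map]
  rw [← SetLike.coe_sort_coe, Nat.card_coe_set_eq, e, Set.ncard_coe_finset,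
    List.toFinset_card_of_nodup (closed_facts h).2.2.1, List.length_map]

theorem le_normalizer {els : List ℕ} (h : closedB els = true) {gs : List GT} {wit : List (List ℕ)}
    (hw : normW els (gs.map GT.P) wit = true) :
    gtGroup gs ≤ Subgroup.normalizer (listSub els h : Set (Equiv.Perm GolayPt)) := by
  classical
  refine gtGroup_le fun g hg => ?_
  have hsub : ∀ x ∈ listSub els h, g.perm * x * g.perm⁻¹ ∈ listSub els h := by
    intro x hx
    obtain ⟨n, hn, rfl⟩ := mem_listSub.1 hx
    obtain ⟨k, hk, hkg⟩ := List.getElem_of_mem (List.mem_map_of_mem (f := GT.P) hg)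
    obtain ⟨j, hj, hjn⟩ := List.getElem_of_mem hn
    have h1 := List.all_eq_true.1 (List.all_eq_true.1 hw k (List.mem_range.2 hk)) j (List.mem_range.2 hj)
    simp only [Bool.and_eq_true, List.contains_iff_mem] at h1
    rw [List.getD_eq_getElem _ _ hk, List.getD_eq_getElem _ _ hj, hkg, hjn] at h1
    obtain ⟨⟨hm, c1⟩, c2⟩ := h1
    refine mem_listSub.2 ⟨_, hm, ?_⟩
    rw [eq_mul_inv_iff_mul_eq]
    exact (mkPerm_comp c2).symm.trans (mkPerm_comp c1)
  rw [Subgroup.mem_normalizer_iff]
  intro x
  refine ⟨hsub x, fun hx => ?_⟩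
  have himg : (listSub els h).map (MulAut.conj g.perm).toMonoidHom = listSub els h := by
    refine Subgroup.eq_of_le_of_card_ge ?_ (by
      rw [Subgroup.card_map_of_injective (f := (MulAut.conj g.perm).toMonoidHom) (MulAut.conj g.perm).injective])
    rintro _ ⟨y, hy, rfl⟩; exact hsub y hy
  rw [← himg] at hx
  obtain ⟨y, hy, e⟩ := hx
  rwa [← (MulAut.conj g.perm).injective e]

theorem le_of_check {els : List ℕ} (h : closedB els = true) {H : Subgroup (Equiv.Perm GolayPt)}
    (hH : ∀ a ∈ els, mkPerm a ∈ H) : listSub els h ≤ H := fun σ hσ => by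
  obtain ⟨a, ha, rfl⟩ := mem_listSub.1 hσ
  exact hH a ha

end CfsgLib.Spor.ListSub
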