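import Cfsg.Agent.Spor.M24Trans
import Cfsg.Prelude.Def_SporadicCombinatorics

/-!
Bridges between stabilisers inside the automorphism group of the code and ambient ones;
moving a set of at most five points.
-/

set_option autoImplicit false

namespace CfsgLib.Spor

open Cfsg
open scoped Pointwise

theorem card_stab_M24 {X : Type*} [MulAction (Equiv.Perm GolayPt) X] (x : X) :
    Nat.card (MulAction.stabilizer M24 x) =
      Nat.card ↥(M24 ⊓ MulAction.stabilizer (Equiv.Perm GolayPt) x) := by
  rw [Nat.card_congr ((MulAction.stabilizer M24 x).equivMapOfInjective M24.subtype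
    M24.subtype_injective).toEquiv]
  congr 2
  ext σ
  simp only [Subgroup.mem_map, MulAction.mem_stabilizer_iff, Subgroup.mem_inf]
  exact ⟨fun ⟨g, hg, he⟩ => he ▸ ⟨g.2, hg⟩, fun h => ⟨⟨σ, h.1⟩, h.2, rfl⟩⟩

theorem card_stab_M24_of_orbit {X : Type*} [MulAction (Equiv.Perm GolayPt) X] {x y : X} {n : ℕ}
    (hy : y ∈ MulAction.orbit M24 x) (hn : (MulAction.orbit M24 x).ncard = n)
    {c : ℕ} (hc : n * c = 244823040) (hpos : 0 < n) :
    Nat.card (MulAction.stabilizer M24 y) = c := by
  have h := ncard_orbit_mul_card (G := M24) y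
  rw [MulAction.orbit_eq_iff.2 hy, hn, card_M24, ← hc] at h
  exact Nat.eq_of_mul_eq_mul_left hpos h

theorem exists_smul_of_orbit {X : Type*} [MulAction (Equiv.Perm GolayPt) X] {x y z : X}
    (hy : y ∈ MulAction.orbit M24 x) (hz : z ∈ MulAction.orbit M24 x) :
    ∃ g : M24, g • y = z := by
  rw [← MulAction.orbit_eq_iff.2 hy] at hz
  exact hz

/-- a set of at most five points can be moved to any other of the same size -/
theorem exists_smul_finset {s t : Finset GolayPt} (h5 : s.card ≤ 5) (hst : s.card = t.card) :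
    ∃ g ∈ M24, g • s = t := by
  classical
  haveI := m24_five_transitive
  have hpre : MulAction.IsPretransitive M24 (Fin s.card ↪ GolayPt) :=
    MulAction.isMultiplyPretransitive_of_le (n := 5) h5 (by simp)
  let es : Fin s.card ↪ GolayPt := s.equivFin.symm.toEmbedding.trans (Function.Embedding.subtype _)
  let et : Fin s.card ↪ GolayPt :=
    ((finCongr hst).trans t.equivFin.symm).toEmbedding.trans (Function.Embedding.subtype _)
  obtain ⟨g, hg⟩ := hpre.exists_smul_eq es et
  refine ⟨g, g.2, Finset.eq_of_subset_of_card_le ?_ (by rw [Finset.card_smul_finset, hst])⟩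
  intro p hp
  obtain ⟨q, hq, rfl⟩ := Finset.mem_smul_finset.1 hp
  have he : es (s.equivFin ⟨q, hq⟩) = q := by simp [es]
  have h2 : (g : Equiv.Perm GolayPt) (es (s.equivFin ⟨q, hq⟩)) = et (s.equivFin ⟨q, hq⟩) :=
    DFunLike.congr_fun hg _
  rw [he] at h2
  show (g : Equiv.Perm GolayPt) q ∈ t
  rw [h2]
  exact (t.equivFin.symm _).2

theorem smul_mem_sextets {σ : Equiv.Perm GolayPt} (hσ : σ ∈ M24) {S : Finset (Finset GolayPt)}
    (hS : S ∈ sextets) : σ • S ∈ sextets := by
  obtain ⟨h1, h2, h3⟩ := hS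
  refine ⟨by rw [Finset.card_smul_finset, h1], ?_, ?_⟩
  · intro t ht
    obtain ⟨u, hu, rfl⟩ := Finset.mem_smul_finset.1 ht
    rw [card_smul_perm, h2 u hu]
  · intro t ht u hu hne
    obtain ⟨t', ht', rfl⟩ := Finset.mem_smul_finset.1 ht
    obtain ⟨u', hu', rfl⟩ := Finset.mem_smul_finset.1 hu
    rw [← Finset.smul_finset_union]
    exact smul_mem_octads hσ (h3 t' ht' u' hu' fun e => hne (by rw [e]))

theorem smul_mem_trios {σ : Equiv.Perm GolayPt} (hσ : σ ∈ M24) {T : Finset (Finset GolayPt)}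
    (hT : T ∈ trios) : σ • T ∈ trios := by
  obtain ⟨h1, h2, h3⟩ := hT
  refine ⟨by rw [Finset.card_smul_finset, h1], ?_, ?_⟩
  · intro t ht
    obtain ⟨u, hu, rfl⟩ := Finset.mem_smul_finset.1 ht
    exact smul_mem_octads hσ (h2 u hu)
  · intro t ht u hu hne
    obtain ⟨t', ht', rfl⟩ := Finset.mem_smul_finset.1 ht
    obtain ⟨u', hu', rfl⟩ := Finset.mem_smul_finset.1 hu
    rw [smul_eq_image, smul_eq_image, Finset.disjoint_image σ.injective]
    exact h3 t' ht' u' hu' fun e => hne (by rw [e])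

end CfsgLib.Spor
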