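import Cfsg.Agent.Spor.Maximal

/-!
Orbits with distinct sizes adding up to the size of an invariant set cover it.
-/

set_option autoImplicit false

namespace CfsgLib.Spor

theorem orbits_cover {G X : Type*} [Group G] [Finite G] [MulAction G X] {C : Set X}
    (hC : C.Finite) :
    ∀ (zs : List X) (ns : List ℕ), zs.map (fun z => (MulAction.orbit G z).ncard) = ns →
      (∀ z ∈ zs, MulAction.orbit G z ⊆ C) → ns.Nodup → C.ncard ≤ ns.sum →
      C = {y | ∃ z ∈ zs, y ∈ MulAction.orbit G z} := by
  intro zs ns hns hsub hnd hsum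
  have key : ∀ (l : List X), (l.map fun z => (MulAction.orbit G z).ncard).Nodup →
      {y | ∃ z ∈ l, y ∈ MulAction.orbit G z}.ncard = (l.map fun z => (MulAction.orbit G z).ncard).sum := by
    intro l
    induction l with
    | nil => intro _; simp
    | cons a l ih =>
      intro h
      rw [List.map_cons, List.nodup_cons] at h
      have e : {y | ∃ z ∈ a :: l, y ∈ MulAction.orbit G z} =
          MulAction.orbit G a ∪ {y | ∃ z ∈ l, y ∈ MulAction.orbit G z} := by
        ext y; simp
      have hdis : Disjoint (MulAction.orbit G a) {y | ∃ z ∈ l, y ∈ MulAction.orbit G z} := by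
        rw [Set.disjoint_left]
        rintro y hy ⟨z, hz, hy'⟩
        apply h.1
        refine List.mem_map.2 ⟨z, hz, ?_⟩
        rw [← MulAction.orbit_eq_iff.2 hy, ← MulAction.orbit_eq_iff.2 hy']
      have hfin : {y | ∃ z ∈ l, y ∈ MulAction.orbit G z}.Finite := by
        have e' : {y | ∃ z ∈ l, y ∈ MulAction.orbit G z} = ⋃ z ∈ {z | z ∈ l}, MulAction.orbit G z := by
          ext y; simp
        rw [e']
        exact (List.finite_toSet l).biUnion fun z _ => Set.finite_range _
      rw [e, Set.ncard_union_eq hdis (Set.finite_range _) hfin, List.map_cons, List.sum_cons,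
        ih h.2]
  subst hns
  refine (Set.eq_of_subset_of_ncard_le ?_ ?_ hC).symm
  · rintro y ⟨z, hz, hy⟩; exact hsub z hz hy
  · rw [key zs hnd]; exact hsum

/-- maximality of a stabiliser from the suborbit sizes -/
theorem isCoatom_of_sizes {G X : Type*} [Group G] [Finite G] [MulAction G X] (x : X)
    (zs : List X) (ns : List ℕ) {n : ℕ} (hn : (MulAction.orbit G x).ncard = n) (h1n : n ≠ 1)
    (hzs : ∀ z ∈ zs, z ∈ MulAction.orbit G x)
    (hns : zs.map (fun z => (MulAction.orbit (MulAction.stabilizer G x) z).ncard) = ns)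
    (hnd : (1 :: ns).Nodup) (ht : primTest n ns = true) :
    IsCoatom (MulAction.stabilizer G x) := by
  classical
  have hfin : (MulAction.orbit G x).Finite := Set.finite_range _
  have hsubG : ∀ z ∈ x :: zs, MulAction.orbit (MulAction.stabilizer G x) z ⊆ MulAction.orbit G x := by
    intro z hz
    have hz' : z ∈ MulAction.orbit G x := by
      rcases List.mem_cons.1 hz with rfl | hz
      exacts [MulAction.mem_orbit_self _, hzs z hz]
    rintro _ ⟨g, rfl⟩
    exact MulAction.mem_orbit_of_mem_orbit (g : G) hz'
  have hone : (MulAction.orbit (MulAction.stabilizer G x) x).ncard = 1 := by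
    rw [Set.ncard_eq_one]
    refine ⟨x, Set.ext fun y => ⟨?_, fun h => h ▸ MulAction.mem_orbit_self _⟩⟩
    rintro ⟨g, rfl⟩
    exact g.2
  have hsum : ns.sum + 1 = n := by
    simp only [primTest, Bool.and_eq_true, decide_eq_true_eq] at ht; exact ht.1
  have hcov := orbits_cover (G := MulAction.stabilizer G x) hfin (x :: zs) (1 :: ns)
    (by rw [List.map_cons, hone, hns]) hsubG hnd (by rw [hn, List.sum_cons]; omega)
  have hndz : ∀ {l : List X}, (l.map fun z => (MulAction.orbit (MulAction.stabilizer G x) z).ncard).Nodup →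
      (l.map fun z => (Set.finite_range fun g : MulAction.stabilizer G x => g • z).toFinset).Pairwise
        Disjoint := by
    intro l hl
    rw [List.pairwise_map]
    refine (List.pairwise_map.1 hl).imp fun {a b} hne => ?_
    rw [Finset.disjoint_left]
    intro y hy hy'
    simp only [Set.Finite.mem_toFinset] at hy hy'
    apply hne
    rw [← MulAction.orbit_eq_iff.2 (show y ∈ MulAction.orbit _ a from hy),
      ← MulAction.orbit_eq_iff.2 (show y ∈ MulAction.orbit _ b from hy')]
  refine isCoatom_stabilizer_of_suborbits x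
    (zs.map fun z => (Set.finite_range fun g : MulAction.stabilizer G x => g • z).toFinset)
    hn h1n ?_ (hndz (by rw [hns]; exact (List.nodup_cons.1 hnd).2)) ?_ ?_ ?_
  · intro O hO y hy
    obtain ⟨z, -, rfl⟩ := List.mem_map.1 hO
    simp only [Set.Finite.mem_toFinset, Set.Finite.coe_toFinset] at hy ⊢
    exact (MulAction.orbit_eq_iff.2 (show y ∈ MulAction.orbit _ z from hy)).ge
  · intro O hO hx
    obtain ⟨z, hz, rfl⟩ := List.mem_map.1 hO
    simp only [Set.Finite.mem_toFinset] at hx
    refine (List.nodup_cons.1 hnd).1 (hns ▸ List.mem_map.2 ⟨z, hz, ?_⟩)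
    rw [← MulAction.orbit_eq_iff.2 (show x ∈ MulAction.orbit _ z from hx), hone]
  · intro y hy
    rw [hcov] at hy
    obtain ⟨z, hz, hy⟩ := hy
    rcases List.mem_cons.1 hz with rfl | hz
    · obtain ⟨g, rfl⟩ := hy
      exact Or.inl g.2
    · exact Or.inr ⟨_, List.mem_map.2 ⟨z, hz, rfl⟩, by
        simp only [Set.Finite.mem_toFinset]; exact hy⟩
  · rw [List.map_map]
    have e : (zs.map (Finset.card ∘ fun z =>
        (Set.finite_range fun g : MulAction.stabilizer G x => g • z).toFinset)) = ns := by
      rw [← hns]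
      refine List.map_congr_left fun z _ => ?_
      exact (Set.ncard_eq_toFinset_card _ _).symm
    rw [e]; exact ht

end CfsgLib.Spor
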