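import Mathlib.Init

/-!
A labelling of the projective plane of order four by twenty-one Golay points.
-/

set_option autoImplicit false

namespace CfsgLib.Spor.PlaneLabel

/-- point of a coded vector -/
def lab : List Nat := [0, 2, 2, 2, 3, 17, 5, 14, 3, 14, 17, 5, 3, 5, 14, 17, 4, 13, 16, 22, 19, 6, 7, 21, 20, 10, 9, 15, 11, 8, 18, 12, 4, 22, 13, 16, 11, 12, 8, 18, 19, 21, 6, 7, 20, 15, 10, 9, 4, 16, 22, 13, 20, 9, 15, 10, 11, 18, 12, 8, 19, 7, 21, 6]

/-- coded vector of a point -/
def rep : List Nat := [0, 0, 1, 4, 16, 13, 21, 61, 29, 53, 25, 36, 37, 17, 9, 45, 49, 5, 57, 20, 52, 41, 33, 0]

/-- elementary transvections -/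
def tv : List Nat := [0, 0, 0, 0, 984818244535754528103549039458486304, 984235865005994746954145143334668320, 984202951082164080105044112956360736, 984724508489452699215480746259449888, 984818244535754528103549039458486304, 976448692869377735270425038196672544, 972512676110088067912772961567868960, 961365507626256404119956257276790816, 984818244535754528103549039458486304, 971594099268302134235014375640515616, 983560732202510771760283209707927584, 975366630392323105260605610366440480, 0, 0, 0, 0, 984818244535754528103549039458486304, 983548720921252936276249910206105632, 975346028712660580592452217730074656, 971592882964418941354553515258775584, 984818244535754528103549039458486304, 976908108085554797803774220334904352, 958572796407684634971422541721229344, 972689358314341295732538083389849632, 984818244535754528103549039458486304, 984522237791282842243827263779473440, 984370798342469428377360417207715872, 984674686509231270848998217272133664, 0, 0, 0, 0]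

end CfsgLib.Spor.PlaneLabel
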