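import Cfsg.Agent.Spor.PslElevenData
import Cfsg.Agent.Spor.ListSub

/-!
Checks for the table of 660 permutations with matrices.
-/

set_option autoImplicit false

namespace CfsgLib.Spor.PslEleven

open Cfsg CfsgLib.Spor CfsgLib.Spor.M24Elems CfsgLib.Spor.ListSub Matrix

/-- the field -/
abbrev F := ZMod 11

/-- entries of a coded matrix -/
def ent (n : ℕ) : F × F × F × F :=
  (((n / 1331 : ℕ) : F), ((n / 121 % 11 : ℕ) : F), ((n / 11 % 11 : ℕ) : F), ((n % 11 : ℕ) : F))

/-- determinant one -/
def detB (n : ℕ) : Bool :=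
  decide ((ent n).1 * (ent n).2.2.2 - (ent n).2.1 * (ent n).2.2.1 = 1)

/-- the product up to sign -/
def mulB (x y z : ℕ) : Bool :=
  let p := ent x
  let q := ent y
  let r := ent z
  let e : F × F × F × F :=
    (p.1 * q.1 + p.2.1 * q.2.2.1, p.1 * q.2.1 + p.2.1 * q.2.2.2,
      p.2.2.1 * q.1 + p.2.2.2 * q.2.2.1, p.2.2.1 * q.2.1 + p.2.2.2 * q.2.2.2)
  decide (r = e ∨ r = (-e.1, -e.2.1, -e.2.2.1, -e.2.2.2))

/-- the scalar test -/
def scalB (x : ℕ) : Bool :=
  decide ((ent x).2.1 = 0 ∧ (ent x).2.2.1 = 0 ∧ (ent x).1 = (ent x).2.2.2)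

/-- all the finite checks -/
def allB : Bool :=
  (els.length == 660) && (nxt.length == 660) && (mat.length == 660) &&
  (els.all fun a => okP a && (packL ((List.range 24).map (app a)) == a)) &&
  ((List.range 24).all fun i => app (els.getD 0 0) i == i) &&
  (mat.all detB) &&
  (List.range 660).all fun i =>
    (els.idxOf (els.getD i 0) == i) && (!scalB (mat.getD i 0) || i == 0) &&
    (List.range 4).all fun k =>
      let g := [m11Cg1, m11Cg2, m11Cg3, m11Cg4].getD k m11Cg1
      let j := (nxt.getD i []).getD k 0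
      decide (j < 660) && compB (els.getD i 0) g.P (els.getD j 0) &&
        mulB (mat.getD i 0) (mat.getD ((nxt.getD 0 []).getD k 0) 0) (mat.getD j 0)

theorem allB_eq : allB = true := by decide +kernel

end CfsgLib.Spor.PslEleven
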