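import Mathlib

/-!
Two simplicity criteria for permutation groups.
-/

set_option autoImplicit false

namespace CfsgLib.Spor.SimpleCriteria

open MulAction

variable {G X : Type*} [Group G] [Finite G] [MulAction G X] [Finite X]

/-- a non-trivial normal subgroup of a doubly transitive group is transitive -/
theorem normal_transitive [FaithfulSMul G X]
    (h2 : ∀ x y x' y' : X, x ≠ y → x' ≠ y' → ∃ g : G, g • x = x' ∧ g • y = y')
    {N : Subgroup G} (hN : N.Normal) (hb : N ≠ ⊥) (x y : X) : ∃ n ∈ N, n • x = y := by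
  obtain ⟨n, hn, hn1⟩ := (Subgroup.bot_or_exists_ne_one N).resolve_left hb
  obtain ⟨a, ha⟩ : ∃ a : X, n • a ≠ a := by
    by_contra h
    push Not at h
    exact hn1 (FaithfulSMul.eq_of_smul_eq_smul fun a => by rw [h a, one_smul])
  by_cases hxy : x = y
  · exact ⟨1, one_mem N, by rw [hxy, one_smul]⟩
  obtain ⟨g, hg1, hg2⟩ := h2 a (n • a) x y (Ne.symm ha) hxy
  refine ⟨g * n * g⁻¹, hN.conj_mem n hn g, ?_⟩
  rw [← hg1, mul_smul, mul_smul, inv_smul_smul, hg2]

/-- doubly transitive, simple point stabiliser, degree not a prime power -/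
theorem simple_of_two_transitive [FaithfulSMul G X]
    (h2 : ∀ x y x' y' : X, x ≠ y → x' ≠ y' → ∃ g : G, g • x = x' ∧ g • y = y')
    (x0 : X) (hs : IsSimpleGroup (stabilizer G x0)) (hdeg : ¬ IsPrimePow (Nat.card X))
    (h1 : 1 < Nat.card X) : IsSimpleGroup G := by
  classical
  haveI : Nontrivial G := by
    obtain ⟨a, b, hab⟩ := hs.toNontrivial
    exact ⟨a, b, fun e => hab (Subtype.ext e)⟩
  refine ⟨fun N hN => ?_⟩
  by_cases hb : N = ⊥
  · exact Or.inl hb
  right
  have htr := normal_transitive h2 hN hb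
  rcases hs.eq_bot_or_eq_top_of_normal (N.subgroupOf (stabilizer G x0)) Subgroup.normal_subgroupOf with h | h
  swap
  · have hle : stabilizer G x0 ≤ N := Subgroup.subgroupOf_eq_top.1 h
    rw [eq_top_iff]
    intro g _
    obtain ⟨n, hn, e⟩ := htr x0 (g • x0)
    have : n⁻¹ * g ∈ stabilizer G x0 := by rw [mem_stabilizer_iff, mul_smul, ← e, inv_smul_smul]
    simpa using mul_mem hn (hle this)
  exfalso
  have hfree : ∀ n ∈ N, n • x0 = x0 → n = 1 := by
    intro n hn e
    have : (⟨n, mem_stabilizer_iff.2 e⟩ : stabilizer G x0) ∈ N.subgroupOf (stabilizer G x0) := hn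
    rw [h, Subgroup.mem_bot] at this
    exact congrArg Subtype.val this
  have hbij : Function.Bijective fun n : N => (n : G) • x0 := by
    refine ⟨fun a b e => ?_, fun y => ?_⟩
    · refine Subtype.ext (inv_mul_eq_one.1 (hfree _ (mul_mem (inv_mem a.2) b.2) ?_))
      show ((a : G)⁻¹ * b) • x0 = x0
      rw [mul_smul, show (b : G) • x0 = (a : G) • x0 from e.symm, inv_smul_smul]
    · obtain ⟨n, hn, e⟩ := htr x0 y
      exact ⟨⟨n, hn⟩, e⟩
  have hcard : Nat.card N = Nat.card X := Nat.card_eq_of_bijective _ hbij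
  obtain ⟨p, hp, hpd⟩ := Nat.exists_prime_and_dvd (n := Nat.card N) (by omega)
  haveI := Fact.mk hp
  obtain ⟨a, ha⟩ := exists_prime_orderOf_dvd_card' (G := N) p hpd
  have ha1 : (a : G) • x0 ≠ x0 := fun e => by
    have : a = 1 := Subtype.ext (hfree a a.2 e)
    rw [this, orderOf_one] at ha
    exact hp.ne_one ha.symm
  have hpN : IsPGroup p N := fun b => ⟨1, by
    rw [pow_one]
    by_cases hb1 : (b : G) • x0 = x0
    · rw [show b = 1 from Subtype.ext (hfree b b.2 hb1), one_pow]
    obtain ⟨g, hg1, hg2⟩ := h2 x0 ((a : G) • x0) x0 ((b : G) • x0) (Ne.symm ha1) (Ne.symm hb1)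
    have e : b = ⟨g * a * g⁻¹, hN.conj_mem a a.2 g⟩ := hbij.1 (by
      show (b : G) • x0 = (g * a * g⁻¹) • x0
      have hg' : g⁻¹ • x0 = x0 := by rw [inv_smul_eq_iff, hg1]
      rw [mul_smul, mul_smul, hg', hg2])
    rw [e]
    apply Subtype.ext
    show (g * (a : G) * g⁻¹) ^ p = 1
    rw [conj_pow, ← SubgroupClass.coe_pow, ← ha, pow_orderOf_eq_one]
    simp⟩
  obtain ⟨k, hk⟩ := IsPGroup.iff_card.1 hpN
  apply hdeg
  rw [← hcard, hk]
  refine hp.prime.isPrimePow.pow ?_
  rintro rfl
  rw [pow_zero] at hk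
  omega

/-- the kernel of the action on the orbits bounds a centraliser -/
theorem card_centralizer_dvd [FaithfulSMul G X] {p : ℕ} [hp : Fact p.Prime] (hsq : ¬ p ^ 2 ∣ Nat.card G)
    (P : Sylow p G) (hP : Nat.card P = p) (hfree : ∀ x : X, ¬ p ∣ Nat.card (stabilizer G x)) {m : ℕ}
    (hX : Nat.card X = m * p) :
    Nat.card (Subgroup.centralizer ((P : Subgroup G) : Set G)) ∣ m.factorial * p := by
  classical
  set P' : Subgroup G := (P : Subgroup G)
  set C := Subgroup.centralizer (P' : Set G)
  let Ω := orbitRel.Quotient P' X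
  have hfix : ∀ (x : X) (a : P'), a • x = x → a = 1 := by
    intro x a e
    by_contra h1
    apply hfree x
    have ho : orderOf a = p := by
      refine orderOf_eq_prime ?_ h1
      have := pow_card_eq_one' (G := P') (x := a)
      rwa [show Nat.card P' = p from hP] at this
    have hmem : (a : G) ∈ stabilizer G x := mem_stabilizer_iff.2 e
    calc p = orderOf (⟨(a : G), hmem⟩ : stabilizer G x) := by
          rw [← ho, ← Subgroup.orderOf_coe a, ← Subgroup.orderOf_coe]
      _ ∣ _ := orderOf_dvd_natCard _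
  have hΩ : Nat.card Ω = m := by
    have hb : Function.Bijective fun z : Ω × P' => z.2 • (Quotient.out z.1 : X) := by
      refine ⟨fun z w e => ?_, fun x => ?_⟩
      · have e1 : z.1 = w.1 := by
          rw [← Quotient.out_eq z.1, ← Quotient.out_eq w.1]
          refine Quotient.sound ?_
          show Quotient.out z.1 ∈ orbit P' (Quotient.out w.1)
          exact ⟨z.2⁻¹ * w.2, by
            show (z.2⁻¹ * w.2) • _ = _
            rw [mul_smul, ← show z.2 • Quotient.out z.1 = w.2 • Quotient.out w.1 from e, inv_smul_smul]⟩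
        refine Prod.ext e1 (inv_mul_eq_one.1 (hfix (Quotient.out z.1) _ ?_))
        have e' : z.2 • Quotient.out z.1 = w.2 • Quotient.out w.1 := e
        rw [← e1] at e'
        rw [mul_smul, ← e', inv_smul_smul]
      · have := Quotient.exact (Quotient.out_eq (Quotient.mk'' x : Ω))
        obtain ⟨a, ha⟩ := (show Quotient.out (Quotient.mk'' x : Ω) ∈ orbit P' x from this)
        exact ⟨(Quotient.mk'' x, a⁻¹), by
          show a⁻¹ • _ = x
          rw [← ha, inv_smul_smul]⟩
    have := Nat.card_eq_of_bijective _ hb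
    rw [Nat.card_prod, hX, show Nat.card P' = p from hP] at this
    exact Nat.eq_of_mul_eq_mul_right hp.out.pos this
  have hcomm : ∀ c : C, ∀ a : P', ∀ x : X, (c : G) • a • x = a • (c : G) • x := by
    intro c a x
    show (c : G) • (a : G) • x = (a : G) • (c : G) • x
    rw [← mul_smul, ← mul_smul, Subgroup.mem_centralizer_iff.1 c.2 a a.2]
  have hrel : ∀ c : C, ∀ x y : X, (orbitRel P' X) x y →
      (orbitRel P' X) ((c : G) • x) ((c : G) • y) := by
    rintro c x y ⟨a, rfl⟩
    exact ⟨a, (hcomm c a y).symm⟩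
  let act : C → Ω → Ω := fun c => Quotient.map' (fun x => (c : G) • x) (hrel c)
  letI : MulAction C Ω :=
    { smul := act
      one_smul := fun q => Quotient.inductionOn' q fun x => congrArg Quotient.mk'' (one_smul G x)
      mul_smul := fun c d q => Quotient.inductionOn' q fun x => congrArg Quotient.mk'' (mul_smul (c : G) (d : G) x) }
  let χ : C →* Equiv.Perm Ω := MulAction.toPermHom C Ω
  have hker : Nat.card χ.ker ∣ p := by
    have hpg : IsPGroup p χ.ker := by
      rintro ⟨c, hc⟩
      refine ⟨1, Subtype.ext (Subtype.ext (FaithfulSMul.eq_of_smul_eq_smul (α := X) fun x => ?_))⟩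
      show ((c : G) ^ p ^ 1) • x = (1 : G) • x
      rw [pow_one, one_smul]
      have hq : (Quotient.mk'' ((c : G) • x) : Ω) = Quotient.mk'' x :=
        Equiv.Perm.congr_fun (show χ c = 1 from hc) (Quotient.mk'' x)
      obtain ⟨a, ha⟩ := (show (c : G) • x ∈ orbit P' x from Quotient.exact' hq)
      have hpow : ∀ j : ℕ, ((c : G) ^ j) • x = (a ^ j : P') • x := by
        intro j
        induction j with
        | zero => simp
        | succ j ih =>
          rw [pow_succ' (c : G), mul_smul, ih, hcomm, ← ha, ← mul_smul, ← pow_succ]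
      have ha1 : a ^ p = 1 := by rw [← show Nat.card P' = p from hP]; exact pow_card_eq_one'
      rw [hpow p, ha1, one_smul]
    obtain ⟨k, hk⟩ := IsPGroup.iff_card.1 hpg
    have hle : k ≤ 1 := by
      by_contra hk2
      exact hsq ((pow_dvd_pow p (by omega : 2 ≤ k)).trans (hk ▸ (Subgroup.card_subgroup_dvd_card χ.ker).trans
        (Subgroup.card_subgroup_dvd_card C)))
    rw [hk]
    calc p ^ k ∣ p ^ 1 := pow_dvd_pow p hle
      _ = p := pow_one p
  have hrange : Nat.card χ.range ∣ m.factorial := by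
    have h1 := Subgroup.card_subgroup_dvd_card χ.range
    rwa [Nat.card_perm, hΩ] at h1
  rw [Subgroup.card_eq_card_quotient_mul_card_subgroup χ.ker,
    Nat.card_congr (QuotientGroup.quotientKerEquivRange χ).toEquiv]
  exact mul_dvd_mul hrange hker

/-- degree a small multiple of a prime exactly dividing the order, with a prime index normaliser -/
theorem simple_of_prime_cycles [FaithfulSMul G X] {p q m : ℕ} [hp : Fact p.Prime] (hq : q.Prime)
    (htr : ∀ N : Subgroup G, N.Normal → N ≠ ⊥ → ∀ x y : X, ∃ n ∈ N, n • x = y)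
    (hX : Nat.card X = m * p) (hm : 0 < m) (hpd : p ∣ Nat.card G) (hsq : ¬ p ^ 2 ∣ Nat.card G)
    (hfree : ∀ x : X, ¬ p ∣ Nat.card (stabilizer G x)) (hne : Nat.card G ≠ p * q)
    (hd : ∀ d : ℕ, d ∣ m.factorial * (p - 1) → p * d ∣ Nat.card G →
      (Nat.card G / (p * d)) % p = 1 → d = q) :
    IsSimpleGroup G := by
  classical
  haveI : Nontrivial G := Finite.one_lt_card_iff_nontrivial.1
    (lt_of_lt_of_le hp.out.one_lt (Nat.le_of_dvd Nat.card_pos hpd))
  obtain ⟨P⟩ := (inferInstance : Nonempty (Sylow p G))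
  have hP : Nat.card P = p := by
    rw [P.card_eq_multiplicity]
    conv_rhs => rw [← pow_one p]
    congr 1
    have h1 : 1 ≤ (Nat.card G).factorization p := (hp.out.pow_dvd_iff_le_factorization Nat.card_pos.ne').1 (by simpa using hpd)
    have h2 : ¬ 2 ≤ (Nat.card G).factorization p := fun h => hsq ((hp.out.pow_dvd_iff_le_factorization Nat.card_pos.ne').2 h)
    omega
  set P' : Subgroup G := (P : Subgroup G)
  set N := Subgroup.normalizer (P' : Set G)
  set C := Subgroup.centralizer (P' : Set G)
  -- the order of the normaliser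
  have hN : Nat.card N ∣ m.factorial * p * (p - 1) := by
    have key := Subgroup.card_dvd_of_injective _ (QuotientGroup.kerLift_injective P'.normalizerMonoidHom)
    rw [Subgroup.normalizerMonoidHom_ker] at key
    haveI : IsCyclic P' := isCyclic_of_prime_card (show Nat.card P' = p from hP)
    rw [IsCyclic.card_mulAut, show Nat.card P' = p from hP, Nat.totient_prime hp.out] at key
    rw [Subgroup.card_eq_card_quotient_mul_card_subgroup (C.subgroupOf N),
      Nat.card_congr (Subgroup.subgroupOfEquivOfLe (Subgroup.centralizer_le_normalizer (P' : Set G))).toEquiv,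
      mul_comm (m.factorial * p)]
    exact mul_dvd_mul key (card_centralizer_dvd hsq P hP hfree hX)
  obtain ⟨d, hd1⟩ : p ∣ Nat.card N := (show Nat.card P' = p from hP) ▸ Subgroup.card_dvd_of_le Subgroup.le_normalizer
  have hdq : d = q := by
    refine hd d ?_ (hd1 ▸ Subgroup.card_subgroup_dvd_card N) ?_
    · rw [hd1, mul_comm m.factorial p, mul_assoc] at hN
      exact Nat.dvd_of_mul_dvd_mul_left hp.out.pos hN
    · have h1 := card_sylow_modEq_one p G
      rw [Sylow.card_eq_index_normalizer P, Nat.ModEq, Nat.one_mod_eq_one.2 hp.out.ne_one] at h1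
      rwa [← hd1, ← N.index_mul_card, Nat.mul_div_cancel _ Nat.card_pos]
  refine ⟨fun M hM => ?_⟩
  by_cases hb : M = ⊥
  · exact Or.inl hb
  right
  have hdiv : ∀ K : Subgroup G, K.Normal → K ≠ ⊥ → p ∣ Nat.card K := by
    intro K hK hKb
    haveI : Nonempty X := (Nat.card_pos_iff.1 (hX.symm ▸ Nat.mul_pos hm hp.out.pos)).1
    obtain ⟨x⟩ := (inferInstance : Nonempty X)
    have : orbit K x = Set.univ := Set.eq_univ_of_forall fun y => by
      obtain ⟨n, hn, e⟩ := htr K hK hKb x y
      exact ⟨⟨n, hn⟩, e⟩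
    have h1 : Nat.card X ∣ Nat.card K := by
      have h2 := Subgroup.index_dvd_card (stabilizer K x)
      rwa [MulAction.index_stabilizer, this, Set.ncard_univ] at h2
    exact (Dvd.intro_left m hX.symm).trans h1
  obtain ⟨Q⟩ := (inferInstance : Nonempty (Sylow p M))
  -- a Sylow subgroup of `M` is one of `G`
  have hQcard : Nat.card Q = p := by
    rw [Q.card_eq_multiplicity]
    conv_rhs => rw [← pow_one p]
    congr 1
    have h1 : 1 ≤ (Nat.card M).factorization p :=
      (hp.out.pow_dvd_iff_le_factorization Nat.card_pos.ne').1 (by simpa using hdiv M hM hb)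
    have h2 : ¬ 2 ≤ (Nat.card M).factorization p := fun h => hsq
      (((hp.out.pow_dvd_iff_le_factorization Nat.card_pos.ne').2 h).trans (Subgroup.card_subgroup_dvd_card M))
    omega
  have hPM : P' ≤ M := by
    let Q' : Sylow p G := Sylow.ofCard ((Q : Subgroup M).map M.subtype) (by
      rw [Subgroup.card_subtype, hQcard]
      conv_rhs => rw [← P.card_eq_multiplicity]
      exact hP.symm)
    obtain ⟨g, hg⟩ := MulAction.exists_smul_eq G Q' P
    intro x hx
    have hx' : x ∈ ((g • Q' : Sylow p G) : Subgroup G) := hg.symm ▸ hx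
    rw [Sylow.coe_subgroup_smul, Subgroup.mem_pointwise_smul_iff_inv_smul_mem, MulAut.smul_def,
      MulAut.inv_apply, MulAut.conj_symm_apply] at hx'
    have := hM.conj_mem _ (Subgroup.map_subtype_le _ hx') g
    simpa [mul_assoc] using this
  have hsup : N ⊔ M = ⊤ := by
    have := Sylow.normalizer_sup_eq_top' P hPM
    exact this
  have hindex : M.index = M.relIndex N := by
    rw [← Subgroup.relIndex_top_right, ← hsup, sup_comm, Subgroup.relIndex_sup_left]
  have hrel : M.relIndex N ∣ q := by
    have h1 : (N ⊓ M).relIndex N ∣ P'.relIndex N :=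
      Subgroup.relIndex_dvd_of_le_left N (le_inf Subgroup.le_normalizer hPM)
    rw [Subgroup.inf_relIndex_left] at h1
    have h2 := Subgroup.relIndex_mul_index (H := P') (K := N) Subgroup.le_normalizer
    have h3 : P'.relIndex N * p = Nat.card N := by
      rw [← (show Nat.card P' = p from hP), ← Nat.card_congr (Subgroup.subgroupOfEquivOfLe (Subgroup.le_normalizer (H := P'))).toEquiv]
      exact (P'.subgroupOf N).index_mul_card
    rw [hd1, hdq, mul_comm] at h3
    rwa [Nat.eq_of_mul_eq_mul_left hp.out.pos h3] at h1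
  rcases (Nat.dvd_prime hq).1 (hindex ▸ hrel) with h1 | h1
  · exact Subgroup.index_eq_one.1 h1
  exfalso
  -- the normaliser in `M` is `P`
  have hNM : N ⊓ M = P' := by
    refine (Subgroup.eq_of_le_of_card_ge (le_inf Subgroup.le_normalizer hPM) ?_).symm
    have h2 : (N ⊓ M).relIndex N * Nat.card ↥(N ⊓ M) = Nat.card N := by
      rw [← Nat.card_congr (Subgroup.subgroupOfEquivOfLe (inf_le_left : N ⊓ M ≤ N)).toEquiv]
      exact ((N ⊓ M).subgroupOf N).index_mul_card
    rw [Subgroup.inf_relIndex_left, ← hindex, h1, hd1, hdq, mul_comm p q] at h2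
    rw [Nat.eq_of_mul_eq_mul_left hq.pos h2]
    exact hP.ge
  let PM : Sylow p M := P.subtype hPM
  have hPMc : IsMulCommutative P' := by
    haveI : IsCyclic P' := isCyclic_of_prime_card (show Nat.card P' = p from hP)
    exact ⟨⟨fun a b => IsCyclic.commGroup.mul_comm a b⟩⟩
  have hnc : Subgroup.normalizer ((PM : Subgroup M) : Set M) ≤ Subgroup.centralizer ((PM : Subgroup M) : Set M) := by
    intro x hx
    have hxN : (x : G) ∈ N := by
      rw [Subgroup.mem_normalizer_iff] at hx
      refine Subgroup.mem_normalizer_iff.2 fun y => ⟨fun hy => ?_, fun hy => ?_⟩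
      · exact (hx ⟨y, hPM hy⟩).1 hy
      · have hyM : y ∈ M := by
          have := hM.conj_mem _ (hPM hy) (x : G)⁻¹
          simpa [mul_assoc] using this
        exact (hx ⟨y, hyM⟩).2 hy
    have hxP : (x : G) ∈ P' := hNM ▸ Subgroup.mem_inf.2 ⟨hxN, x.2⟩
    rw [Subgroup.mem_centralizer_iff]
    intro y hy
    have hyP : (y : G) ∈ P' := hy
    have : (y : G) * x = x * y := congrArg (fun z : P' => (z : G)) (mul_comm' (⟨y, hyP⟩ : P') ⟨x, hxP⟩)
    exact Subtype.ext this
  set K := (MonoidHom.transferSylow PM hnc).ker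
  have hKp : ¬ p ∣ Nat.card K := MonoidHom.not_dvd_card_ker_transferSylow PM hnc
  have hKidx : K.index = p := by
    rw [(MonoidHom.ker_transferSylow_isComplement' PM hnc).symm.index_eq_card]
    have e : Nat.card (PM : Subgroup M) = Nat.card P' := Nat.card_congr (Subgroup.subgroupOfEquivOfLe hPM).toEquiv
    rw [e]; exact hP
  -- the kernel is normal in the whole group
  have hKG : (K.map M.subtype).Normal := by
    refine ⟨fun x hx g => ?_⟩
    obtain ⟨k, hk, rfl⟩ := hx
    refine ⟨⟨g * k * g⁻¹, hM.conj_mem k k.2 g⟩, ?_, rfl⟩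
    set k' : M := ⟨g * k * g⁻¹, hM.conj_mem k k.2 g⟩
    haveI : K.Normal := MonoidHom.normal_ker _
    rw [SetLike.mem_coe, ← QuotientGroup.eq_one_iff]
    have hord : orderOf k' = orderOf k := by
      rw [← Subgroup.orderOf_coe, ← Subgroup.orderOf_coe k]
      exact (orderOf_injective (MulAut.conj g).toMonoidHom (MulAut.conj g).injective (k : G)).symm ▸ rfl
    have h2 : orderOf (k' : M ⧸ K) ∣ Nat.card K := by
      refine (orderOf_map_dvd (QuotientGroup.mk' K) k').trans (hord ▸ ?_)
      have := orderOf_dvd_natCard (⟨k, hk⟩ : K)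
      rwa [← Subgroup.orderOf_coe] at this
    have h3 : orderOf (k' : M ⧸ K) ∣ p := hKidx ▸ orderOf_dvd_natCard _
    rcases (Nat.dvd_prime hp.out).1 h3 with h4 | h4
    · exact orderOf_eq_one_iff.1 h4
    · exact absurd (h4 ▸ h2) hKp
  by_cases hKb : K.map M.subtype = ⊥
  · have hK1 : Nat.card K = 1 := by
      rw [← Subgroup.card_subtype, hKb, Subgroup.card_bot]
    have hMc : Nat.card M = p := by rw [← K.index_mul_card, hK1, mul_one, hKidx]
    exact hne (by rw [← M.index_mul_card, h1, hMc, mul_comm])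
  · have := hdiv _ hKG hKb
    rw [Subgroup.card_subtype] at this
    exact hKp this

end CfsgLib.Spor.SimpleCriteria
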