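import Cfsg.Agent.Spor.SmallSteinerData
import Cfsg.Agent.Spor.Bits
import Cfsg.Prelude.Def_Sporadic_a
import Mathlib.GroupTheory.GroupAction.MultipleTransitivity

/-!
Uniqueness of the Steiner systems S(5,6,12) and S(4,5,11) and the order of their groups.
-/

set_option autoImplicit false

namespace CfsgLib.Spor.SmallSteiner

open Cfsg
open scoped Pointwise symmDiff

variable {n t : ℕ}

/-- the set coded by a mask -/
def ofN (n m : ℕ) : Finset (Fin n) := Finset.univ.filter fun i => m.testBit i.val = true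

theorem mem_ofN {m : ℕ} {i : Fin n} : i ∈ ofN n m ↔ m.testBit i.val = true := by simp [ofN]

/-- number of members of a mask -/
def cnt (n m : ℕ) : ℕ :=
  (List.range n).countP fun i => Nat.beq (Nat.land (Nat.shiftRight m i) 1) 1

theorem bit_eq (m i : ℕ) : Nat.beq (Nat.land (Nat.shiftRight m i) 1) 1 = m.testBit i := by
  rw [Bool.eq_iff_iff, Nat.beq_eq, show Nat.land (Nat.shiftRight m i) 1 = (m >>> i) &&& 1 from rfl,
    Nat.and_one_is_mod, Nat.testBit_eq_decide_div_mod_eq, Nat.shiftRight_eq_div_pow]
  simp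

theorem cnt_eq (n m : ℕ) : cnt n m = (List.range n).countP fun i => m.testBit i := by
  simp only [cnt, bit_eq]

theorem card_ofN (n m : ℕ) : (ofN n m).card = cnt n m := by
  rw [cnt_eq, List.countP_eq_length_filter, ← List.toFinset_card_of_nodup (List.nodup_range.filter _),
    ← Finset.card_map ⟨Fin.val, Fin.val_injective⟩]
  congr 1
  ext i
  simp only [Finset.mem_map, mem_ofN, Function.Embedding.coeFn_mk, List.mem_toFinset, List.mem_filter,
    List.mem_range]
  exact ⟨fun ⟨a, ha, e⟩ => e ▸ ⟨a.2, ha⟩, fun ⟨h1, h2⟩ => ⟨⟨i, h1⟩, h2, rfl⟩⟩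

theorem ofN_inj {a b : ℕ} (ha : a < 2 ^ n) (hb : b < 2 ^ n) (h : ofN n a = ofN n b) : a = b := by
  refine Nat.eq_of_testBit_eq fun i => ?_
  by_cases hi : i < n
  · have := Finset.ext_iff.1 h ⟨i, hi⟩
    rw [mem_ofN, mem_ofN] at this
    exact Bool.eq_iff_iff.2 this
  · have hp : 2 ^ n ≤ 2 ^ i := Nat.pow_le_pow_right (by norm_num) (not_lt.1 hi)
    rw [Nat.testBit_eq_false_of_lt (lt_of_lt_of_le ha hp),
      Nat.testBit_eq_false_of_lt (lt_of_lt_of_le hb hp)]

theorem exists_mask (s : Finset (Fin n)) : ∃ m, m < 2 ^ n ∧ ofN n m = s := by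
  classical
  have hinj : Function.Injective fun m : Fin (2 ^ n) => ofN n m.val :=
    fun a b h => Fin.ext (ofN_inj a.2 b.2 h)
  have hb := (Fintype.bijective_iff_injective_and_card _).2 ⟨hinj, by simp⟩
  obtain ⟨m, hm⟩ := hb.2 s
  exact ⟨m, m.2, hm⟩

theorem ofN_lor (a b : ℕ) : ofN n (Nat.lor a b) = ofN n a ∪ ofN n b := by
  ext i
  rw [show Nat.lor a b = a ||| b from rfl, mem_ofN, Finset.mem_union, mem_ofN, mem_ofN,
    Nat.testBit_lor, Bool.or_eq_true]

theorem ofN_bit {p : ℕ} (hp : p < n) : ofN n (Nat.shiftLeft 1 p) = {⟨p, hp⟩} := by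
  ext i
  rw [show Nat.shiftLeft 1 p = 1 <<< p from rfl, mem_ofN, Nat.one_shiftLeft, Nat.testBit_two_pow,
    Finset.mem_singleton, Fin.ext_iff, decide_eq_true_eq, eq_comm]

theorem ofN_subset {a b : ℕ} (ha : a < 2 ^ n) :
    ofN n a ⊆ ofN n b ↔ Nat.land a b = a := by
  rw [show Nat.land a b = a &&& b from rfl]
  constructor
  · intro h
    refine Nat.eq_of_testBit_eq fun i => ?_
    rw [Nat.testBit_and]
    cases hA : a.testBit i
    · simp
    · have hi : i < n := by
        by_contra hc
        rw [Nat.testBit_eq_false_of_lt (lt_of_lt_of_le ha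
          (Nat.pow_le_pow_right (by norm_num) (not_lt.1 hc)))] at hA
        exact Bool.noConfusion hA
      rw [mem_ofN.1 (h (mem_ofN.2 hA : (⟨i, hi⟩ : Fin n) ∈ ofN n a))]
      rfl
  · intro h i hi
    rw [mem_ofN] at hi ⊢
    rw [← h, Nat.testBit_and, Bool.and_eq_true] at hi
    exact hi.2

/-- membership by natural number comparison -/
def memM (m : ℕ) : List ℕ → Bool
  | [] => false
  | a :: l => cond (Nat.beq a m) true (memM m l)

theorem memM_iff (m : ℕ) (l : List ℕ) : memM m l = true ↔ m ∈ l := by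
  induction l with
  | nil => simp [memM]
  | cons a l ih =>
    rw [memM]
    cases h : Nat.beq a m
    · simp only [cond_false, ih, List.mem_cons]
      refine ⟨Or.inr, fun h' => h'.resolve_left fun e => ?_⟩
      subst e
      simp at h
    · simp [Nat.eq_of_beq_eq_true h]

/-- image of a mask -/
def imgn (n P m : ℕ) : ℕ :=
  (List.range n).foldl (fun acc i => cond (Nat.beq (Nat.land (Nat.shiftRight m i) 1) 1)
    (Nat.lor acc (Nat.shiftLeft 1 (app P i))) acc) 0

/-- validity of a packed permutation -/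
def okN (n P : ℕ) : Bool :=
  (List.range n).all (fun i => Nat.blt (app P i) n) &&
    Nat.beq (imgn n P (2 ^ n - 1)) (2 ^ n - 1)

theorem testBit_imgn (n P m j : ℕ) :
    (imgn n P m).testBit j = true ↔ ∃ i < n, m.testBit i = true ∧ app P i = j := by
  have h := testBit_foldl_lor (app P) (fun i => m.testBit i) (List.range n) 0 j
  rw [imgn]
  simp only [bit_eq]
  have e : (fun (acc i : ℕ) => cond (m.testBit i) (Nat.lor acc (Nat.shiftLeft 1 (app P i))) acc) =
      fun acc i => if m.testBit i then acc ||| (1 <<< app P i) else acc := by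
    funext acc i
    cases m.testBit i <;> rfl
  rw [e, h]
  simp [and_left_comm, and_assoc]

theorem imgn_lt {n P m : ℕ} (h : okN n P = true) : imgn n P m < 2 ^ n := by
  simp only [okN, Bool.and_eq_true, List.all_eq_true, List.mem_range, Nat.blt_eq] at h
  refine Nat.lt_pow_two_of_testBit _ fun j hj => ?_
  rw [Bool.eq_false_iff]
  intro hb
  obtain ⟨i, hi, -, e⟩ := (testBit_imgn n P m j).1 hb
  have := h.1 i hi
  omega

/-- the function of a code -/
def funN (n P : ℕ) (i : Fin n) : Fin n := ⟨app P i.val % n, Nat.mod_lt _ (Fin.pos i)⟩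

theorem funN_bij {n P : ℕ} (h : okN n P = true) : Function.Bijective (funN n P) := by
  have h' := h
  simp only [okN, Bool.and_eq_true, List.all_eq_true, List.mem_range, Nat.blt_eq, Nat.beq_eq] at h
  refine Finite.surjective_iff_bijective.1 fun j => ?_
  have hj : (imgn n P (2 ^ n - 1)).testBit j.val = true := by
    rw [h.2, Nat.testBit_two_pow_sub_one]
    simp [j.2]
  obtain ⟨i, hi, -, e⟩ := (testBit_imgn n P _ _).1 hj
  exact ⟨⟨i, hi⟩, Fin.ext (by simp [funN, e, Nat.mod_eq_of_lt j.2])⟩

/-- the permutation of a code -/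
noncomputable def permN (n P : ℕ) : Equiv.Perm (Fin n) :=
  if h : okN n P = true then Equiv.ofBijective _ (funN_bij h) else 1

theorem permN_val {n P : ℕ} (h : okN n P = true) (i : Fin n) : (permN n P i).val = app P i.val := by
  have h' := h
  simp only [okN, Bool.and_eq_true, List.all_eq_true, List.mem_range, Nat.blt_eq] at h'
  simp [permN, h, funN, Nat.mod_eq_of_lt (h'.1 i.val i.2)]

theorem smul_ofN {n P : ℕ} (h : okN n P = true) (m : ℕ) :
    permN n P • ofN n m = ofN n (imgn n P m) := by
  ext j
  rw [mem_ofN, testBit_imgn, Finset.mem_smul_finset]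
  constructor
  · rintro ⟨i, hi, rfl⟩
    exact ⟨i.val, i.2, mem_ofN.1 hi, (permN_val h i).symm⟩
  · rintro ⟨i, hi, hb, e⟩
    exact ⟨⟨i, hi⟩, mem_ofN.2 hb, Fin.ext ((permN_val h ⟨i, hi⟩).trans e)⟩

/-- the system coded by a list -/
def sys (n : ℕ) (L : List ℕ) : Set (Finset (Fin n)) := {s | ∃ b ∈ L, ofN n b = s}

/-- a list is a Steiner system -/
def steinerB (n t : ℕ) (L : List ℕ) : Bool :=
  L.all (fun b => Nat.blt b (2 ^ n) && Nat.beq (cnt n b) (t + 1)) &&
    (List.range (2 ^ n)).all fun s => !Nat.beq (cnt n s) t ||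
      Nat.beq (L.countP fun b => Nat.beq (Nat.land s b) s) 1

theorem steiner_of_check {L : List ℕ} (h : steinerB n t L = true) :
    IsSteinerSystem t (t + 1) (sys n L) := by
  simp only [steinerB, Bool.and_eq_true, List.all_eq_true, Nat.beq_eq, Nat.blt_eq, List.mem_range,
    Bool.or_eq_true, Bool.not_eq_true'] at h
  refine ⟨?_, fun s hs => ?_⟩
  · rintro _ ⟨b, hb, rfl⟩
    rw [card_ofN, (h.1 b hb).2]
  obtain ⟨m, hm, rfl⟩ := exists_mask s
  rw [card_ofN] at hs
  have h1 := (h.2 m hm).resolve_left (by simp [hs])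
  rw [List.countP_eq_length_filter, List.length_eq_one_iff] at h1
  obtain ⟨b, hb⟩ := h1
  have hbm : b ∈ L ∧ Nat.beq (Nat.land m b) m = true := List.mem_filter.1 (show b ∈ L.filter fun b => Nat.beq (Nat.land m b) m by rw [hb]; simp)
  refine ⟨ofN n b, ⟨⟨b, hbm.1, rfl⟩, (ofN_subset hm).2 (Nat.eq_of_beq_eq_true hbm.2)⟩, ?_⟩
  rintro _ ⟨⟨c, hc, rfl⟩, hsub⟩
  have : c ∈ L.filter fun b => Nat.beq (Nat.land m b) m :=
    List.mem_filter.2 ⟨hc, by rw [Nat.beq_eq]; exact (ofN_subset hm).1 hsub⟩
  rw [hb, List.mem_singleton] at this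
  rw [this]

theorem eq_of_share {α : Type*} [DecidableEq α] {k : ℕ} {B : Set (Finset α)}
    (hB : IsSteinerSystem t k B) {b c : Finset α} (hb : b ∈ B) (hc : c ∈ B)
    (h : t ≤ (b ∩ c).card) : b = c := by
  obtain ⟨s, hs, hst⟩ := Finset.exists_subset_card_eq h
  obtain ⟨u, -, hu⟩ := hB.2 s hst
  exact (hu b ⟨hb, hs.trans Finset.inter_subset_left⟩).trans
    (hu c ⟨hc, hs.trans Finset.inter_subset_right⟩).symm

theorem subset_unique {α : Type*} [DecidableEq α] {k : ℕ} {B : Set (Finset α)}
    (hB : IsSteinerSystem t k B) {b c s : Finset α} (hb : b ∈ B) (hc : c ∈ B) (hs : s.card = t)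
    (hsb : s ⊆ b) (hsc : s ⊆ c) : b = c :=
  eq_of_share hB hb hc (hs.symm.le.trans (Finset.card_le_card (Finset.subset_inter hsb hsc)))

theorem system_eq {α : Type*} [DecidableEq α] {B B' : Set (Finset α)}
    (hB : IsSteinerSystem t (t + 1) B) (hB' : IsSteinerSystem t (t + 1) B') (h : B' ⊆ B) : B' = B := by
  refine Set.Subset.antisymm h fun b hb => ?_
  obtain ⟨s, hs, hst⟩ := Finset.exists_subset_card_eq (show t ≤ b.card by rw [hB.1 b hb]; omega)
  obtain ⟨u, ⟨hu, hsu⟩, -⟩ := hB'.2 s hst
  rwa [subset_unique hB hb (h hu) hst hs hsu]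

theorem steiner_image {α β : Type*} [DecidableEq β] (e : α ≃ β) {k : ℕ} {B : Set (Finset α)}
    (hB : IsSteinerSystem t k B) : IsSteinerSystem t k ((fun b => b.image e) '' B) := by
  classical
  refine ⟨?_, fun s hs => ?_⟩
  · rintro _ ⟨b, hb, rfl⟩
    rw [Finset.card_image_of_injective _ e.injective, hB.1 b hb]
  obtain ⟨u, ⟨hu, hsu⟩, huniq⟩ := hB.2 (s.image e.symm)
    (by rw [Finset.card_image_of_injective _ e.symm.injective, hs])
  refine ⟨u.image e, ⟨⟨u, hu, rfl⟩, fun x hx => ?_⟩, ?_⟩
  · exact Finset.mem_image.2 ⟨e.symm x, hsu (Finset.mem_image_of_mem _ hx), e.apply_symm_apply x⟩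
  rintro _ ⟨⟨v, hv, rfl⟩, hsv⟩
  refine congrArg (Finset.image e) (huniq v ⟨hv, fun x hx => ?_⟩)
  obtain ⟨y, hy, rfl⟩ := Finset.mem_image.1 hx
  obtain ⟨z, hz, rfl⟩ := Finset.mem_image.1 (hsv hy)
  simpa using hz

/-! ### completion certificates -/

/-- at most two members -/
def twoB (y : ℕ) : Bool :=
  !Nat.beq y 0 &&
    Nat.beq (Nat.land (Nat.land y (Nat.sub y 1)) (Nat.sub (Nat.land y (Nat.sub y 1)) 1)) 0

theorem twoB_check : (List.range 4096).all (fun y => !twoB y || Nat.ble (cnt 12 y) 2) = true := by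
  decide +kernel

/-- two masks differing in at most two places -/
def conflict (b : ℕ) : List ℕ → Bool
  | [] => false
  | c :: l => cond (twoB (Nat.xor b c)) true (conflict b l)

theorem conflict_spec {b : ℕ} : ∀ {l : List ℕ}, conflict b l = true → ∃ c ∈ l, twoB (Nat.xor b c) = true
  | [], h => by simp [conflict] at h
  | c :: l, h => by
    rw [conflict] at h
    cases e : twoB (Nat.xor b c)
    · rw [e, cond_false] at h
      obtain ⟨d, hd, h'⟩ := conflict_spec h
      exact ⟨d, List.mem_cons_of_mem _ hd, h'⟩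
    · exact ⟨c, List.mem_cons_self, e⟩

theorem no_conflict {B : Set (Finset (Fin n))} (hn : n ≤ 12) (hB : IsSteinerSystem t (t + 1) B)
    {b c : ℕ} (hb : b < 2 ^ n) (hc : c < 2 ^ n) (hbB : ofN n b ∈ B) (hcB : ofN n c ∈ B) :
    twoB (Nat.xor b c) = false := by
  rw [Bool.eq_false_iff]
  intro h
  have h' := h
  rw [twoB, Bool.and_eq_true, Bool.not_eq_true'] at h'
  have hne : b ≠ c := by
    rintro rfl
    have h1 := h'.1
    rw [show Nat.xor b b = b ^^^ b from rfl, Nat.xor_self] at h1
    exact Bool.noConfusion h1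
  have hlt : Nat.xor b c < 4096 := lt_of_lt_of_le (Nat.xor_lt_two_pow hb hc)
    (show 2 ^ n ≤ 2 ^ 12 from Nat.pow_le_pow_right (by norm_num) hn)
  have h2 := List.all_eq_true.1 twoB_check _ (List.mem_range.2 hlt)
  rw [h, Bool.not_true, Bool.false_or, Nat.ble_eq] at h2
  have hcard : (ofN n b ∆ ofN n c).card ≤ 2 := by
    have e : (ofN n b ∆ ofN n c).card = cnt n (Nat.xor b c) := by
      rw [← card_ofN]
      congr 1
      ext i
      rw [show Nat.xor b c = b ^^^ c from rfl, Finset.mem_symmDiff, mem_ofN, mem_ofN, mem_ofN,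
        Nat.testBit_xor]
      cases b.testBit i.val <;> cases c.testBit i.val <;> simp
    rw [e]
    refine le_trans ?_ h2
    rw [cnt, cnt]
    exact List.Sublist.countP_le (List.range_sublist.2 hn)
  have h3 : (ofN n b).card = t + 1 ∧ (ofN n c).card = t + 1 := ⟨hB.1 _ hbB, hB.1 _ hcB⟩
  have e1 : (ofN n b ∆ ofN n c).card + 2 * (ofN n b ∩ ofN n c).card =
      (ofN n b).card + (ofN n c).card := by
    have : ofN n b ∆ ofN n c = (ofN n b ∪ ofN n c) \ (ofN n b ∩ ofN n c) := by
      ext x; simp only [Finset.mem_symmDiff, Finset.mem_sdiff, Finset.mem_union, Finset.mem_inter]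
      tauto
    rw [this, Finset.card_sdiff_of_subset (fun x hx => Finset.mem_union_left _ (Finset.mem_inter.1 hx).1)]
    have := Finset.card_union_add_card_inter (ofN n b) (ofN n c)
    have := Finset.card_le_card (s := ofN n b ∩ ofN n c) (t := ofN n b ∪ ofN n c)
      (fun x hx => Finset.mem_union_left _ (Finset.mem_inter.1 hx).1)
    omega
  exact hne (ofN_inj hb hc (eq_of_share hB hbB hcB (by omega)))

/-- the search replay -/
def run (n t : ℕ) (L leaves : List ℕ) : ℕ → List ℕ → List ℕ → Option (List ℕ)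
  | 0, _, _ => none
  | _ + 1, [], _ => none
  | fuel + 1, s :: toks, acc =>
    cond (Nat.beq s 0)
      (match toks with
        | [] => none
        | i :: rest =>
          cond (okN n (leaves.getD i 0) &&
              L.all fun b => memM (imgn n (leaves.getD i 0) b) acc)
            (some rest) none)
      (cond (Nat.beq (cnt n s) t && Nat.blt s (2 ^ n))
        ((List.range n).foldl (fun r p => r.bind fun ts =>
          cond (Nat.beq (Nat.land (Nat.shiftRight s p) 1) 1 ||
              conflict (Nat.lor s (Nat.shiftLeft 1 p)) acc)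
            (some ts) (run n t L leaves fuel ts (Nat.lor s (Nat.shiftLeft 1 p) :: acc))) (some toks))
        none)

theorem foldl_bind_some {α β : Type*} (F : β → α → Option α) :
    ∀ (l : List β) (a : Option α) (r : α),
      l.foldl (fun o p => o.bind (F p)) a = some r → ∀ p ∈ l, ∃ x y, F p x = some y
  | [], _, _, _, p, hp => absurd hp List.not_mem_nil
  | q :: l, a, r, h, p, hp => by
    rw [List.foldl_cons] at h
    rcases List.mem_cons.1 hp with rfl | hp
    · have hsome : ∀ (l : List β) (o : Option α), o = none →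
          l.foldl (fun o p => o.bind (F p)) o = none := by
        intro l
        induction l with
        | nil => exact fun o h => h
        | cons b l ih => intro o ho; rw [List.foldl_cons]; exact ih _ (by rw [ho]; rfl)
      cases a with
      | none => rw [hsome l _ (rfl : (none : Option α).bind (F p) = none)] at h; exact absurd h (by simp)
      | some x =>
        cases e : F p x with
        | none => rw [hsome l _ (by rw [Option.bind_some, e])] at h; exact absurd h (by simp)
        | some y => exact ⟨x, y, e⟩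
    · exact foldl_bind_some F l _ r h p hp

theorem run_sound {L leaves : List ℕ} (hn : n ≤ 12) (hL : IsSteinerSystem t (t + 1) (sys n L))
    {B : Set (Finset (Fin n))} (hB : IsSteinerSystem t (t + 1) B) :
    ∀ (fuel : ℕ) (toks acc r : List ℕ), (∀ b ∈ acc, b < 2 ^ n ∧ ofN n b ∈ B) →
      run n t L leaves fuel toks acc = some r →
        ∃ σ : Equiv.Perm (Fin n), (fun b => b.image σ) '' sys n L = B
  | 0, _, _, _, _, h => by simp [run] at h
  | _ + 1, [], _, _, _, h => by simp [run] at h
  | fuel + 1, s :: toks, acc, r, hacc, h => by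
    rw [run.eq_def] at h
    simp only at h
    cases e : Nat.beq s 0 with
    | true =>
      rw [e, cond_true] at h
      cases toks with
      | nil => simp at h
      | cons i rest =>
        cases e2 : (okN n (leaves.getD i 0) && L.all fun b => memM (imgn n (leaves.getD i 0) b) acc) with
        | false => rw [List.getD_eq_getElem?_getD] at *; simp_all
        | true =>
          simp only [Bool.and_eq_true, List.all_eq_true, memM_iff] at e2
          refine ⟨permN n (leaves.getD i 0), system_eq hB (steiner_image _ hL) ?_⟩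
          rintro _ ⟨_, ⟨b, hb, rfl⟩, rfl⟩
          have := smul_ofN e2.1 b
          show (ofN n b).image (permN n (leaves.getD i 0)) ∈ B
          rw [show (ofN n b).image (permN n (leaves.getD i 0)) = permN n (leaves.getD i 0) • ofN n b
            from rfl, this]
          exact (hacc _ (e2.2 b hb)).2
    | false =>
      rw [e, cond_false] at h
      cases e2 : (Nat.beq (cnt n s) t && Nat.blt s (2 ^ n)) with
      | false => rw [e2, cond_false] at h; exact absurd h (by simp)
      | true =>
        rw [e2, cond_true] at h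
        simp only [Bool.and_eq_true, Nat.beq_eq, Nat.blt_eq] at e2
        have hs : (ofN n s).card = t := by rw [card_ofN, e2.1]
        obtain ⟨b, ⟨hb, hsb⟩, -⟩ := hB.2 _ hs
        obtain ⟨p, hp⟩ : ∃ p, b \ ofN n s = {p} := Finset.card_eq_one.1 (by
          rw [Finset.card_sdiff_of_subset hsb, hs, hB.1 b hb]; omega)
        have hpb : p ∈ b ∧ p ∉ ofN n s := Finset.mem_sdiff.1 (by rw [hp]; simp)
        have hbe : b = ofN n (Nat.lor s (Nat.shiftLeft 1 p.val)) := by
          rw [ofN_lor, ofN_bit p.2]
          refine (Finset.eq_of_subset_of_card_le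
            (Finset.union_subset hsb (Finset.singleton_subset_iff.2 hpb.1)) ?_).symm
          rw [Finset.card_union_of_disjoint (Finset.disjoint_singleton_right.2 hpb.2), hs,
            hB.1 b hb, Finset.card_singleton]
        have hlt : Nat.lor s (Nat.shiftLeft 1 p.val) < 2 ^ n :=
          Nat.or_lt_two_pow e2.2 (by
            rw [show Nat.shiftLeft 1 p.val = 1 <<< p.val from rfl, Nat.one_shiftLeft]
            exact Nat.pow_lt_pow_right (by norm_num) p.2)
        obtain ⟨x, y, hxy⟩ := foldl_bind_some (fun p ts =>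
          cond (Nat.beq (Nat.land (Nat.shiftRight s p) 1) 1 ||
              conflict (Nat.lor s (Nat.shiftLeft 1 p)) acc)
            (some ts) (run n t L leaves fuel ts (Nat.lor s (Nat.shiftLeft 1 p) :: acc)))
          _ _ _ h p.val (List.mem_range.2 p.2)
        have hc1 : Nat.beq (Nat.land (Nat.shiftRight s p.val) 1) 1 = false := by
          rw [bit_eq, Bool.eq_false_iff]
          exact fun hh => hpb.2 (mem_ofN.2 hh)
        have hc2 : conflict (Nat.lor s (Nat.shiftLeft 1 p.val)) acc = false := by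
          rw [Bool.eq_false_iff]
          intro hh
          obtain ⟨c, hc, htwo⟩ := conflict_spec hh
          rw [no_conflict hn hB hlt (hacc c hc).1 (hbe ▸ hb) (hacc c hc).2] at htwo
          exact Bool.noConfusion htwo
        rw [hc1, hc2, Bool.or_self, cond_false] at hxy
        refine run_sound hn hL hB fuel x _ y ?_ hxy
        intro c hc
        rcases List.mem_cons.1 hc with rfl | hc
        · exact ⟨hlt, hbe ▸ hb⟩
        · exact hacc c hc

/-! ### the standard systems -/

/-- the five blocks fixed by the labelling, twelve points -/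
def init12 : List ℕ := [63, 207, 783, 3087, 343]

/-- the five blocks fixed by the labelling, eleven points -/
def init11 : List ℕ := [31, 103, 391, 1543, 171]

theorem steiner12 : IsSteinerSystem 5 6 (sys 12 blocks12) :=
  steiner_of_check (by decide +kernel)

theorem steiner11 : IsSteinerSystem 4 5 (sys 11 blocks11) :=
  steiner_of_check (by decide +kernel)

theorem run12 : run 12 5 blocks12 leaf12 200 tree12 init12 = some [] := by decide +kernel

theorem run11 : run 11 4 blocks11 leaf11 200 tree11 init11 = some [] := by decide +kernel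

theorem disj_pair {α : Type*} [DecidableEq α] {S : Finset α} {p q : α} (hp : p ∉ S) (hq : q ∉ S) :
    Disjoint S {p, q} := by
  refine Finset.disjoint_left.2 fun x hx hx' => ?_
  rw [Finset.mem_insert, Finset.mem_singleton] at hx'
  rcases hx' with rfl | rfl
  · exact hp hx
  · exact hq hx

/-- the labelling: pairs through a set one smaller -/
theorem labels {α : Type*} [Fintype α] [DecidableEq α] (hα : Fintype.card α = t + 7) (ht : 2 ≤ t)
    {B : Set (Finset α)} (hB : IsSteinerSystem t (t + 1) B) :
    ∃ (K : List α) (k a b c d y z u v : α),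
      (K ++ [k, a, b, c, d, y, z, u, v]).Nodup ∧ K.length = t - 2 ∧
      (K ++ [k, a, b]).toFinset ∈ B ∧ (K ++ [k, c, d]).toFinset ∈ B ∧ (K ++ [k, y, z]).toFinset ∈ B ∧
      (K ++ [k, u, v]).toFinset ∈ B ∧ (K ++ [a, c, y]).toFinset ∈ B := by
  classical
  obtain ⟨S, -, hS⟩ := Finset.exists_subset_card_eq (s := (Finset.univ : Finset α)) (n := t - 1)
    (by rw [Finset.card_univ, hα]; omega)
  obtain ⟨k, hk⟩ := Finset.card_pos.1 (by omega : 0 < S.card)
  set K := (S.erase k).toList with hK
  have hKl : K.length = t - 2 := by rw [hK, Finset.length_toList, Finset.card_erase_of_mem hk, hS]; omega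
  have hKS : ∀ l : List α, (K ++ k :: l).toFinset = S ∪ l.toFinset := by
    intro l
    ext x
    simp only [hK, List.mem_toFinset, List.mem_append, Finset.mem_toList, Finset.mem_erase,
      List.mem_cons, Finset.mem_union]
    by_cases hx : x = k
    · subst hx; simp [hk]
    · simp [hx]
  have partner : ∀ p, p ∉ S → ∃ q, q ∉ S ∧ q ≠ p ∧ S ∪ {p, q} ∈ B := by
    intro p hp
    obtain ⟨w, ⟨hw, hsub⟩, -⟩ := hB.2 (insert p S) (by rw [Finset.card_insert_of_notMem hp, hS]; omega)
    obtain ⟨q, hq⟩ : ∃ q, w \ insert p S = {q} := Finset.card_eq_one.1 (by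
      rw [Finset.card_sdiff_of_subset hsub, hB.1 w hw, Finset.card_insert_of_notMem hp, hS]; omega)
    have hq' : q ∈ w ∧ q ∉ insert p S := Finset.mem_sdiff.1 (by rw [hq]; simp)
    rw [Finset.mem_insert, not_or] at hq'
    refine ⟨q, hq'.2.2, hq'.2.1, ?_⟩
    convert hw using 1
    refine Finset.eq_of_subset_of_card_le ?_ ?_
    · intro x hx
      simp only [Finset.mem_union, Finset.mem_insert, Finset.mem_singleton] at hx
      rcases hx with h | rfl | rfl
      · exact hsub (Finset.mem_insert_of_mem h)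
      · exact hsub (Finset.mem_insert_self _ _)
      · exact hq'.1
    · rw [hB.1 w hw, Finset.card_union_of_disjoint, Finset.card_pair (Ne.symm hq'.2.1), hS]
      · omega
      · exact disj_pair hp hq'.2.2
  have meet : ∀ {p q p' q' : α}, p ∉ S → S ∪ {p, q} ∈ B → S ∪ {p', q'} ∈ B → p ∈ ({p', q'} : Finset α) →
      S ∪ {p, q} = S ∪ {p', q'} := by
    intro p q p' q' hp h1 h2 hpm
    refine subset_unique hB h1 h2 (s := insert p S) ?_ ?_ ?_
    · rw [Finset.card_insert_of_notMem hp, hS]; omega
    · intro x hx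
      rcases Finset.mem_insert.1 hx with rfl | hx
      · simp
      · exact Finset.mem_union_left _ hx
    · intro x hx
      rcases Finset.mem_insert.1 hx with rfl | hx
      · exact Finset.mem_union_right _ hpm
      · exact Finset.mem_union_left _ hx
  have fresh : ∀ {p q p' q' : α}, p ∉ S → q ∉ S → S ∪ {p, q} ∈ B → S ∪ {p', q'} ∈ B →
      p ∉ ({p', q'} : Finset α) → q ∉ ({p', q'} : Finset α) := by
    intro p q p' q' hp hq h1 h2 hpn hqm
    rw [Finset.pair_comm] at h1
    have e := meet hq h1 h2 hqm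
    have : p ∈ S ∪ {p', q'} := e ▸ (by simp : p ∈ S ∪ {q, p})
    rcases Finset.mem_union.1 this with h | h
    · exact hp h
    · exact hpn h
  have pick : ∀ T : Finset α, T.card < t + 7 → ∃ p, p ∉ T := by
    intro T hT
    by_contra h
    push Not at h
    rw [Finset.eq_univ_iff_forall.2 h, Finset.card_univ, hα] at hT
    omega
  obtain ⟨a, ha⟩ := pick S (by omega)
  obtain ⟨b, hb, hba, hab⟩ := partner a ha
  obtain ⟨c, hc0⟩ := pick (S ∪ {a, b}) (by
    have := Finset.card_union_le S {a, b}
    have := Finset.card_le_two (a := a) (b := b)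
    omega)
  rw [Finset.mem_union, not_or] at hc0
  obtain ⟨hc, hcab⟩ := hc0
  obtain ⟨d, hd, hdc, hcd⟩ := partner c hc
  have hdab := fresh hc hd hcd hab hcab
  simp only [Finset.mem_insert, Finset.mem_singleton, not_or] at hcab hdab
  -- the fifth block
  have hSk : (S.erase k).card = t - 2 := by rw [Finset.card_erase_of_mem hk, hS]; omega
  have hT : (S.erase k ∪ {a, c}).card = t := by
    rw [Finset.card_union_of_disjoint, Finset.card_pair (Ne.symm hcab.1), hSk]
    · omega
    · exact (disj_pair ha hc).mono_left (Finset.erase_subset _ _)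
  obtain ⟨w, ⟨hw, hwsub⟩, -⟩ := hB.2 _ hT
  obtain ⟨y, hy⟩ : ∃ y, w \ (S.erase k ∪ {a, c}) = {y} := Finset.card_eq_one.1 (by
    rw [Finset.card_sdiff_of_subset hwsub, hB.1 w hw, hT]; omega)
  have hy' : y ∈ w ∧ y ∉ S.erase k ∪ {a, c} := Finset.mem_sdiff.1 (by rw [hy]; simp)
  simp only [Finset.mem_union, Finset.mem_insert, Finset.mem_singleton, not_or, Finset.mem_erase] at hy'
  obtain ⟨hyw, hyS0, hya, hyc⟩ := hy'
  have hwe : w = S.erase k ∪ {a, c, y} := by
    refine (Finset.eq_of_subset_of_card_le ?_ ?_).symm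
    · intro x hx
      simp only [Finset.mem_union, Finset.mem_insert, Finset.mem_singleton] at hx
      rcases hx with h | rfl | rfl | rfl
      · exact hwsub (Finset.mem_union_left _ h)
      · exact hwsub (by simp)
      · exact hwsub (by simp)
      · exact hyw
    · rw [hB.1 w hw, show S.erase k ∪ {a, c, y} = insert y (S.erase k ∪ {a, c}) by
        ext x; simp; tauto, Finset.card_insert_of_notMem, hT]
      simp [hya, hyc, hyS0]
  have hyS : y ∉ S := by
    intro h
    have hyk : y = k := by_contra fun e => hyS0 ⟨e, h⟩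
    have e := subset_unique hB hw hab (s := insert a S)
      (by rw [Finset.card_insert_of_notMem ha, hS]; omega)
      (by
        intro x hx
        rw [hwe]
        rcases Finset.mem_insert.1 hx with rfl | hx
        · simp
        · by_cases hxk : x = k
          · subst hxk; simp [hyk]
          · simp [hxk, hx])
      (by
        intro x hx
        rcases Finset.mem_insert.1 hx with rfl | hx
        · simp
        · exact Finset.mem_union_left _ hx)
    have : c ∈ S ∪ {a, b} := e ▸ (by rw [hwe]; simp : c ∈ w)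
    simp [hc, hcab.1, hcab.2] at this
  have hk' : k ∉ w := by
    rw [hwe]
    simp only [Finset.mem_union, Finset.mem_erase, ne_eq, not_true, false_and, Finset.mem_insert,
      Finset.mem_singleton, false_or, not_or]
    exact ⟨fun e => ha (e ▸ hk), fun e => hc (e ▸ hk), fun e => hyS (e ▸ hk)⟩
  have hyb : y ≠ b := by
    rintro rfl
    have e := subset_unique hB hw hab (s := S.erase k ∪ {a, y})
      (by
        rw [Finset.card_union_of_disjoint, Finset.card_pair (Ne.symm hba), hSk]
        · omega
        · exact (disj_pair ha hb).mono_left (Finset.erase_subset _ _))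
      (by rw [hwe]; intro x; simp; tauto) (by intro x; simp; tauto)
    exact hk' (e ▸ Finset.mem_union_left _ hk)
  have hyd : y ≠ d := by
    rintro rfl
    have e := subset_unique hB hw hcd (s := S.erase k ∪ {c, y})
      (by
        rw [Finset.card_union_of_disjoint, Finset.card_pair (Ne.symm hdc), hSk]
        · omega
        · exact (disj_pair hc hd).mono_left (Finset.erase_subset _ _))
      (by rw [hwe]; intro x; simp; tauto) (by intro x; simp; tauto)
    exact hk' (e ▸ Finset.mem_union_left _ hk)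
  obtain ⟨z, hz, hzy, hyz⟩ := partner y hyS
  have hzab := fresh hyS hz hyz hab (by simp [hya, hyb])
  have hzcd := fresh hyS hz hyz hcd (by simp [hyc, hyd])
  simp only [Finset.mem_insert, Finset.mem_singleton, not_or] at hzab hzcd
  obtain ⟨u, hu0⟩ := pick (S ∪ {a, b, c, d, y, z}) (by
    refine lt_of_le_of_lt (Finset.card_union_le _ _) ?_
    have h6 : ({a, b, c, d, y, z} : Finset α).card ≤ 6 := Finset.card_le_six
    omega)
  simp only [Finset.mem_union, Finset.mem_insert, Finset.mem_singleton, not_or] at hu0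
  obtain ⟨hu, hua, hub, huc, hud, huy, huz⟩ := hu0
  obtain ⟨v, hv, hvu, huv⟩ := partner u hu
  have hvab := fresh hu hv huv hab (by simp [hua, hub])
  have hvcd := fresh hu hv huv hcd (by simp [huc, hud])
  have hvyz := fresh hu hv huv hyz (by simp [huy, huz])
  simp only [Finset.mem_insert, Finset.mem_singleton, not_or] at hvab hvcd hvyz
  have hblk : ∀ p q : α, S ∪ {p, q} ∈ B → (K ++ [k, p, q]).toFinset ∈ B := by
    intro p q h
    rw [hKS]
    convert h using 2
    ext x; simp
  refine ⟨K, k, a, b, c, d, y, z, u, v, ?_, hKl, hblk a b hab, hblk c d hcd, hblk y z hyz,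
    hblk u v huv, ?_⟩
  · rw [List.nodup_append]
    refine ⟨Finset.nodup_toList _, ?_, ?_⟩
    · simp only [List.nodup_cons, List.mem_cons, List.not_mem_nil, or_false, not_or, not_false_eq_true,
        List.nodup_nil, and_true]
      refine ⟨⟨?_, ?_, ?_, ?_, ?_, ?_, ?_, ?_⟩, ⟨Ne.symm hba, Ne.symm hcab.1, Ne.symm hdab.1,
        Ne.symm hya, Ne.symm hzab.1, Ne.symm hua, Ne.symm hvab.1⟩, ⟨Ne.symm hcab.2, Ne.symm hdab.2,
        Ne.symm hyb, Ne.symm hzab.2, Ne.symm hub, Ne.symm hvab.2⟩, ⟨Ne.symm hdc, Ne.symm hyc,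
        Ne.symm hzcd.1, Ne.symm huc, Ne.symm hvcd.1⟩, ⟨Ne.symm hyd, Ne.symm hzcd.2, Ne.symm hud,
        Ne.symm hvcd.2⟩, ⟨Ne.symm hzy, Ne.symm huy, Ne.symm hvyz.1⟩, ⟨Ne.symm huz, Ne.symm hvyz.2⟩,
        Ne.symm hvu⟩
      · exact fun e => ha (e ▸ hk)
      · exact fun e => hb (e ▸ hk)
      · exact fun e => hc (e ▸ hk)
      · exact fun e => hd (e ▸ hk)
      · exact fun e => hyS (e ▸ hk)
      · exact fun e => hz (e ▸ hk)
      · exact fun e => hu (e ▸ hk)
      · exact fun e => hv (e ▸ hk)
    · intro x hx y' hy'' e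
      subst e
      rw [hK, Finset.mem_toList, Finset.mem_erase] at hx
      simp only [List.mem_cons, List.not_mem_nil, or_false] at hy''
      rcases hy'' with rfl | rfl | rfl | rfl | rfl | rfl | rfl | rfl | rfl
      · exact hx.1 rfl
      · exact ha hx.2
      · exact hb hx.2
      · exact hc hx.2
      · exact hd hx.2
      · exact hyS hx.2
      · exact hz hx.2
      · exact hu hx.2
      · exact hv hx.2
  · convert hw using 1
    rw [hwe]
    ext x
    simp [hK]

theorem iso_of_labels {α : Type*} [Fintype α] [DecidableEq α] {B : Set (Finset α)}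
    (hB : IsSteinerSystem t (t + 1) B) {L leaves toks init : List ℕ} (hn : n ≤ 12)
    (hL : IsSteinerSystem t (t + 1) (sys n L)) {fuel : ℕ}
    (hrun : run n t L leaves fuel toks init = some []) (hlt : init.all (fun b => Nat.blt b (2 ^ n)) = true)
    (e : α ≃ Fin n) (hinit : ∀ b ∈ init, (ofN n b).image e.symm ∈ B) :
    ∃ f : α ≃ Fin n, (fun b => b.image f) '' B = sys n L := by
  obtain ⟨σ, hσ⟩ := run_sound hn hL (steiner_image e hB) fuel toks init [] (fun b hb => by
    refine ⟨by simpa [Nat.blt_eq] using List.all_eq_true.1 hlt b hb, _, hinit b hb, ?_⟩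
    show ((ofN n b).image e.symm).image e = _
    rw [Finset.image_image, Equiv.self_comp_symm, Finset.image_id]) hrun
  refine ⟨e.trans σ.symm, ?_⟩
  have h2 : (fun b => b.image (e.trans σ.symm)) '' B =
      (fun b => b.image σ.symm) '' ((fun b => b.image e) '' B) := by
    rw [Set.image_image]
    refine Set.image_congr fun b _ => ?_
    rw [Finset.image_image]; rfl
  rw [h2, ← hσ, Set.image_image]
  conv_rhs => rw [← Set.image_id (sys n L)]
  refine Set.image_congr fun b _ => ?_
  rw [Finset.image_image, Equiv.symm_comp_self, Finset.image_id]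
  rfl

theorem unique12 {α : Type*} [Fintype α] [DecidableEq α] (hα : Fintype.card α = 12)
    {B : Set (Finset α)} (hB : IsSteinerSystem 5 6 B) :
    ∃ f : α ≃ Fin 12, (fun b => b.image f) '' B = sys 12 blocks12 := by
  obtain ⟨K, k, a, b, c, d, y, z, u, v, hnd, hK, h1, h2, h3, h4, h5⟩ := labels (t := 5) hα (by norm_num) hB
  obtain ⟨x0, x1, x2, rfl⟩ := List.length_eq_three.1 hK
  let g : Fin 12 → α := ![x0, x1, x2, k, a, b, c, d, y, z, u, v]
  have hg : Function.Injective g := List.nodup_ofFn.1 (by simpa [g, List.ofFn_succ] using hnd)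
  let e : Fin 12 ≃ α := Equiv.ofBijective g
    ((Fintype.bijective_iff_injective_and_card g).2 ⟨hg, by simp [hα]⟩)
  refine iso_of_labels hB le_rfl steiner12 run12 (by decide +kernel) e.symm ?_
  have hm : ∀ b : ℕ, ∀ s : List (Fin 12), ofN 12 b = s.toFinset →
      (ofN 12 b).image e.symm.symm = (s.map g).toFinset := by
    intro b s h
    rw [h]
    ext x
    simp [e]
  intro m hm'
  simp only [init12, List.mem_cons, List.not_mem_nil, or_false] at hm'
  rcases hm' with rfl | rfl | rfl | rfl | rfl
  · rw [hm 63 [0, 1, 2, 3, 4, 5] (by decide +kernel)]; exact h1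
  · rw [hm 207 [0, 1, 2, 3, 6, 7] (by decide +kernel)]; exact h2
  · rw [hm 783 [0, 1, 2, 3, 8, 9] (by decide +kernel)]; exact h3
  · rw [hm 3087 [0, 1, 2, 3, 10, 11] (by decide +kernel)]; exact h4
  · rw [hm 343 [0, 1, 2, 4, 6, 8] (by decide +kernel)]; exact h5

theorem unique11 {α : Type*} [Fintype α] [DecidableEq α] (hα : Fintype.card α = 11)
    {B : Set (Finset α)} (hB : IsSteinerSystem 4 5 B) :
    ∃ f : α ≃ Fin 11, (fun b => b.image f) '' B = sys 11 blocks11 := by
  obtain ⟨K, k, a, b, c, d, y, z, u, v, hnd, hK, h1, h2, h3, h4, h5⟩ := labels (t := 4) hα (by norm_num) hB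
  obtain ⟨x0, x1, rfl⟩ := List.length_eq_two.1 hK
  let g : Fin 11 → α := ![x0, x1, k, a, b, c, d, y, z, u, v]
  have hg : Function.Injective g := List.nodup_ofFn.1 (by simpa [g, List.ofFn_succ] using hnd)
  let e : Fin 11 ≃ α := Equiv.ofBijective g
    ((Fintype.bijective_iff_injective_and_card g).2 ⟨hg, by simp [hα]⟩)
  refine iso_of_labels hB (by norm_num) steiner11 run11 (by decide +kernel) e.symm ?_
  have hm : ∀ b : ℕ, ∀ s : List (Fin 11), ofN 11 b = s.toFinset →
      (ofN 11 b).image e.symm.symm = (s.map g).toFinset := by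
    intro b s h
    rw [h]
    ext x
    simp [e]
  intro m hm'
  simp only [init11, List.mem_cons, List.not_mem_nil, or_false] at hm'
  rcases hm' with rfl | rfl | rfl | rfl | rfl
  · rw [hm 31 [0, 1, 2, 3, 4] (by decide +kernel)]; exact h1
  · rw [hm 103 [0, 1, 2, 5, 6] (by decide +kernel)]; exact h2
  · rw [hm 391 [0, 1, 2, 7, 8] (by decide +kernel)]; exact h3
  · rw [hm 1543 [0, 1, 2, 9, 10] (by decide +kernel)]; exact h4
  · rw [hm 171 [0, 1, 3, 5, 7] (by decide +kernel)]; exact h5

theorem iso_comp {α β : Type*} [DecidableEq α] [DecidableEq β] {m : ℕ} {B : Set (Finset α)}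
    {B' : Set (Finset β)} {S : Set (Finset (Fin m))} (f : α ≃ Fin m) (g : β ≃ Fin m)
    (hf : (fun b => b.image f) '' B = S) (hg : (fun b => b.image g) '' B' = S) :
    SetSystemIso B B' := by
  refine ⟨f.trans g.symm, ?_⟩
  have : (fun b => b.image (f.trans g.symm)) '' B =
      (fun b => b.image g.symm) '' ((fun b => b.image f) '' B) := by
    rw [Set.image_image]
    refine Set.image_congr fun b _ => ?_
    rw [Finset.image_image]; rfl
  rw [this, hf, ← hg, Set.image_image]
  conv_rhs => rw [← Set.image_id B']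
  refine Set.image_congr fun b _ => ?_
  rw [Finset.image_image, Equiv.symm_comp_self, Finset.image_id]
  rfl

end CfsgLib.Spor.SmallSteiner
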