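import Cfsg.Agent.Spor.Totals
import Cfsg.Agent.Spor.OrbitSizes

/-!
Exact suborbits of a certified stabiliser.
-/

set_option autoImplicit false

namespace CfsgLib.Spor

open Cfsg
open scoped Pointwise

variable {α β X Y : Type} [MulAction (Equiv.Perm GolayPt) X] [MulAction (Equiv.Perm GolayPt) Y]

theorem gtGroup_le_stab {P : Kind β Y} {y : β} {st : List Level}
    (hp : ((chainTop st).all fun g => g.ok && (inM24 g.P && P.fixB g y)) = true) :
    gtGroup (chainTop st) ≤ M24 ⊓ MulAction.stabilizer (Equiv.Perm GolayPt) (P.dec y) := by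
  refine gtGroup_le fun g hg => ?_
  have h := List.all_eq_true.1 hp g hg
  simp only [Bool.and_eq_true] at h
  exact Subgroup.mem_inf.2 ⟨mkPerm_mem_M24 h.2.1,
    MulAction.mem_stabilizer_iff.2 (P.hfix g h.1 y h.2.2)⟩

theorem exact_sub [DecidableEq X] (K : Kind α X) (P : Kind β Y) {y : β} {gs : List GT}
    (hst : M24 ⊓ MulAction.stabilizer (Equiv.Perm GolayPt) (P.dec y) = gtGroup gs)
    {a : α} {toks : List ℕ} {st : List Level} {n o : ℕ}
    (h1 : K.orbOK gs a toks = true) (h2 : K.stabOK a st = true)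
    (hp : ((chainTop st).all fun g => g.ok && (inM24 g.P && P.fixB g y)) = true)
    (hn : toks.length + 1 = n) (ho : chainSize st = o)
    (hcard : Nat.card (gtGroup gs) = n * o) :
    gtGroup gs ⊓ MulAction.stabilizer (Equiv.Perm GolayPt) (K.dec a) = gtGroup (chainTop st) ∧
      Nat.card (gtGroup (chainTop st)) = o ∧
      (MulAction.orbit (gtGroup gs) (K.dec a)).ncard = n := by
  have hsub : gtGroup (chainTop st) ≤ gtGroup gs := hst ▸ gtGroup_le_stab hp
  obtain ⟨e1, e2, e3, -⟩ := Kind.exact K h1 h2 le_rfl hsub (by rw [hcard, hn, ho])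
  obtain ⟨hnd, hc, -⟩ := K.orb_facts h1
  refine ⟨e1, e2.trans ho, ?_⟩
  rw [e3, ← List.coe_toFinset, Set.ncard_coe_finset, hc, hn]

theorem orbit_sub_subset {K : Kind α X} (T : Total K) {H : Subgroup (Equiv.Perm GolayPt)}
    (hH : H ≤ M24) {z : X} (hz : z ∈ T.carrier) : MulAction.orbit H z ⊆ T.carrier := by
  rintro _ ⟨g, rfl⟩
  exact T.smul_mem g (hH g.2) z hz

end CfsgLib.Spor
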