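import Cfsg.Agent.Spor.SubStd

/-!
An invariant separating suborbits determines the suborbit.
-/

set_option autoImplicit false

namespace CfsgLib.Spor

open Cfsg
open scoped Pointwise

theorem same_orbit_of_inv {G X β : Type*} [Group G] [MulAction G X] {C : Set X} (zs : List X)
    (hC : C = {y | ∃ z ∈ zs, y ∈ MulAction.orbit G z}) (f : X → β)
    (hf : ∀ (g : G) (x : X), f (g • x) = f x) (hnd : (zs.map f).Nodup) {x y : X}
    (hx : x ∈ C) (hy : y ∈ C) (h : f x = f y) : y ∈ MulAction.orbit G x := by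
  rw [hC] at hx hy
  obtain ⟨z, hz, hxz⟩ := hx
  obtain ⟨w, hw, hyw⟩ := hy
  have hfx : f x = f z := by obtain ⟨g, rfl⟩ := hxz; exact hf g z
  have hfy : f y = f w := by obtain ⟨g, rfl⟩ := hyw; exact hf g w
  have e : z = w := List.inj_on_of_nodup_map hnd hz hw (by rw [← hfx, ← hfy, h])
  subst e
  rw [MulAction.orbit_eq_iff.2 hxz]; exact hyw

theorem mem_rep_of_inv {G X β : Type*} [Group G] [MulAction G X] {C : Set X} (zs : List X)
    (hC : C = {y | ∃ z ∈ zs, y ∈ MulAction.orbit G z}) (f : X → β)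
    (hf : ∀ (g : G) (x : X), f (g • x) = f x) (hnd : (zs.map f).Nodup) {x z : X}
    (hx : x ∈ C) (hz : z ∈ zs) (h : f x = f z) : x ∈ MulAction.orbit G z := by
  refine same_orbit_of_inv zs hC f hf hnd ?_ hx h.symm
  rw [hC]; exact ⟨z, hz, MulAction.mem_orbit_self z⟩

theorem inter_smul_card (g : Equiv.Perm GolayPt) (s t : Finset GolayPt) :
    (g • s ∩ g • t).card = (s ∩ t).card := by
  rw [← smul_inter_perm, card_smul_perm]

theorem inter_card_invariant {s : Finset GolayPt} {gs : List GT} {H : Subgroup (Equiv.Perm GolayPt)}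
    (hst : H ⊓ MulAction.stabilizer (Equiv.Perm GolayPt) s = gtGroup gs) (g : gtGroup gs)
    (x : Finset GolayPt) : (s ∩ g • x).card = (s ∩ x).card := by
  have hm : (g : Equiv.Perm GolayPt) ∈ H ⊓ MulAction.stabilizer (Equiv.Perm GolayPt) s :=
    hst.symm ▸ g.2
  have hs : (g : Equiv.Perm GolayPt) • s = s := MulAction.mem_stabilizer_iff.1 (Subgroup.mem_inf.1 hm).2
  conv_lhs => rw [← hs]
  exact inter_smul_card _ s x

theorem maskInter_card (a b : ℕ) : (ofMask a ∩ ofMask b).card = pop (a &&& b) := by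
  rw [← ofMask_and, card_ofMask]

/-- moving a pair of subsets with the first one fixed -/
theorem move_pair {C : Set (Finset GolayPt)} (hC : ∀ g ∈ M24, ∀ x ∈ C, g • x ∈ C)
    {s₀ : Finset GolayPt} {gs : List GT}
    (hst : M24 ⊓ MulAction.stabilizer (Equiv.Perm GolayPt) s₀ = gtGroup gs)
    (zs : List (Finset GolayPt))
    (hcov : C = {y | ∃ z ∈ zs, y ∈ MulAction.orbit (gtGroup gs) z})
    (hnd : (zs.map fun z => (s₀ ∩ z).card).Nodup)
    {σ : Equiv.Perm GolayPt} (hσ : σ ∈ M24) {x y : Finset GolayPt} (hx : x ∈ C) (hy : y ∈ C)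
    (h : (σ • s₀ ∩ x).card = (σ • s₀ ∩ y).card) :
    ∃ g ∈ M24, g • σ • s₀ = σ • s₀ ∧ g • x = y := by
  have e : ∀ u : Finset GolayPt, (s₀ ∩ σ⁻¹ • u).card = (σ • s₀ ∩ u).card := by
    intro u
    rw [← inter_smul_card σ s₀ (σ⁻¹ • u), smul_inv_smul]
  obtain ⟨g, hg⟩ := same_orbit_of_inv zs hcov (fun z => (s₀ ∩ z).card) (inter_card_invariant hst)
    hnd (hC _ (inv_mem hσ) x hx) (hC _ (inv_mem hσ) y hy) (by simpa [e] using h)
  have hgM : (g : Equiv.Perm GolayPt) ∈ M24 ⊓ MulAction.stabilizer (Equiv.Perm GolayPt) s₀ :=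
    hst.symm ▸ g.2
  obtain ⟨hg1, hg2⟩ := Subgroup.mem_inf.1 hgM
  refine ⟨σ * g * σ⁻¹, mul_mem (mul_mem hσ hg1) (inv_mem hσ), ?_, ?_⟩
  · rw [mul_smul, mul_smul, inv_smul_smul, MulAction.mem_stabilizer_iff.1 hg2]
  · rw [mul_smul, mul_smul]
    have hg' : (g : Equiv.Perm GolayPt) • σ⁻¹ • x = σ⁻¹ • y := hg
    rw [hg', smul_inv_smul]

theorem card_stab_inf_std {X : Type} [MulAction (Equiv.Perm GolayPt) X] {y : X} {gs : List GT}
    (hst : M24 ⊓ MulAction.stabilizer (Equiv.Perm GolayPt) y = gtGroup gs)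
    {σ : Equiv.Perm GolayPt} (hσ : σ ∈ M24) {x z : X}
    (hxz : σ⁻¹ • x ∈ MulAction.orbit (gtGroup gs) z) {n o : ℕ}
    (hn : (MulAction.orbit (gtGroup gs) z).ncard = n) (hcard : Nat.card (gtGroup gs) = n * o)
    (hpos : 0 < n) :
    Nat.card ↥(MulAction.stabilizer M24 (σ • y) ⊓ MulAction.stabilizer M24 x) = o := by
  have h1 := ncard_orbit_mul_card (G := MulAction.stabilizer M24 (σ • y)) x
  have h2 : (MulAction.orbit (MulAction.stabilizer M24 (σ • y)) x).ncard = n := by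
    rw [show x = σ • σ⁻¹ • x from (smul_inv_smul σ x).symm, ncard_orbit_stab_std hσ hst,
      MulAction.orbit_eq_iff.2 hxz, hn]
  have h3 : Nat.card (MulAction.stabilizer M24 (σ • y)) = n * o := by
    rw [← hcard]
    have h4 := ncard_orbit_mul_card (G := M24) (σ • y)
    have h5 := ncard_orbit_mul_card (G := M24) y
    have e : MulAction.orbit M24 (σ • y) = MulAction.orbit M24 y :=
      MulAction.orbit_eq_iff.2 ⟨⟨σ, hσ⟩, rfl⟩
    rw [e] at h4
    rw [card_stab_M24 y, hst] at h5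
    exact Nat.eq_of_mul_eq_mul_left ((Set.ncard_pos (Set.finite_range _)).2
      ⟨y, MulAction.mem_orbit_self y⟩) (h4.trans h5.symm)
  rw [h2, h3] at h1
  have h6 : Nat.card (MulAction.stabilizer (MulAction.stabilizer M24 (σ • y)) x) =
      Nat.card ↥(MulAction.stabilizer M24 (σ • y) ⊓ MulAction.stabilizer M24 x) :=
    Nat.card_congr
      { toFun := fun k => ⟨k.1.1, k.1.2, k.2⟩
        invFun := fun k => ⟨⟨k.1, k.2.1⟩, k.2.2⟩
        left_inv := fun _ => rfl
        right_inv := fun _ => rfl }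
  rw [h6] at h1
  exact Nat.eq_of_mul_eq_mul_left hpos h1

end CfsgLib.Spor
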