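import Cfsg.Agent.Spor.SubInv

/-!
Covering by orbits separated by an invariant; fibres of the invariant.
-/

set_option autoImplicit false

namespace CfsgLib.Spor

open Cfsg
open scoped Pointwise

theorem orbits_cover_inv {G X β : Type*} [Group G] [MulAction G X] {C : Set X} (hC : C.Finite)
    (zs : List X) (ns : List ℕ) (f : X → β) (hf : ∀ (g : G) (x : X), f (g • x) = f x)
    (hnd : (zs.map f).Nodup) (hns : zs.map (fun z => (MulAction.orbit G z).ncard) = ns)
    (hsub : ∀ z ∈ zs, MulAction.orbit G z ⊆ C) (hsum : C.ncard ≤ ns.sum) :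
    C = {y | ∃ z ∈ zs, y ∈ MulAction.orbit G z} := by
  have key : ∀ (l : List X), (l.map f).Nodup → (∀ z ∈ l, MulAction.orbit G z ⊆ C) →
      (l.map fun z => (MulAction.orbit G z).ncard).sum =
        {y | ∃ z ∈ l, y ∈ MulAction.orbit G z}.ncard := by
    intro l
    induction l with
    | nil => intro _ _; simp
    | cons a l ih =>
      intro h hs
      rw [List.map_cons, List.nodup_cons] at h
      have e : {y | ∃ z ∈ a :: l, y ∈ MulAction.orbit G z} =
          MulAction.orbit G a ∪ {y | ∃ z ∈ l, y ∈ MulAction.orbit G z} := by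
        ext y; simp
      have hdis : Disjoint (MulAction.orbit G a) {y | ∃ z ∈ l, y ∈ MulAction.orbit G z} := by
        rw [Set.disjoint_left]
        rintro y ⟨g, rfl⟩ ⟨z, hz, ⟨g', hg'⟩⟩
        apply h.1
        refine List.mem_map.2 ⟨z, hz, ?_⟩
        rw [← hf g' z, ← hf g a]
        exact congrArg f hg'
      have hfin : {y | ∃ z ∈ l, y ∈ MulAction.orbit G z}.Finite :=
        hC.subset fun y ⟨z, hz, hy⟩ => hs z (List.mem_cons_of_mem _ hz) hy
      rw [e, Set.ncard_union_eq hdis (hC.subset (hs a List.mem_cons_self)) hfin, List.map_cons,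
        List.sum_cons, ih h.2 fun z hz => hs z (List.mem_cons_of_mem _ hz)]
  refine (Set.eq_of_subset_of_ncard_le ?_ ?_ hC).symm
  · rintro y ⟨z, hz, hy⟩; exact hsub z hz hy
  · rw [← key zs hnd hsub, hns]; exact hsum

theorem fibre_eq_orbit {G X β : Type*} [Group G] [MulAction G X] {C : Set X} (zs : List X)
    (hC : C = {y | ∃ z ∈ zs, y ∈ MulAction.orbit G z}) (f : X → β)
    (hf : ∀ (g : G) (x : X), f (g • x) = f x) (hnd : (zs.map f).Nodup) {z : X} (hz : z ∈ zs) :
    {x | x ∈ C ∧ f x = f z} = MulAction.orbit G z := by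
  ext x
  constructor
  · rintro ⟨hx, he⟩; exact mem_rep_of_inv zs hC f hf hnd hx hz he
  · rintro ⟨g, rfl⟩
    exact ⟨by rw [hC]; exact ⟨z, hz, g, rfl⟩, hf g z⟩

theorem ncard_inter_fibre {C : Set (Finset GolayPt)} (hC : ∀ g ∈ M24, ∀ x ∈ C, g • x ∈ C)
    {σ : Equiv.Perm GolayPt} (hσ : σ ∈ M24) (s : Finset GolayPt) (k : ℕ) :
    {x | x ∈ C ∧ (σ • s ∩ x).card = k}.ncard = {x | x ∈ C ∧ (s ∩ x).card = k}.ncard := by
  have e : {x | x ∈ C ∧ (σ • s ∩ x).card = k} = σ • {x | x ∈ C ∧ (s ∩ x).card = k} := by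
    ext x
    rw [Set.mem_smul_set_iff_inv_smul_mem]
    simp only [Set.mem_setOf_eq]
    rw [← inter_smul_card σ s (σ⁻¹ • x), smul_inv_smul]
    exact and_congr_left fun _ =>
      ⟨fun h => hC _ (inv_mem hσ) x h, fun h => by simpa using hC σ hσ _ h⟩
  rw [e, Set.ncard_smul_set]

end CfsgLib.Spor
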